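import Cfsg.Agent.Lib.R4.KFL3
import Cfsg.Agent.Lib.SZ.S3F
import Cfsg.Agent.Lib.Coprime.PiClosed

/-!
# `π`-homogeneous groups of order prime to three
-/

set_option autoImplicit false
set_option linter.unusedSectionVars false

namespace Cfsg.Agent.R4

open Subgroup Cfsg.Agent.Coprime Cfsg.Agent.OO Cfsg.Agent.GW Cfsg.Agent.SZ
open scoped Pointwise commutatorElement

universe u

variable {G : Type u} [Group G] [Finite G] {π : Set ℕ}

theorem S3C.kf (s3c : S3C.{u}) [IsSimpleGroup G] (hn : ¬ IsMulCommutative G) (h3 : S3F G)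
    {T : Subgroup G} (hT : Syl 2 T ⊤) :
    (∃ W k n, SzF ⊤ T W k n) ∨ ∃ k f r c, L3F ⊤ T k f r c :=
  kf1 G ⊤ T h3 (s3c _ topEquiv.isSimpleGroup (fun h => hn ⟨⟨fun a b =>
    congrArg Subtype.val (h.is_comm.comm (⟨a, trivial⟩ : (⊤ : Subgroup G)) ⟨b, trivial⟩)⟩⟩)
    (h3.sub ⊤)) hT

theorem S3C.sf (s3c : S3C.{u}) [IsSimpleGroup G] (hn : ¬ IsMulCommutative G) (h3 : S3F G)
    {T : Subgroup G} (hT : Syl 2 T ⊤) : ∃ W k, SF ⊤ T W k :=
  (s3c.kf hn h3 hT).elim (fun ⟨W, k, _, h⟩ => ⟨W, k, h.toSF⟩) fun ⟨k, _, _, _, h⟩ => ⟨T, k, h.toSF⟩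

omit [Finite G] in
theorem piCent_sub (h : PiCentralizes π G) (N : Subgroup G) : PiCentralizes π N := fun H hH x hx e =>
  mem_cent_iff.2 fun y hy => Subtype.ext (mem_cent_iff.1 (h (H.map N.subtype)
    (by rwa [Core.card_map_subtype]) x (map_norm_le N.subtype H ⟨x, hx, rfl⟩)
    (by rwa [Subgroup.orderOf_coe])) y ⟨y, hy, rfl⟩)

/-- reduction of `π`-closure to simple groups -/
theorem closed_of_simple (Q : ∀ (G : Type u) [Group G] [Finite G], Prop)
    (sub : ∀ (G : Type u) [Group G] [Finite G] (N : Subgroup G) [N.Normal], Q G → Q N)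
    (quo : ∀ (G : Type u) [Group G] [Finite G] (N : Subgroup G) [N.Normal],
      IsPiNum π (Nat.card N) ∨ IsPiNum πᶜ (Nat.card N) → Q G → Q (G ⧸ N))
    (smp : ∀ (G : Type u) [Group G] [Finite G], IsSimpleGroup G → ¬ IsMulCommutative G → Q G →
      PiCentralizes π G → IsPiNum π (Nat.card G) ∨ IsPiNum πᶜ (Nat.card G))
    (hQ : Q G) (h : PiCentralizes π G) :
    ∃ K : Subgroup G, ∀ x, x ∈ K ↔ IsPiNum π (orderOf x) := by
  suffices hs : IsPiSeparable π G by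
    obtain ⟨K, hK, h1, h2⟩ := exists_normal_hall_of_piCentralizes hs h
    exact ⟨K, mem_iff_isPiNum_orderOf h1 h2⟩
  revert hQ h
  refine Core.induction_on_card (P := fun G _ _ => Q G → PiCentralizes π G → IsPiSeparable π G) ?_ G
  intro G _ _ ih hQ h
  by_cases hc : IsMulCommutative G
  · exact isPiSeparable_of_isSolvable π (isSolvable_of_isMulCommutative hc)
  by_cases hs : IsSimpleGroup G
  · exact (smp G hs hc hQ h).elim isPiSeparable_of_isPiNum isPiSeparable_of_isPiNum_compl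
  obtain ⟨N, hN, h0, h1⟩ : ∃ N : Subgroup G, N.Normal ∧ N ≠ ⊥ ∧ N ≠ ⊤ := by
    by_contra! e
    have : Nontrivial G := not_subsingleton_iff_nontrivial.1 fun _ =>
      hc ⟨⟨fun _ _ => Subsingleton.elim _ _⟩⟩
    exact hs ⟨fun N hN => or_iff_not_imp_left.2 (e N hN)⟩
  have := (nontrivial_iff_ne_bot N).2 h0
  have h2 := (ih N (by simpa using card_lt h1.lt_top) (sub G N hQ) (piCent_sub h N)).piCore_ne_bot
  obtain ⟨M, hM, h3, h4⟩ : ∃ M : Subgroup G, M.Normal ∧ M ≠ ⊥ ∧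
      (IsPiNum π (Nat.card M) ∨ IsPiNum πᶜ (Nat.card M)) := by
    rcases h2 with e | e
    · exact ⟨Opi π N, normalIn_top.1 ((normalIn_top.2 hN).Opi π),
        fun e' => e ((map_eq_bot_iff_of_injective _ N.subtype_injective).1 e'), .inl (Opi_piGrp π N)⟩
    · exact ⟨Opi πᶜ N, normalIn_top.1 ((normalIn_top.2 hN).Opi πᶜ),
        fun e' => e ((map_eq_bot_iff_of_injective _ N.subtype_injective).1 e'), .inr (Opi_piGrp _ N)⟩
  exact isPiSeparable_of_normal_of_quotient M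
    (h4.elim isPiSeparable_of_isPiNum isPiSeparable_of_isPiNum_compl)
    (ih _ (Core.card_quotient_lt h3) (quo G M h4 hQ) (h.quotient M h4))

/-- a real element of odd prime order `p` forces `p ∉ π` -/
theorem not_mem_of_real (h2 : 2 ∉ π) (h : PiCentralizes πᶜ G) {x g : G} (hx : (orderOf x).Prime)
    (g2 : g * g = 1) (e : g * x * g⁻¹ = x⁻¹) : orderOf x ∉ π := fun hp => by
  have h1 := mem_cent_iff_conj.1 (h (zpowers x) (by
    rw [compl_compl, Nat.card_zpowers]; exact (isPiNum_prime hx).2 hp) g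
    (mem_norm_of_conj_le (by rw [conj_zpowers, e, zpowers_inv]))
    (((isPiNum_prime Nat.prime_two).2 h2).of_dvd (orderOf_dvd_of_pow_eq_one ((sq g).trans g2))))
    x (mem_zpowers x)
  refine h2 ((Nat.prime_dvd_prime_iff_eq hx Nat.prime_two).1 (orderOf_dvd_of_pow_eq_one ?_) ▸ hp)
  rw [sq, mul_eq_one_iff_eq_inv, ← e, h1]

theorem fin45 (s3c : S3C.{u}) (π : Set ℕ) (hodd : ∀ p ∈ π, p.Prime ∧ p ≠ 2) (h3 : ¬ 3 ∣ Nat.card G)
    (hhom : (∀ H : Subgroup G, H ≠ ⊥ → (∀ p : ℕ, p.Prime → p ∣ Nat.card ↥H → p ∈ π) →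
        ∀ p : ℕ, p.Prime → p ∣ (Subgroup.centralizer (H : Set G)).relIndex
          (Subgroup.normalizer (H : Set G)) → p ∈ π)) :
    (∃ K : Subgroup G, ∀ x : G, x ∈ K ↔ ∀ p : ℕ, p.Prime → p ∣ orderOf x → p ∉ π) := by
  have h2 : 2 ∉ π := fun e => (hodd 2 e).2 rfl
  refine closed_of_simple (π := πᶜ) (fun G _ _ => ¬ 3 ∣ Nat.card G)
    (fun G _ _ N _ h e => h (e.trans (card_subgroup_dvd_card N)))
    (fun G _ _ N _ _ h e => h (e.trans (card_quotient_dvd_card N))) (fun G _ _ hs hn h3 h => ?_) h3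
    (piCentralizes_iff.2 fun U h0 hU p hp hd =>
      not_not.2 (hhom U h0 (fun q hq hq' => not_not.1 (hU q hq hq')) p hp hd))
  refine .inl fun p hp hd hπ => ?_
  have := Fact.mk Nat.prime_two
  have := Fact.mk hp
  obtain ⟨T, hT⟩ := exists_syl 2 (⊤ : Subgroup G)
  obtain ⟨W, k, hf⟩ := s3c.sf hn (s3f_of_not_dvd h3) hT
  obtain ⟨x, rfl⟩ := exists_prime_orderOf_dvd_card' p hd
  obtain ⟨g, -, g2, e⟩ := hf.real x trivial (hp.odd_of_ne_two (hodd _ hπ).2) fun e => h3 (e.trans hd)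
  exact not_mem_of_real h2 h hp g2 e hπ

end Cfsg.Agent.R4
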