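import Cfsg.Agent.Lib.R4.Hyp
import Cfsg.Agent.Lib.SEA.Walter
import Cfsg.Agent.Lib.JR.Main
import Cfsg.Agent.Lib.MN.PSL

/-!
# Simple `S₃`-free groups with abelian Sylow 2-subgroups
-/

set_option autoImplicit false

namespace Cfsg.Agent.R4

open Subgroup MulAction Cfsg.Agent.Coprime Cfsg.Agent.OO Cfsg.Agent.SZ Polynomial
open scoped Pointwise MatrixGroups

universe u

theorem ab_norm_form {F : Type} [Field F] [Fintype F] (h3 : (3 : F) ≠ 0) :
    ∃ a b : F, a ^ 2 - a * b + b ^ 2 = -1 := by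
  by_cases h2 : (2 : F) = 0
  · exact ⟨1, 0, by linear_combination h2⟩
  have hc : ringChar F ≠ 2 := fun e => h2 (by
    have := (ringChar.spec F 2).2 (e ▸ dvd_rfl)
    exact_mod_cast this)
  obtain ⟨u, b, e⟩ := FiniteField.exists_root_sum_quadratic (f := X ^ 2 + C (4 : F))
    (g := C (3 : F) * X ^ 2) (degree_X_pow_add_C two_pos 4) (degree_C_mul_X_pow 2 h3)
    (FiniteField.odd_card_of_char_ne_two hc)
  refine ⟨(u + b) / 2, b, ?_⟩
  simp only [eval_add, eval_pow, eval_X, eval_C, eval_mul] at e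
  field_simp
  linear_combination e

/-- `L₂(q)` involves `S₃` unless `q` is a power of three -/
theorem ab_three {F : Type} [Field F] [Fintype F] (h : S3F PSL(2, F)) : (3 : F) = 0 := by
  by_contra h3
  obtain ⟨a, b, e⟩ := ab_norm_form h3
  obtain ⟨x, hx⟩ : ∃ x : SL(2, F), x.1 = !![0, -1; 1, -1] :=
    ⟨⟨_, by simp [Matrix.det_fin_two]⟩, rfl⟩
  obtain ⟨g, hg⟩ : ∃ g : SL(2, F), g.1 = !![-b, a; a - b, b] :=
    ⟨⟨_, by rw [Matrix.det_fin_two_of]; linear_combination -e⟩, rfl⟩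
  have h1 : x ^ 3 = 1 := Subtype.ext (by
    rw [pow_three]
    show x.1 * (x.1 * x.1) = 1
    simp [hx, Matrix.one_fin_two])
  have h2 : g * x * g⁻¹ = x⁻¹ := by
    rw [mul_inv_eq_iff_eq_mul, eq_inv_mul_iff_mul_eq]
    refine Subtype.ext ?_
    show x.1 * (g.1 * x.1) = g.1
    simp [hx, hg, sub_eq_add_neg]
  have h4 := (QuotientGroup.eq_one_iff x).1 (h.eq_one (x := (x : PSL(2, F))) (g := (g : PSL(2, F)))
    (by rw [← QuotientGroup.mk_pow, h1, QuotientGroup.mk_one])
    (by rw [← QuotientGroup.mk_inv, ← QuotientGroup.mk_inv, ← h2]; rfl))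
  rw [mem_center_iff.1 h4 g, mul_inv_cancel_right, eq_inv_iff_mul_eq_one] at h2
  rw [pow_three', h2, one_mul] at h1
  simpa [h1] using congrFun (congrFun hx 1) 0

variable {G : Type u} [Group G] [Finite G]

/-- the Ree type groups involve `S₃` -/
theorem ab_ree (hs : IsSimpleGroup G) (h : S3F G) (h8 : 8 ∣ Nat.card G) {m : ℕ} (hm : Odd m)
    (hc : Nat.card (Sylow 3 G) = 3 ^ m + 1) (h2 : IsMultiplyPretransitive G (Sylow 3 G) 2) :
    False := by
  have := Fact.mk Nat.prime_three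
  have := Fact.mk Nat.prime_two
  rw [is_two_pretransitive_iff] at h2
  obtain ⟨P⟩ : Nonempty (Sylow 3 G) := inferInstance
  have m8 : 3 ^ m % 8 = 3 := by
    obtain ⟨j, rfl⟩ := hm
    rw [pow_succ, pow_mul, Nat.mul_mod, Nat.pow_mod]; simp
  have e1 := (stabilizer G P).index_mul_card
  rw [index_stabilizer_of_transitive, hc] at e1
  obtain ⟨z, hz, oz⟩ : ∃ z ∈ stabilizer G P, orderOf z = 2 := by
    obtain ⟨z, oz⟩ := exists_prime_orderOf_dvd_card' (G := stabilizer G P) 2 (by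
      by_contra e
      have := (Nat.Coprime.dvd_of_dvd_mul_right (k := 2 ^ 3) (Nat.Coprime.pow_left 3
        ((Nat.Prime.coprime_iff_not_dvd Nat.prime_two).2 e)) (e1 ▸ h8))
      omega)
    exact ⟨z, z.2, (orderOf_coe z).trans oz⟩
  have z2 : z * z = 1 := by rw [← pow_two, ← oz, pow_orderOf_eq_one]
  have hN : stabilizer G P = 𝐍((P : Subgroup G)) := Sylow.stabilizer_eq_normalizer P
  have zc : ∀ y ∈ P, z * y = y * z := fun y hy => by
    have h1 : y⁻¹ * (z * y * z⁻¹) ∈ (P : Subgroup G) :=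
      mul_mem (inv_mem hy) (conj_mem_of_norm (hN ▸ hz) hy)
    have h3 := h.not_dvd (g := z) (x := y⁻¹ * (z * y * z⁻¹)) (by
      rw [inv_eq_of_mul_eq_one_right z2]
      calc _ = z * y⁻¹ * (z * y * (z * z)) := by group
        _ = _ := by rw [z2, mul_inv_rev, mul_inv_rev, mul_inv_rev, inv_eq_of_mul_eq_one_right z2]; group)
    obtain ⟨k, hk⟩ := (IsPGroup.iff_orderOf.1 P.isPGroup') ⟨_, h1⟩
    rw [← orderOf_coe] at hk
    obtain rfl : k = 0 := by
      by_contra e
      exact h3 (hk ▸ dvd_pow_self 3 e)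
    rw [pow_zero, orderOf_eq_one_iff, inv_mul_eq_one, eq_mul_inv_iff_mul_eq] at hk
    exact hk.symm
  obtain ⟨Q, hQ, PQ⟩ := IsPGroup.exists_fixed_point_of_prime_dvd_card_of_fixed_point (p := 2)
    (G := zpowers z) (.of_card ((Nat.card_zpowers z).trans (oz.trans (pow_one 2).symm)))
    (Sylow 3 G) (by omega) (a := P) fun g => zpowers_le.2 hz g.2
  have zQ : z • Q = Q := hQ ⟨z, mem_zpowers z⟩
  have e2 : (stabilizer G Q).relIndex (stabilizer G P) = 3 ^ m := by
    have h1 : orbit (stabilizer G P) Q = {P}ᶜ := Set.ext fun R => ⟨by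
      rintro ⟨g, rfl⟩ e
      exact PQ (smul_left_cancel g ((g.2.trans e.symm : g • P = g • Q))), fun e =>
      let ⟨g, k1, k2⟩ := h2 PQ (Ne.symm e); ⟨⟨g, k1⟩, k2⟩⟩
    have h3 := index_stabilizer (stabilizer G P) Q
    rw [h1, Set.ncard_compl, Set.ncard_singleton, hc] at h3
    exact h3
  have e3 : stabilizer G P ≤ (P : Subgroup G) ⊔ stabilizer G Q ⊓ stabilizer G P := by
    have h1 : (P : Subgroup G) ≤ stabilizer G P := hN ▸ le_normalizer
    rw [← relIndex_eq_one]
    refine Nat.eq_one_of_dvd_coprimes (Nat.Coprime.pow_left m ((Nat.Prime.coprime_iff_not_dvd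
      Nat.prime_three).2 fun e => P.not_dvd_index (e.trans (relIndex_dvd_index_of_le h1)))) ?_
      (relIndex_dvd_of_le_left _ le_sup_left)
    rw [← e2, ← inf_relIndex_right (stabilizer G Q)]
    exact relIndex_dvd_of_le_left _ le_sup_right
  have e4 : z ∈ (toPermHom G (Sylow 3 G)).ker := Equiv.ext fun R => by
    by_cases e : P = R
    · exact e ▸ hz
    obtain ⟨g, k1, rfl⟩ := h2 PQ e
    obtain ⟨y, hy, b, hb, rfl⟩ := (mem_sup_norm_left (inf_le_right.trans hN.le)).1 (e3 k1)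
    show z • (y * b) • Q = (y * b) • Q
    rw [mul_smul, show b • Q = Q from hb.1, ← mul_smul, zc y hy, mul_smul, zQ]
  rcases hs.eq_bot_or_eq_top_of_normal (toPermHom G (Sylow 3 G)).ker inferInstance with e | e
  · rw [mem_bot.1 (e.le e4), orderOf_one] at oz
    omega
  · obtain ⟨g, k1, -⟩ := h2 PQ PQ.symm
    exact PQ ((DFunLike.congr_fun (e.ge (mem_top g)) P).symm.trans k1)

theorem ab : AB.{u} := fun G _ _ hs hn h3 h2 => by
  have := Fact.mk Nat.prime_three
  have := Fact.mk Nat.prime_two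
  rcases SEA.walter JR.jr G hs hn h2 with ⟨n, -, ⟨e⟩⟩ | ⟨F, _, _, h5, h8, ⟨e⟩⟩ | ⟨t, H, L, F, _, _, h⟩
  · let _ : Fintype (GaloisField 2 n) := Fintype.ofFinite _
    have h1 := ab_three (h3.of_injective e.symm.toMonoidHom e.symm.injective)
    have h4 : (2 : GaloisField 2 n) = 0 := CharTwo.two_eq_zero
    exact absurd (by linear_combination h1 - h4 : (1 : GaloisField 2 n) = 0) one_ne_zero
  · have h1 := ab_three (h3.of_injective e.symm.toMonoidHom e.symm.injective)
    have : CharP F 3 := (CharP.charP_iff_prime_eq_zero Nat.prime_three).2 (by exact_mod_cast h1)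
    obtain ⟨⟨n, n0⟩, -, hq⟩ := FiniteField.card F 3
    simp only [PNat.mk_coe] at hq
    obtain ⟨f, rfl | rfl⟩ := Nat.even_or_odd' n
    · rw [hq, pow_mul, Nat.pow_mod] at h8
      simp at h8
    let _ : Fintype (GaloisField 3 (2 * f + 1)) := Fintype.ofFinite _
    obtain ⟨j⟩ := MN.psl_congr (FiniteField.ringEquivOfCardEq (K := F)
      (K' := GaloisField 3 (2 * f + 1)) (by
        rw [hq, ← Nat.card_eq_fintype_card, GaloisField.card 3 _ (by omega)]))
    refine ⟨f, Nat.pos_of_ne_zero ?_, ⟨e.trans j⟩⟩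
    rintro rfl
    omega
  · obtain ⟨e⟩ := h.iso
    have h1 := ab_three ((h3.sub L).of_injective e.symm.toMonoidHom e.symm.injective)
    have : CharP F 3 := (CharP.charP_iff_prime_eq_zero Nat.prime_three).2 (by exact_mod_cast h1)
    obtain ⟨W, S, P, T, p, r, k, hf, -⟩ := JR.fr2 G t H L F h
    rcases JR.jr G t H L F h with ⟨h5, -⟩ | ⟨k, -, hq, hc, h4⟩
    · obtain ⟨n, -, hq⟩ := FiniteField.card F 3
      have := dvd_pow_self 3 n.ne_zero
      omega
    · exact (ab_ree hs h3 (hf.cardS ▸ card_subgroup_dvd_card S) (m := (2 * k + 1) * 3)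
        (by simp [Nat.odd_mul, (by decide : Odd 3)]) (by rw [hc, hq, pow_mul]) h4).elim

end Cfsg.Agent.R4
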