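import Cfsg.Agent.Lib.R4.Y1c

/-!
# Package Y1 from the facts on the known simple groups
-/

set_option autoImplicit false

namespace Cfsg.Agent.R4

open Subgroup Cfsg.Agent.OO Cfsg.Agent.Coprime Cfsg.Agent.SZ Cfsg.Agent.GW
open scoped commutatorElement Pointwise

universe u

variable {G : Type u} [Group G] [Finite G] {L T W : Subgroup G} {k : G} {n f r c : ℕ}

theorem piElt_two {a : G} (h : a * a = 1) : PiElt {2} a :=
  ((isPiNum_prime (π := {2}) Nat.prime_two).2 rfl).of_dvd (orderOf_dvd_of_pow_eq_one (x := a) (by rw [pow_two, h]))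

theorem SF.comm (h : SF L T W k) (P : Subgroup G) (h1 : P ≤ L) (h2 : IsPGroup 2 P) (s : G) (hs : s ∈ P)
    (t : G) (ht : t ∈ P) (s2 : s * s = 1) (_ : t * t = 1) : s * t = t * s := by
  obtain ⟨g, -, e⟩ := h.syl.exists_conj_le h1 h2
  simpa only [conj_mul, mul_left_inj, mul_right_inj] using mem_cent_iff.1 (h.cent (e (conj_mem_conj ht))) _ ((h.mem _).2
    ⟨e (conj_mem_conj hs), by simpa [mul_assoc] using congrArg (fun x => g * x * g⁻¹) s2⟩)

theorem SF.inner (h : SF L T W k) (a : G) (ha : a ∈ 𝐍(L)) (h2 : a * a = 1) :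
    ∃ k ∈ L, k⁻¹ * a ∈ 𝐂(L) := by
  obtain ⟨x, hx, y, hy, rfl⟩ := (mem_sup_norm_left (cent_le_norm L)).1 (h.two a ha (piElt_two h2))
  exact ⟨x, hx, by simpa using hy⟩

theorem SzF.yf (h : SzF L T W k n) : YF L := by
  obtain ⟨p, hp, h1, h2⟩ := h.prim
  have := Fact.mk hp
  refine ⟨h.comm, h.inner, .inr ⟨fun t ht t1 t2 => ?_, n, p, hp, ?_,
    h1.trans (h.card ▸ (dvd_mul_left _ _).mul_right _), fun j j0 j1 e => ?_, fun A hA he => ?_⟩⟩
  · obtain ⟨g, hg, e⟩ := h.syl.exists_conj_le (zpowers_le.2 ht)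
      (isPGroup_zpowers_iff.2 (piElt_two t2))
    rw [← isPGroup_conj (g := g), conj_inf, ← cent1_conj, conj_eq_of_mem hg]
    exact h.syl.isPGroup.to_le (h.cc _ (e (conj_mem_conj (mem_zpowers t))) (by simpa using t1))
  · rintro rfl
    have := h.three
    rw [Nat.dvd_add_right ((dvd_pow_self 2 (by omega)).pow two_ne_zero)] at h1
    exact absurd h1 (by decide)
  · have := (ZMod.natCast_eq_zero_iff _ _).2 e
    rw [Nat.cast_sub Nat.one_le_two_pow, sub_eq_zero] at this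
    exact absurd (Nat.le_of_dvd j0 (h2 ▸ orderOf_dvd_of_pow_eq_one (by simpa using this))) j1.not_ge
  · obtain ⟨g, -, e⟩ := h.syl.exists_conj_le hA (Core.isPGroup_of_elemAb he)
    rw [← h.cardW, ← card_conj g A]
    exact card_le fun x hx => (h.mem x).2 ⟨e hx, elem_sq (PGrp.isElementaryAbelian_map he _) hx⟩

theorem L3F.yf (h : L3F L T k f r c) : YF L := by
  refine ⟨h.comm, h.inner, .inl fun A hA he h0 => ?_⟩
  obtain ⟨t, ht, t1⟩ := exists_mem_ne_one h0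
  have t2 := elem_sq he ht
  obtain ⟨U, hU, h1 | h1 | h1⟩ := h.part t (hA ht) t1
  · exact absurd (by rw [← h1.elem.2 t hU, pow_three, t2, mul_one]) t1
  · exact absurd (eq_one_of_odd (odd_of_mem (h1.card ▸ h.par.1) hU) t2) t1
  have c1 : c ≠ 1 := by
    have := Nat.pow_le_pow_right (n := 3) (by decide) (show 3 ≤ 2 * f + 1 by have := h.one; omega)
    rcases h.par.2.2 with e | e <;> omega
  obtain ⟨p, hp, pd⟩ := Nat.exists_prime_and_dvd c1
  obtain ⟨y, hy, e⟩ := cauchy hp (h1.card ▸ pd.mul_left 2)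
  have yo : Odd (orderOf y) := e ▸ h.par.2.1.of_dvd_nat pd
  have y1 : y ≠ 1 := fun e' => hp.one_lt.ne (by rw [← e, e', orderOf_one])
  have key : ∀ s y : G, Odd (orderOf y) → y ≠ 1 → s * y * s⁻¹ = y⁻¹ → s ∉ 𝐂(zpowers y) :=
    fun s y yo y1 e e' => y1 (eq_one_of_odd yo (by
      rw [mul_eq_one_iff_eq_inv, ← e, mem_cent_iff_conj.1 e' y (mem_zpowers y)]))
  by_cases h2 : A ≤ U
  · obtain ⟨s, hs, s1⟩ := SetLike.not_le_iff_exists.1 (show ¬ L ⊓ 𝐍(U) ≤ U from fun e => by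
      have := card_le e
      have := card_pos' U
      rw [h1.card_norm, h1.card] at *
      omega)
    obtain ⟨g, hg, rfl⟩ := h.inv s hs.1 (fun e => s1 (e ▸ one_mem _)) (h1.inv s hs s1).1 t (hA ht) t1 t2
    have i1 : g * s * g⁻¹ * (g * y * g⁻¹) * (g * s * g⁻¹)⁻¹ = (g * y * g⁻¹)⁻¹ := by
      rw [conj_inv (a := y), ← (h1.inv s hs s1).2 y hy]; group
    refine ⟨zpowers (g * y * g⁻¹), zpowers_le.2 (L.mul_mem (L.mul_mem hg (h1.le hy)) (L.inv_mem hg)),
      by rwa [Nat.card_zpowers, orderOf_conj], ?_,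
      fun e => key _ _ (by rwa [orderOf_conj]) (by simpa using y1) i1 (e ht)⟩
    obtain ⟨j, hj⟩ := (Core.isPGroup_of_elemAb he).exists_card_eq
    have h4 : ♯A ∣ 2 := (hj ▸ (Nat.coprime_two_left.2 h.par.2.1).pow_left j).dvd_of_dvd_mul_right
      (h1.card ▸ card_dvd h2)
    rw [← eq_zpowers_of_prime (((Nat.dvd_prime Nat.prime_two).1 h4).resolve_left
      (one_lt_card h0).ne' ▸ Nat.prime_two) ht t1, zpowers_le, ← conj_eq_self_iff, conj_zpowers, i1,
      zpowers_inv]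
  obtain ⟨s, hs, s1⟩ := SetLike.not_le_iff_exists.1 h2
  have h4 : A ≤ L ⊓ 𝐍(U) := h1.norm t hU t1 ▸ le_inf hA (le_norm_of_ab he.1 (zpowers_le.2 ht))
  exact ⟨zpowers y, zpowers_le.2 (h1.le hy), by rwa [Nat.card_zpowers],
    (h4.trans (h1.norm y hy y1).ge).trans inf_le_right,
    fun e => key s y yo y1 ((h1.inv s (h4 hs) s1).2 y hy) (e hs)⟩

theorem kh_of (kf1 : KF1.{u}) (h : KY.{u} n) : KH.{u} n := fun G _ _ h3 K hK hs hn => by
  obtain ⟨T, hT⟩ := exists_syl 2 K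
  rcases kf1 G K T h3 (h K hK (hs.isSimpleGroup fun e => hn (e ▸ ab_bot)) hn (h3.sub K)) hT with
    ⟨W, k, n, e⟩ | ⟨k, f, r, c, e⟩
  · exact e.yf
  · exact e.yf

/-- package Y1 -/
theorem y1_of (kf1 : KF1.{u}) : Y1.{u} := fun _ _ _ h => y1_of_kh (kh_of kf1 h.ky) h.s3f
  (@smp_top _ _ h.simple) fun e => h.nab ⟨⟨fun a b => ab_iff.1 e a (mem_top a) b (mem_top b)⟩⟩

end Cfsg.Agent.R4
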