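import Cfsg.Agent.Lib.R4.DE0
import Cfsg.Agent.Lib.R4.Y1

/-!
# The action of a proper subgroup on the conjugates of a `D`-embedded subgroup
-/

set_option autoImplicit false

namespace Cfsg.Agent.R4

open Subgroup Cfsg.Agent.OO Cfsg.Agent.Coprime Cfsg.Agent.SZ Cfsg.Agent.GW Cfsg.Agent.W4
open scoped commutatorElement Pointwise

universe u

variable {G : Type u} [Group G] {X B E S L T W : Subgroup G} {e g k : G} {n : ℕ}

/-- the faithful form of the situation -/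
structure DB (X B E S : Subgroup G) : Prop where
  syl : Syl 2 S X
  le : E ≤ S
  elem : IsElementaryAbelian 2 E
  four : 2 < ♯E
  scl : SCl X S E
  ne : ¬ X ≤ B
  core : ∀ Y, Y ⊴ X → Y ≤ B → Y = ⊥
  EB : E ≤ B
  mem : ∀ e ∈ E, e ≠ 1 → ∀ g ∈ X, g * e * g⁻¹ ∈ B → g ∈ B

variable [Finite G]

theorem kf3_third (h : 2 < ♯W) (w : G) : ∃ v ∈ W, v ≠ 1 ∧ v ≠ w := by
  classical
  by_contra! e
  have := Finset.card_le_card (s := elts (W : Set G)) (t := {1, w}) fun v hv => by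
    simpa [or_iff_not_imp_left] using e v (mem_elts.1 hv)
  rw [card_elts] at this
  exact absurd (this.trans Finset.card_le_two) h.not_ge

namespace DB

variable (h : DB X B E S)
include h

omit [Finite G] in
theorem cent (he : e ∈ E) (e1 : e ≠ 1) : X ⊓ 𝐂[e] ≤ B := fun g hg =>
  h.mem e he e1 g hg.1 ((mem_cent1_iff_conj.1 hg.2).symm ▸ h.EB he)

theorem norm : S ≤ 𝐍(E) := fun _ hs => h.scl.mem_norm le_rfl h.le ⟨h.syl.le hs, le_normalizer hs⟩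

theorem exists_ne : ∃ e ∈ E, e ≠ 1 := let ⟨e, h1, h2, _⟩ := kf3_third h.four 1; ⟨e, h1, h2⟩

theorem fit : Fit X = ⊥ := by
  have hE := h.le.trans h.syl.le
  obtain ⟨e, he, e1⟩ := h.exists_ne
  have h1 := Op_le_syl h.syl
  rw [Fit_eq_Op (p := 2) (h.core _ (Opi_normal _ X) (le_of_forall_centralizer_le h.elem.1
    (not_isCyclic h.elem h.four) (hE.trans (O_norm X)) (cop (odd_O X) (abelem_isPGroup h.elem)).symm
    fun a ha a1 => (inf_le_inf_right _ (Opi_le _ X)).trans (h.cent ha a1)))]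
  refine h.core _ (Op_normal 2 X) ((le_inf (Op_le 2 X) ((le_cent_of_inf_eq_bot (h1.trans h.norm)
    (hE.trans (Op_normal 2 X).2) (h.core _ ⟨inf_le_left.trans (Op_le 2 X), le_norm_iff.2
      fun g hg x hx => ?_⟩ (inf_le_right.trans h.EB))).trans (cent_le_cent1 he))).trans (h.cent he e1))
  have := (Op_normal 2 X).conj_mem hg hx.1
  exact ⟨this, h.scl x hx.2 g hg (h1 this)⟩

theorem eq_of_sf (hL : Wal.Cmp X L) (hB : ¬ L ≤ B) (f : SF L (S ⊓ L) W k) : W = E ∧ L ⊴ X := by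
  have hE := h.le.trans h.syl.le
  have nc : ∀ e ∈ E, e ∈ 𝐂(L) → e = 1 := fun e he hc => by_contra fun e1 =>
    hB ((le_inf hL.le (le_cent1_iff.2 hc)).trans (h.cent he e1))
  have ws : ∀ w ∈ W, w ∈ S ⊓ L := fun w hw => ((f.mem w).1 hw).1
  have kk : ∀ j : ℕ, k ^ j ∈ L := fun j => pow_mem f.k_mem j
  have key : ∀ w ∈ W, w ≠ 1 → ∀ c ∈ S ⊓ 𝐂(L), w * c ∈ E → W ≤ E ∧ c = 1 := fun w hw w1 c hc e => by
    obtain ⟨v, hv, v1, v2⟩ := kf3_third (show 2 < ♯W by have := f.four; omega) w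
    obtain ⟨j, rfl⟩ := f.cyc w hw v hv w1 v1
    have h1 := h.scl _ e _ (hL.le (kk j))
    rw [show k ^ j * (w * c) * (k ^ j)⁻¹ = k ^ j * w * (k ^ j)⁻¹ * (k ^ j * c * (k ^ j)⁻¹) by group,
      mem_cent_iff.1 hc.2 _ (kk j), mul_inv_cancel_right] at h1
    have h2 := mul_mem (h1 (mul_mem (ws _ hv).1 hc.1)) (inv_mem e)
    rw [mul_inv_rev, mul_assoc, mul_inv_cancel_left] at h2
    have h3 : W ≤ E := fun u hu => by
      by_cases u1 : u = 1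
      · exact u1 ▸ one_mem _
      obtain ⟨i, rfl⟩ := f.cyc _ (mul_mem hv (inv_mem hw)) u hu (mul_inv_eq_one.not.2 v2) u1
      exact h.scl _ h2 _ (hL.le (kk i)) (ws _ hu).1
    exact ⟨h3, nc c ((mul_mem_cancel_left (h3 hw)).1 e) hc.2⟩
  obtain ⟨w, hw, w1, -⟩ := kf3_third (show 2 < ♯W by have := f.four; omega) 1
  have k1 : ∀ a ∈ E, a ≠ 1 → W ≤ E ∧ a ∈ W := fun a ha a1 => by
    have h1 : a ∈ 𝐍(L) := by_contra fun e => w1 (by
      simpa using (key w hw w1 (a * w⁻¹ * a⁻¹) ⟨S.mul_mem (S.mul_mem (h.le ha) (S.inv_mem (ws w hw).1))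
        (S.inv_mem (h.le ha)), (hL.conj (hE ha)).cent hL (mt conj_eq_self_iff.1 e)
          (conj_mem_conj (inv_mem (ws w hw).2))⟩ (by
        rw [← mul_assoc, ← mul_assoc]
        exact mul_mem (conj_mem_of_norm (h.norm (ws w hw).1) ha) (inv_mem ha))).2)
    obtain ⟨l, hl, hc⟩ := f.inner a h1 (elem_sq h.elem ha)
    have h2 : l * l = 1 := by
      have h3 : l * l * (l⁻¹ * a * (l⁻¹ * a)) = 1 := by
        rw [mul_assoc l, ← mul_assoc l (l⁻¹ * a), mem_cent_iff.1 hc l hl, ← elem_sq h.elem ha]; group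
      exact mem_bot.1 (((f.smp _ (Zc_normal L)).resolve_right fun e => f.nab (e ▸ Zc_ab L)) ▸
        (mem_inf.2 ⟨mul_mem hl hl, eq_inv_of_mul_eq_one_left h3 ▸ inv_mem (mul_mem hc hc)⟩ : l * l ∈ Zc L))
    have h4 : l ∈ S ⊓ L := f.syl.mem_of_mem_norm hl (by
      simpa using mul_mem (mem_norm_inf (le_normalizer (h.le ha)) h1)
        (inv_mem (cent_le_norm _ (cent_anti inf_le_right hc)))) (piElt_two h2)
    have h5 := (f.mem l).2 ⟨h4, h2⟩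
    obtain ⟨h6, h7⟩ := key l h5 (fun e => a1 (nc a ha (by simpa [e] using hc))) _
      ⟨S.mul_mem (S.inv_mem h4.1) (h.le ha), hc⟩ (by simpa using ha)
    exact ⟨h6, inv_mul_eq_one.1 h7 ▸ h5⟩
  obtain ⟨e, he, e1⟩ := h.exists_ne
  have k2 := (ws e (k1 e he e1).2).2
  refine ⟨le_antisymm (k1 e he e1).1 fun a ha => (em (a = 1)).elim (fun e => e ▸ one_mem _)
    fun a1 => (k1 a ha a1).2, hL.le, fun g hg => by_contra fun hn => ?_⟩
  have k3 := (le_inf (hL.conj hg).le (((hL.conj hg).cent hL (mt conj_eq_self_iff.1 hn)).trans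
    (cent_le_cent1 k2))).trans (h.cent he e1)
  exact hB (conj_le_conj_iff.1 (k3.trans (conj_eq_of_mem
    (h.mem e he e1 g hg (k3 (conj_mem_conj k2)))).ge))

theorem main (kf1 : KF1.{u}) (h3 : S3F G) (ky : KY.{u} (♯X + 1)) :
    ∃ L k n, SzF L (S ⊓ L) E k n ∧ L ⊴ X ∧ X ⊓ 𝐂(L) = ⊥ ∧ X ⊓ B = X ⊓ 𝐍(S ⊓ L) := by
  obtain ⟨e, he, e1⟩ := h.exists_ne
  obtain ⟨L, hL, hB⟩ : ∃ L, Wal.Cmp X L ∧ ¬ L ≤ B := by
    by_contra! hc
    refine e1 (mem_bot.1 (h.fit ▸ Wal.mem_Fit (h.syl.le (h.le he)) (by simp [h.fit]) fun K hK => ?_))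
    rw [eq_bot_iff.2 ((le_sSup (s := {K | Wal.Cmp X K}) hK).trans (h.core _ (Wal.lay_normal X) (sSup_le hc)).le)]
    simp
  have smp : Smp L := fun N hN => (Core.le_centralizer_or_eq_of_isQuasisimple hL.2 hN.1 hN.2).imp_left
    fun e => eq_bot_iff.2 (h.fit ▸ ((Core.subnormalIn_of_le_normalizer hN.1 hN.2).trans
      hL.1).le_fittingOf (nil_of_ab (ab_of_le_Zc (le_inf hN.1 e))))
  have hT := Wal.syl_inf_of_subnormal h.syl hL.1
  rcases kf1 G L _ h3 (ky L (Nat.lt_succ_of_le (card_le hL.le)) (smp.isSimpleGroup fun e =>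
    hL.not_ab (e ▸ ab_bot)) hL.not_ab (h3.sub L)) hT with ⟨W, k, n, f⟩ | ⟨k, r, c, d, f⟩
  swap
  · exact absurd (f.gen B fun w hw w1 => (inf_le_inf_right _ hL.le).trans
      (h.cent ((h.eq_of_sf hL hB f.toSF).1.le hw) w1)) hB
  obtain ⟨rfl, hN⟩ := h.eq_of_sf hL hB f.toSF
  have e2 := ((f.mem e).1 he).1
  have k1 : X ⊓ 𝐍(S ⊓ L) ≤ B := fun g hg => h.mem e he e1 g hg.1 (h.EB ((f.mem _).2
    ⟨conj_mem_of_norm hg.2 e2, conj_sq (elem_sq h.elem he) g⟩))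
  have k2 : S ⊓ L ≤ B ⊓ L := le_inf ((le_inf (hT.le.trans hL.le) le_normalizer).trans k1) inf_le_right
  refine ⟨L, k, n, f, hN, h.core _ hN.cent ((inf_le_inf_left _ (cent_le_cent1 e2.2)).trans
    (h.cent he e1)), le_antisymm (le_inf inf_le_left ?_) (le_inf inf_le_left k1)⟩
  exact (le_norm_inf (inf_le_right.trans le_normalizer) (inf_le_left.trans hN.2)).trans
    ((hT.mono k2 inf_le_right).norm_le_norm_of_normal ((f.max _ k2 inf_le_right).resolve_right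
      fun e => hB (e.ge.trans inf_le_left)))

end DB

theorem SzF.index (f : SzF L T W k n) : 𝐍(T).relIndex L = (2 ^ n) ^ 2 + 1 := by
  have h1 := card_inf_mul_relIndex 𝐍(T) L
  have h2 : orderOf k = 2 ^ n - 1 := by rw [← f.cardW, ← f.ord]; rfl
  have h3 : 1 < 2 ^ n := Nat.one_lt_two_pow (by have := f.three; omega)
  rw [inf_comm, f.norm, card_sup_of_inf_eq_bot (.inr (zpowers_le.2 f.k_norm))
    (inf_eq_bot_of_coprime_card (cop (by
      rw [Nat.card_zpowers, h2]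
      exact Nat.Even.sub_odd h3.le (Nat.even_pow.2 ⟨even_two, by have := f.three; omega⟩) odd_one)
      f.syl.isPGroup).symm), Nat.card_zpowers, h2, f.card, f.cardT, mul_right_comm _ (_ + 1)] at h1
  exact Nat.eq_of_mul_eq_mul_left (Nat.mul_pos (by positivity) (by omega)) h1

theorem SzF.trans (f : SzF L T W k n) {l m : G} (hl : l ∈ L) (hm : m ∈ L) (h1 : l ∉ 𝐍(T))
    (h2 : m ∉ 𝐍(T)) : ∃ x ∈ T, m⁻¹ * x * l ∈ 𝐍(T) := by
  obtain ⟨t, hC, -⟩ := f.hyp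
  have e : ∀ z : L, z ∈ 𝐍(T.subgroupOf L) ↔ (z : G) ∈ 𝐍(T) := fun z => by
    rw [← conj_eq_self_iff, ← subgroupOf_conj z.2, ← conj_eq_self_iff, subgroupOf_inj,
      inf_eq_left.2 f.syl.le, inf_eq_left.2 (conj_le_of_mem z.2 f.syl.le)]
  obtain ⟨x, hx, a, ha, y, hy, e1⟩ := hC.bruhat (g := ⟨l, hl⟩) (mt (e _).1 h1)
  obtain ⟨x', hx', a', ha', y', hy', e2⟩ := hC.bruhat (g := ⟨m, hm⟩) (mt (e _).1 h2)
  refine ⟨(x' * x⁻¹ : L), mem_subgroupOf.1 (mul_mem hx' (inv_mem hx)),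
    (e ((⟨m, hm⟩ : L)⁻¹ * (x' * x⁻¹) * ⟨l, hl⟩)).1 ?_⟩
  rw [e1, e2, show (x' * t * a' * y')⁻¹ * (x' * x⁻¹) * (x * t * a * y) = y'⁻¹ * a'⁻¹ * a * y by group]
  exact mul_mem (mul_mem (mul_mem (inv_mem (le_normalizer hy')) (inv_mem (BSW.mem_Kt.1 ha').1))
    (BSW.mem_Kt.1 ha).1) (le_normalizer hy)

/-- package KF3 -/
theorem kf3_of (kf1 : KF1.{u}) : KF3.{u} := fun G _ _ A M H V h hH hV he h4 hD hM => by
  set N := sSup {X : Subgroup G | X ⊴ H ∧ X ≤ M} with hNd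
  have n1 : N ⊴ H := ⟨sSup_le fun X hX => hX.1.1, le_norm_sSup fun g hg X hX => by
    rwa [hX.1.conj_eq hg]⟩
  have n2 : N ≤ M := sSup_le fun X hX => hX.2
  have n3 : ∀ X, X ⊴ H → X ≤ M → X ≤ N := fun X h1 h2 => le_sSup ⟨h1, h2⟩
  have n4 : ∀ t ∈ N, InD A t → t = 1 := fun t ht hd => by_contra fun t1 =>
    hM fun g hg => h.mem (n2 ht) hd t1 (n2 (n1.conj_mem hg ht))
  obtain ⟨S, hS, s1⟩ := exists_syl_ge (hV.trans inf_le_left) (abelem_isPGroup he)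
  obtain ⟨c, -, S', hS', s2, s3⟩ := h.toSC.exists_conj le_top le_top hS.isPGroup
  set E := S ⊓ c⁻¹ •ᶜ A with hE
  have me : ∀ t, t ∈ E ↔ t ∈ S ∧ InD A t := fun t => and_congr_right fun ht =>
    ⟨fun e => ⟨c, by simpa using mem_conj.1 e⟩, fun e => mem_conj.2 (by
      simpa using h.toSC.mem_of_two hS'.isPGroup s2 (s3 (conj_mem_conj ht)) (e.conj c))⟩
  have el : IsElementaryAbelian 2 E :=
    PGrp.isElementaryAbelian_of_le (PGrp.isElementaryAbelian_map h.elem _) inf_le_right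
  have hVE : V ≤ E := fun v hv => (me v).2 ⟨s1 hv, hD v hv⟩
  obtain ⟨v, hv, v1, -⟩ := kf3_third (show 2 < ♯V by omega) 1
  have hEM : E ≤ H ⊓ M := le_inf (inf_le_left.trans hS.le) (((Ab.le_cent el.1).trans
    (cent_le_cent1 (hVE hv))).trans (h.cent_le (hV hv).2 (hD v hv) v1))
  have hSN := hS.le.trans n1.2
  have hEN := inf_le_left.trans hSN (a := E)
  have mm : ∀ g ∈ H, coset N g ∈ (H ⊓ M) ⁒ N ↔ g ∈ M := fun g hg =>
    (coset_mem_quo_iff (n1.2 hg) (le_inf n1.1 n2)).trans (and_iff_right hg)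
  have db : DB (H ⁒ N) ((H ⊓ M) ⁒ N) (E ⁒ N) (S ⁒ N) := by
    refine ⟨hS.quo n1.2, quo_mono N inf_le_left, abelem_quo el N, ?_, fun z hz w hw e => ?_,
      fun e => hM fun g hg => (mm g hg).1 (e (coset_mem_quo N hg)), fun Y y1 y2 => ?_,
      quo_mono N hEM, fun z hz z1 w hw e => ?_⟩
    · rw [card_quo_of_inf_eq_bot hEN (eq_bot_iff.2 fun t ht => n4 t ht.1 ((me t).1 ht.2).2)]
      exact lt_of_lt_of_le (by omega) (card_le hVE)
    · obtain ⟨a, ha, rfl⟩ := (mem_quo_of_le hEN).1 hz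
      obtain ⟨g, hg, rfl⟩ := (mem_quo_of_le n1.2).1 hw
      have k0 := ((me a).1 ha).2.conj g
      rw [← coset_conj (n1.2 hg) (hEN ha)] at e ⊢
      have k1 : g * a * g⁻¹ ∈ S ⊔ N := quoPre_quo_eq_sup hSN ▸ mem_quoPre.2
        ⟨n1.2 (H.mul_mem (H.mul_mem hg (hEM ha).1) (H.inv_mem hg)), e⟩
      obtain ⟨y, hy, k2⟩ := (hS.mono le_sup_left (sup_le hS.le n1.1)).exists_conj_le (zpowers_le.2 k1)
        (isPGroup_zpowers_iff.2 (piElt_two (h.toSC.sqD k0)))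
      have k3 := coset_mem_quo N ((me _).2 ⟨k2 (conj_mem_conj (mem_zpowers _)), k0.conj y⟩)
      have k4 := sup_le hSN le_normalizer
      rw [coset_conj (k4 hy) (k4 k1)] at k3
      refine (mem_norm_iff.1 (quo_le_norm N (A := S) (le_norm_iff.2 fun s hs t ht => (me _).2
        ⟨S.mul_mem (S.mul_mem hs ht.1) (S.inv_mem hs), ((me t).1 ht).2.conj s⟩) ?_) _).2 k3
      exact quo_sup_self hSN ▸ coset_mem_quo N hy
    · exact quoPre_eq_iff.1 (le_antisymm (n3 _ (quoPre_normal n1 y1) ((quoPre_le_of_le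
        (n1.mono (le_inf n1.1 n2) inf_le_left) y2).trans inf_le_right)) (le_quoPre Y))
    · obtain ⟨a, ha, rfl⟩ := (mem_quo_of_le hEN).1 hz
      obtain ⟨g, hg, rfl⟩ := (mem_quo_of_le n1.2).1 hw
      rw [← coset_conj (n1.2 hg) (hEN ha),
        mm _ (H.mul_mem (H.mul_mem hg (hEM ha).1) (H.inv_mem hg))] at e
      exact (mm g hg).2 (h.mem (hEM ha).2 ((me a).1 ha).2 (fun e => z1 (by simp [e])) e)
  obtain ⟨L, k, n, f, l1, l2, l3⟩ := db.main kf1 (s3f_coset h.s3f N) (h.ky.mono (Nat.succ_le_of_lt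
    ((card_quo_le H N).trans_lt (Subgroup.card_top (G := G) ▸ card_lt hH.lt_top))))
  rw [inf_eq_right.2 (quo_mono N inf_le_left)] at l3
  set T := S ⁒ N ⊓ L with hT
  have fr := f.syl.frattini l1
  have mt : ∀ g ∈ H, g ∉ M → ∃ l ∈ L, l ∉ 𝐍(T) ∧ ∃ b ∈ H ⁒ N ⊓ 𝐍(T), l * b = coset N g :=
    fun g hg g1 => by
      obtain ⟨l, hl, b, hb, e⟩ := fr.mem_iff.1 (coset_mem_quo N hg)
      exact ⟨l, hl, fun e' => g1 ((mm g hg).1 (l3 ▸ e ▸ mul_mem (mem_inf.2 ⟨l1.1 hl, e'⟩) hb)), b, hb, e⟩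
  refine ⟨N, L, T, _, k, n, f, n1, n2, n3, n4, l1, l2, l3, ?_, fun w hw w2 => ?_,
    fun g hg g1 x hx x2 => ?_, fun g hg g1 g' hg' g2 => ?_⟩
  · rw [← inf_relIndex_left, ← relIndex_quo (n1.mono (le_inf n1.1 n2) inf_le_left) n1.2, l3,
      fr.relIndex_eq, ← inf_relIndex_right, inf_right_comm, inf_eq_right.2 l1.1, inf_relIndex_left,
      f.index]
  · obtain ⟨l, hl, e⟩ := f.syl.exists_conj_le (zpowers_le.2 hw) (isPGroup_zpowers_iff.2 (piElt_two w2))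
    obtain ⟨a, ha, e1⟩ := (mem_quo_of_le hEN).1 ((f.mem _).2
      ⟨e (conj_mem_conj (mem_zpowers w)), conj_sq w2 l⟩)
    obtain ⟨g, hg, rfl⟩ := (mem_quo_of_le n1.2).1 (l1.1 hl)
    refine ⟨g⁻¹ * a * g⁻¹⁻¹, H.mul_mem (H.mul_mem (H.inv_mem hg) (hEM ha).1) (H.inv_mem (H.inv_mem hg)),
      ((me a).1 ha).2.conj _, ?_⟩
    rw [coset_conj (inv_mem (n1.2 hg)) (hEN ha), e1, coset_inv]
    group
  · have key : ∀ y ∈ H ⊓ M, PiElt {2} y → coset N y ∈ T := fun y hy y2 => by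
      have k1 := coset_mem_quo N hy.1
      obtain ⟨a, ha, b, hb, e⟩ := (mem_sup_norm_left (cent_le_norm L)).1
        (f.two _ (l1.2 k1) (y2.coset N))
      obtain rfl : b = 1 := mem_bot.1 (l2 ▸ mem_inf.2
        ⟨(mul_mem_cancel_left (l1.1 ha)).1 (e ▸ k1), hb⟩)
      exact f.syl.mem_of_mem_norm (by simpa [← e] using ha) (l3.le (coset_mem_quo N hy)).2 (y2.coset N)
    obtain ⟨l, hl, k1, b, hb, e⟩ := mt g hg g1
    have k2 := key _ ⟨H.mul_mem (H.mul_mem (H.inv_mem hg) hx.1.1) hg, mem_conj.1 hx.2⟩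
      (by simpa using x2.conj g⁻¹)
    rw [coset_mul (n1.2 (H.mul_mem (H.inv_mem hg) hx.1.1)) (n1.2 hg),
      coset_mul (n1.2 (H.inv_mem hg)) (n1.2 hx.1.1), coset_inv, ← e] at k2
    refine (coset_eq_one_iff (n1.2 hx.1.1)).1 (by_contra fun x1 => k1 ?_)
    simpa using inv_mem (f.ti l⁻¹ (inv_mem hl) _ (key x hx.1 x2) x1 (by
      simpa [mul_assoc] using conj_mem_of_norm hb.2 k2))
  · obtain ⟨l, hl, k1, b, hb, e⟩ := mt g hg g1
    obtain ⟨l', hl', k2, b', hb', e'⟩ := mt g' hg' g2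
    obtain ⟨z, hz, k3⟩ := f.trans hl hl' k1 k2
    obtain ⟨x, hx, rfl⟩ := (mem_quo_of_le (inf_le_left.trans n1.2)).1
      (l3.ge ⟨l1.1 hz.2, le_normalizer hz⟩)
    refine ⟨x, hx, hz, (mm _ (H.mul_mem (H.mul_mem (H.inv_mem hg') hx.1) hg)).1 (l3.ge ⟨coset_mem_quo N
      (H.mul_mem (H.mul_mem (H.inv_mem hg') hx.1) hg), ?_⟩)⟩
    rw [coset_mul (n1.2 (H.mul_mem (H.inv_mem hg') hx.1)) (n1.2 hg),
      coset_mul (n1.2 (H.inv_mem hg')) (n1.2 hx.1), coset_inv, ← e, ← e']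
    simpa [mul_assoc] using Subgroup.mul_mem _ (Subgroup.mul_mem _ (Subgroup.inv_mem _ (mem_inf.1 hb').2) k3)
      (mem_inf.1 hb).2

end Cfsg.Agent.R4
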