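import Cfsg.Agent.Lib.R4.Fus
import Cfsg.Agent.Lib.R1.ZStar
import Cfsg.Agent.Lib.W0.Main

/-!
# Strongly closed four-groups in simple `S₃`-free groups
-/

set_option autoImplicit false
set_option linter.unusedSectionVars false

namespace Cfsg.Agent.R4

open Subgroup Cfsg.Agent.OO Cfsg.Agent.Coprime Cfsg.Agent.SZ
open scoped commutatorElement Pointwise

universe u

variable {G : Type u} [Group G] [Finite G] {A S P : Subgroup G} {a b c g n r v x : G} {p : ℕ}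

theorem exists_fix_conj [Fact p.Prime] (hP : IsPGroup p P) {X : Set G}
    (hX : ∀ a ∈ P, ∀ w ∈ X, a * w * a⁻¹ ∈ X) (h : ¬ p ∣ X.ncard) :
    ∃ w ∈ X, ∀ a ∈ P, a * w * a⁻¹ = w := by
  have h1 := @ncard_modEq_of_invariant G _ G _ (MulAction.compHom G (MulAut.conj : G →* MulAut G))
    p _ P hP X hX
  by_contra! e
  rw [Set.eq_empty_of_forall_notMem (s := {w ∈ X | _}) fun w hw => by
    obtain ⟨a, ha, e'⟩ := e w hw.1
    exact e' (hw.2 a ha), Set.ncard_empty] at h1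
  exact h ((Nat.modEq_zero_iff_dvd).1 h1)

omit [Finite G] in
theorem abelem_sq (h : IsElementaryAbelian 2 A) (ha : a ∈ A) : a * a = 1 :=
  (pow_two a).symm.trans (h.2 a ha)

omit [Finite G] in
theorem mem_of_odd_sq {H : Subgroup G} (ho : Odd (orderOf n)) (h : n * n ∈ H) : n ∈ H := by
  obtain ⟨k, hk⟩ := ho
  have h1 : (n * n) ^ k * n = 1 := by rw [← pow_two, ← pow_mul, ← pow_succ, ← hk, pow_orderOf_eq_one]
  exact eq_inv_of_mul_eq_one_right h1 ▸ inv_mem (pow_mem h k)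

theorem cube_conj (n a : G) : n ^ 3 * a * (n ^ 3)⁻¹ = n * (n * (n * a * n⁻¹) * n⁻¹) * n⁻¹ := by
  simp only [pow_succ, pow_zero, one_mul]; group

theorem two_elt (h : x * x = 1) : IsPGroup 2 (zpowers x) :=
  abelem_isPGroup (abelem_zpowers ((pow_two x).trans h))

theorem SC.le_norm (h : SC A) (hS : IsPGroup 2 S) (hle : A ≤ S) : S ≤ 𝐍(A) :=
  le_norm_iff.2 fun g hg a ha => h.cl S hS hle a ha g (conj_mem_of_norm (le_norm_self S hg) (hle ha))

omit [Finite G] in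
theorem SC.mem (h : SC A) (hS : IsPGroup 2 S) (hle : A ≤ S) (hx : x ∈ S) (hD : InD A x) : x ∈ A := by
  obtain ⟨g, hg⟩ := hD
  have e : g⁻¹ * (g * x * g⁻¹) * g⁻¹⁻¹ = x := by group
  exact e ▸ h.cl S hS hle _ hg g⁻¹ (e.symm ▸ hx)

/-- by the `Z*` theorem no involution of `A` is central in `N(A)` -/
theorem SC.not_le_cent [IsSimpleGroup G] (hn : ¬ IsMulCommutative G) (h : SC A) (ha : a ∈ A)
    (a1 : a ≠ 1) : ¬ 𝐍(A) ≤ 𝐂[a] := fun e => by
  obtain ⟨S, hS, hle⟩ := exists_syl_ge (M := ⊤) le_top (abelem_isPGroup h.elem)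
  have a2 := abelem_sq h.elem ha
  have k1 : ∀ g : G, g * a * g⁻¹ ∈ S → g * a * g⁻¹ = a := fun g hg => by
    obtain ⟨n, hn, e'⟩ := (h.ctl hS hle).elt (hle ha) (mem_top g) hg
    rw [e', mem_cent1_iff_conj.1 (e hn.2)]
  have h1 := R1.zstar G a a2 fun g hg => by
    obtain ⟨k, -, hk⟩ := hS.exists_conj_le le_top (isPGroup_sup (two_elt a2)
      (two_elt (W0.conj_sq a2 g)) (Or.inl (le_norm_of_le_cent (by
        rw [cent_zpowers, zpowers_le]; exact mem_cent1.2 hg))))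
    have h2 := k1 k (hk (conj_mem_conj (mem_sup_left (mem_zpowers a))))
    have h3 := k1 (k * g) (by
      simpa [mul_assoc] using hk (conj_mem_conj (mem_sup_right (mem_zpowers _))))
    calc _ = k⁻¹ * (k * g * a * (k * g)⁻¹) * k := by group
      _ = k⁻¹ * (k * a * k⁻¹) * k := by rw [h3, h2]
      _ = a := by group
  have h0 : pPrimeCore 2 G = ⊥ :=
    (IsSimpleGroup.eq_bot_or_eq_top_of_normal _ inferInstance).resolve_right fun e =>
      Core.not_dvd_card_pPrimeCore (p := 2) (G := G) (by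
        rw [e, ← orderOf_eq_prime ((pow_two a).trans a2) a1]; exact orderOf_dvd_card (mem_top a))
  have hc : a ∈ center G := mem_center_iff.2 fun g => by
    have := h1 g
    rw [h0, mem_bot, mul_inv_eq_one, mul_inv_eq_iff_eq_mul] at this
    exact this
  rcases IsSimpleGroup.eq_bot_or_eq_top_of_normal (center G) inferInstance with e | e
  · exact a1 (mem_bot.1 (e ▸ hc))
  · exact hn ⟨⟨fun x y => mem_center_iff.1 (e.ge (mem_top y)) x⟩⟩

section

variable (hA : IsElementaryAbelian 2 A) (h4 : ♯A = 4) (ha : a ∈ A) (hb : b ∈ A) (a1 : a ≠ 1)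
  (b1 : b ≠ 1) (ab : a ≠ b)
include hA ha hb

omit [Finite G] in
include ab in
theorem four_ne : a * b ≠ 1 := fun e => ab (mul_right_cancel (e.trans (abelem_sq hA hb).symm))

include h4 a1 b1 ab in
theorem four_cases (hv : v ∈ A) : v = 1 ∨ v = a ∨ v = b ∨ v = a * b := by
  by_contra! e
  rcases W0.five h4.le ha hb (mul_mem ha hb) hv a1 b1 (four_ne hA ha hb ab) e.1 with
    h | h | h | h | h | h
  · exact ab h
  · exact b1 (by simpa using h)
  · exact e.2.1 h.symm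
  · exact a1 (by simpa using h)
  · exact e.2.2.1 h.symm
  · exact e.2.2.2 h.symm

include h4 a1 b1 ab in
theorem four_cent (h1 : n * a * n⁻¹ = a) (h2 : n * b * n⁻¹ = b) : n ∈ 𝐂(A) :=
  mem_cent_iff_conj.2 fun v hv => by
    rcases four_cases hA h4 ha hb a1 b1 ab hv with rfl | rfl | rfl | rfl
    · simp
    · exact h1
    · exact h2
    · rw [← conj_mul, h1, h2]

include h4 a1 b1 ab in
theorem four_fix (h : S3F G) (hx : x ∈ 𝐍(A)) (h1 : x * a * x⁻¹ = b) (h2 : x * b * x⁻¹ = a * b)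
    (hg : g ∈ 𝐍(A)) (h3 : g * a * g⁻¹ = a) : g ∈ 𝐂(A) := by
  have c1 := ab_iff.1 (abelem_ab hA) a ha b hb
  have a2 := abelem_sq hA ha
  have h5 : x * (a * b) * x⁻¹ = a := by
    rw [← conj_mul, h1, h2, c1, ← mul_assoc, abelem_sq hA hb, one_mul]
  rcases four_cases hA h4 ha hb a1 b1 ab (conj_mem_of_norm hg hb) with e | e | e | e
  · exact absurd e (conj_ne_one.2 b1)
  · exact absurd (by simpa using e.trans h3.symm) ab.symm
  · exact four_cent hA h4 ha hb a1 b1 ab h3 e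
  have h6 : g * (a * b) * g⁻¹ = b := by rw [← conj_mul, h3, e, ← mul_assoc, a2, one_mul]
  have h7 : g⁻¹ * b * g = a * b := (congrArg (g⁻¹ * · * g) h6.symm).trans (by group)
  have h8 : g⁻¹ * (a * b) * g = b := (congrArg (g⁻¹ * · * g) e.symm).trans (by group)
  refine absurd (h1.symm.trans (mem_cent_iff_conj.1 (h _ x g (norm_le_norm_cent A hx)
    (norm_le_norm_cent A hg) (four_cent hA h4 ha hb a1 b1 ab ?_ ?_)
    (four_cent hA h4 ha hb a1 b1 ab ?_ ?_)) a ha)) ab.symm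
  · calc _ = x * (x * (x * a * x⁻¹) * x⁻¹) * x⁻¹ := cube_conj x a
      _ = _ := by rw [h1, h2, h5]
  · calc _ = x * (x * (x * b * x⁻¹) * x⁻¹) * x⁻¹ := cube_conj x b
      _ = _ := by rw [h2, h5, h1]
  · calc _ = g * (x * (g⁻¹ * (x * a * x⁻¹) * g) * x⁻¹) * g⁻¹ := by group
      _ = _ := by rw [h1, h7, h5, h3]
  · calc _ = g * (x * (g⁻¹ * (x * b * x⁻¹) * g) * x⁻¹) * g⁻¹ := by group
      _ = _ := by rw [h2, h8, h2, h6]

end

/-- the four-group `A` has automizer of order three, generated by `r` -/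
structure Q4 (A : Subgroup G) (r : G) : Prop where
  elem : IsElementaryAbelian 2 A
  card : ♯A = 4
  norm : r ∈ 𝐍(A)
  not_mem : r ∉ 𝐂(A)
  fix : ∀ n ∈ 𝐍(A), ∀ a ∈ A, a ≠ 1 → n * a * n⁻¹ = a → n ∈ 𝐂(A)

theorem SC.exists_q4 [IsSimpleGroup G] (hn : ¬ IsMulCommutative G) (h3 : S3F G) (h : SC A)
    (h4 : ♯A = 4) (hS : Syl 2 S ⊤) (hle : A ≤ S) :
    S ≤ 𝐂(A) ∧ ∃ r ∈ 𝐍(S), PiElt {3} r ∧ Q4 A r := by
  have hA := h.elem
  have hSA := h.le_norm hS.isPGroup hle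
  obtain ⟨a, ⟨ha, haS⟩, a1⟩ := exists_mem_ne_one (inf_cent_ne_bot_of_isPGroup hS.isPGroup
    (abelem_isPGroup hA) hSA fun e => by rw [e, card_bot] at h4; omega)
  obtain ⟨x, hx, ho, h1⟩ : ∃ x ∈ 𝐍(A), Odd (orderOf x) ∧ x ∉ 𝐂[a] := by
    by_contra! e
    refine h.not_le_cent hn ha a1 (le_of_forall_syl fun q hq _ => ?_)
    by_cases e2 : q = 2
    · exact e2 ▸ ⟨S, hS.mono hSA le_top, le_cent1_iff.2 haS⟩
    have := Fact.mk hq
    obtain ⟨Q, hQ⟩ := exists_syl q 𝐍(A)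
    exact ⟨Q, hQ, fun y hy => e y (hQ.le hy) (Nat.not_even_iff_odd.1 fun e' =>
      (hQ.piGrp.piElt hy).not_dvd Nat.prime_two (Ne.symm e2) e'.two_dvd)⟩
  have hb := conj_mem_of_norm hx ha
  have b1 : x * a * x⁻¹ ≠ 1 := conj_ne_one.2 a1
  have ab : a ≠ x * a * x⁻¹ := fun e => h1 (mem_cent1_iff_conj.2 e.symm)
  generalize hxa : x * a * x⁻¹ = b at hb b1 ab
  have h2 : x * b * x⁻¹ = a * b := by
    rcases four_cases hA h4 ha hb a1 b1 ab (conj_mem_of_norm hx hb) with e | e | e | e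
    · exact absurd e (conj_ne_one.2 b1)
    · exact absurd (mem_of_odd_sq ho (mem_cent1_iff_conj.2
        (.trans (by rw [← hxa]; group) e))) h1
    · exact absurd (by simpa using hxa.trans e.symm) ab
    · exact e
  have c1 := ab_iff.1 (abelem_ab hA) a ha b hb
  have e1 : b * (a * b) = a := by rw [c1, ← mul_assoc, abelem_sq hA hb, one_mul]
  have e2 : a * b * a = b := by rw [c1, mul_assoc, abelem_sq hA ha, mul_one]
  have h5 : x * (a * b) * x⁻¹ = a := by rw [← conj_mul, hxa, h2, e1]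
  have c2 := four_ne hA ha hb ab
  have fix : ∀ n ∈ 𝐍(A), ∀ c ∈ A, c ≠ 1 → n * c * n⁻¹ = c → n ∈ 𝐂(A) := fun n hn c hc c1 e => by
    rcases four_cases hA h4 ha hb a1 b1 ab hc with rfl | rfl | rfl | rfl
    · exact absurd rfl c1
    · exact four_fix hA h4 ha hb a1 b1 ab h3 hx hxa h2 hn e
    · exact four_fix hA h4 hb (mul_mem ha hb) b1 c2 (by simpa using a1) h3 hx h2
        (h5.trans e1.symm) hn e
    · exact four_fix hA h4 hc ha c1 a1 (by simpa using b1) h3 hx h5 (hxa.trans e2.symm) hn e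
  have hSC : S ≤ 𝐂(A) := fun s hs => fix s (hSA hs) a ha a1
    (mem_cent1_iff_conj.1 (le_cent1_iff.2 haS hs))
  refine ⟨hSC, ?_⟩
  obtain ⟨c, hc, n, hn, rfl⟩ := ((hS.mono hSC le_top).frattini
    ⟨cent_le_norm A, norm_le_norm_cent A⟩).mem_iff.1 hx
  have h6 : ∀ v ∈ A, n * v * n⁻¹ = c * n * v * (c * n)⁻¹ := fun v hv => by
    rw [← mem_cent_iff_conj.1 hc _ (conj_mem_of_norm hn.1 hv)]; group
  have h7 : n ^ 3 ∈ 𝐂(A) := fix _ (pow_mem hn.1 3) a ha a1 (by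
    calc _ = n * (n * (n * a * n⁻¹) * n⁻¹) * n⁻¹ := cube_conj n a
      _ = _ := by rw [h6 a ha, hxa, h6 b hb, h2, h6 _ (mul_mem ha hb), h5])
  refine ⟨_, constt_mem {3} hn.2, piElt_constt _ n, hA, h4, constt_mem _ hn.1, fun e => h1 ?_, fix⟩
  refine cent_le_cent1 ha (mul_mem hc (mem_of_constt_mem e ?_))
  refine zpowers_le.2 (?_ : constt {3}ᶜ n ^ 3 ∈ 𝐂(A)) (mem_zpowers_pow_iff.2
    ((Nat.prime_three.coprime_iff_not_dvd).2
      ((isPiNum_compl_singleton Nat.prime_three).1 (piElt_constt _ n))))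
  rw [← constt_pow]
  exact constt_mem _ h7

namespace Q4

variable (h : Q4 A r)
include h

omit [Finite G] in
theorem fpf (ha : a ∈ A) (e : r * a * r⁻¹ = a) : a = 1 :=
  by_contra fun a1 => h.not_mem (h.fix r h.norm a ha a1 e)

theorem cyc (hn : n ∈ 𝐍(A)) (h1 : n ∉ 𝐂(A)) (ha : a ∈ A) :
    n * (n * a * n⁻¹) * n⁻¹ = a * (n * a * n⁻¹) := by
  by_cases a1 : a = 1
  · simp [a1]
  have hb := conj_mem_of_norm hn ha
  have b1 : n * a * n⁻¹ ≠ 1 := conj_ne_one.2 a1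
  have ab : a ≠ n * a * n⁻¹ := fun e => h1 (h.fix n hn a ha a1 e.symm)
  rcases four_cases h.elem h.card ha hb a1 b1 ab (conj_mem_of_norm hn hb) with e | e | e | e
  · exact absurd e (conj_ne_one.2 b1)
  · refine absurd (h.fix n hn _ (mul_mem ha hb) (four_ne h.elem ha hb ab) ?_) h1
    rw [← conj_mul, e]
    exact ab_iff.1 (abelem_ab h.elem) _ hb a ha
  · exact absurd (h.fix n hn _ hb b1 e) h1
  · exact e

theorem cube (hn : n ∈ 𝐍(A)) : n ^ 3 ∈ 𝐂(A) := by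
  by_cases h1 : n ∈ 𝐂(A)
  · exact pow_mem h1 3
  refine mem_cent_iff_conj.2 fun a ha => ?_
  calc _ = n * (n * (n * a * n⁻¹) * n⁻¹) * n⁻¹ := cube_conj n a
    _ = _ := by
      rw [h.cyc hn h1 (conj_mem_of_norm hn ha), h.cyc hn h1 ha,
        ab_iff.1 (abelem_ab h.elem) a ha _ (conj_mem_of_norm hn ha), ← mul_assoc,
        abelem_sq h.elem (conj_mem_of_norm hn ha), one_mul]

theorem cases (ha : a ∈ A) (a1 : a ≠ 1) (hv : v ∈ A) :
    v = 1 ∨ v = a ∨ v = r * a * r⁻¹ ∨ v = r * (r * a * r⁻¹) * r⁻¹ :=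
  h.cyc h.norm h.not_mem ha ▸ four_cases h.elem h.card ha (conj_mem_of_norm h.norm ha) a1
    (conj_ne_one.2 a1) (fun e => a1 (h.fpf ha e.symm)) hv

theorem exists_ne : ∃ a ∈ A, a ≠ 1 := exists_mem_ne_one fun e => by
  have := h.card
  rw [e, card_bot] at this
  omega

/-- `N(A) = C(A) ⟨r⟩` -/
theorem split (hn : n ∈ 𝐍(A)) : n ∈ 𝐂(A) ∨ r⁻¹ * n ∈ 𝐂(A) ∨ (r * r)⁻¹ * n ∈ 𝐂(A) := by
  obtain ⟨a, ha, a1⟩ := h.exists_ne
  rcases h.cases ha a1 (conj_mem_of_norm hn ha) with e | e | e | e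
  · exact absurd e (conj_ne_one.2 a1)
  · exact .inl (h.fix n hn a ha a1 e)
  · refine .inr (.inl (h.fix _ (mul_mem (inv_mem h.norm) hn) a ha a1 ?_))
    calc _ = r⁻¹ * (n * a * n⁻¹) * r := by group
      _ = _ := by rw [e]; group
  · refine .inr (.inr (h.fix _ (mul_mem (inv_mem (mul_mem h.norm h.norm)) hn) a ha a1 ?_))
    calc _ = (r * r)⁻¹ * (n * a * n⁻¹) * (r * r) := by simp [mul_assoc]
      _ = _ := by rw [e]; simp [mul_assoc]

theorem mem_cent (hn : n ∈ 𝐍(A)) (h3 : ¬ 3 ∣ orderOf n) : n ∈ 𝐂(A) :=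
  zpowers_le.2 (h.cube hn) (mem_zpowers_pow_iff.2 ((Nat.prime_three.coprime_iff_not_dvd).2 h3))

end Q4

end Cfsg.Agent.R4
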