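import Cfsg.Agent.Lib.R4.KFSz
import Cfsg.Agent.Lib.R4.Four
import Cfsg.Agent.Lib.JR.LF2
import Cfsg.Agent.Lib.Wal.K2

/-!
# The facts on the groups `L₂(3 ^ (2 f + 1))`
-/

set_option autoImplicit false
set_option linter.unusedSectionVars false

namespace Cfsg.Agent.R4

open Subgroup Cfsg.Agent.Coprime Cfsg.Agent.OO Cfsg.Agent.GW Cfsg.Agent.SZ
open scoped Pointwise commutatorElement

universe u

variable {G : Type u} [Group G] [Finite G] {A L T : Subgroup G} {x : G}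

theorem q4_of_fpf (h3 : S3F G) (hA : IsElementaryAbelian 2 A) (h4 : ♯A = 4) (hx : x ∈ 𝐍(A))
    (hf : ∀ a ∈ A, x * a * x⁻¹ = a → a = 1) : Q4 A x := by
  obtain ⟨a, ha, a1⟩ := exists_mem_ne_one (H := A) fun e => by rw [e, card_bot] at h4; omega
  have hb := conj_mem_of_norm hx ha
  have b1 : x * a * x⁻¹ ≠ 1 := conj_ne_one.2 a1
  have ab : a ≠ x * a * x⁻¹ := fun e => a1 (hf a ha e.symm)
  generalize hxa : x * a * x⁻¹ = b at hb b1 ab
  have c1 := ab_iff.1 (abelem_ab hA) a ha b hb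
  have c2 := four_ne hA ha hb ab
  have h2 : x * b * x⁻¹ = a * b := by
    rcases four_cases hA h4 ha hb a1 b1 ab (conj_mem_of_norm hx hb) with e | e | e | e
    · exact absurd e (conj_ne_one.2 b1)
    · exact absurd (hf _ (mul_mem ha hb) (by rw [← conj_mul, hxa, e, c1])) c2
    · exact absurd (hf b hb e) b1
    · exact e
  have e1 : b * (a * b) = a := by rw [c1, ← mul_assoc, abelem_sq hA hb, one_mul]
  have e2 : a * b * a = b := by rw [c1, mul_assoc, abelem_sq hA ha, mul_one]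
  have h5 : x * (a * b) * x⁻¹ = a := by rw [← conj_mul, hxa, h2, e1]
  refine ⟨hA, h4, hx, fun e => a1 (hf a ha (mem_cent_iff_conj.1 e a ha)), fun n hn c hc c1 e => ?_⟩
  rcases four_cases hA h4 ha hb a1 b1 ab hc with rfl | rfl | rfl | rfl
  · exact absurd rfl c1
  · exact four_fix hA h4 ha hb a1 b1 ab h3 hx hxa h2 hn e
  · exact four_fix hA h4 hb (mul_mem ha hb) b1 c2 (by simpa using a1) h3 hx h2
      (h5.trans e1.symm) hn e
  · exact four_fix hA h4 hc ha c1 a1 (by simpa using b1) h3 hx h5 (hxa.trans e2.symm) hn e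

/-- a 2-element centralizing an abelian Sylow 2-subgroup of `L` acts as an inner automorphism -/
theorem mem_sup_cent_of_ab (hL : Smp L) (h2 : 2 ∣ ♯L) (hT : Syl 2 T L) (ha : Ab T) (hx : x ∈ 𝐍(L))
    (x2 : PiElt {2} x) (hc : x ∈ 𝐂(T)) : x ∈ L ⊔ 𝐂(L) := by
  have := Fact.mk Nat.prime_two
  have h1 := zpowers_le.2 hx
  have hn := normalIn_sup_left h1
  have h3 := isPGroup_zpowers_iff.2 x2
  have h4 := zpowers_le.2 hc
  obtain ⟨S, hS, hle⟩ := exists_syl_ge (sup_le_sup_right hT.le (zpowers x))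
    (hT.isPGroup.to_sup_of_normal_left' h3 (h4.trans (cent_le_norm T)))
  have h5 : S = T ⊔ zpowers x := by
    rw [hT.eq_of_le_syl (hS.normal_inf hn) (le_inf hT.le (le_sup_left.trans hle)),
      ← sup_inf_of_le_right (.inr h1) (le_sup_right.trans hle), inf_eq_right.2 hS.le]
  have h6 : O (L ⊔ zpowers x) ≤ L := fun y hy => Core.mem_of_coprime_of_mem_sup h1 (Opi_le _ _ hy)
    (((Op'_piGrp 2 _).piElt hy).coprime' (piGrp_singleton h3))
  have hb : Wal.Bar (L ⊔ zpowers x) S := ⟨(hL _ ⟨h6, le_sup_left.trans (O_norm _)⟩).resolve_right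
    fun e => (odd_O (L ⊔ zpowers x)).not_two_dvd_nat (by rwa [e]), hS,
    h5 ▸ ab_sup ha inferInstance (le_cent_symm h4)⟩
  exact (hb.le_sup (Core.subnormalIn_of_le_normalizer hn.le hn.norm)
    (hS.le.trans hn.norm)).trans (sup_le_sup inf_le_right inf_le_right)
    (hle (mem_sup_right (mem_zpowers x)))

theorem kf1_l3 (h3 : S3F G) (h : IsL3 L) (hT : Syl 2 T L) : ∃ k f r c, L3F L T k f r c := by
  have := Fact.mk Nat.prime_two
  have := Fact.mk Nat.prime_three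
  obtain ⟨f, hf, ⟨e⟩⟩ := h
  let _ : Fintype (GaloisField 3 (2 * f + 1)) := Fintype.ofFinite _
  have hq : Fintype.card (GaloisField 3 (2 * f + 1)) = 3 ^ (2 * f + 1) := by
    rw [← Nat.card_eq_fintype_card, GaloisField.card 3 _ (by omega)]
  have h27 : 3 ^ 3 ≤ 3 ^ (2 * f + 1) := Nat.pow_le_pow_right (by omega) (by omega)
  have h8 : 3 ^ (2 * f + 1) % 8 = 3 := by rw [pow_succ, pow_mul, Nat.mul_mod, Nat.pow_mod]; simp
  obtain ⟨p, r, c, lf⟩ := JR.lf2 G L _ (by omega) (by omega) ⟨e⟩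
  rw [hq] at lf
  obtain rfl : p = 3 := (Nat.prime_dvd_prime_iff_eq lf.prime Nat.prime_three).1
    (lf.prime.dvd_of_dvd_pow lf.dvd_q)
  obtain ⟨k1, k2, k3⟩ := Wal.psl_facts (by omega) (by omega) e
  have sf := Wal.SF.of_subgroupOf hT.le (Wal.sf_four k2 k3 (Wal.syl_subgroupOf hT))
  have good := good_of_equiv (by rw [hq]; exact lf.odd_q) e lf.smp lf.not_ab
  have ha : Ab T := ab_iff.2 fun a ha b hb => by
    have e : ∀ s ∈ T, s⁻¹ = s := fun s hs => inv_eq_of_mul_eq_one_right (sf.sq s hs)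
    rw [← e _ (T.mul_mem ha hb), _root_.mul_inv_rev, e a ha, e b hb]
  have hA : IsElementaryAbelian 2 T := ⟨ha, fun a h => (sq a).trans (sf.sq a h)⟩
  have h4 : ♯T = 4 := by
    obtain ⟨n, hn⟩ := hT.isPGroup.exists_card_eq
    have h1 := sf.four
    have h2 : ¬ 2 ^ 3 ∣ 2 ^ n := fun e => k3 (e.trans (hn ▸ card_dvd_of_le hT.le))
    rw [Nat.pow_dvd_pow_iff_le_right one_lt_two] at h2
    rw [hn] at h1 ⊢
    obtain rfl | rfl | rfl : n = 0 ∨ n = 1 ∨ n = 2 := by omega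
    all_goals omega
  obtain ⟨j, hj, t, ht⟩ := sf.cyc
  have q1 : Q4 T j := q4_of_fpf h3 hA h4 hj.2 fun a ha e => by_contra fun a1 => by
    have h1 : ∀ v ∈ T, v ≠ 1 → v = a := fun v hv v1 => by
      obtain ⟨g, hg, rfl⟩ := ht v hv v1
      obtain ⟨g', hg', e'⟩ := ht a ha a1
      rw [← mem_cent1_iff_conj.1 (zpowers_le.2 (mem_cent1_iff_conj.2 e) (mul_mem hg (inv_mem hg'))),
        ← e']
      group
    have h2 : T ≤ zpowers a := fun v hv => by
      by_cases v1 : v = 1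
      · exact v1 ▸ one_mem _
      · exact h1 v hv v1 ▸ mem_zpowers v
    have h5 := card_le h2
    rw [Nat.card_zpowers, orderOf_eq_prime ((sq a).trans (sf.sq a ha)) a1] at h5
    omega
  have hC : L ⊓ 𝐂(T) ≤ T := fun y hy => by
    refine hT.mem_of_mem_norm hy.1 (cent_le_norm T hy.2) ?_
    rw [← compl_compl {2}, ← constt_eq_one_iff]
    by_contra y1
    obtain ⟨a, ha, a1⟩ := q1.exists_ne
    have h1 : ∀ v ∈ T, v ∈ L ⊓ 𝐂[constt {2}ᶜ y] := fun v hv =>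
      ⟨hT.le hv, mem_cent1_comm.1 (cent_le_cent1 hv (constt_mem _ hy.2))⟩
    have hb := conj_mem_of_norm hj.2 ha
    exact a1 (q1.fpf ha (good.ui _ (constt_mem _ hy.1) (Nat.not_even_iff_odd.1 fun e =>
      (isPiNum_compl_singleton Nat.prime_two).1 (piElt_constt _ y) e.two_dvd) y1 _ (h1 _ hb) _ (h1 a ha)
      (conj_ne_one.2 a1) (sf.sq _ hb) a1 (sf.sq a ha)))
  have hk : j * j ∈ L ⊓ 𝐍(T) := mul_mem hj hj
  have j3 : j ^ 3 ∈ T := hC ⟨pow_mem hj.1 3, q1.cube hj.2⟩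
  have q : Q4 T (j * j) := ⟨hA, h4, hk.2, fun e => q1.not_mem (by
    rw [show j = j ^ 3 * (j * j)⁻¹ by group]
    exact mul_mem (q1.cube hj.2) (inv_mem e)), q1.fix⟩
  have k4 : (j * j) ^ 3 = 1 := by rw [← sf.sq _ j3, (Commute.refl j).mul_pow]
  generalize j * j = k at hk q k4
  have hN : L ⊓ 𝐍(T) = T ⊔ zpowers k := by
    refine le_antisymm (fun y hy => ?_) (sup_le (le_inf hT.le (le_norm_self T)) (zpowers_le.2 hk))
    have h1 := mem_sup_right (S := T) (mem_zpowers k)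
    rcases q.split hy.2 with e | e | e
    · exact mem_sup_left (hC ⟨hy.1, e⟩)
    · exact (mul_mem_cancel_left (inv_mem h1)).1 (mem_sup_left (hC ⟨L.mul_mem (inv_mem hk.1) hy.1, e⟩))
    · exact (mul_mem_cancel_left (inv_mem (mul_mem h1 h1))).1
        (mem_sup_left (hC ⟨L.mul_mem (inv_mem (L.mul_mem hk.1 hk.1)) hy.1, e⟩))
  have cyc : ∀ v ∈ T, ∀ w ∈ T, v ≠ 1 → w ≠ 1 → ∃ j : ℕ, k ^ j * v * (k ^ j)⁻¹ = w :=
    fun v hv w hw v1 w1 => by
      rcases q.cases hv v1 hw with e | e | e | e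
      · exact absurd e w1
      · exact ⟨0, by rw [e]; group⟩
      · exact ⟨1, by rw [e]; group⟩
      · exact ⟨2, by rw [e, pow_two]; group⟩
  have gen : ∀ M : Subgroup G, (∀ w ∈ T, w ≠ 1 → L ⊓ 𝐂[w] ≤ M) → L ≤ M := fun M hM => by
    obtain ⟨a, ha', a1⟩ := q.exists_ne
    let B := sSup {X : Subgroup G | ∃ w ∈ T, w ≠ 1 ∧ X = L ⊓ 𝐂[w]}
    have h1 : ∀ w ∈ T, w ≠ 1 → L ⊓ 𝐂[w] ≤ B := fun w hw w1 => le_sSup ⟨w, hw, w1, rfl⟩
    have h2 : T ≤ B := (le_inf hT.le (ha.le_cent.trans (cent_le_cent1 ha'))).trans (h1 a ha' a1)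
    have h5 : zpowers k ≤ 𝐍(B) := le_norm_sSup fun g hg _ ⟨w, hw, w1, e⟩ =>
      ⟨_, conj_mem_of_norm (zpowers_le.2 hk.2 hg) hw, conj_ne_one.2 w1, by
        rw [e, conj_inf, cent1_conj, conj_eq_of_mem (zpowers_le.2 hk.1 hg)]⟩
    have h6 : B ≤ L := sSup_le fun _ ⟨_, _, _, e⟩ => e ▸ inf_le_left
    have h7 : L ≤ B ⊔ zpowers k := (sf.dich _ (hN ▸ sup_le_sup_right h2 _)
      fun w hw w1 => (h1 w hw w1).trans le_sup_left).resolve_right fun e => by
        obtain ⟨K, hK, aK⟩ := lf.exists_torK (hT.le ha') a1 (sf.sq a ha')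
        have h8 := card_le (e a ha' a1)
        rw [hK.cent_inv aK a1 (sf.sq a ha'), hK.card_norm, h4] at h8
        have := (lf.three rfl).1
        omega
    refine ((lf.smp B ⟨h6, h7.trans (normalIn_sup_left h5).norm⟩).resolve_left fun e =>
      a1 (mem_bot.1 (e.le (h2 ha')))).ge.trans (sSup_le fun _ ⟨w, hw, w1, e⟩ => e ▸ hM w hw w1)
  refine ⟨k, f, r, c, { lf with
    toSF := ⟨lf.smp, lf.not_ab, hT, fun w => ⟨fun hw => ⟨hw, sf.sq w hw⟩, fun hw => hw.1⟩,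
      ha.le_cent, fun t ht => mul_mem ht ht, der_le T, h4.ge, hk.1, hk.2, ?_, cyc, hN,
      fun y hy y2 => ?_, fun y hy _ y3 => ?_⟩
    one := hf, cardT := h4, good := good, gen := gen, rigid := fun y hy ho w hw w1 e => ?_ }⟩
  · rw [orderOf_eq_prime k4 fun e => q.not_mem (e ▸ one_mem _), h4]
  · obtain ⟨g, hg, h5⟩ := exists_conj_norm hT hy y2
    have h6 := mem_sup_cent_of_ab lf.smp (Dvd.dvd.trans ⟨2, h4⟩ (card_dvd_of_le hT.le)) hT ha
      (mul_mem (mul_mem (le_normalizer hg) hy) (inv_mem (le_normalizer hg))) (y2.conj g)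
      (q.mem_cent h5 ((y2.conj g).not_dvd Nat.prime_three (by simp)))
    rwa [mul_mem_cancel_right (inv_mem (mem_sup_left hg)), mul_mem_cancel_left (mem_sup_left hg)] at h6
  · by_cases y1 : y = 1
    · exact ⟨1, one_mem _, mul_one 1, by simp [y1]⟩
    obtain ⟨K, hK, e | e⟩ := lf.part y hy y1
    · exact absurd (orderOf_eq_prime (e.elem.2 y hK) y1 ▸ dvd_rfl) y3
    · obtain ⟨n, e⟩ : ∃ n, JR.Tor L K n := e.elim (fun e => ⟨_, e⟩) fun e => ⟨_, e⟩
      obtain ⟨g, hg, g1⟩ := e.exists_inv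
      exact ⟨g, hg.1, (e.inv g hg g1).1, (e.inv g hg g1).2 y hK⟩
  · have h1 : y ∈ 𝐂(T) := mem_cent_iff.2 fun v hv =>
      mem_cent1.1 (e ⟨hT.le hv, cent_le_cent1 hw (ha.le_cent hv)⟩)
    have h2 : k⁻¹ * (y * k * y⁻¹) ∈ T := hC ⟨L.mul_mem (L.inv_mem hk.1) (conj_mem_of_norm hy hk.1), by
      rw [show k⁻¹ * (y * k * y⁻¹) = k⁻¹ * y * k⁻¹⁻¹ * y⁻¹ by group]
      exact (𝐂(T)).mul_mem (conj_mem_of_norm (inv_mem (norm_le_norm_cent T hk.2)) h1)
        ((𝐂(T)).inv_mem h1)⟩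
    have h5 : y ∈ 𝐂[k] := mem_of_odd_sq ho (mem_cent1_iff_conj.2 (by
      calc _ = y * k * y⁻¹ * (y * (k⁻¹ * (y * k * y⁻¹)) * y⁻¹) := by group
        _ = k * (k⁻¹ * (y * k * y⁻¹) * (k⁻¹ * (y * k * y⁻¹))) := by
          rw [mem_cent_iff_conj.1 h1 _ h2]; group
        _ = k := by rw [sf.sq _ h2, mul_one]))
    refine le_cent1_iff.1 (gen _ fun v hv v1 => ?_)
    obtain ⟨i, rfl⟩ := cyc w hw v hv w1 v1
    rw [cent1_conj, ← conj_eq_of_mem (L.pow_mem hk.1 i), ← conj_inf,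
      ← conj_eq_of_mem (pow_mem (mem_cent1_comm.1 h5) i)]
    exact conj_mono _ e

theorem kf1 : KF1.{u} := fun _ _ _ _ _ h3 h hT =>
  h.imp (fun h => kf1_sz h hT) fun h => kf1_l3 h3 h hT

end Cfsg.Agent.R4
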