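import Cfsg.Agent.Lib.R4.KF2
import Cfsg.Agent.Lib.R4.KFL3
import Cfsg.Agent.Lib.R4.KF3

/-!
# The facts on known `S₃`-free groups
-/

namespace Cfsg.Agent.R4

universe u

theorem kf2 : KF2.{u} := kf2_of kf1

theorem kf3 : KF3.{u} := kf3_of kf1

end Cfsg.Agent.R4
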