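import Cfsg.Agent.Lib.R4.DEi
import Cfsg.Agent.Lib.R4.KF

/-!
# Package DE1: the structure of a maximal `D`-embedded subgroup
-/

set_option autoImplicit false

namespace Cfsg.Agent.R4

open Subgroup Cfsg.Agent.OO Cfsg.Agent.Coprime Cfsg.Agent.SZ Cfsg.Agent.GW Cfsg.Agent.W4
open scoped commutatorElement Pointwise

universe u

variable {G : Type u} [Group G] [Finite G] {A H M N Q S T X : Subgroup G}
  {a b d e g r s t x y z : G} {n : ℕ}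

omit [Group G] in
theorem ncard_eq_mul (U V : Set G) (R : G → G → Prop) (k : ℕ) (h1 : ∀ u ∈ U, ∃! v, v ∈ V ∧ R u v)
    (h2 : ∀ v ∈ V, {u ∈ U | R u v}.ncard = k) : U.ncard = V.ncard * k := by
  classical
  have := Finset.card_mul_eq_card_mul (s := U.toFinite.toFinset) (t := V.toFinite.toFinset) R
    (m := 1) (n := k) (fun u hu => by
      obtain ⟨v, hv, e⟩ := h1 u (by simpa using hu)
      exact Finset.card_eq_one.2 ⟨v, Finset.ext fun w => by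
        simpa using ⟨e w, fun e' => e' ▸ hv⟩⟩) fun v hv => by
      rw [← h2 v (by simpa using hv), ← Set.ncard_coe_finset]
      congr 1
      ext u
      simp
  rwa [mul_one, ← Set.ncard_eq_toFinset_card, ← Set.ncard_eq_toFinset_card] at this

omit [Finite G] in
theorem ncard_conj {U V : Set G} (g : G) (h : ∀ u, u ∈ U ↔ g * u * g⁻¹ ∈ V) : U.ncard = V.ncard :=
  Set.ncard_congr (fun u _ => g * u * g⁻¹) (fun u hu => (h u).1 hu)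
    (fun _ _ _ _ e => by simpa using e)
    fun v hv => ⟨g⁻¹ * v * g, (h _).2 (by convert hv using 1; group), by group⟩

/-- the elements of `D` in `H` -/
def Dn (A H : Subgroup G) : Set G := {d | d ∈ H ∧ InD A d ∧ d ≠ 1}

omit [Finite G] in
theorem conj_mem_Dn (hg : g ∈ H) : d ∈ Dn A H ↔ g * d * g⁻¹ ∈ Dn A H := by
  simp only [Dn, Set.mem_ofPred_eq, Ne, conj_eq_one_iff, mul_mem_cancel_right (inv_mem hg),
    mul_mem_cancel_left hg]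
  exact and_congr_right' (and_congr_left' ⟨fun h => h.conj g, InD.of_conj⟩)

theorem DSE.ncard_Dn (h : DSE A M) (hA : A ≤ H) (hH : ¬ H ≤ M) :
    (Dn A H).ncard = M.relIndex H * (Dn A (H ⊓ M)).ncard ∧ 0 < (Dn A (H ⊓ M)).ncard := by
  obtain ⟨a, ha, a1⟩ := h.exists_ne
  have h1 : a ∈ H ⊓ M := ⟨hA ha, h.A_le ha⟩
  have h2 : ∀ K, a ∈ K → (∀ t ∈ K, InD A t → t ≠ 1 → ∃ g ∈ K, g * a * g⁻¹ = t) →
      (Dn A K).ncard = (𝐂[a]).relIndex K := fun K hK e => by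
    rw [relIndex_centralizer_eq_ncard]
    congr 1
    refine Set.ext fun v => ⟨fun hv => ?_, ?_⟩
    · obtain ⟨g, hg, e'⟩ := e v hv.1 hv.2.1 hv.2.2
      exact ⟨g, hg, e'.symm⟩
    · rintro ⟨g, hg, rfl⟩
      exact (conj_mem_Dn hg).1 ⟨hK, .of_mem ha, a1⟩
  rw [h2 H h1.1 fun t ht => h.conj_in hH h1 (.of_mem ha) a1 ht,
    h2 _ h1 fun t ht => h.conj_inM hH h1 (.of_mem ha) a1 ht]
  refine ⟨?_, relIndex_pos _ _⟩
  rw [← inf_relIndex_right 𝐂[a], ← inf_relIndex_right 𝐂[a], ← inf_relIndex_left H M, mul_comm,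
    show 𝐂[a] ⊓ (H ⊓ M) = 𝐂[a] ⊓ H by
      rw [inf_comm H, ← inf_assoc, inf_eq_left.2 (h.cent a ha a1)],
    relIndex_mul_relIndex _ _ _ (le_inf inf_le_right (inf_le_left.trans (h.cent a ha a1))) inf_le_left]

namespace DM

variable (h : DM A M n)
include h

theorem mul_I (hs : s ∈ 𝐂(A)) (s2 : s * s = 1) (h1 : ¬ InD A s) (ha : a ∈ A) :
    s * a ∈ 𝐂(A) ∧ s * a * (s * a) = 1 ∧ ¬ InD A (s * a) :=
  ⟨mul_mem hs (abelem_le_cent h.elem ha), mul_sq s2 (h.toSC.sq ha) (A_le_cent hs ha),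
    h.not_inD_mul h1 (.of_mem ha) (A_le_cent hs ha)⟩

theorem f1 (x1 : x * x ≠ 1) (x2 : x * x * (x * x) = 1) : InD A (x * x) := by
  by_contra h1
  have hx : IsPGroup 2 (zpowers x) := IsPGroup.of_card (n := 2) (by
    rw [Nat.card_zpowers]
    exact orderOf_eq_prime_pow (p := 2) (n := 1) (by rwa [pow_one, pow_two])
      (by rw [← x2]; simp [pow_succ, mul_assoc]))
  wlog hc : x ∈ 𝐂(A) generalizing x
  · obtain ⟨g, -, e⟩ := h.exists_conj (le_top : A ≤ ⊤) le_top hx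
    refine this (x := g * x * g⁻¹) (by rw [conj_mul]; exact BSW.conj_ne_one x1)
      (by rw [conj_mul]; exact conj_sq x2 g) (by rw [conj_mul]; exact fun e => h1 e.of_conj)
      (by rwa [← conj_zpowers, isPGroup_conj]) (e (conj_mem_conj (mem_zpowers x)))
  have hs := mul_mem hc hc
  have xs : x ∈ 𝐂[x * x] := mem_cent1.2 (mul_assoc x x x).symm
  generalize hxs : x * x = s at *
  have hA := abelem_le_cent h.elem
  obtain ⟨S, hS, h2⟩ := exists_syl_ge (sup_le (zpowers_le.2 ⟨xs, hc⟩) (le_inf (A_le_cent hs) hA) :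
    zpowers x ⊔ A ≤ 𝐂[s] ⊓ 𝐂(A)) (isPGroup_sup hx h.toSC.two
      (Or.inl ((zpowers_le.2 hc).trans (cent_le_norm _))))
  have hAS := le_sup_right.trans h2
  have hC : ∀ a ∈ A, 𝐂[s * a] ⊓ 𝐂(A) = 𝐂[s] ⊓ 𝐂(A) := fun a ha => Subgroup.ext fun g =>
    and_congr_left fun hg => by
      change g ∈ 𝐂[s * a] ↔ g ∈ 𝐂[s]
      rw [mem_cent1_comm, mem_cent1_comm (g := g),
        mul_mem_cancel_right (mem_cent1_comm.1 (cent_le_cent1 ha hg))]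
  have hle : ∀ a ∈ A, 𝐂[s] ⊓ 𝐂(A) ≤ 𝐂[s * a] := fun a ha => hC a ha ▸ inf_le_left
  have hS' : ∀ a ∈ A, Syl 2 S 𝐂[s * a] := fun a ha => by
    obtain ⟨P, hP, h3⟩ := exists_syl_ge (hS.le.trans (hle a ha)) hS.isPGroup
    rwa [hS.eq_of_le h3 (hC a ha ▸ le_inf hP.le (h.c2 hP.isPGroup (hAS.trans h3))) hP.isPGroup] at hP
  have hn : ∀ a ∈ A, (S ⊓ Nk M 𝐂[s * a]) ⊴ S := fun a ha =>
    (Nk_normal M _).inf_left (hS' a ha).le
  have ti : ∀ a ∈ A, ∀ b ∈ A, a ≠ b → S ⊓ Nk M 𝐂[s * a] ⊓ (S ⊓ Nk M 𝐂[s * b]) = ⊥ :=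
    fun a ha b hb ab => by
    by_contra e
    obtain ⟨r, hr, r1, r2⟩ := R1.exists_invol_mem ((hS.isPGroup.to_le
      (inf_le_left.trans inf_le_left)).card_eq_or_dvd.resolve_left fun e' => e (card_eq_one.1 e'))
    obtain ⟨a1, a2, a3⟩ := h.mul_I hs x2 h1 ha
    obtain ⟨b1, b2, b3⟩ := h.mul_I hs x2 h1 hb
    obtain ⟨L, T, W, k, f⟩ := h.exists_k1 a1 a2 a3
    have r3 : ¬ InD A r := fun e => r1 (f.free r hr.1.2 e)
    have r4 := (hS.le hr.1.1).2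
    obtain ⟨L, T, W, k, f⟩ := h.exists_k1 r4 r2 r3
    have := mul_mem (inv_mem (h.Nk_symm a1 a2 a3 r4 r2 r3 hr.1.2))
      (h.Nk_symm b1 b2 b3 r4 r2 r3 hr.2.2)
    rw [mul_inv_rev, mul_assoc, inv_mul_cancel_left] at this
    exact ab (inv_mul_eq_one.1 (f.free _ this (.of_mem (mul_mem (inv_mem ha) hb))))
  obtain ⟨y, hy, y2⟩ : ∃ y ∈ 𝐂(A) ⊓ Nk M 𝐂[s], y * y = s := by
    obtain ⟨L, T, W, k, f⟩ := h.exists_k1 hs x2 h1
    have h3 := f.normal.norm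
    have h4 : coset (Nk M 𝐂[s]) x ∈ W := (f.mem _).2 ⟨h.syl_quo f (A_le_cent hs) (by
      simpa using hS' 1 (one_mem _)) hAS ▸ coset_mem_quo _ (h2 (mem_sup_left (mem_zpowers x))), by
      rw [← coset_mul (h3 xs) (h3 xs), hxs, coset_eq_one (h.self_mem hs)]⟩
    rw [h.W_eq f (A_le_cent hs)] at h4
    obtain ⟨a, ha, a1, e⟩ := mem_quo.1 h4
    refine ⟨a⁻¹ * x, mem_inf.2 ⟨mul_mem (inv_mem (hA ha)) hc, (coset_eq_iff a1 (h3 xs)).1 e⟩, ?_⟩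
    rw [h.toSC.inv_eq ha, mul_assoc, ← mul_assoc x, ← hc a ha, mul_assoc, ← mul_assoc a,
      h.toSC.sq ha, one_mul, hxs]
  have ex : ∀ b : G, ∃ z, b ∈ A → z ∈ S ⊓ Nk M 𝐂[s * b] ∧ z * z = s * b := fun b => by
    by_cases hb : b ∈ A
    swap
    · exact ⟨1, fun e => absurd e hb⟩
    obtain ⟨g, hg, e⟩ : ∃ g ∈ 𝐍(A), g * s * g⁻¹ = s * b := by
      by_cases b1 : b = 1
      · exact ⟨1, one_mem _, by simp [b1]⟩
      obtain ⟨c, hc', c1, cb⟩ := exists_third (W := A) (by have := h.four; omega) b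
      obtain ⟨a1, a2, a3⟩ := h.mul_I hs x2 h1 hc'
      obtain ⟨g, hg, e⟩ := h.trans_in (A_le_cent a1) (h.big a1 a2 a3) hc'
        (mul_mem (inv_mem hb) hc') c1 fun e => cb (inv_mul_eq_one.1 e).symm
      refine ⟨g, hg.2, ?_⟩
      calc _ = g * (s * c) * g⁻¹ * (g * c * g⁻¹)⁻¹ := by group
        _ = _ := by rw [mem_cent1_iff_conj.1 hg.1, e, mul_inv_rev, inv_inv]; group
    have h3 := conj_mem_Nk (h.norm hg) hy.2
    rw [← cent1_conj, e] at h3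
    have h4 : g * y * g⁻¹ ∈ 𝐂[s] ⊓ 𝐂(A) :=
      hC b hb ▸ ⟨h3.1, conj_mem_of_norm (norm_le_norm_cent _ hg) hy.1⟩
    obtain ⟨l, hl, h5⟩ := hS.exists_conj_le (zpowers_le.2 h4) (by
      rw [← conj_zpowers, isPGroup_conj]
      exact ZL.isPGroup_zpowers_of_sq (two_elt x2) (by rw [pow_two, y2]; exact mem_zpowers s))
    refine ⟨l * (g * y * g⁻¹) * l⁻¹, fun _ => ⟨⟨h5 (conj_mem_conj (mem_zpowers _)),
      (Nk_normal M _).conj_mem (hle b hb hl) h3⟩, ?_⟩⟩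
    rw [conj_mul, conj_mul, y2, e, mem_cent1_iff_conj.1 (hle b hb hl)]
  choose z hz using ex
  obtain ⟨a, ha, a1⟩ := h.exists_ne
  obtain ⟨a1, a2, a3⟩ := h.mul_I hs x2 h1 ha
  obtain ⟨L, T, W, k, f⟩ := h.exists_k1 a1 a2 a3
  have h3 := (hS' a ha).le.trans f.normal.norm
  have h4 := h.syl_quo f (A_le_cent a1) (hS' a ha) hAS
  have h5 : ∀ t ∈ T, ∃ b ∈ A, ∃ w ∈ W, t = coset _ (z b) * w := fun t ht => by
    obtain ⟨c, hc', c1, e⟩ := mem_quo.1 (h.W_eq f (A_le_cent a1) ▸ f.sq t ht)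
    obtain ⟨z1, z2⟩ := hz _ (mul_mem ha hc')
    refine ⟨_, mul_mem ha hc', _, f.sq_inj _ (h4 ▸ coset_mem_quo _ z1.1) t ht ?_,
      (mul_inv_cancel_left _ _).symm⟩
    rw [← coset_mul (h3 z1.1) (h3 z1.1), z2, ← mul_assoc, coset_mul_of_mem' (h.self_mem a1) c1, e]
  refine f.toSzF.not_ab (ab_iff.2 fun t ht t' ht' => ?_)
  obtain ⟨b, hb, w, hw, rfl⟩ := h5 t ht
  obtain ⟨c, hc', v, hv, rfl⟩ := h5 t' ht'
  have z1 := (hz b hb).1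
  have z2 := (hz c hc').1
  have h6 : Commute (z b) (z c) := by
    by_cases e : b = c
    · rw [e]
    · exact commutatorElement_eq_one_iff_commute.1 (mem_bot.1 (ti b hb c hc' e ▸
        ⟨(hn b hb).commutator_le (commutator_mem_commutator z1 z2.1),
          commutator_comm (S ⊓ _) S ▸ (hn c hc').commutator_le <|
            commutator_mem_commutator z1.1 z2⟩))
  have h7 : ∀ t ∈ T, ∀ w ∈ W, Commute t w := fun t ht w hw => (f.cent ht w hw).symm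
  refine (Commute.mul_left (Commute.mul_right ?_ (h7 _ (h4 ▸ coset_mem_quo _ z1.1) v hv))
    (h7 _ ht' w hw).symm).eq
  rw [Commute, SemiconjBy, ← coset_mul (h3 z1.1) (h3 z2.1), h6.eq, coset_mul (h3 z2.1) (h3 z1.1)]

theorem count1 (hs : s ∈ 𝐂(A)) (s2 : s * s = 1) (h1 : ¬ InD A s) (ha : a ∈ A) (a1 : a ≠ 1)
    (hX : X = ⊤ ∨ X = M) : (Dn A X).ncard = (Dn A (𝐂[s] ⊓ X)).ncard *
      {d ∈ Dn A (𝐂[s * a] ⊓ X) | ¬ 2 ∣ orderOf (d * a)}.ncard := by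
  have hM : M ≤ X := by rcases hX with rfl | rfl; exacts [le_top, le_rfl]
  refine ncard_eq_mul _ _ (fun d e => d ∈ 𝐂[s * e] ∧ ¬ 2 ∣ orderOf (d * e)) _ (fun d hd => ?_)
    fun e he => ?_
  · obtain ⟨e, he, h2, e1, h3, h4, h5⟩ := h.dI hd.2.1 hd.2.2 s2
    exact ⟨e, ⟨⟨⟨h3, sup_le (zpowers_le.2 hd.1) (zpowers_le.2 (hM (h.cent_A hs))) he⟩, h2, e1⟩, h4, h5⟩,
      fun x hx => dI_uniq s2 (h.toSC.sqD hx.1.2.1) hx.1.1.1 hx.2.1 hx.2.2 (h.toSC.sqD h2) h3 h4 h5⟩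
  · obtain ⟨c, hc, rfl⟩ : ∃ c ∈ 𝐂[s] ⊓ X, c * a * c⁻¹ = e := by
      have h2 : a ∈ 𝐂[s] ⊓ M := ⟨A_le_cent hs ha, h.A_le ha⟩
      rcases hX with rfl | rfl
      · simpa using h.conj_in (h.big hs s2 h1) h2 (.of_mem ha) a1 he.1.1 he.2.1 he.2.2
      · exact h.conj_inM (h.big hs s2 h1) h2 (.of_mem ha) a1 he.1 he.2.1 he.2.2
    refine (ncard_conj c fun d => ?_).symm
    have e1 : s * (c * a * c⁻¹) = c * (s * a) * c⁻¹ := by
      rw [← conj_mul, mem_cent1_iff_conj.1 hc.1]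
    simp only [Set.mem_ofPred_eq, ← conj_mem_Dn hc.2, e1, cent1_conj, conj_mem_conj_iff, conj_mul,
      orderOf_conj]
    exact ⟨fun e => ⟨⟨e.1.1.2, e.1.2⟩, e.1.1.1, e.2⟩, fun e => ⟨⟨⟨e.2.1, e.1.1⟩, e.1.2⟩, e.2.2⟩⟩

theorem count2 (hA : A ≤ H) (hH : ¬ H ≤ M) (ha : a ∈ A) (a1 : a ≠ 1) :
    (Dn A (H ⊓ M)).ncard = (2 ^ n - 1) * {d ∈ Dn A (H ⊓ M) | ¬ 2 ∣ orderOf (d * a)}.ncard := by
  have hn : M ≤ 𝐍(O M) := le_norm_O le_normalizer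
  have hb := inf_eq_bot_odd h.toSC.two (odd_O M)
  rw [← h.card, ← ncard_sharp]
  refine ncard_eq_mul _ _ (fun d b => ¬ 2 ∣ orderOf (d * b)) _ (fun d hd => ?_) fun b hb' => ?_
  · obtain ⟨g, hg, e⟩ := h.conj_M (h.A_le ha) (.of_mem ha) a1 hd.1.2 hd.2.1 hd.2.2
    obtain ⟨o, ho, b, hb', e'⟩ := (mem_sup_norm_left (h.A_le.trans hn)).1
      (sup_comm A _ ▸ e ▸ conj_mem_of_norm (h.normO hg) (mem_sup_left ha) : d ∈ O M ⊔ A)
    have h2 : ¬ 2 ∣ orderOf o := fun e => Nat.not_even_iff_odd.2 (odd_of_mem (odd_O M) ho)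
      (even_iff_two_dvd.2 e)
    refine ⟨b, ⟨⟨hb', ?_⟩, by rwa [← e', mul_assoc, h.toSC.sq hb', mul_one]⟩, fun c hc => ?_⟩
    · rintro rfl
      rw [mul_one] at e'
      exact hd.2.2 (SEA.odd_sq_eq_one (e' ▸ h2) (h.toSC.sqD hd.2.1))
    · have h3 := mul_mem hb' hc.1.1
      have h4 := hn (h.A_le h3)
      have h5 : ¬ 2 ∣ orderOf (coset (O M) (b * c)) := fun e => hc.2 (e.trans (by
        rw [← e', mul_assoc, ← coset_mul_of_mem' ho h4]; exact orderOf_coset_dvd _ _))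
      have h6 := (coset_eq_one_iff h4).1 (SEA.odd_sq_eq_one h5 (by
        rw [← coset_mul h4 h4, h.toSC.sq h3, coset_one]))
      have h7 : b * c = 1 := mem_bot.1 (hb ▸ mem_inf.2 ⟨h3, h6⟩)
      rw [eq_inv_of_mul_eq_one_right h7, h.toSC.inv_eq hb']
  · obtain ⟨g, hg, rfl⟩ := h.trans_in hA hH ha hb'.1 a1 hb'.2
    refine (ncard_conj g fun d => ?_).symm
    simp only [Set.mem_ofPred_eq, ← conj_mem_Dn (show g ∈ H ⊓ M from ⟨hg.1, h.norm hg.2⟩), conj_mul,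
      orderOf_conj]

theorem count (hs : s ∈ 𝐂(A)) (s2 : s * s = 1) (h1 : ¬ InD A s) :
    M.index = 1 + (2 ^ n) ^ 3 * ((2 ^ n) ^ 2 - 2 ^ n + 1) := by
  obtain ⟨a, ha, a1⟩ := h.exists_ne
  obtain ⟨z1, z2, z3⟩ := h.mul_I hs s2 h1 ha
  obtain ⟨L, T, W, k, f⟩ := h.exists_k1 hs s2 h1
  obtain ⟨L', T', W', k', f'⟩ := h.exists_k1 z1 z2 z3
  have c1 := h.count1 hs s2 h1 ha a1 (Or.inl rfl)
  have c2 := h.count1 hs s2 h1 ha a1 (Or.inr rfl)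
  have c3 := h.count2 (A_le_cent z1) (h.big z1 z2 z3) ha a1
  obtain ⟨c4, c5⟩ := h.ncard_Dn le_top h.not_top_le
  have c6 := (h.ncard_Dn (A_le_cent hs) (h.big hs s2 h1)).1
  have c7 := (h.ncard_Dn (A_le_cent z1) (h.big z1 z2 z3)).1
  rw [f.index] at c6
  rw [f'.index] at c7
  rw [relIndex_top_right, top_inf_eq] at c4
  rw [top_inf_eq] at c5
  rw [inf_top_eq, inf_top_eq] at c1
  have c8 := Set.ncard_inter_add_ncard_sdiff_eq_ncard (Dn A 𝐂[s * a]) M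
  have c9 := Set.ncard_inter_add_ncard_sdiff_eq_ncard
    {d ∈ Dn A 𝐂[s * a] | ¬ 2 ∣ orderOf (d * a)} M
  rw [show Dn A 𝐂[s * a] ∩ M = Dn A (𝐂[s * a] ⊓ M) from Set.ext fun d =>
    ⟨fun e => ⟨⟨e.1.1, e.2⟩, e.1.2⟩, fun e => ⟨⟨e.1.1, e.2⟩, e.1.2⟩⟩] at c8
  rw [show {d ∈ Dn A 𝐂[s * a] | ¬ 2 ∣ orderOf (d * a)} ∩ M =
      {d ∈ Dn A (𝐂[s * a] ⊓ M) | ¬ 2 ∣ orderOf (d * a)} from Set.ext fun d =>
    ⟨fun e => ⟨⟨⟨e.1.1.1, e.2⟩, e.1.1.2⟩, e.1.2⟩, fun e => ⟨⟨⟨e.1.1.1, e.1.2⟩, e.2⟩, e.1.1.2⟩⟩,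
    show {d ∈ Dn A 𝐂[s * a] | ¬ 2 ∣ orderOf (d * a)} \ M = Dn A 𝐂[s * a] \ M from Set.ext fun d =>
    ⟨fun e => ⟨e.1.1, e.2⟩, fun e =>
      ⟨⟨e.1, h.odd_mul (h.A_le ha) (.of_mem ha) a1 e.2 e.1.2.1⟩, e.2⟩⟩] at c9
  obtain ⟨p, hp⟩ : ∃ p, 2 ^ n = p + 1 := ⟨2 ^ n - 1, by have := Nat.two_pow_pos n; omega⟩
  rw [hp] at c3 c6 c7 ⊢
  rw [show (p + 1) ^ 2 - (p + 1) = p * (p + 1) from Nat.sub_eq_of_eq_add (by ring)]
  rw [Nat.add_sub_cancel] at c3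
  refine Nat.eq_of_mul_eq_mul_right c5 ?_
  rw [← c4, c1, c6, c2, ← c9]
  rw [c7, c3] at c8
  generalize (Dn A 𝐂[s * a] \ M).ncard = u at *
  generalize {d ∈ Dn A (𝐂[s * a] ⊓ M) | ¬ 2 ∣ orderOf (d * a)}.ncard = v at *
  rw [show u = (p + 1) ^ 2 * (p * v) by linarith]
  ring

end DM

theorem de1 : DE1.{u} := fun G _ _ A M h hM => by
  obtain ⟨n, h2, hn⟩ := h.exists_card
  have h1 := h.normO kf2
  have ho := h.odd_rank h1 hn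
  have n3 : 3 ≤ n := by obtain ⟨j, rfl⟩ := ho; omega
  have h3 : DM A M n := ⟨h, ⟨ho, n3, hn, h.oddN kf1 hn ho n3, fun _ ha _ hb => h.trans ha hb⟩, h1⟩
  refine ⟨n, h, h3.toLin, hM, h1, fun _ => h3.f1, fun _ hv v2 h4 _ => h3.f2 hv v2 h4, ?_⟩
  rw [or_iff_not_imp_left]
  intro e
  push Not at e
  obtain ⟨t, t2, h4⟩ := e
  obtain ⟨g, -, h5⟩ := h3.exists_conj (le_top : A ≤ ⊤) le_top (two_elt t2)
  have h6 := h5 (conj_mem_conj (mem_zpowers t))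
  have h7 : ¬ InD A (g * t * g⁻¹) := fun e => h4 e.of_conj
  obtain ⟨L, T, W, k, f⟩ := h3.exists_k1 h6 (conj_sq t2 g) h7
  exact ⟨h3.count h6 (conj_sq t2 g) h7, h3.singer f (DM.A_le_cent h6)⟩

end Cfsg.Agent.R4
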