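import Cfsg.Agent.Lib.R4.Four
import Cfsg.Agent.Lib.W4.Tools

/-!
# Basic facts on the class `D` and on `D`-embedded subgroups
-/

set_option autoImplicit false

namespace Cfsg.Agent.R4

open Subgroup Cfsg.Agent.OO Cfsg.Agent.Coprime Cfsg.Agent.SZ Cfsg.Agent.GW Cfsg.Agent.W4
open scoped commutatorElement Pointwise

universe u

variable {G : Type u} [Group G] {A H K M Q S T X Y : Subgroup G} {a b d g s t u w x y z : G}

theorem InD.of_mem (h : a ∈ A) : InD A a := ⟨1, by simpa using h⟩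

theorem InD.one : InD A (1 : G) := .of_mem (one_mem _)

theorem InD.conj (h : InD A t) (g : G) : InD A (g * t * g⁻¹) :=
  let ⟨k, hk⟩ := h; ⟨k * g⁻¹, by convert hk using 1; group⟩

theorem InD.of_conj (h : InD A (g * t * g⁻¹)) : InD A t := by
  convert h.conj g⁻¹ using 1; group

theorem InD.exists_eq (h : InD A t) : ∃ a ∈ A, ∃ g : G, t = g * a * g⁻¹ :=
  let ⟨k, hk⟩ := h; ⟨_, hk, k⁻¹, by group⟩

theorem conj_eq_one_iff : g * t * g⁻¹ = 1 ↔ t = 1 := by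
  rw [mul_inv_eq_one, mul_eq_left]

namespace SC

variable (h : SC A)
include h

theorem sq (ha : a ∈ A) : a * a = 1 := by rw [← pow_two]; exact h.elem.2 a ha

theorem two : IsPGroup 2 A := abelem_isPGroup h.elem

theorem ab : Ab A := h.elem.1

theorem comm (ha : a ∈ A) (hb : b ∈ A) : a * b = b * a := ab_iff.1 h.ab a ha b hb

theorem inv_eq (ha : a ∈ A) : a⁻¹ = a := GW.inv_eq (h.sq ha)

theorem sqD (ht : InD A t) : t * t = 1 := by
  obtain ⟨a, ha, g, rfl⟩ := ht.exists_eq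
  exact conj_sq (h.sq ha) g

theorem mem_of_two (hT : IsPGroup 2 T) (hA : A ≤ T) (hx : x ∈ T) (hd : InD A x) : x ∈ A := by
  obtain ⟨a, ha, g, rfl⟩ := hd.exists_eq
  exact h.cl T hT hA a ha g hx

variable [Finite G]

/-- a 2-subgroup is conjugate into a Sylow 2-subgroup containing `A` -/
theorem exists_conj (hA : A ≤ H) (hQ : Q ≤ H) (h2 : IsPGroup 2 Q) :
    ∃ g ∈ H, ∃ S, Syl 2 S H ∧ A ≤ S ∧ g •ᶜ Q ≤ S := by
  obtain ⟨S, hS, h1⟩ := exists_syl_ge hA h.two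
  obtain ⟨g, hg, h3⟩ := hS.exists_conj_le hQ h2
  exact ⟨g, hg, S, hS, h1, h3⟩

theorem exists_conj_mem (hA : A ≤ H) (hd : d ∈ H) (h1 : InD A d) : ∃ g ∈ H, g * d * g⁻¹ ∈ A := by
  obtain ⟨g, hg, S, hS, h2, h3⟩ := h.exists_conj hA (zpowers_le.2 hd)
    (abelem_isPGroup (abelem_zpowers (by rw [pow_two, h.sqD h1])))
  exact ⟨g, hg, h.mem_of_two hS.isPGroup h2 (h3 (conj_mem_conj (mem_zpowers d))) (h1.conj g)⟩

omit h in
theorem two_pair (hs : s * s = 1) (ht : t * t = 1) (e : s * t = t * s) :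
    IsPGroup 2 (zpowers s ⊔ zpowers t : Subgroup G) :=
  isPGroup_sup (abelem_isPGroup (abelem_zpowers (by rw [pow_two, hs])))
    (abelem_isPGroup (abelem_zpowers (by rw [pow_two, ht])))
    (Or.inl ((zpowers_le.2 (cent_zpowers t ▸ mem_cent1.2 e)).trans (cent_le_norm _)))

/-- the product of two commuting elements of `D` is in `D` or trivial -/
theorem mulD (hs : InD A s) (ht : InD A t) (e : s * t = t * s) : InD A (s * t) := by
  obtain ⟨g, -, S, hS, h2, h3⟩ := h.exists_conj (le_top : A ≤ ⊤) le_top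
    (two_pair (h.sqD hs) (h.sqD ht) e)
  refine ⟨g, ?_⟩
  rw [show g * (s * t) * g⁻¹ = g * s * g⁻¹ * (g * t * g⁻¹) by group]
  exact mul_mem
    (h.mem_of_two hS.isPGroup h2 (h3 (conj_mem_conj (mem_sup_left (mem_zpowers s)))) (hs.conj g))
    (h.mem_of_two hS.isPGroup h2 (h3 (conj_mem_conj (mem_sup_right (mem_zpowers t)))) (ht.conj g))

/-- `N(A)` controls fusion in `A` -/
theorem fuse (hA : A ≤ H) (ha : a ∈ A) (hg : g ∈ H) (e : g * a * g⁻¹ ∈ A) :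
    ∃ n ∈ H ⊓ 𝐍(A), g * a * g⁻¹ = n * a * n⁻¹ := by
  obtain ⟨S, hS, h1⟩ := exists_syl_ge hA h.two
  exact (h.ctl hS h1).elt (h1 ha) hg (h1 e)

/-- the central involution of a dihedral group generated by two elements of `D` -/
theorem dih (hs : InD A s) (ht : InD A t) (e : 2 ∣ orderOf (s * t)) :
    ∃ z ∈ zpowers (s * t), z ≠ 1 ∧ InD A z ∧ z * s = s * z ∧ z * t = t * z := by
  obtain ⟨m, hm⟩ := e
  have s2 := h.sqD hs
  have t2 := h.sqD ht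
  have h1 := R1.commute_of_pow_sq s2 t2 (hm ▸ pow_orderOf_eq_one (s * t))
  have h0 := orderOf_pos (s * t)
  have h2 : InD A ((s * t) ^ m * t) := by
    obtain ⟨j, rfl | rfl⟩ := Nat.even_or_odd' m
    · exact R1.pow_conj_right s2 t2 j ▸ ht.conj _
    · exact R1.pow_conj_left s2 t2 j ▸ hs.conj _
  refine ⟨(s * t) ^ m, npow_mem_zpowers _ _, pow_ne_one_of_lt_orderOf (by omega) (by omega), ?_, ?_,
    h1.eq⟩
  · have := h.mulD h2 ht (by rw [← mul_assoc t, ← h1.eq])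
    rwa [mul_assoc, t2, mul_one] at this
  · have := (Commute.self_pow (s * t) m).mul_left h1.symm
    rw [mul_assoc, t2, mul_one] at this
    exact this.symm.eq

/-- the `Z*` theorem for an element of `A` which is fixed by `N_H(A)` -/
theorem zstar (hA : A ≤ H) (ha : a ∈ A) (hc : H ⊓ 𝐍(A) ≤ 𝐂[a]) (hg : g ∈ H) :
    g * a * g⁻¹ * a⁻¹ ∈ O H := by
  have := R1.zstar H ⟨a, hA ha⟩ (Subtype.ext (h.sq ha)) (fun ⟨g, hg⟩ e => Subtype.ext ?_) ⟨g, hg⟩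
  · rw [O, Op'_eq_map]; exact ⟨_, this, rfl⟩
  have e' : a * (g * a * g⁻¹) = g * a * g⁻¹ * a := congrArg Subtype.val e
  obtain ⟨k, hk, S, hS, h2, h3⟩ := h.exists_conj hA
    (sup_le (zpowers_le.2 (hA ha)) (zpowers_le.2 (mul_mem (mul_mem hg (hA ha)) (inv_mem hg))))
    (two_pair (h.sq ha) (conj_sq (h.sq ha) g) e')
  obtain ⟨n, hn, e1⟩ := h.fuse hA ha hk (h.mem_of_two hS.isPGroup h2
    (h3 (conj_mem_conj (mem_sup_left (mem_zpowers _)))) ((InD.of_mem ha).conj k))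
  obtain ⟨n', hn', e2⟩ := h.fuse hA ha (mul_mem hk hg) (h.mem_of_two hS.isPGroup h2 (by
    convert h3 (conj_mem_conj (mem_sup_right (mem_zpowers _))) using 1; group)
    ((InD.of_mem ha).conj _))
  rw [mem_cent1_iff_conj.1 (hc hn)] at e1
  rw [mem_cent1_iff_conj.1 (hc hn')] at e2
  change g * a * g⁻¹ = a
  calc _ = k⁻¹ * (k * g * a * (k * g)⁻¹) * k := by group
    _ = a := by rw [e2]; nth_rw 1 [← e1]; group

end SC

section

variable [Finite G]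

theorem exists_pow_conj (hs : s * s = 1) (ht : t * t = 1) (h : ¬ 2 ∣ orderOf (t * s)) :
    ∃ k ∈ zpowers (t * s), k * s * k⁻¹ = t :=
  let ⟨j, hj⟩ := R1.exists_conj_of_odd ht hs h; ⟨_, npow_mem_zpowers _ j, hj⟩

/-- an involution centralizes a Sylow 3-subgroup of an odd order group it normalizes -/
theorem not_three_dvd (h3 : S3F G) (hu : u * u = 1) (hY : Odd ♯Y) (hn : u ∈ 𝐍(Y)) :
    ¬ 3 ∣ (𝐂[u]).relIndex Y := by
  have : Fact (Nat.Prime 3) := ⟨Nat.prime_three⟩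
  obtain ⟨P, hP, h1⟩ := exists_invariant_sylow 3 (zpowers_le.2 hn) (coprime_zp hY hu).symm
    (Or.inr (sol_of_odd hY))
  have h2 : P ≤ 𝐂[u] := fun x hx => by
    have h4 : x * (u * x⁻¹ * u⁻¹) ∈ P :=
      mul_mem hx (conj_mem_of_norm (h1 (mem_zpowers u)) (inv_mem hx))
    have h5 : u * (x * (u * x⁻¹ * u⁻¹)) * u⁻¹ = (x * (u * x⁻¹ * u⁻¹))⁻¹ := by
      rw [GW.inv_eq hu]
      calc _ = u * x * u * x⁻¹ * (u * u) := by group
        _ = _ := by rw [hu, mul_inv_rev, mul_inv_rev, mul_inv_rev, GW.inv_eq hu]; group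
    obtain ⟨k, hk⟩ := (IsPGroup.iff_orderOf.1 hP.isPGroup) ⟨_, h4⟩
    rw [← orderOf_coe] at hk
    have h6 := h3.not_dvd h5
    rcases k with - | k
    · have := orderOf_eq_one_iff.1 (hk.trans (pow_zero 3))
      rw [mem_cent1, ← mul_inv_eq_one, ← this]; group
    · exact absurd (hk ▸ dvd_pow_self 3 k.succ_ne_zero) h6
  intro e
  refine hP.not_dvd (e.trans ?_)
  rw [← inf_relIndex_right, ← relIndex_mul_relIndex P (𝐂[u] ⊓ Y) Y (le_inf h2 hP.le) inf_le_right]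
  exact Dvd.intro_left _ rfl

end

namespace DSE

variable (h : DSE A M)
include h

theorem A_le : A ≤ M := le_normalizer.trans h.norm

theorem cent_A : 𝐂(A) ≤ M := (cent_le_norm _).trans h.norm

variable [Finite G]

theorem exists_ne : ∃ a ∈ A, a ≠ 1 := exists_mem_ne_one fun e => by simpa [e] using h.four

theorem not_cyc : ¬ IsCyclic A := not_isCyclic h.elem (by have := h.four; omega)

/-- an element of `D` fixes only one point -/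
theorem mem (hd : d ∈ M) (h1 : InD A d) (d1 : d ≠ 1) (e : g * d * g⁻¹ ∈ M) : g ∈ M := by
  obtain ⟨k, hk, h2⟩ := h.toSC.exists_conj_mem h.A_le hd h1
  obtain ⟨l, hl, h3⟩ := h.toSC.exists_conj_mem h.A_le e (h1.conj g)
  obtain ⟨n, hn, h4⟩ := h.toSC.fuse le_top h2 (mem_top (l * g * k⁻¹)) (by convert h3 using 1; group)
  have h5 : n⁻¹ * (l * g * k⁻¹) ∈ M := h.cent _ h2 (BSW.conj_ne_one d1) (mem_cent1_iff_conj.2 (by
    calc _ = n⁻¹ * (l * g * k⁻¹ * (k * d * k⁻¹) * (l * g * k⁻¹)⁻¹) * n := by group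
      _ = _ := by rw [h4]; group))
  convert mul_mem (mul_mem (inv_mem hl) (mul_mem (h.norm hn.2) h5)) hk using 1
  group

theorem cent_le (hd : d ∈ M) (h1 : InD A d) (d1 : d ≠ 1) : 𝐂[d] ≤ M := fun _ hg =>
  h.mem hd h1 d1 ((mem_cent1_iff_conj.1 hg).symm ▸ hd)

theorem odd_mul (hs : s ∈ M) (h1 : InD A s) (s1 : s ≠ 1) (hu : u ∉ M) (h2 : InD A u) :
    ¬ 2 ∣ orderOf (u * s) := fun e => by
  obtain ⟨z, -, z1, h3, h4, h5⟩ := h.toSC.dih h2 h1 e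
  exact hu (h.cent_le (h.cent_le hs h1 s1 (mem_cent1.2 h5)) h3 z1 (mem_cent1.2 h4.symm))

/-- `D ⊓ H` is a single class of `H` -/
theorem conj_in (hH : ¬ H ≤ M) (hs : s ∈ H ⊓ M) (h1 : InD A s) (s1 : s ≠ 1) (ht : t ∈ H)
    (h2 : InD A t) (t1 : t ≠ 1) : ∃ g ∈ H, g * s * g⁻¹ = t := by
  have key : ∀ s ∈ H ⊓ M, InD A s → s ≠ 1 → ∀ t ∈ H, InD A t → t ∉ M → ∃ g ∈ H, g * s * g⁻¹ = t :=
    fun s hs h1 s1 t ht h2 h3 => by
      obtain ⟨k, hk, e⟩ := exists_pow_conj (h.toSC.sqD h1) (h.toSC.sqD h2)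
        (h.odd_mul hs.2 h1 s1 h3 h2)
      exact ⟨k, zpowers_le.2 (mul_mem ht hs.1) hk, e⟩
  by_cases h3 : t ∈ M
  · obtain ⟨g, hg, h4⟩ := SetLike.not_le_iff_exists.1 hH
    obtain ⟨k, hk, e⟩ := key t ⟨ht, h3⟩ h2 t1 (g * s * g⁻¹) (mul_mem (mul_mem hg hs.1) (inv_mem hg))
      (h1.conj g) fun e => h4 (h.mem hs.2 h1 s1 e)
    refine ⟨k⁻¹ * g, mul_mem (inv_mem hk) hg, ?_⟩
    calc _ = k⁻¹ * (g * s * g⁻¹) * k := by group
      _ = t := by rw [← e]; group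
  · exact key s hs h1 s1 t ht h2 h3

theorem trans_in (hA : A ≤ H) (hH : ¬ H ≤ M) (ha : a ∈ A) (hb : b ∈ A) (a1 : a ≠ 1) (b1 : b ≠ 1) :
    ∃ g ∈ H ⊓ 𝐍(A), g * a * g⁻¹ = b := by
  obtain ⟨g, hg, e⟩ := h.conj_in hH ⟨hA ha, h.A_le ha⟩ (.of_mem ha) a1 (hA hb) (.of_mem hb) b1
  obtain ⟨n, hn, e'⟩ := h.toSC.fuse hA ha hg (e ▸ hb)
  exact ⟨n, hn, e'.symm.trans e⟩

theorem not_top_le : ¬ ⊤ ≤ M := fun e => h.ne (top_le_iff.1 e)

theorem trans (ha : a ∈ A) (hb : b ∈ A) (a1 : a ≠ 1) (b1 : b ≠ 1) :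
    ∃ g ∈ 𝐍(A), g * a * g⁻¹ = b :=
  let ⟨g, hg, e⟩ := h.trans_in le_top h.not_top_le ha hb a1 b1; ⟨g, hg.2, e⟩

/-- `D ⊓ H ⊓ M` is a single class of `H ⊓ M` -/
theorem conj_inM (hH : ¬ H ≤ M) (hs : s ∈ H ⊓ M) (h1 : InD A s) (s1 : s ≠ 1) (ht : t ∈ H ⊓ M)
    (h2 : InD A t) (t1 : t ≠ 1) : ∃ g ∈ H ⊓ M, g * s * g⁻¹ = t :=
  let ⟨g, hg, e⟩ := h.conj_in hH hs h1 s1 ht.1 h2 t1; ⟨g, ⟨hg, h.mem hs.2 h1 s1 (e ▸ ht.2)⟩, e⟩

theorem conj_M (hs : s ∈ M) (h1 : InD A s) (s1 : s ≠ 1) (ht : t ∈ M) (h2 : InD A t) (t1 : t ≠ 1) :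
    ∃ g ∈ M, g * s * g⁻¹ = t :=
  let ⟨g, hg, e⟩ := h.conj_inM h.not_top_le ⟨trivial, hs⟩ h1 s1 ⟨trivial, ht⟩ h2 t1; ⟨g, hg.2, e⟩

theorem exists_out : ∃ u ∉ M, InD A u := by
  obtain ⟨g, -, hg⟩ := SetLike.not_le_iff_exists.1 h.not_top_le
  obtain ⟨a, ha, a1⟩ := h.exists_ne
  exact ⟨_, fun e => hg (h.mem (h.A_le ha) (.of_mem ha) a1 e), (InD.of_mem ha).conj g⟩

/-- odd order subgroups normalized by `A` lie in `M` -/
theorem le_of_odd (hY : Odd ♯Y) (hn : A ≤ 𝐍(Y)) : Y ≤ M :=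
  le_of_forall_centralizer_le h.toSC.ab h.not_cyc hn (cop hY h.toSC.two).symm
    fun a ha a1 => inf_le_right.trans (h.cent a ha a1)

/-- two elements of `D` swapping the same points have a product of odd order -/
theorem odd_swap (hu : u ∉ M) (h1 : InD A u) (h2 : InD A w) (e : u * w ∈ M) :
    ¬ 2 ∣ orderOf (w * u) := fun e' => by
  obtain ⟨z, hz, z1, h3, -, h5⟩ := h.toSC.dih h2 h1 e'
  have : w * u ∈ M := by
    rw [← GW.inv_eq (h.toSC.sqD h1), ← GW.inv_eq (h.toSC.sqD h2), ← mul_inv_rev]; exact inv_mem e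
  exact hu (h.cent_le (zpowers_le.2 this hz) h3 z1 (mem_cent1.2 h5.symm))

theorem exists_swap (hu : u ∉ M) (h1 : InD A u) (hs : s ∈ M) (h2 : InD A s) (s1 : s ≠ 1)
    (ht : t ∈ M) (h3 : InD A t) (t1 : t ≠ 1) :
    ∃ w ∈ zpowers s ⊔ zpowers (u * t * u⁻¹), InD A w ∧ u * w ∈ M ∧ u * w * s * (u * w)⁻¹ = t := by
  have u2 := h.toSC.sqD h1
  have s2 := h.toSC.sqD h2
  have h4 : u * t * u⁻¹ ∉ M := fun e => hu (h.mem ht h3 t1 e)
  have h5 := h.odd_mul hs h2 s1 h4 (h3.conj u)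
  obtain ⟨j, hj⟩ := R1.exists_conj_of_odd (conj_sq (h.toSC.sqD h3) u) s2 h5
  obtain ⟨i, hi⟩ := SEA.exists_sqrt (x := (u * t * u⁻¹ * s) ^ j) fun e => h5 (e.trans (orderOf_pow_dvd j))
  have e : u * ((u * t * u⁻¹ * s) ^ j * s) * s * (u * ((u * t * u⁻¹ * s) ^ j * s))⁻¹ = t := by
    calc _ = u * ((u * t * u⁻¹ * s) ^ j * s * ((u * t * u⁻¹ * s) ^ j)⁻¹) * u⁻¹ := by group
      _ = t := by rw [hj, GW.inv_eq u2]; simp only [← mul_assoc, u2, one_mul]; rw [mul_assoc, u2, mul_one]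
  refine ⟨(u * t * u⁻¹ * s) ^ j * s, mul_mem (pow_mem (mul_mem (mem_sup_right (mem_zpowers _))
    (mem_sup_left (mem_zpowers _))) j) (mem_sup_left (mem_zpowers _)), ?_,
    h.mem hs h2 s1 (e.symm ▸ ht), e⟩
  rw [← hi, ← pow_mul, ← pow_add, ← two_mul, ← R1.pow_conj_right (conj_sq (h.toSC.sqD h3) u) s2]
  exact h2.conj _

theorem swap_inj (hu : u ∉ M) (h1 : InD A u) (h2 : InD A w) (e : u * w ∈ M) (hs : s ∈ M)
    (h3 : InD A s) (s1 : s ≠ 1) (hc : u * w ∈ 𝐂[s]) : w = u := by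
  have u2 := h.toSC.sqD h1
  have w2 := h.toSC.sqD h2
  obtain ⟨v, hv, h4, h5, -⟩ := h.exists_swap hu h1 hs h3 s1 hs h3 s1
  have e1 : u * (u * w) * u⁻¹ = (u * w)⁻¹ := by
    rw [mul_inv_rev, GW.inv_eq w2, ← mul_assoc, u2, one_mul]
  have h6 : v ∈ 𝐂[u * w] := by
    refine sup_le (zpowers_le.2 (mem_cent1_comm.1 hc)) (zpowers_le.2 ?_) hv
    rw [← cent1_inv, ← e1, cent1_conj]
    exact conj_mem_conj (mem_cent1_comm.1 hc)
  have e2 : v * u * (u * w)⁻¹ * (v * u)⁻¹ = (u * w)⁻¹⁻¹ := by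
    have := mem_cent1_iff_conj.1 h6
    calc _ = v * (u * (u * w) * u⁻¹)⁻¹ * v⁻¹ := by group
      _ = _ := by rw [e1, inv_inv, this]
  have h7 := BSW.mul_self_eq_one_of_odd (Nat.not_even_iff_odd.1 fun e' =>
    h.odd_swap hu h1 h4 h5 e'.two_dvd) e2
  rw [mul_inv_rev, GW.inv_eq w2, GW.inv_eq u2] at h7
  rw [eq_inv_of_mul_eq_one_left (SEA.odd_sq_eq_one (h.odd_swap hu h1 h2 e) h7), GW.inv_eq u2]

/-- there is a subgroup of odd order which is transitive on `D ⊓ M`, and `|D ⊓ M|` is prime to 3 -/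
theorem r2 : ∃ Y ≤ M, Odd ♯Y ∧ (∀ s ∈ M, InD A s → s ≠ 1 → ∀ t ∈ M, InD A t → t ≠ 1 →
    ∃ y ∈ Y, y * s * y⁻¹ = t) ∧ ∀ s ∈ M, InD A s → s ≠ 1 → ¬ 3 ∣ (𝐂[s]).relIndex M := by
  obtain ⟨u, hu, h1⟩ := h.exists_out
  have u2 := h.toSC.sqD h1
  have ui := GW.inv_eq u2
  have hn : zpowers u ≤ 𝐍(M ⊓ u •ᶜ M) := zpowers_le.2 (by
    rw [← conj_eq_self_iff, conj_inf, conj_conj, u2, one_conj, inf_comm])
  have hH : ∀ g ∈ M ⊓ u •ᶜ M ⊔ zpowers u, g * g ∈ M ∧ u * (g * u * g⁻¹) ∈ M := fun g hg => by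
    obtain ⟨d, hd, v, hv, rfl⟩ := (mem_sup_norm_left hn).1 hg
    have h2 : u * d * u⁻¹ ∈ M := (conj_mem_of_norm (hn (mem_zpowers u)) hd).1
    rcases (mem_zp u2).1 hv with rfl | rfl
    · exact ⟨by simpa using mul_mem hd.1 hd.1, by
        convert mul_mem h2 (inv_mem hd.1) using 1; rw [ui]; group⟩
    · exact ⟨by convert M.mul_mem hd.1 h2 using 1; rw [ui]; group, by
        convert mul_mem h2 (inv_mem hd.1) using 1; rw [ui]; group⟩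
  have hD : ∀ w, InD A w → u * w ∈ M → w * u ∈ M ⊓ u •ᶜ M := fun w h2 e =>
    ⟨by rw [← ui, ← GW.inv_eq (h.toSC.sqD h2), ← mul_inv_rev]; exact M.inv_mem e, mem_conj.2 (by
      rw [ui, mul_assoc, mul_assoc, u2, mul_one]; exact e)⟩
  generalize hH' : M ⊓ u •ᶜ M ⊔ zpowers u = H at hH
  have huH : u ∈ H := hH' ▸ mem_sup_right (mem_zpowers u)
  have hZ : ∀ g ∈ H, g * u * g⁻¹ * u⁻¹ ∈ O H := fun g hg => by
    have := R1.zstar_aux H ⟨u, huH⟩ (Subtype.ext u2) (fun ⟨k, hk⟩ => by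
      rw [← orderOf_coe]; exact h.odd_swap hu h1 (h1.conj k) (hH k hk).2) ⟨g, hg⟩
    rw [O, Op'_eq_map]; exact ⟨_, this, rfl⟩
  have hJ : ∀ w, InD A w → u * w ∈ M → w * u ∈ O H ∧ ∃ y ∈ O H, w = y * u * y⁻¹ := fun w h2 e => by
    obtain ⟨k, hk, e'⟩ := exists_pow_conj u2 (h.toSC.sqD h2) (h.odd_swap hu h1 h2 e)
    have h3 := hZ k (zpowers_le.2 (hH' ▸ mem_sup_left (hD w h2 e)) hk)
    rw [e', ui] at h3
    exact ⟨h3, k, zpowers_le.2 h3 hk, e'.symm⟩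
  have hJ' : ∀ w, InD A w → u * w ∈ M → u * w ∈ O H := fun w h2 e => by
    rw [← ui, ← GW.inv_eq (h.toSC.sqD h2), ← mul_inv_rev]; exact inv_mem (hJ w h2 e).1
  refine ⟨O H, fun y hy => ?_, odd_O H, fun s hs h2 s1 t ht h3 t1 => ?_, fun s hs h2 s1 => ?_⟩
  · obtain ⟨j, hj⟩ := SEA.exists_sqrt (x := y) fun e =>
      Nat.not_even_iff_odd.2 (odd_of_mem (odd_O H) hy) (even_iff_two_dvd.2 e)
    exact hj ▸ (hH _ (pow_mem (O_le H hy) j)).1
  · obtain ⟨w, -, h4, h5, e⟩ := h.exists_swap hu h1 hs h2 s1 ht h3 t1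
    exact ⟨_, hJ' w h4 h5, e⟩
  · convert not_three_dvd h.s3f u2 (odd_O H) (le_norm_O le_normalizer huH) using 2
    rw [relIndex_centralizer_eq_ncard, relIndex_centralizer_eq_ncard]
    refine (Set.ncard_congr (fun w _ => u * w * s * (u * w)⁻¹) ?_ ?_ ?_).symm
    · rintro _ ⟨y, hy, rfl⟩
      exact ⟨_, (hH y (O_le H hy)).2, rfl⟩
    · rintro _ _ ⟨y, hy, rfl⟩ ⟨z, hz, rfl⟩ e
      have h3 := (hH y (O_le H hy)).2
      have h4 := (hH z (O_le H hz)).2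
      have h5 := h1.conj y
      have h6 := h1.conj z
      generalize y * u * y⁻¹ = v at *
      generalize z * u * z⁻¹ = w at *
      have e1 : w * v = (u * w)⁻¹ * (u * v) := by
        rw [mul_inv_rev, GW.inv_eq (h.toSC.sqD h6)]; group
      refine h.swap_inj (fun e' => hu ((mul_mem_cancel_right e').1 h4)) h6 h5
        (e1 ▸ mul_mem (inv_mem h4) h3) hs h2 s1 (mem_cent1_iff_conj.2 ?_)
      calc _ = (u * w)⁻¹ * (u * v * s * (u * v)⁻¹) * (u * w) := by rw [e1]; group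
        _ = s := by rw [e]; group
    · rintro _ ⟨g, hg, rfl⟩
      obtain ⟨w, -, h4, h5, e⟩ := h.exists_swap hu h1 hs h2 s1 (mul_mem (mul_mem hg hs) (inv_mem hg))
        (h2.conj g) (BSW.conj_ne_one s1)
      exact ⟨w, (hJ w h4 h5).2, e⟩

end DSE

end Cfsg.Agent.R4
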