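import Cfsg.Agent.Lib.R4.Fus
import Cfsg.Agent.Lib.W4.Tools
import Cfsg.Agent.Lib.JR.Basic

/-!
# The facts on known `S₃`-free groups (statements)
-/

set_option autoImplicit false

namespace Cfsg.Agent.R4

open Subgroup Cfsg.Agent.OO Cfsg.Agent.Coprime Cfsg.Agent.SZ Cfsg.Agent.GW Cfsg.Agent.W4
open scoped commutatorElement Pointwise

universe u

section

variable {G : Type u} [Group G]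

/-- the facts on a known simple subgroup `L` of an `S₃`-free group, with Sylow 2-subgroup `T`,
`W = Ω₁(T)` and a generator `k` of a complement to `T` in `N_L(T)` -/
structure SF (L T W : Subgroup G) (k : G) : Prop where
  smp : Smp L
  nab : ¬ Ab L
  syl : Syl 2 T L
  mem : ∀ w, w ∈ W ↔ w ∈ T ∧ w * w = 1
  cent : T ≤ 𝐂(W)
  sq : ∀ t ∈ T, t * t ∈ W
  der_le : der T ≤ W
  four : 4 ≤ ♯W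
  k_mem : k ∈ L
  k_norm : k ∈ 𝐍(T)
  ord : orderOf k + 1 = ♯W
  cyc : ∀ v ∈ W, ∀ w ∈ W, v ≠ 1 → w ≠ 1 → ∃ j : ℕ, k ^ j * v * (k ^ j)⁻¹ = w
  norm : L ⊓ 𝐍(T) = T ⊔ zpowers k
  two : ∀ x ∈ 𝐍(L), PiElt {2} x → x ∈ L ⊔ 𝐂(L)
  real : ∀ x ∈ L, Odd (orderOf x) → ¬ 3 ∣ orderOf x → ∃ g ∈ L, g * g = 1 ∧ g * x * g⁻¹ = x⁻¹

/-- the facts on `L = Sz(2 ^ n)` -/
structure SzF (L T W : Subgroup G) (k : G) (n : ℕ) : Prop extends SF L T W k where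
  odd : Odd n
  three : 3 ≤ n
  cardW : ♯W = 2 ^ n
  cardT : ♯T = (2 ^ n) ^ 2
  card : ♯L = (2 ^ n) ^ 2 * ((2 ^ n) ^ 2 + 1) * (2 ^ n - 1)
  not_three : ¬ 3 ∣ ♯L
  cc : ∀ x ∈ T, x ≠ 1 → L ⊓ 𝐂[x] ≤ T
  ti : ∀ g ∈ L, ∀ x ∈ T, x ≠ 1 → g * x * g⁻¹ ∈ T → g ∈ 𝐍(T)
  sq_inj : ∀ x ∈ T, ∀ y ∈ T, x * x = y * y → x⁻¹ * y ∈ W
  max : ∀ B : Subgroup G, T ≤ B → B ≤ L → B ≤ 𝐍(T) ∨ B = L
  centW : 𝐍(L) ⊓ 𝐂(W) ≤ T ⊔ 𝐂(L)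
  prim : ∃ p : ℕ, p.Prime ∧ p ∣ (2 ^ n) ^ 2 + 1 ∧ orderOf (2 : ZMod p) = 4 * n
  hyp : ∃ t : L, BSW.HypC (T.subgroupOf L) t ∧ (BSW.Kt (T.subgroupOf L) t).map L.subtype = zpowers k

/-- the facts on `L = L₂(q)`, `q = 3 ^ (2 f + 1) = 4 c - 1 = 2 r + 1` -/
structure L3F (L T : Subgroup G) (k : G) (f r c : ℕ) : Prop
    extends SF L T T k, JR.LF L 3 (3 ^ (2 * f + 1)) r c where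
  one : 1 ≤ f
  cardT : ♯T = 4
  good : Good L
  gen : ∀ M : Subgroup G, (∀ w ∈ T, w ≠ 1 → L ⊓ 𝐂[w] ≤ M) → L ≤ M
  rigid : ∀ x ∈ 𝐍(L), Odd (orderOf x) → ∀ w ∈ T, w ≠ 1 → L ⊓ 𝐂[w] ≤ 𝐂[x] → x ∈ 𝐂(L)

/-- `L` behaves like a lift of a component moved by `A`: `A = W × C_A(L)` and `k` permutes `W^#`
cyclically -/
structure PC (A L W : Subgroup G) (k : G) : Prop where
  wle : W ≤ A ⊓ L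
  four : 2 < ♯W
  sup : A ≤ W ⊔ A ⊓ 𝐂(L)
  kL : k ∈ L
  kA : k ∈ 𝐍(A)
  kW : k ∈ 𝐍(W)
  cyc : ∀ v ∈ W, ∀ w ∈ W, v ≠ 1 → w ≠ 1 → ∃ j : ℕ, k ^ j * v * (k ^ j)⁻¹ = w
  gen : ∀ X : Subgroup G, L ≤ 𝐍(X) → ∀ a ∈ A ⊓ X, a ∉ 𝐂(L) → L ≤ X
  nsol : ¬ Sol L

/-- `L` is a lift of a component of `H / O(H)` moved by `A` -/
structure Cp (A H L W : Subgroup G) (k : G) : Prop extends PC A L W k where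
  le : L ≤ H
  normA : ncl A H ≤ 𝐍(L ⊔ O H)
  normO : ∀ Y ≤ H, Odd ♯Y → A ≤ 𝐍(Y) → Y ≤ 𝐍(L ⊔ O H)
  odd : ∀ Y ≤ L ⊔ O H, Odd ♯Y → L ≤ 𝐍(Y) → Y ≤ O H
  sol : ∀ a ∈ A, a ∉ 𝐂(L) → Sol ((L ⊔ O H) ⊓ 𝐂[a] : Subgroup G)
  two : ∀ g ∈ 𝐍(O H) ⊓ 𝐍(A) ⊓ 𝐍(L ⊔ O H), PiElt {2} g → ∀ a ∈ A, g * a * g⁻¹ * a⁻¹ ∈ 𝐂(L)
  kind : ∃ Z : Subgroup G, O H ≤ Z ∧ Z ⊴ L ⊔ O H ∧ 𝐍(O H) ⊓ 𝐍(L ⊔ O H) ≤ 𝐍(Z) ∧ ⁅Z, L⁆ ≤ O H ∧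
    IsPGroup 2 (Z ⁒ O H) ∧
    ((∃ T n, SzF (L ⁒ Z) T (W ⁒ Z) (coset Z k) n ∧ ♯W = 2 ^ n ∧
        ∀ Y ≤ H, Odd ♯Y → A ≤ 𝐍(Y) → ⁅Y, L⁆ ≤ O H) ∨
      ∃ f r c, L3F (L ⁒ Z) (W ⁒ Z) (coset Z k) f r c ∧ Z = O H ∧ ♯W = 4 ∧ A ⊓ (L ⊔ O H) = W ∧
        ∀ M : Subgroup G, O H ≤ M → (∀ w ∈ W, w ≠ 1 → (L ⊔ O H) ⊓ 𝐂[w] ≤ M) → L ≤ M)

/-- `𝓛` is a system of lifts of the components of `H / O(H)` moved by `A` -/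
structure Fam (A H : Subgroup G) (𝓛 : Set (Subgroup G)) : Prop where
  cp : ∀ L ∈ 𝓛, ∃ W k, Cp A H L W k
  comm : ∀ L ∈ 𝓛, ∀ L' ∈ 𝓛, L ≠ L' → A ⊓ (L ⊔ O H) ≤ 𝐂(L') ∧ ⁅L, L'⁆ ≤ O H
  ncl_le : ncl A H ≤ O H ⊔ A ⊔ sSup 𝓛
  fratt : H ≤ ncl A H ⊔ H ⊓ 𝐍(A)
  perm : ∀ h ∈ H, ∀ L ∈ 𝓛, ∃ L' ∈ 𝓛, h •ᶜ (L ⊔ O H) = L' ⊔ O H
  a0 : ∀ a ∈ A, (∀ L ∈ 𝓛, a ∈ 𝐂(L)) → ∀ h ∈ H, h * a * h⁻¹ ∈ O H ⊔ A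
  odd_mem : ∀ x ∈ ncl A H ⊔ O H, Odd (orderOf x) → (∀ L ∈ 𝓛, x ∈ CM (O H) L) → x ∈ O H
  le_O : ∀ a ∈ A, ∀ X ≤ O (H ⊓ 𝐂[a]), (∀ L ∈ 𝓛, X ≤ CM (O H) L) → X ≤ O H

/-- the action of a proper subgroup `H` on the conjugates of a `D`-embedded subgroup `M` -/
structure K1F (A M H N : Subgroup G) (L T W : Subgroup (Coset N)) (k : Coset N) (n : ℕ) : Prop
    extends SzF L T W k n where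
  normal : N ⊴ H
  le : N ≤ M
  core : ∀ X : Subgroup G, X ⊴ H → X ≤ M → X ≤ N
  free : ∀ t ∈ N, InD A t → t = 1
  normalL : L ⊴ H ⁒ N
  centL : H ⁒ N ⊓ 𝐂(L) = ⊥
  stab : (H ⊓ M) ⁒ N = H ⁒ N ⊓ 𝐍(T)
  index : M.relIndex H = (2 ^ n) ^ 2 + 1
  inD : ∀ w ∈ L, w * w = 1 → ∃ t ∈ H, InD A t ∧ coset N t = w
  two_fix : ∀ g ∈ H, g ∉ M → ∀ x ∈ H ⊓ M ⊓ g •ᶜ M, PiElt {2} x → x ∈ N
  trans : ∀ g ∈ H, g ∉ M → ∀ g' ∈ H, g' ∉ M → ∃ x ∈ H ⊓ M, coset N x ∈ T ∧ g'⁻¹ * x * g ∈ M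

theorem s3f_coset (h : S3F G) (N : Subgroup G) : S3F (Coset N) :=
  (h.sub 𝐍(N)).of_surjective (cosetHom N) (QuotientGroup.mk'_surjective _)

theorem KY.mono {m n : ℕ} (h : KY.{u} n) (hle : m ≤ n) : KY.{u} m :=
  fun X _ _ e => h X (e.trans_le hle)

end

/-- the facts on the known simple groups -/
def KF1 : Prop := ∀ (G : Type u) [Group G] [Finite G] (L T : Subgroup G), S3F G →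
  IsSz L ∨ IsL3 L → Syl 2 T L → (∃ W k n, SzF L T W k n) ∨ ∃ k f r c, L3F L T k f r c

/-- the structure of groups with a strongly closed elementary abelian subgroup -/
def KF2 : Prop := ∀ (G : Type u) [Group G] [Finite G] (A H T : Subgroup G), S3F G →
  KY.{u} (♯H + 1) → Syl 2 T H → A ≤ T → IsElementaryAbelian 2 A → SCl H T A → ∃ 𝓛, Fam A H 𝓛

/-- proper subgroups containing a four-group of `D` -/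
def KF3 : Prop := ∀ (G : Type u) [Group G] [Finite G] (A M H V : Subgroup G), DSE A M → H ≠ ⊤ →
  V ≤ H ⊓ M → IsElementaryAbelian 2 V → 4 ≤ ♯V → (∀ v ∈ V, InD A v) → ¬ H ≤ M →
  ∃ N L T W k n, K1F A M H N L T W k n

end Cfsg.Agent.R4
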