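import Cfsg.Agent.Lib.JR.FRa

/-!
# Primitive prime divisors of `2 ^ f - 1`
-/

set_option autoImplicit false

namespace Cfsg.Agent.R4

open Polynomial

theorem cyc_dvd {b f s : ℕ} (b2 : 2 ≤ b) (hd : s ∣ ((cyclotomic f ℤ).eval (b : ℤ)).natAbs) :
    s ∣ b ^ f - 1 := by
  rw [← Int.natCast_dvd_natCast, Nat.cast_sub (Nat.one_le_pow _ _ (by omega))]
  simpa using (Int.natCast_dvd.2 hd).trans (eval_dvd (cyclotomic.dvd_X_pow_sub_one f ℤ))

theorem cyc_aux {b e l s : ℕ} (hb : Even b) (b2 : 2 ≤ b) (h5 : 0 < e) (hl : l.Prime) (hs : s.Prime)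
    (h3 : s ∣ b ^ e - 1) (hd : s ∣ ((cyclotomic (e * l) ℤ).eval (b : ℤ)).natAbs) :
    s = l ∧ ¬ s * s ∣ ((cyclotomic (e * l) ℤ).eval (b : ℤ)).natAbs := by
  have k : ∀ n : ℕ, ((b ^ n - 1 : ℕ) : ℤ) = b ^ n - 1 := fun n => by
    rw [Nat.cast_sub (Nat.one_le_pow _ _ (by omega))]; simp
  have ho : Odd s := Odd.of_dvd_nat (Nat.Even.sub_odd (Nat.one_le_pow _ _ (by omega))
    (hb.pow_of_ne_zero (by omega)) odd_one) h3
  have h6 := eval_dvd (x := (b : ℤ)) (X_pow_sub_one_mul_cyclotomic_dvd_X_pow_sub_one_of_dvd ℤ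
    (Nat.mem_properDivisors.2 ⟨⟨l, rfl⟩, (by nlinarith [hl.two_le] : e < e * l)⟩))
  have h7 : (s : ℤ) ∣ b ^ e - 1 := by rwa [← k, Int.natCast_dvd_natCast]
  simp only [eval_mul, eval_sub, eval_pow, eval_X, eval_one] at h6
  rw [pow_mul _ e, ← mul_geom_sum ((b : ℤ) ^ e),
    mul_dvd_mul_iff_left (by rw [← k]; have := Nat.one_lt_pow h5.ne' (by omega : 1 < b); omega)] at h6
  have h8 := (dvd_geom_sum₂_iff_of_dvd_sub (n := l) h7).1 (by
    simpa using (Int.natCast_dvd.2 hd).trans h6)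
  obtain rfl : s = l := (Nat.prime_dvd_prime_iff_eq hs hl).1 (by simpa [Int.natCast_dvd_natCast] using h8)
  refine ⟨rfl, fun h9 => ?_⟩
  obtain ⟨c, hc⟩ := h7
  have h10 := odd_sq_dvd_geom_sum₂_sub (R := ℤ) 1 c ho
  simp only [one_pow, mul_one, ← hc, add_sub_cancel] at h10
  have h11 := dvd_sub ((Int.natCast_dvd.2 h9).trans h6) (by simpa [pow_two] using h10)
  rw [sub_sub_cancel, Int.natCast_dvd_natCast] at h11
  exact absurd (Nat.le_of_dvd hs.pos h11) (by nlinarith [hs.two_le])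

theorem cyc_key {b f : ℕ} (hb : Even b) (b2 : 2 ≤ b) (h1 : 1 < f)
    (h : ∀ s : ℕ, s.Prime → s ∣ b ^ f - 1 → ∃ e, e ∣ f ∧ s ∣ b ^ e - 1 ∧ e ≠ f) {s : ℕ} (hs : s.Prime)
    (hd : s ∣ ((cyclotomic f ℤ).eval (b : ℤ)).natAbs) :
    Odd s ∧ ¬ s * s ∣ ((cyclotomic f ℤ).eval (b : ℤ)).natAbs ∧ ∃ e, f = e * s ∧ s ∣ b ^ e - 1 := by
  have h0 := cyc_dvd b2 hd
  obtain ⟨e, ⟨m, rfl⟩, h3, h4⟩ := h s hs h0
  obtain ⟨l, hl, d, rfl⟩ := Nat.exists_prime_and_dvd (n := m) (by rintro rfl; simp at h4)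
  have h5 : 0 < e * d := Nat.pos_of_ne_zero fun e' => by
    rw [mul_left_comm, e'] at h1; simp at h1
  have h7 : s ∣ b ^ (e * d) - 1 := h3.trans (by simpa using Nat.pow_sub_one_dvd_pow_sub_one b ⟨d, rfl⟩)
  rw [show e * (l * d) = e * d * l by ring] at hd ⊢
  obtain ⟨rfl, k⟩ := cyc_aux hb b2 h5 hl hs h7 hd
  exact ⟨Odd.of_dvd_nat (Nat.Even.sub_odd (Nat.one_le_pow _ _ (by omega))
    (hb.pow_of_ne_zero (by omega)) odd_one) h7, k, _, rfl, h7⟩

theorem dvd_of_sqfree {N f : ℕ} (h0 : f ≠ 0) (h : ∀ s : ℕ, s.Prime → s ∣ N → s ∣ f ∧ ¬ s * s ∣ N) :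
    N ∣ f := by
  have h3 : Squarefree N := Nat.squarefree_iff_prime_squarefree.2 fun s hs e =>
    (h s hs ((dvd_mul_right s s).trans e)).2 e
  rw [← Nat.prod_primeFactors_of_squarefree h3]
  exact (Finset.prod_dvd_prod_of_subset _ _ _ fun s hs => Nat.mem_primeFactors.2
    ⟨Nat.prime_of_mem_primeFactors hs, (h s (Nat.prime_of_mem_primeFactors hs)
      (Nat.dvd_of_mem_primeFactors hs)).1, h0⟩).trans (Nat.prod_primeFactors_dvd f)

theorem dvd_iff_pow {b e s : ℕ} (hb : 0 < b) : s ∣ b ^ e - 1 ↔ (b : ZMod s) ^ e = 1 := by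
  rw [← ZMod.natCast_eq_zero_iff, Nat.cast_sub (Nat.one_le_pow _ _ hb), sub_eq_zero]; simp

/-- a primitive prime divisor of `2 ^ (4 n) - 1` -/
theorem zsig4 {n : ℕ} (hn : Odd n) (h1 : 1 ≤ n) :
    ∃ p : ℕ, p.Prime ∧ p ∣ (2 ^ n) ^ 2 + 1 ∧ orderOf (2 : ZMod p) = 4 * n := by
  obtain ⟨s, hs, h2, h3⟩ : ∃ s : ℕ, s.Prime ∧ s ∣ 4 ^ (2 * n) - 1 ∧
      ∀ e, e ∣ 2 * n → s ∣ 4 ^ e - 1 → e = 2 * n := by
    by_contra! h
    have h2 : 3 ^ (2 * n).totient < ((cyclotomic (2 * n) ℤ).eval ((4 : ℕ) : ℤ)).natAbs := by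
      simpa using sub_one_pow_totient_lt_natAbs_cyclotomic_eval (n := 2 * n) (by omega) (q := 4)
        (by decide)
    have h4 := Nat.le_of_dvd (by omega) (dvd_of_sqfree (f := n) (by omega) fun s hs hd => by
      obtain ⟨k1, k2, e, k3, -⟩ := cyc_key (by decide) (by decide) (by omega) h hs hd
      exact ⟨(Nat.coprime_two_right.2 k1).dvd_of_dvd_mul_left ⟨e, by rw [k3, mul_comm]⟩, k2⟩)
    rw [Nat.totient_mul (Nat.coprime_two_left.2 hn), Nat.totient_two, one_mul] at h2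
    have := JR.FRa.le_two_pow_totient hn
    have := Nat.pow_le_pow_left (show 2 ≤ 3 by decide) n.totient
    omega
  have := Fact.mk hs
  have e4 : ((4 : ℕ) : ZMod s) = 2 ^ 2 := by norm_num
  refine ⟨s, hs, ?_, ?_⟩
  · have : 4 ^ (2 * n) - 1 = ((2 ^ n) ^ 2 + 1) * (4 ^ n - 1) := by
      rw [← pow_mul 2, mul_comm n, pow_mul 2, mul_comm 2 n, pow_mul 4]
      simpa using Nat.sq_sub_sq (4 ^ n) 1
    exact ((Nat.Prime.dvd_mul hs).1 (this ▸ h2)).resolve_right fun e => by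
      have := h3 n (dvd_mul_left _ _) e; omega
  · rw [dvd_iff_pow (by decide)] at h2
    have h4 := h3 _ (orderOf_dvd_of_pow_eq_one h2) ((dvd_iff_pow (by decide)).2 (pow_orderOf_eq_one _))
    rw [e4, orderOf_pow' _ two_ne_zero] at h4
    have h5 := Nat.div_mul_cancel (Nat.gcd_dvd_left (orderOf (2 : ZMod s)) 2)
    rw [h4] at h5
    rcases (Nat.dvd_prime Nat.prime_two).1 (Nat.gcd_dvd_right (orderOf (2 : ZMod s)) 2) with e | e
    · rw [e, mul_one] at h5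
      rw [← h5, Nat.gcd_comm, Nat.gcd_mul_right_right] at e
      omega
    · rw [e] at h5; omega

/-- a primitive prime divisor of `2 ^ n - 1`, `n` odd -/
theorem zsig2 {n : ℕ} (hn : Odd n) (h1 : 3 ≤ n) : ∃ p : ℕ, p.Prime ∧ orderOf (2 : ZMod p) = n := by
  by_contra! h0
  have h : ∀ s : ℕ, s.Prime → s ∣ 2 ^ n - 1 → ∃ e, e ∣ n ∧ s ∣ 2 ^ e - 1 ∧ e ≠ n := fun s hs hd =>
    ⟨_, orderOf_dvd_of_pow_eq_one ((dvd_iff_pow two_pos).1 hd),
      (dvd_iff_pow two_pos).2 (pow_orderOf_eq_one _), h0 s hs⟩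
  set N := ((cyclotomic n ℤ).eval ((2 : ℕ) : ℤ)).natAbs with hN
  have h2 : 1 < N := by
    simpa [hN] using sub_one_pow_totient_lt_natAbs_cyclotomic_eval (n := n) (by omega) (q := 2) (by decide)
  have key := fun s (hs : s.Prime) (hd : s ∣ N) => cyc_key (by decide) le_rfl (by omega) h hs hd
  have lt : ∀ s l : ℕ, s.Prime → l.Prime → s ∣ N → l ∣ n → s ≠ l → l < s := fun s l hs hl hd ⟨m, hm⟩ ne => by
    have := Fact.mk hs
    have h3 := orderOf_dvd_of_pow_eq_one ((dvd_iff_pow two_pos).1 (cyc_dvd le_rfl hd))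
    have h4 : ((2 : ℕ) : ZMod s) ≠ 0 := fun e => by
      have := (key s hs hd).1.of_dvd_nat dvd_rfl
      obtain rfl := (Nat.prime_dvd_prime_iff_eq hs Nat.prime_two).1 ((ZMod.natCast_eq_zero_iff _ _).1 e)
      exact absurd this (by decide)
    by_cases h5 : l ∣ orderOf ((2 : ℕ) : ZMod s)
    · have := Nat.le_of_dvd (by have := hs.two_le; omega) (h5.trans (ZMod.orderOf_dvd_card_sub_one h4))
      have := hs.pos
      omega
    · rw [hm] at h3
      rw [hN, hm, mul_comm] at hd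
      exact absurd (cyc_aux (by decide) le_rfl (Nat.pos_of_ne_zero fun e => by subst e; omega) hl hs
        ((dvd_iff_pow two_pos).2 (orderOf_dvd_iff_pow_eq_one.1
          (((Nat.Prime.coprime_iff_not_dvd hl).2 h5).symm.dvd_of_dvd_mul_left h3))) hd).1 ne
  obtain ⟨s, hs, hd⟩ := Nat.exists_prime_and_dvd h2.ne'
  obtain ⟨k1, -, m, hm, k3⟩ := key s hs hd
  have h3 : N ≤ s := Nat.le_of_dvd hs.pos (dvd_of_sqfree hs.ne_zero fun l hl hl' => by
    obtain ⟨-, k4, e, he, -⟩ := key l hl hl'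
    refine ⟨by_contra fun ne => ?_, k4⟩
    have ne' : l ≠ s := fun e => ne (e ▸ dvd_rfl)
    have := lt s l hs hl hd ⟨e, by rw [he, mul_comm]⟩ ne'.symm
    have := lt l s hl hs hl' ⟨m, by rw [hm, mul_comm]⟩ ne'
    omega)
  have mo : Odd m := hn.of_dvd_nat ⟨s, hm⟩
  have m1 : 1 < m := by
    rcases m with _ | _ | m
    · simp at mo
    · exact absurd (Nat.dvd_one.1 k3) hs.ne_one
    · omega
  have s3 : s ≠ 3 := by
    rintro rfl
    rw [dvd_iff_pow two_pos] at k3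
    obtain ⟨j, rfl⟩ := mo
    rw [pow_succ, pow_mul, show ((2 : ℕ) : ZMod 3) ^ 2 = 1 by decide, one_pow] at k3
    exact absurd k3 (by decide)
  have s5 : 5 ≤ s := by
    have := hs.two_le
    obtain ⟨j, rfl⟩ := k1
    omega
  have h4 : 3 * s ≤ 2 ^ s - 1 := by
    have : ∀ j, 3 * (j + 5) < 2 ^ (j + 5) := fun j => by
      induction j with
      | zero => decide
      | succ j ih => rw [show j + 1 + 5 = j + 5 + 1 by ring, pow_succ]; omega
    have := this (s - 5)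
    rw [Nat.sub_add_cancel s5] at this
    omega
  have h5 := sub_one_pow_totient_lt_natAbs_cyclotomic_eval m1 (q := 2 ^ s) (by omega)
  have h6 : 3 ^ m.totient * s ≤ (2 ^ s - 1) ^ m.totient :=
    le_trans (by
      rw [mul_pow]; exact Nat.mul_le_mul_left _ (Nat.le_self_pow (Nat.totient_pos.2 (by omega)).ne' s))
      (Nat.pow_le_pow_left h4 _)
  have h7 : eval ((2 ^ s : ℕ) : ℤ) (cyclotomic m ℤ) = eval ((2 : ℕ) : ℤ) (expand ℤ s (cyclotomic m ℤ)) := by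
    rw [expand_eval]; simp
  by_cases h8 : s ∣ m
  · rw [h7, cyclotomic_expand_eq_cyclotomic hs h8, ← hm, ← hN] at h5
    have := Nat.one_le_pow m.totient 3 (by decide)
    nlinarith
  · rw [h7, cyclotomic_expand_eq_cyclotomic_mul hs h8, ← hm, eval_mul, Int.natAbs_mul, ← hN] at h5
    have h9 : (eval ((2 : ℕ) : ℤ) (cyclotomic m ℤ)).natAbs ≤ 3 ^ m.totient := by
      have k := cyclotomic_eval_le_add_one_pow_totient (q := 2) one_lt_two m
      have k2 : eval (2 : ℝ) (cyclotomic m ℝ) = ((eval ((2 : ℕ) : ℤ) (cyclotomic m ℤ) : ℤ) : ℝ) := by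
        simpa using cyclotomic.eval_apply (2 : ℤ) m (Int.castRingHom ℝ)
      have k3 := cyclotomic_nonneg (R := ℤ) m (x := ((2 : ℕ) : ℤ)) (by norm_num)
      rw [k2] at k
      have k4 : eval ((2 : ℕ) : ℤ) (cyclotomic m ℤ) ≤ 3 ^ m.totient := by
        norm_num at k ⊢
        exact_mod_cast k
      zify at k3 k4 ⊢
      rwa [abs_of_nonneg k3]
    nlinarith [Nat.mul_le_mul h3 h9]

end Cfsg.Agent.R4
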