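import Cfsg.Agent.Lib.R4.DE3b
import Cfsg.Agent.Lib.R4.DE0
import Cfsg.Agent.Lib.R4.KFDefs
import Cfsg.Agent.Lib.R4.KFNum

/-!
# Package DE3: if `A` is normal in the `D`-embedded subgroup then all involutions lie in `D`
-/

set_option autoImplicit false
set_option linter.unusedSectionVars false

namespace Cfsg.Agent.R4

open Subgroup MulAction Cfsg.Agent.Coprime Cfsg.Agent.OO Cfsg.Agent.SEA Cfsg.Agent.SZ
open scoped Pointwise commutatorElement

universe u v

variable {G : Type u} {Ω : Type v} [Group G] [MulAction G Ω] [Finite G] {B : Ω → Subgroup G}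
  {a b c : Ω} {g x : G} {n r : ℕ}

namespace DP

variable (h : DP B)
include h

theorem lin (hab : a ≠ b) (hn : ♯(B a) = 2 ^ n) :
    ∃ T f, SEA.Lin (B a) (stabilizer G a) T f n :=
  exists_lin (h.elem a) (fun e => by simpa [e] using h.four a) (h.stab_le a) (h.odd a) hn
    fun s hs s1 t ht t1 => let ⟨k, hk, e⟩ := h.exists_conj hab hs s1 ht t1; ⟨k, hk.1, e⟩

theorem prim [Nontrivial Ω] (ho : Odd n) (h3 : 3 ≤ n) (hn : ∀ a, ♯(B a) = 2 ^ n) :
    ∃ p : ℕ, p.Prime ∧ Prim B p := by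
  obtain ⟨p, hp, e⟩ := zsig2 ho h3
  have := Fact.mk hp
  have h1 : p ∣ 2 ^ n - 1 := (dvd_iff_pow two_pos).2 (e ▸ pow_orderOf_eq_one _)
  have h2 : ¬ p ∣ n := fun e' => by
    have h4 := Nat.le_of_dvd (by omega) e'
    have h5 := orderOf_le_card_univ (x := (2 : ZMod p))
    have h6 : (2 : ZMod p) ≠ 0 := fun e0 => by
      have := pow_orderOf_eq_one (2 : ZMod p)
      rw [e, e0, zero_pow (by omega)] at this
      exact zero_ne_one this
    have h7 := Nat.le_of_dvd (by have := hp.two_le; omega) (ZMod.orderOf_dvd_card_sub_one h6)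
    have := hp.pos
    omega
  have key : ∀ a, ∃ T f, SEA.Lin (B a) (stabilizer G a) T f n ∧
      ∀ P : Subgroup G, IsPGroup p P → P ≤ stabilizer G a → P ≤ T := fun a => by
    obtain ⟨b, hb⟩ := exists_ne a
    obtain ⟨T, f, hT⟩ := h.lin hb.symm (hn a)
    exact ⟨T, f, hT, fun P hP e => (piGrp_singleton hP).le_of_relIndex e hT.normal.norm
      ((isPiNum_compl_singleton hp).2 fun e => h2 (e.trans hT.index))⟩
  refine ⟨p, hp, h, ?_, fun a => hn a ▸ h1, fun {a P} hP e => ?_, fun {a P} hP e => ?_,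
    fun {a P s} hP e hs s1 e' => ?_⟩
  · rintro rfl
    obtain ⟨m, rfl⟩ : ∃ m, n = m + 1 := ⟨n - 1, by omega⟩
    have := Nat.one_le_two_pow (n := m)
    omega
  all_goals obtain ⟨T, f, hT, h4⟩ := key a
  · exact (der_mono (h4 P hP e)).trans hT.der_le_cent
  · obtain ⟨s, hs, s1⟩ := h.exists_mem a
    obtain ⟨b, hb⟩ := exists_ne a
    refine (relIndex_dvd_of_le_norm (h4 P hP e) (hT.le.trans (h.stab_le' a))).trans ?_
    have h5 := (h.cent_le hs s1).trans hT.normal.norm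
    rw [← inf_relIndex_left, show T ⊓ 𝐂(B a) = T ⊓ 𝐂[s] from le_antisymm
      (inf_le_inf_left T (cent_le_cent1 hs)) fun t ht =>
        ⟨ht.1, hT.semireg t ht.1 s hs s1 (mem_cent1.1 ht.2)⟩, inf_relIndex_left,
      ← relIndex_sup_eq (.inr h5), ← h.relIndex_cent hb.symm hs s1 inf_le_left le_rfl,
      ← relIndex_mul_relIndex _ _ _ le_sup_right (sup_le hT.le (h.cent_le hs s1))]
    exact dvd_mul_right _ _
  · exact fun y hy => hT.semireg y (h4 P hP e hy) s hs s1 (mem_cent_iff.1 e' y hy)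

theorem false_of_three [Finite Ω] (hG : MC G) (hab : a ≠ b) (hn : ∀ a, ♯(B a) = 2 ^ n)
    (ho : 2 ^ n % 3 = 2) (tr : ∀ c, a ≠ c → ∃ g ∈ stabilizer G a, g • b = c)
    (hΩ : Nat.card Ω = 3 * r + 1) (hr : ¬ 3 ∣ r)
    (hK : ∀ H : Subgroup G, H ≠ ⊤ → B a ≤ H → ¬ H ≤ stabilizer G a →
      (stabilizer G a).relIndex H % 3 = 2) : False := by
  have := Fact.mk Nat.prime_three
  have h1 : ∀ c, a ≠ c → (D G a c).relIndex (stabilizer G a) = 3 * r := fun c hc => by
    rw [D, inf_relIndex_left, show (stabilizer G c).relIndex (stabilizer G a) = _ from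
      index_stabilizer _ c, show orbit (stabilizer G a) c = Set.univ \ {a} from Set.ext fun d =>
        ⟨fun ⟨g, e⟩ => ⟨trivial, fun e' => hc (smul_left_cancel (g : G) (g.2.trans (e.trans e').symm))⟩,
        fun e => by
          obtain ⟨g, hg, e1⟩ := tr c hc
          obtain ⟨k, hk, e2⟩ := tr d (Ne.symm e.2)
          exact ⟨⟨k * g⁻¹, mul_mem hk (inv_mem hg)⟩, by
            rw [← e1, ← e2]; exact (mul_smul _ _ _).trans (by rw [inv_smul_smul])⟩⟩,
      Set.ncard_diff_singleton_of_mem (Set.mem_univ a), Set.ncard_univ, hΩ, Nat.add_sub_cancel]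
  have h2 : ∀ (c : Ω) (x : G), PiElt {3} x → x • c = c → ∃ t ∈ B c, t ≠ 1 ∧ t ∈ 𝐂[x] :=
    fun c x hx e => by
    have h3 := card_modEq_card_inf_centralizer (isPGroup_zpowers_iff.2 hx)
      ((zpowers_le.2 e).trans (h.stab_le c))
    obtain ⟨t, ht, t1⟩ := exists_mem_ne_one (H := B c ⊓ 𝐂(zpowers x)) fun e => by
      rw [e, card_bot, hn, Nat.ModEq, ho] at h3
      omega
    exact ⟨t, ht.1, t1, cent_zpowers x ▸ ht.2⟩
  obtain ⟨Q, hQ⟩ := exists_syl 3 (D G a b)
  obtain ⟨R, hR, h3⟩ := exists_syl_ge (hQ.le.trans inf_le_left) hQ.isPGroup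
  have h4 : Q.relIndex R = 3 := by
    have e := card_mul_relIndex h3
    rw [hR.card_eq_partn, ← card_mul_relIndex (D_le a b), h1 b hab, partn_mul _ (card_pos' _).ne'
      (by omega), ← hQ.card_eq_partn, partn_eq_of_mul (π := {3}) ((isPiNum_prime Nat.prime_three).2 rfl)
        ((isPiNum_compl_singleton Nat.prime_three).2 hr) (by omega) rfl] at e
    exact Nat.eq_of_mul_eq_mul_left (card_pos' _) e
  have h5 : Q ⊓ 𝐂(B a) = ⊥ := eq_bot_iff.2 fun x hx => by_contra fun x1 => by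
    obtain ⟨s, hs, s1⟩ := h.exists_mem a
    have e0 := hQ.piGrp.piElt hx.1
    have e1 := (isPGroup_zpowers_iff.2 e0).card_modEq_card_fixedPoints Ω
    have e2 := le_cent1_iff.2 hx.2
    have e3 : fixedPoints (zpowers x) Ω = orbit 𝐂[x] a := Set.ext fun c => ⟨fun hc => by
      by_cases e : a = c
      · exact e ▸ mem_orbit_self a
      obtain ⟨t, ht, t1, e'⟩ := h2 c x e0 (hc ⟨x, mem_zpowers x⟩)
      obtain ⟨w, e4, -, e5⟩ := h.exists_swap e hs s1 ht t1
      exact ⟨⟨w, e5 _ (e2 hs) e'⟩, e4.2⟩, fun ⟨g, e⟩ y => by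
        rw [← e]
        exact smul_fix_of_norm (cent_le_norm _ ((cent_zpowers x).ge g.2))
          (zpowers_le.2 (hQ.le hx.1).1) y.2⟩
    obtain ⟨t, ht, t1, e'⟩ := h2 b x e0 (hQ.le hx.1).2
    have e4 := hK 𝐂[x] (fun e => hG.nab ?_) e2 fun e => hab (h.uniq ht t1 (e e')).symm
    · rw [e3, Nat.card_coe_set_eq, ← index_stabilizer, hΩ, Nat.ModEq] at e1
      rw [show (stabilizer G a).relIndex 𝐂[x] = (stabilizer 𝐂[x] a).index from rfl, ← e1] at e4
      omega
    · refine ⟨⟨fun y z => mem_center_iff.1 (((hG.simple.eq_bot_or_eq_top_of_normal (center G)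
        inferInstance).resolve_left fun e' => x1 (e'.le (mem_center_iff.2 fun g => ?_))).ge
          trivial) y⟩⟩
      exact mem_cent1.1 (e.ge trivial)
  obtain ⟨T, f, hT⟩ := h.lin hab (hn a)
  have h6 : R ⊓ T ≤ R ⊓ 𝐂(B a) := fun x hx =>
    let ⟨t, ht, t1, e⟩ := h2 a x (hR.piGrp.piElt hx.1) (hR.le hx.1)
    ⟨hx.1, hT.semireg x hx.2 t ht t1 (mem_cent1.1 e).symm⟩
  have h7 : Ab R := ab_iff_der.2 (eq_bot_iff.2 (h5 ▸ le_inf (der_le_of_relIndex_prime
    (normal_of_relIndex_prime hR.isPGroup h3 h4) (h4 ▸ Nat.prime_three))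
    ((le_inf (OO.der_le R) ((der_mono hR.le).trans hT.der_le)).trans (h6.trans inf_le_right))))
  have hS : Syl 3 R ⊤ := (hR.hall.trans_of_relIndex le_top ((isPiNum_compl_singleton
    Nat.prime_three).2 (by
      have : IsPretransitive G Ω := ⟨h.trans⟩
      rw [relIndex_top_right, index_stabilizer_of_transitive, hΩ]; omega))).syl
  have h8 : 𝐍(R) ≤ stabilizer G a := fun g hg => by_contra fun e => hR.not_dvd
    (Dvd.dvd.trans (h1 _ (Ne.symm e) ▸ dvd_mul_right 3 r)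
      (relIndex_dvd_of_le_left _ (le_inf hR.le (smul_fix_of_norm hg hR.le))))
  have h9 : ♯(R ⊓ 𝐂(B a) : Subgroup G) ∣ 3 := by
    have e := card_inf_mul_relIndex Q (R ⊓ 𝐂(B a))
    rw [← inf_assoc, inf_eq_left.2 h3, h5, card_bot, one_mul] at e
    rw [← e, ← h4]
    exact relIndex_dvd_of_le_norm inf_le_left (le_norm_of_ab h7 h3)
  have h10 : ∀ g ∈ 𝐍(R), ∀ y ∈ R ⊓ 𝐂(B a), g * y * g⁻¹ = y := fun g hg y hy => by
    by_contra e
    have y1 : y ≠ 1 := by rintro rfl; simp at e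
    have e1 : orderOf y = 3 := ((Nat.dvd_prime Nat.prime_three).1
      ((orderOf_dvd_card hy).trans h9)).resolve_left (mt orderOf_eq_one_iff.1 y1)
    obtain ⟨i, hi⟩ := mem_powers_iff_mem_zpowers.2 ((eq_of_le_of_card_ge (zpowers_le.2 hy) (by
      rw [Nat.card_zpowers, e1]; exact Nat.le_of_dvd three_pos h9)).ge
        (conj_mem_of_norm (mem_norm_inf hg (h.stab_le' a (h8 hg))) hy))
    have e2 := pow_orderOf_eq_one y
    rw [e1] at e2
    simp only [← pow_mod_orderOf y i, e1] at hi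
    obtain e3 | e3 | e3 : i % 3 = 0 ∨ i % 3 = 1 ∨ i % 3 = 2 := by omega
    · exact BSW.conj_ne_one y1 (by rw [← hi, e3, pow_zero])
    · exact e (by rw [← hi, e3, pow_one])
    · exact y1 (hG.s3f.eq_one e2 (by rw [← hi, e3, eq_inv_iff_mul_eq_one, ← pow_succ, e2]))
  have h11 : ⊤ ⊓ 𝐍(R) ≤ 𝐂(R) := fun g hg => mem_of_forall_constt_mem fun q hq _ => by
    have e1 := constt_mem {q} hg
    have e2 := piElt_constt {q} g
    by_cases e : q = 3
    · exact h7.le_cent (hS.mem_of_mem_norm trivial e1.2 (e ▸ e2))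
    generalize constt {q} g = k at e1 e2
    refine zpowers_le.2 (mem_cent_iff_conj.2 fun x hx => ?_) (mem_zpowers_pow_iff.2
      ((Nat.Prime.coprime_iff_not_dvd Nat.prime_three).2
        (IsPiNum.not_dvd e2 Nat.prime_three (Ne.symm e))))
    have e3 : k * x * k⁻¹ * x⁻¹ ∈ R ⊓ 𝐂(B a) := h6 (mem_inf.2
      ⟨mul_mem (conj_mem_of_norm e1.2 hx) (inv_mem hx),
        hT.der_le (commutator_mem_commutator (h8 e1.2) (hR.le hx))⟩)
    have e4 := h10 k e1.2 _ e3
    have e5 := orderOf_dvd_iff_pow_eq_one.1 ((orderOf_dvd_card e3).trans h9)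
    have e6 := inv_mul_cancel_right (k * x * k⁻¹) x
    generalize k * x * k⁻¹ * x⁻¹ = z at e4 e5 e6
    have e7 : ∀ y : G, k * (z * y) * k⁻¹ = z * (k * y * k⁻¹) := fun y => by rw [← conj_mul, e4]
    rw [show k ^ 3 * x * (k ^ 3)⁻¹ = k * (k * (k * x * k⁻¹) * k⁻¹) * k⁻¹ by
      rw [pow_three]; group, ← e6, e7, ← e6, e7, e7, ← e6, ← mul_assoc, ← mul_assoc, mul_assoc z,
      ← pow_three, e5, one_mul]
  have h12 := Burnside_normal_complement hS h11
  rcases hG.simple.eq_bot_or_eq_top_of_normal (Op' 3 ⊤)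
    (normalIn_top.1 ((NormalIn.refl _).Opi _)) with e | e
  · have := h12.sup_eq
    rw [e, bot_sup_eq] at this
    exact hG.nab ⟨⟨fun y z => ab_iff.1 h7 y (this.ge trivial) z (this.ge trivial)⟩⟩
  · refine not_dvd_Op' (p := 3) (⊤ : Subgroup G) ?_
    rw [e, ← card_mul_relIndex (le_top : R ≤ ⊤), ← card_mul_relIndex h3, h4]
    exact (dvd_mul_left _ _).mul_right _

end DP

theorem de3 (kf3 : KF3.{u}) : DE3.{u} := fun G _ _ A M n h hM t ht => by
  refine h.cnt.elim (fun e => e t ht) fun ⟨hi, _⟩ => False.elim ?_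
  have e0 : M = 𝐍(A) := le_antisymm hM h.norm
  have e1 : ∀ g : G, (g : G ⧸ M).out •ᶜ A = g •ᶜ A := fun g => by
    obtain ⟨m, e⟩ := QuotientGroup.mk_out_eq_mul M g
    rw [e, ← conj_conj, conj_eq_of_mem_norm (hM m.2)]
  have e2 : ∀ g : G, stabilizer G (g : G ⧸ M) = g •ᶜ M := fun g => by
    rw [show (g : G ⧸ M) = g • ((1 : G) : G ⧸ M) by simp, ← conj_stab, stabilizer_quotient]
  have hD : DP fun c : G ⧸ M => c.out •ᶜ A := ⟨fun g c => ?_, fun c => ?_, fun {t c} e => ?_,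
    fun {t c d} e t1 e' => ?_, exists_smul_eq G, fun c => ?_, fun c => ?_⟩
  · have : Nontrivial (G ⧸ M) := Finite.one_lt_card_iff_nontrivial.1
      (one_lt_index_of_ne_top h.ne)
    have hn : ∀ c : G ⧸ M, ♯(c.out •ᶜ A : Subgroup G) = 2 ^ n := fun c => by
      rw [card_conj, h.card]
    obtain ⟨p, hp, hP⟩ := hD.prim h.odd h.three hn
    have := Fact.mk hp
    obtain ⟨b, hb⟩ := exists_ne ((1 : G) : G ⧸ M)
    have e3 : ∀ n, Odd n → 2 ^ n % 3 = 2 := fun n ⟨m, e⟩ => by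
      rw [e, pow_succ, pow_mul, Nat.mul_mod, Nat.pow_mod]; simp
    have e4 := e3 n h.odd
    generalize hq : 2 ^ n = q at hi e4
    obtain ⟨r, hr, e5⟩ : ∃ r, ¬ 3 ∣ r ∧ q ^ 2 - q + 1 = 3 * r := by
      obtain ⟨m, rfl⟩ : ∃ m, q = 3 * m + 2 := ⟨q / 3, by omega⟩
      exact ⟨3 * (m * m + m) + 1, by omega, by
        rw [show (3 * m + 2) ^ 2 = 3 * (3 * (m * m + m)) + 2 + (3 * m + 2) by ring]; omega⟩
    refine hD.false_of_three h.toMC hb.symm hn (by omega) (fun c hc => hP.two_trans hb.symm hc)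
      (r := q ^ 3 * r) (by rw [← index_eq_card, hi, e5]; ring) (fun e => ?_) fun H h1 h2 h3 => ?_
    · exact (Nat.prime_three.dvd_mul.1 e).elim
        (fun e => by have := Nat.prime_three.dvd_of_dvd_pow e; omega) hr
    rw [stabilizer_quotient] at h3 ⊢
    rw [e1, conj_eq_of_mem (one_mem A)] at h2
    obtain ⟨N, L, T, W, k, m, hK⟩ := kf3 G A M H A h.toDSE h1 (le_inf h2 h.A_le) h.elem h.four
      (fun v hv => .of_mem hv) h3
    rw [hK.index, Nat.add_mod, Nat.pow_mod, e3 m hK.odd]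
  · induction c using QuotientGroup.induction_on
    rw [Quotient.smul_mk, e1, e1, conj_conj, smul_eq_mul]
  · exact abelem_conj.2 h.elem
  · induction c using QuotientGroup.induction_on
    exact (e2 _).ge (conj_mono _ h.A_le (e1 _ ▸ e))
  · induction c using QuotientGroup.induction_on with | H g => ?_
    induction d using QuotientGroup.induction_on with | H k => ?_
    rw [e1, OO.mem_conj] at e
    refine QuotientGroup.eq.2 (inv_inv (g⁻¹ * k) ▸ inv_mem (h.mem (h.A_le e) (.of_mem e)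
      (by simpa using BSW.conj_ne_one (g := g⁻¹) t1) ?_))
    have := OO.mem_conj.1 ((e2 k).le e')
    convert this using 1
    group
  · have := h.four
    rw [card_conj]; omega
  · induction c using QuotientGroup.induction_on
    rw [e1, e2, cent_conj, relIndex_conj, e0]
    exact h.oddN.not_two_dvd_nat

end Cfsg.Agent.R4
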