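import Cfsg.Agent.Lib.R4.KFSz
import Cfsg.Agent.Lib.Wal.K3

/-!
# Consequences of the facts on the known simple `S₃`-free groups
-/

set_option autoImplicit false
set_option linter.unusedSectionVars false

namespace Cfsg.Agent.R4

open Subgroup Cfsg.Agent.OO Cfsg.Agent.Coprime Cfsg.Agent.SZ Cfsg.Agent.GW Cfsg.Agent.W4
open scoped commutatorElement Pointwise

universe u

variable {G : Type u} [Group G] [Finite G] {K L S T V W Y Z : Subgroup G} {a g k l v w x : G}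

theorem piElt_two_of_sq (h : x * x = 1) : PiElt {2} x :=
  (isPiNum_singleton_pow Nat.prime_two 1).of_dvd (orderOf_dvd_of_pow_eq_one (by rw [pow_one, pow_two, h]))

/-- the two kinds of known simple groups -/
def KK (L T W : Subgroup G) (k : G) : Prop :=
  (∃ n, SzF L T W k n) ∨ W = T ∧ ∃ f r c, L3F L T k f r c

theorem KK.sf (h : KK L T W k) : SF L T W k := by
  rcases h with ⟨n, h⟩ | ⟨rfl, f, r, c, h⟩
  exacts [h.toSF, h.toSF]

theorem exists_kk (kf1 : KF1.{u}) (h3 : S3F G) {n : ℕ} (ky : KY.{u} n) (hn : ♯L < n) (hL : Smp L)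
    (ha : ¬ Ab L) (hT : Syl 2 T L) : ∃ W k, KK L T W k := by
  rcases kf1 G L T h3 (ky L hn (hL.isSimpleGroup fun e => ha (e ▸ ab_bot)) ha (h3.sub L)) hT with
    ⟨W, k, n, h⟩ | ⟨k, f, r, c, h⟩
  exacts [⟨W, k, .inl ⟨n, h⟩⟩, ⟨T, k, .inr ⟨rfl, f, r, c, h⟩⟩]

namespace SF

variable (h : SF L T W k)
include h

theorem W_le : W ≤ T := fun w hw => ((h.mem w).1 hw).1

theorem W_le' : W ≤ L := h.W_le.trans h.syl.le

theorem sqW (hw : w ∈ W) : w * w = 1 := ((h.mem w).1 hw).2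

theorem eq_one (h1 : x ∈ L) (h2 : x ∈ 𝐂(L)) : x = 1 :=
  mem_bot.1 (((h.smp _ (Zc_normal L)).resolve_right fun e =>
    h.nab (ab_iff_le_cent.2 (e.ge.trans inf_le_right))).le ⟨h1, h2⟩)

theorem exists_ne (v : G) : ∃ w ∈ W, w ≠ 1 ∧ w ≠ v := by
  classical
  by_contra! e
  have := Set.ncard_le_ncard (s := (W : Set G)) (t := {1, v}) fun w hw => or_iff_not_imp_left.2 (e w hw)
  have h1 := Set.ncard_insert_le 1 ({v} : Set G)
  have h2 := h.four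
  rw [Set.ncard_singleton] at h1
  rw [← SetLike.coe_sort_coe, Nat.card_coe_set_eq] at h2
  omega

theorem fpf (hv : v ∈ W) (e : k * v = v * k) : v = 1 := by_contra fun v1 => by
  obtain ⟨w, hw, w1, h1⟩ := h.exists_ne v
  obtain ⟨j, rfl⟩ := h.cyc v hv w hw v1 w1
  exact h1 (by rw [((show Commute k v from e).pow_left j).eq, mul_inv_cancel_right])

theorem odd_k : Odd (orderOf k) := by
  obtain ⟨n, hn⟩ := (h.syl.isPGroup.to_le h.W_le).exists_card_eq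
  have h1 := h.four
  refine Nat.not_even_iff_odd.1 (Nat.even_add_one.1 ?_)
  rw [h.ord, hn]
  exact even_two.pow_of_ne_zero (by rintro rfl; omega)

theorem mem_norm_W (hg : g ∈ 𝐍(T)) : g ∈ 𝐍(W) := mem_norm_of_conj_mem fun _ hw =>
  (h.mem _).2 ⟨conj_mem_of_norm hg (h.W_le hw), conj_sq (h.sqW hw) g⟩

theorem eq_W (hV : V ≤ W) (h0 : V ≠ ⊥) (hk : k ∈ 𝐍(V)) : V = W := le_antisymm hV fun w hw => by
  obtain ⟨v, hv, v1⟩ := exists_mem_ne_one h0
  by_cases w1 : w = 1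
  · exact w1 ▸ one_mem _
  obtain ⟨j, rfl⟩ := h.cyc v (hV hv) w hw v1 w1
  exact conj_mem_of_norm (pow_mem hk j) hv

theorem split (hx : x ∈ L ⊔ 𝐂(L)) : ∃ l ∈ L, l⁻¹ * x ∈ 𝐂(L) ∧ ∀ m : ℕ, x ^ m = 1 → l ^ m = 1 := by
  obtain ⟨l, hl, c, hc, rfl⟩ := (mem_sup_norm_left (cent_le_norm L)).1 hx
  refine ⟨l, hl, by simpa using hc, fun m e => h.eq_one (pow_mem hl m) ?_⟩
  rw [(show Commute l c from mem_cent_iff.1 hc l hl).mul_pow, mul_eq_one_iff_eq_inv] at e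
  exact e ▸ inv_mem (pow_mem hc m)

omit h in
theorem conj_eq (hc : l⁻¹ * x ∈ 𝐂(L)) (hv : v ∈ L) : x * v * x⁻¹ = l * v * l⁻¹ := by
  nth_rw 2 [← mem_cent_iff_conj.1 hc v hv]; group

/-- involutions normalizing `L` and `T` act like elements of `W` -/
theorem inv_split (h1 : a ∈ 𝐍(L)) (h2 : a ∈ 𝐍(T)) (a2 : a * a = 1) : ∃ w ∈ W, w⁻¹ * a ∈ 𝐂(L) := by
  have := Fact.mk Nat.prime_two
  obtain ⟨l, hl, hc, e⟩ := h.split (h.two a h1 (piElt_two_of_sq a2))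
  have l2 : l * l = 1 := by rw [← pow_two, e 2 (by rw [pow_two, a2])]
  exact ⟨l, (h.mem l).2 ⟨h.syl.mem_of_mem_norm hl (mem_norm_of_conj_mem fun t ht =>
    conj_eq hc (h.syl.le ht) ▸ conj_mem_of_norm h2 ht) (piElt_two_of_sq l2), l2⟩, hc⟩

theorem two_cent (h1 : g ∈ 𝐍(L)) (h2 : PiElt {2} g) (h3 : g ∈ 𝐍(W)) : g ∈ 𝐂(W) := by
  have := Fact.mk Nat.prime_two
  obtain ⟨l, hl, hc, e⟩ := h.split (h.two g h1 h2)
  have l1 : l ∈ 𝐍(W) := mem_norm_of_conj_mem fun t ht =>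
    conj_eq hc (h.W_le' ht) ▸ conj_mem_of_norm h3 ht
  have l2 : IsPGroup 2 (zpowers l) := isPGroup_zpowers_iff.2
    (h2.of_dvd (orderOf_dvd_of_pow_eq_one (e _ (pow_orderOf_eq_one g))))
  obtain ⟨y, -, hy⟩ := h.syl.exists_conj_le (sup_le h.W_le' (zpowers_le.2 hl))
    (IsPGroup.to_sup_of_normal_left' (h.syl.isPGroup.to_le h.W_le) l2 (zpowers_le.2 l1))
  refine mem_cent_iff_conj.2 fun w hw => ?_
  have h4 := mem_cent_iff_conj.1 (h.cent (hy (conj_mem_conj (mem_sup_right (mem_zpowers l))))) _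
    ((h.mem _).2 ⟨hy (conj_mem_conj (mem_sup_left hw)), conj_sq (h.sqW hw) y⟩)
  rw [conj_eq hc (h.W_le' hw)]
  calc _ = y⁻¹ * (y * l * y⁻¹ * (y * w * y⁻¹) * (y * l * y⁻¹)⁻¹) * y := by group
    _ = w := by rw [h4]; group

end SF

theorem SzF.le_cent {n : ℕ} (h : SzF L T W k n) (ho : Odd ♯Y) (h1 : Y ≤ 𝐍(L)) (h2 : W ≤ 𝐍(Y)) :
    Y ≤ 𝐂(L) := fun y hy => by
  have hW : IsElementaryAbelian 2 W := ⟨ab_iff_le_cent.2 (h.W_le.trans h.cent),
    fun w hw => by rw [pow_two, h.sqW hw]⟩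
  have h3 : Y ⊓ L ≤ ⊥ := gen1 hW (by have := h.four; omega) (odd_of_le ho inf_le_left)
    (le_norm_inf h2 (le_norm_of_le h.W_le')) fun w hw w1 => by
      rw [← inf_eq_bot_odd h.syl.isPGroup ho]
      exact le_inf ((inf_le_inf_right _ inf_le_right).trans (h.cc w (h.W_le hw) w1))
        (inf_le_left.trans inf_le_left)
  have h4 : Y ≤ 𝐂(W) := commutator_eq_bot_iff.1 (eq_bot_iff.2 (le_trans (le_inf
    (commutator_le_left' h2) ((commutator_mono le_rfl h.W_le').trans (commutator_le_right' h1))) h3))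
  obtain ⟨t, ht, c, hc, rfl⟩ := (mem_sup_norm_left ((cent_anti h.syl.le).trans (cent_le_norm T))).1
    (h.centW ⟨h1 hy, h4 hy⟩)
  have h5 := pow_orderOf_eq_one (t * c)
  rw [(show Commute t c from mem_cent_iff.1 hc t (h.syl.le ht)).mul_pow, mul_eq_one_iff_eq_inv] at h5
  have h6 := h.eq_one (pow_mem (h.syl.le ht) _) (h5 ▸ inv_mem (pow_mem hc _))
  have := Fact.mk Nat.prime_two
  rw [(h.syl.piGrp.piElt ht).eq_one (((odd_iff.1 ho).piElt hy).of_dvd (orderOf_dvd_of_pow_eq_one h6)),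
    one_mul]
  exact hc

theorem KK.sol (h : KK L T W k) (hw : w ∈ W) (w1 : w ≠ 1) : Sol (L ⊓ 𝐂[w] : Subgroup G) := by
  have := Fact.mk Nat.prime_two
  rcases h with ⟨n, h⟩ | ⟨rfl, f, r, c, h⟩
  · exact sol_of_le h.syl.sol (h.cc w (h.W_le hw) w1)
  have k : ∀ T m, JR.Tor L T m → w ∈ T → Sol (L ⊓ 𝐂[w] : Subgroup G) := fun T m hT hw => by
    have h1 : T ⊴ L ⊓ 𝐍(T) := ⟨le_inf hT.le le_normalizer, inf_le_right⟩
    have h2 := card_mul_card_quo h1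
    rw [hT.card_norm, ← hT.card, mul_comm, Nat.mul_left_inj Nat.card_pos.ne'] at h2
    refine sol_of_le (sol_of_normal_of_quo h1 (sol_of_ab (ab_of_isCyclic hT.cyc))
      (sol_of_isPGroup (IsPGroup.of_card (p := 2) (n := 1) h2))) ?_
    rw [← hT.norm w hw w1]
    exact inf_le_inf_left _ ((cent_zpowers w).ge.trans (cent_le_norm _))
  obtain ⟨P, hP, h1 | h1 | h1⟩ := h.part w (h.syl.le hw) w1
  · exact h1.cent w hP w1 ▸ sol_of_ab h1.elem.1
  exacts [k _ _ h1 hP, k _ _ h1 hP]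

end Cfsg.Agent.R4
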