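import Cfsg.Agent.Lib.R4.EXa
import Cfsg.Agent.Lib.R4.KF2a

/-!
# Two special configurations of strongly closed elementary abelian subgroups
-/

set_option autoImplicit false
set_option linter.unusedSectionVars false

namespace Cfsg.Agent.R4.Ex

open Subgroup Cfsg.Agent.OO Cfsg.Agent.GW Cfsg.Agent.Coprime Cfsg.Agent.SZ Cfsg.Agent.W4
open scoped commutatorElement Pointwise

universe u

variable {G : Type u} [Group G] [Finite G] {A B C H L M S W : Subgroup G} {a b k r w : G}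
  {𝓛 : Set (Subgroup G)}

theorem pc_eq_one (hA : IsElementaryAbelian 2 A) (l : PC A L W k) (hw : w ∈ W) (hc : w ∈ 𝐂(L)) :
    w = 1 := by_contra fun h1 => by
  obtain ⟨v, hv, h2, h3⟩ := exists_two ⟨ab_of_le hA.1 (l.wle.trans inf_le_left),
    fun x hx => hA.2 x (l.wle hx).1⟩ l.four (abelem_sq hA (l.wle hw).1)
  obtain ⟨j, rfl⟩ := l.cyc w hw v hv h1 h2
  exact h3 (by rw [mem_cent_iff.1 hc _ (pow_mem l.kL j), mul_inv_cancel_right])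

theorem pc_nine (hA : IsElementaryAbelian 2 A) (l : PC A L W k) (hC : C ≤ A ⊓ 𝐂(L)) (h : 2 < ♯C) :
    9 ≤ ♯A := by
  have h1 := card_sup_of_inf_eq_bot (A := W) (B := C) (.inl (le_norm_of_le_cent (le_cent_mono
    (abelem_le_cent hA) (l.wle.trans inf_le_left) (hC.trans inf_le_left))))
    (eq_bot_iff.2 fun w hw => pc_eq_one hA l hw.1 (hC hw.2).2)
  have h2 := card_le (sup_le (l.wle.trans inf_le_left) (hC.trans inf_le_left))
  have := l.four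
  nlinarith

theorem fam_eq (hA : IsElementaryAbelian 2 A) (h8 : ♯A = 8) (F : Fam A H 𝓛) {J J' : Subgroup G}
    (hJ : J ∈ 𝓛) (hJ' : J' ∈ 𝓛) : J = J' := by_contra fun e => by
  obtain ⟨W, k, l⟩ := F.cp J hJ
  obtain ⟨W', k', l'⟩ := F.cp J' hJ'
  have := pc_nine hA l'.toPC (le_inf (l.wle.trans inf_le_left) ((l.wle.trans
    (inf_le_inf_left _ le_sup_left)).trans (F.comm J hJ J' hJ' e).1)) l.four
  omega

theorem exists_cent (hA : IsElementaryAbelian 2 A) (h8 : ♯A = 8) (ha : a ∈ A) (hr : A ≤ 𝐂[r])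
    (r2 : PiElt {2} r) (F : Fam A 𝐂[r] 𝓛) (l : Cp A 𝐂[a] L W k) (h1 : r ∈ CM (O 𝐂[a]) L) :
    ∃ J ∈ 𝓛, a ∈ 𝐂(J) := by
  by_contra! e
  have hO : O 𝐂[a] ⊴ 𝐂[a] := Opi_normal _ _
  have hL := l.le.trans hO.norm
  have h2 : L ⊔ O 𝐂[a] ≤ 𝐂[a] := sup_le l.le hO.le
  set K := (L ⊔ O 𝐂[a]) ⊓ 𝐂[r]
  have hK : K ≤ 𝐍(O 𝐂[a]) := inf_le_left.trans (h2.trans hO.norm)
  have hW : W ≤ K := le_inf (l.wle.trans (inf_le_right.trans le_sup_left))
    ((l.wle.trans inf_le_left).trans hr)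
  have h3 : L ≤ K ⊔ O 𝐂[a] := by
    rw [← quo_le_quo_iff_le_sup hL hK, quo_inf_cent1 le_sup_right h1.1 ((Op'_piGrp 2 _).coprime' r2),
      quo_sup_self hL]
    exact le_inf le_rfl (le_cent1_iff.2 ((coset_mem_cent_iff h1.1 hL).2 h1.2))
  have h4 : ncl W K ≤ K := ncl_le hW (le_norm_self K)
  obtain ⟨w, hw, w1⟩ := exists_mem_ne_one (H := W) fun e => by simpa [e] using l.four
  have h5 := l.gen (ncl W K ⊔ O 𝐂[a]) (h3.trans (sup_le (le_norm_sup (norm_ncl W K) hK)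
    (le_norm_of_le le_sup_right))) w ⟨(l.wle hw).1, mem_sup_left (le_ncl W K hw)⟩
    fun e => w1 (pc_eq_one hA l.toPC hw e)
  refine l.nsol (sol_of_le (sol_sup (h4.trans hK) ?_ (sol_of_odd (odd_O _))) h5)
  have h6 : ncl W K ≤ O 𝐂[r] ⊔ A ⊔ sSup 𝓛 := (ncl_le ((l.wle.trans inf_le_left).trans (le_ncl A _))
    (inf_le_right.trans (norm_ncl A _))).trans F.ncl_le
  by_cases h7 : ∃ J, J ∈ 𝓛
  · obtain ⟨J, hJ⟩ := h7
    obtain ⟨W', k', l'⟩ := F.cp J hJ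
    have h8' := (le_ncl A _).trans l'.normA
    have h9 : ncl W K ≤ J ⊔ O 𝐂[r] ⊔ A := h6.trans (sup_le (sup_le (le_sup_right.trans le_sup_left)
      le_sup_right) (sSup_le fun J' hJ' => (fam_eq hA h8 F hJ' hJ).le.trans (le_sup_left.trans le_sup_left)))
    have h10 : der (J ⊔ O 𝐂[r] ⊔ A) ≤ J ⊔ O 𝐂[r] := by
      rw [← ab_quo_iff (normalIn_sup_left h8').norm, quo_self_sup h8']
      exact ab_quo hA.1 _
    exact sol_of_normal_of_quo (der_normal _) (sol_of_le (l'.sol a ha (e J hJ)) (le_inf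
      ((der_mono h9).trans h10) ((der_le _).trans (h4.trans (inf_le_left.trans h2)))))
      (sol_of_ab (ab_quo_of_der_le le_rfl))
  · refine sol_of_le (sol_sup (hr.trans (O_norm _)) (sol_of_ab hA.1) (sol_of_odd (odd_O _)))
      (h6.trans (sup_le (sup_comm _ A).le (sSup_le fun J hJ => (h7 ⟨J, hJ⟩).elim)))

theorem comm_mem_CM (hA : IsElementaryAbelian 2 A) (h8 : ♯A = 8) (ha : a ∈ A) (a1 : a ≠ 1)
    (l : Cp A 𝐂[a] L W k) (hn : 𝐂[a] ≤ 𝐍(L ⊔ O 𝐂[a])) (hS : IsPGroup 2 S) (h1 : A ≤ S)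
    (h2 : S ≤ 𝐂(A)) {s t : G} (hs : s ∈ S) (ht : t ∈ S) : ⁅s, t⁆ ∈ CM (O 𝐂[a]) L := by
  have := Fact.mk Nat.prime_two
  have hO : O 𝐂[a] ⊴ 𝐂[a] := Opi_normal _ _
  have hL := l.le.trans hO.norm
  have h3 := h2.trans (cent_le_cent1 ha)
  have h4 := h3.trans hO.norm
  have hW := l.wle.trans inf_le_left
  obtain ⟨Z, -, -, -, -, -, ⟨T, n, hz, e, -⟩ | ⟨f, r, c, hz, rfl, -⟩⟩ := l.kind
  · have := Nat.pow_le_pow_right two_pos hz.three
    exact absurd (pc_eq_one hA l.toPC ((eq_of_le_of_card_le hW (by omega)).ge ha)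
      (le_cent1_iff.1 l.le)) a1
  have h5 := quo_le_cent (O 𝐂[a]) (h2.trans (cent_anti hW))
  have k : ∀ s ∈ S, ∃ w ∈ W ⁒ O 𝐂[a], ∃ c ∈ S ⁒ O 𝐂[a] ⊓ 𝐂(L ⁒ O 𝐂[a]), coset _ s = w * c :=
    fun s hs => by
      have k1 := ((piGrp_singleton hS).piElt hs).coset (O 𝐂[a])
      obtain ⟨w, hw, hc, e⟩ := hz.split (hz.two _ (quo_sup_self hL ▸ coset_mem_norm _ (hn (h3 hs))) k1)
      have k2 : w ∈ W ⁒ O 𝐂[a] := hz.syl.mem_of_mem_norm hw (mem_norm_of_conj_mem fun v hv => by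
        rwa [← SF.conj_eq hc (hz.syl.le hv), mem_cent_iff_conj.1 (h5 (coset_mem_quo _ hs)) v hv])
        (k1.of_dvd (orderOf_dvd_of_pow_eq_one (e _ (pow_orderOf_eq_one _))))
      exact ⟨w, k2, _, mem_inf.2 ⟨mul_mem (inv_mem (quo_mono _ (hW.trans h1) k2)) (coset_mem_quo _ hs), hc⟩,
        (mul_inv_cancel_left _ _).symm⟩
  obtain ⟨v, hv, c, hc, e1⟩ := k s hs
  obtain ⟨w, hw, d, hd, e2⟩ := k t ht
  have h6 := h4 (der_le S (commutator_mem_commutator hs ht))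
  refine ⟨h6, (coset_mem_cent_iff h6 hL).1 ?_⟩
  have h7 := mem_cent_iff.1 (h5 (e2 ▸ coset_mem_quo _ ht)) v hv
  have h8 := mem_cent_iff.1 (h5 hc.1) w hw
  have h9 := mem_cent_iff_conj.1 (le_cent_symm h5 hv) _ (der_le _ (commutator_mem_commutator hc.1 hd.1))
  have h10 := mem_cent_iff_conj.1 (le_cent_symm h5 hw) _ (der_le _ (commutator_mem_commutator hc.1 hd.1))
  rw [coset_commutator (h4 hs) (h4 ht), e1, e2, show ⁅v * c, w * d⁆ = ⁅c, d⁆ by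
    calc _ = v * (c * w * d * c⁻¹ * d⁻¹ * w⁻¹) * (w * d * v⁻¹ * (w * d)⁻¹) := by
          rw [commutatorElement_def]; group
      _ = v * (w * ⁅c, d⁆ * w⁻¹) * v⁻¹ := by
          rw [← h8, ← conj_inv, ← h7, commutatorElement_def]; group
      _ = _ := by rw [h10, h9]]
  exact der_le _ (commutator_mem_commutator hc.2 hd.2)

theorem ab2_of_eight (h : St A) (h8 : ♯A = 8) (hc : ∀ g ∈ 𝐍(A), PiElt {2} g → g ∈ 𝐂(A))
    (hL : ∀ a ∈ A, a ≠ 1 → ∃ L W k, Cp A 𝐂[a] L W k ∧ A ⊓ 𝐂(L) = zpowers a ∧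
      𝐂[a] ≤ 𝐍(L ⊔ O 𝐂[a])) : R1.Ab2 G := by
  have := Fact.mk Nat.prime_two
  obtain ⟨S, hS, hle⟩ := exists_syl_ge (M := ⊤) le_top (h.two le_rfl)
  have h1 : S ≤ 𝐂(A) := fun s hs => hc s (h.toSC.le_norm hS.isPGroup hle hs) (hS.piGrp.piElt hs)
  have h2 : Ab S := ab_iff.2 fun s hs t ht => commutatorElement_eq_one_iff_mul_comm.1 (by_contra
    fun r1 => by
      have h3 := der_le S (commutator_mem_commutator hs ht)
      have h4 := le_cent1_iff.2 (h1 h3)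
      obtain ⟨𝓛, F⟩ := h.fam _ (h.cent1_ne r1) h4
      have k : ∀ a ∈ A, a ≠ 1 → ∃ J ∈ 𝓛, a ∈ 𝐂(J) := fun a ha a1 => by
        obtain ⟨L, W, k, l, -, hn⟩ := hL a ha a1
        exact exists_cent h.elem h8 ha h4 (hS.piGrp.piElt h3) F l
          (comm_mem_CM h.elem h8 ha a1 l hn hS.isPGroup hle h1 hs ht)
      obtain ⟨a, ha, a1⟩ := exists_mem_ne_one h.ne_bot
      obtain ⟨J, hJ, -⟩ := k a ha a1
      obtain ⟨W, k', l⟩ := F.cp J hJ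
      have := pc_nine h.elem l.toPC (C := A) (le_inf le_rfl fun b hb => by
        by_cases b1 : b = 1
        · exact b1 ▸ one_mem _
        obtain ⟨J', hJ', e⟩ := k b hb b1
        exact fam_eq h.elem h8 F hJ' hJ ▸ e) (by omega)
      omega)
  intro P hP
  obtain ⟨g, -, e⟩ := hS.exists_conj_le le_top hP
  exact ab_conj.1 (ab_of_le h2 e)

theorem sc_sup (hG : MC G) (hA : SC A) (hB : SC B) (h1 : ♯A = 4) (h2 : ♯B = 4) (hc : B ≤ 𝐂(A)) :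
    SC (A ⊔ B) ∧ 𝐍(A ⊔ B) ≤ 𝐍(A) ⊓ 𝐍(B) ∧ ∀ M, 𝐍(A ⊔ B) ≤ M → 𝐂(B) ≤ M → 𝐍(B) ≤ M := by
  have := Fact.mk Nat.prime_two
  have := hG.simple
  have hE := abelem_sup hA.elem hB.elem (le_cent_symm hc)
  have k1 : ∀ (C T : Subgroup G) (g : G), SC C → IsPGroup 2 T → C ≤ T → g •ᶜ C ≤ T → g ∈ 𝐍(C) :=
    fun C T g hC hT e1 e2 => mem_norm_of_conj_mem fun x hx => hC.cl T hT e1 x hx g (e2 (conj_mem_conj hx))
  have k2 : ∀ (T : Subgroup G) (g : G), IsPGroup 2 T → A ⊔ B ≤ T → g •ᶜ (A ⊔ B) ≤ T →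
      g ∈ 𝐍(A) ⊓ 𝐍(B) := fun T g hT e1 e2 =>
    ⟨k1 A T g hA hT (le_sup_left.trans e1) ((conj_mono g le_sup_left).trans e2),
      k1 B T g hB hT (le_sup_right.trans e1) ((conj_mono g le_sup_right).trans e2)⟩
  have k3 : ∀ S, Syl 2 S ⊤ → A ⊔ B ≤ S → S ≤ 𝐂(A) ∧ S ≤ 𝐂(B) := fun S hS e =>
    ⟨(hA.exists_q4 hG.nab hG.s3f h1 hS (le_sup_left.trans e)).1,
      (hB.exists_q4 hG.nab hG.s3f h2 hS (le_sup_right.trans e)).1⟩
  refine ⟨⟨hE, fun T hT e x hx g hg => ?_⟩, fun g hg => k2 _ g (abelem_isPGroup hE) le_rfl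
    (conj_eq_of_mem_norm hg).le, fun M e1 e2 => ?_⟩
  · obtain ⟨S, hS, hle⟩ := exists_syl_ge le_top hT
    have h3 := le_cent_sup (k3 S hS (e.trans hle)).1 (k3 S hS (e.trans hle)).2
    obtain ⟨c, hc, h4⟩ := ((hS.conj_of_mem (mem_top g)).mono (cent1_conj g x ▸ conj_mono g
      (h3.trans (cent_le_cent1 hx))) le_top).exists_conj_le (le_cent1_iff.2 (h3 (hle hg)))
      (abelem_isPGroup hE)
    have h5 := k2 S (g⁻¹ * c) hS.isPGroup (e.trans hle) (by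
      rw [← conj_conj, ← le_conj_iff_inv_conj_le]; exact h4)
    have h6 := conj_mem_of_norm' (mem_norm_sup h5.1 h5.2) hx
    rwa [show (g⁻¹ * c)⁻¹ * x * (g⁻¹ * c) = c⁻¹ * (g * x * g⁻¹) * c⁻¹⁻¹ by group,
      mem_cent1_iff_conj.1 (inv_mem hc)] at h6
  · obtain ⟨S, hS, hle⟩ := exists_syl_ge le_top (abelem_isPGroup hE)
    refine ((hS.mono (k3 S hS hle).2 le_top).frattini ⟨cent_le_norm B, norm_le_norm_cent B⟩).sup_eq.ge.trans
      (sup_le e2 fun g hg => e1 ?_)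
    have h5 := k2 S g hS.isPGroup hle (conj_le_of_mem_norm hg.2 hle)
    exact mem_norm_sup h5.1 h5.2

end Cfsg.Agent.R4.Ex
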