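import Cfsg.Agent.Lib.R4.EXc
import Cfsg.Agent.Lib.R4.EXe
import Cfsg.Agent.Lib.R4.KF

/-!
# Packages EX and EX2
-/

set_option autoImplicit false
set_option linter.unusedSectionVars false

namespace Cfsg.Agent.R4.Ex

open Subgroup Cfsg.Agent.OO Cfsg.Agent.GW Cfsg.Agent.Coprime Cfsg.Agent.SZ Cfsg.Agent.W4
open scoped commutatorElement Pointwise

universe u

variable {G : Type u} [Group G] [Finite G] {A B C C' D E H K L L' M N U V W W' X Y Z : Subgroup G}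
  {a b c d g j k m n w x y : G} {𝓛 : Set (Subgroup G)}

theorem st_of (kf2 : KF2.{u}) (hG : MC G) (hA : SC A) (h8 : 8 ≤ ♯A) : St A :=
  ⟨hG, hA, h8, fun H h0 h1 => by
    obtain ⟨T, hT, h2⟩ := exists_syl_ge h1 (abelem_isPGroup hA.elem)
    exact kf2 G A H T hG.s3f (hG.ky.mono (card_top (G := G) ▸ card_lt_of_lt (lt_top_iff_ne_top.2 h0)))
      hT h2 hA.elem (hA.scl hT.isPGroup h2 H)⟩

theorem irr_of (hA : MinSC A) : Irr A := fun X hX hn => by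
  obtain ⟨S, hS, hle⟩ := exists_syl_ge (M := ⊤) le_top (abelem_isPGroup hA.elem)
  refine hA.min X ⟨⟨ab_of_le (abelem_ab hA.elem) hX, fun x hx => hA.elem.2 x (hX hx)⟩,
    fun T hT h1 a ha g hg => ?_⟩ hX
  obtain ⟨x, -, h2⟩ := hS.exists_conj_le le_top hT
  obtain ⟨n, h3, e⟩ := (hA.toSC.ctl hS hle X (hX.trans hle) x (mem_top x)
    ((conj_mono x h1).trans h2)).conj_eq
  obtain ⟨m, h4, e'⟩ := (hA.toSC.ctl hS hle).elt (hle (hX ha)) (mem_top (x * g))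
    (by simpa [mul_assoc] using h2 (conj_mem_conj (g := x) hg))
  have h5 := conj_mem_of_norm (hn h4.2) ha
  rw [← e', ← conj_eq_of_mem_norm (hn h3.2), ← e, mem_conj] at h5
  simpa [mul_assoc] using h5

theorem Mx.two (h : St A) (p : Mx A W C) (hg : g ∈ 𝐍(A) ⊓ 𝐍(C)) (h2 : PiElt {2} g) (ha : a ∈ A) :
    g * a * g⁻¹ * a⁻¹ ∈ C := by
  have hA := h.le_cent p.cle
  obtain ⟨𝓛, F⟩ := h.fam _ (h.cent_ne p.1.1) hA
  obtain ⟨L, hL, e, -⟩ := p.pu' h hA F p.cle p.1.1 le_rfl le_rfl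
  obtain ⟨V, k, l⟩ := F.cp L hL
  have h1 := norm_le_norm_cent C hg.2
  have h3 := le_norm_O le_rfl h1
  obtain ⟨L', hL', e', h4⟩ := p.pu h hA F p.cle p.1.1 le_rfl (conj_le_of_mem_norm h1 l.le)
    (l.toPC.conj hg.1) (by
      rw [cent_conj, ← conj_eq_of_mem_norm hg.1, ← conj_inf, e, conj_eq_of_mem_norm hg.2])
  obtain rfl : L = L' := by_contra fun h5 => l.toPC.lin.not_le h
    ((le_inf l.toPC.lin.wle (l.wle'.trans (F.comm L hL L' hL' h5).1)).trans (e'.trans e.symm).le)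
  exact e ▸ ⟨A.mul_mem (conj_mem_of_norm hg.1 ha) (A.inv_mem ha), l.two g ⟨⟨h3, hg.1⟩,
    mem_norm_of_conj_le (by
      rw [conj_sup, conj_eq_of_mem_norm h3]; exact sup_le h4 le_sup_right)⟩ h2 a ha⟩

theorem Mx.lt (h : St A) (hi : Irr A)
    (h8 : ♯A = 8 → (∀ g ∈ 𝐍(A), PiElt {2} g → g ∈ 𝐂(A)) → (∀ a ∈ A, a ≠ 1 → ∃ L W k,
      Cp A 𝐂[a] L W k ∧ A ⊓ 𝐂(L) = zpowers a ∧ 𝐂[a] ≤ 𝐍(L ⊔ O 𝐂[a])) → False)
    (p : Mx A W C) : ♯W < ♯C := by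
  by_contra! hle
  obtain ⟨k, l⟩ := p.1.lin
  have ti : ∀ n ∈ 𝐍(A), n •ᶜ C ≠ C → n •ᶜ C ⊓ C = ⊥ := fun n hn e => by_contra fun e' =>
    (p.tri0 h (p.1.conj hn) e').elim (fun h1 => e (eq_of_le_of_card_le h1 (card_conj n C).le).symm)
      fun h1 => e' (by rw [← eq_of_le_of_card_le h1.2 ((card_conj n C).le.trans hle), l.inf h])
  have h1 := fun g hg => l.two_cent (g := g) h ti hi p.1.1 (fun g hg h2 a => p.two h hg h2) hg
  obtain ⟨n, hn, h2⟩ := l.exists_le h ti hi p.1.1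
  by_cases h3 : 16 ≤ ♯A
  · exact l.ti_false h ti (ns_of h.ab h1) h3 p.1.1 hn fun e =>
      p.1.1 (eq_bot_iff.2 (l.inf h ▸ le_inf (e.ge.trans h2) le_rfl))
  have h4 : ♯A = 8 := by
    obtain ⟨i, hi⟩ := (h.two le_rfl).exists_card_eq
    have := h.big
    rw [hi] at this h3 ⊢
    obtain rfl : i = 3 := le_antisymm
      (Nat.le_of_lt_succ ((Nat.pow_lt_pow_iff_right one_lt_two).1 (by omega)))
      ((Nat.pow_le_pow_iff_right one_lt_two).1 (by omega))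
    rfl
  have h5 : ♯C ≤ 2 := by
    have := l.card h
    have := l.four
    nlinarith
  refine h8 h4 h1 fun a ha a1 => ?_
  obtain ⟨m, hm, h6⟩ := l.cover0 h ti hi p.1.1 ha a1
  have h7 : ♯(zpowers a) = 2 := by rw [Nat.card_zpowers, orderOf_eq_two (h.sq ha) a1]
  have e := eq_of_le_of_card_le (zpowers_le.2 h6) (by rwa [card_conj, h7])
  obtain ⟨𝓛, F⟩ := h.fam _ (h.cent1_ne a1) (h.le_cent1 ha)
  obtain ⟨L, hL, e', -⟩ := (p.conj hm).pu' h (h.le_cent1 ha) F (zpowers_le.2 ha) (by simpa using a1)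
    (cent_zpowers a).ge (cent_le_cent1 h6)
  obtain ⟨V, j, c⟩ := F.cp L hL
  refine ⟨L, V, j, c, e'.trans e.symm, fun g hg => ?_⟩
  obtain ⟨L', hL', h9⟩ := F.perm g hg L hL
  obtain rfl : L' = L := by_contra fun h10 => by
    obtain ⟨V', j', c'⟩ := F.cp L' hL'
    have := card_le ((le_inf c'.toPC.lin.wle (c'.wle'.trans (F.comm L' hL' L hL h10).1)).trans
      (e'.trans e.symm).le)
    have := c'.four
    omega
  exact conj_eq_self_iff.1 h9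

theorem exists_dse (h : St A) (h1 : ∀ {W C : Subgroup G}, Mx A W C → ♯W < ♯C) :
    ∃ M, DSE A M := by
  have h2 : ∀ W C W' C', Mx A W C → Mx A W' C' → C ⊓ C' ≠ ⊥ := fun W C W' C' p q e => by
    obtain ⟨k, l⟩ := p.1.lin
    obtain ⟨k', l'⟩ := q.1.lin
    have h2 := card_le (sup_le l.cle l'.cle)
    rw [card_sup_of_inf_eq_bot (.inl (l.cle.trans (h.le_norm l'.cle))) e] at h2
    have := l.card h
    have := l'.card h
    have := h1 p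
    have := h1 q
    nlinarith
  refine Su.exists_se ⟨h, fun {W C W' C'} p q => ?_, fun p => ?_⟩ h2
  · obtain ⟨W'', C'', r, h3⟩ := q.exists_mx
    exact p.tri0 h q (ne_bot_of_le_ne_bot (h2 _ _ _ _ r p) (inf_le_inf_right _ h3))
  · exact p.1.lin.elim fun _ l => l.four.trans (h1 p)

theorem exists_dse2 (h : St (U ⊔ D)) (hU : SC U) (hD : SC D) (u4 : ♯U = 4) (d4 : ♯D = 4)
    (h0 : U ⊓ D = ⊥) (hn : 𝐍(U ⊔ D) ≤ 𝐍(U) ⊓ 𝐍(D))
    (nU : ∀ M, 𝐍(U ⊔ D) ≤ M → 𝐂(U) ≤ M → 𝐍(U) ≤ M) (nD : ∀ M, 𝐍(U ⊔ D) ≤ M → 𝐂(D) ≤ M → 𝐍(D) ≤ M) :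
    ∃ A M : Subgroup G, DSE A M := by
  have h16 : ♯(U ⊔ D) = 16 := by
    rw [card_sup_of_inf_eq_bot (.inl (le_sup_left.trans (h.le_norm le_sup_right))) h0, u4, d4]
  have k : ∀ W C X Y : Subgroup G, Pr (U ⊔ D) W C → ♯X = 4 → ♯Y = 4 → W ≤ X → Y ≤ C →
      W = X ∧ C = Y := fun W C X Y p x4 y4 h1 h2 => by
    obtain ⟨k, l⟩ := p.lin
    have h3 := l.card h
    have h4 := l.four
    have h5 : ♯W = 4 := by
      have h5 := card_le h1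
      have h6 := card_dvd h1
      rw [x4] at h5 h6
      interval_cases ♯W <;> simp_all
    exact ⟨eq_of_le_of_card_le h1 (by omega), (eq_of_le_of_card_le h2 (by
      rw [h5, h16] at h3; omega)).symm⟩
  have h1 : ∀ {W C : Subgroup G}, Pr (U ⊔ D) W C → W = U ∧ C = D ∨ W = D ∧ C = U := fun p => by
    obtain ⟨j, l⟩ := p.lin
    rcases l.dich h le_sup_left (hn l.kn).1 with e | e <;>
      rcases l.dich h le_sup_right (hn l.kn).2 with e' | e'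
    · exact (l.ne_bot h (eq_bot_iff.2 (h0 ▸ le_inf e e'))).elim
    · exact .inl (k _ _ _ _ p u4 d4 e e')
    · exact .inr (k _ _ _ _ p d4 u4 e' e)
    · exact (l.not_le h (l.wle.trans (sup_le e e'))).elim
  have h2 : Su (U ⊔ D) := ⟨h, fun p q => by
    rcases h1 p.1 with ⟨rfl, rfl⟩ | ⟨rfl, rfl⟩ <;> rcases h1 q with ⟨rfl, rfl⟩ | ⟨rfl, rfl⟩ <;> simp,
    fun p => by rcases h1 p.1 with ⟨-, rfl⟩ | ⟨-, rfl⟩ <;> omega⟩
  by_contra! e
  have k2 : ∀ X : Subgroup G, SC X → ♯X = 4 → (∀ M, 𝐍(U ⊔ D) ≤ M → 𝐂(X) ≤ M → 𝐍(X) ≤ M) →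
      ∀ M : Subgroup G, M ≠ ⊤ → 𝐍(U ⊔ D) ≤ M → (∀ d ∈ X, d ≠ 1 → 𝐂[d] ≤ M) → False :=
    fun X h3 h4 h5 M h6 h7 h8 => by
      obtain ⟨d, hd, d1⟩ := exists_mem_ne_one (show X ≠ ⊥ by rintro rfl; simp at h4)
      exact e X M ⟨h.toMC, h3, h4.ge, h6, h5 M h7 ((cent_le_cent1 hd).trans (h8 d hd d1)), h8⟩
  have t : Mx (U ⊔ D) U D → Mx (U ⊔ D) D U → False := fun p q => h2.not_tf ⟨p, q, h1,
    hn.trans inf_le_left, hn.trans inf_le_right, k2 D hD d4 nD, k2 U hU u4 nU⟩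
  obtain ⟨M, h3⟩ := h2.exists_se fun W C W' C' p q e' => by
    rcases h1 p.1 with ⟨rfl, rfl⟩ | ⟨rfl, rfl⟩ <;> rcases h1 q.1 with ⟨rfl, rfl⟩ | ⟨rfl, rfl⟩
    · exact p.1.1 (by simpa using e')
    · exact t p q
    · exact t q p
    · exact p.1.1 (by simpa using e')
  exact e _ M h3

end Cfsg.Agent.R4.Ex

namespace Cfsg.Agent.R4

open Subgroup Cfsg.Agent.OO Ex

universe u

/-- package EX -/
theorem ex : EX.{u} := fun G _ _ A hG hA h8 => or_iff_not_imp_right.2 fun h0 =>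
  have h := st_of kf2 hG hA.toSC h8
  exists_dse h fun p => p.lt h (irr_of hA) fun h1 h2 h3 => h0 (ab2_of_eight h h1 h2 h3)

/-- package EX2 -/
theorem ex2 : EX2.{u} := fun G _ _ A B hG hA hB a4 b4 h0 hc => by
  obtain ⟨h1, h2, h3⟩ := sc_sup hG hA hB a4 b4 hc
  obtain ⟨-, -, h4⟩ := sc_sup hG hB hA b4 a4 (le_cent_symm hc)
  rw [sup_comm] at h4
  refine exists_dse2 (st_of kf2 hG h1 ?_) hA hB a4 b4 h0 h2 h4 h3
  rw [card_sup_of_inf_eq_bot (.inr (le_norm_of_le_cent hc)) h0, a4, b4]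
  norm_num

end Cfsg.Agent.R4
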