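import Cfsg.Agent.Lib.R4.Main
import Cfsg.Agent.Lib.R4.KF
import Cfsg.Agent.Lib.R4.EXd
import Cfsg.Agent.Lib.R4.DE1
import Cfsg.Agent.Lib.R4.DE2
import Cfsg.Agent.Lib.R4.DE3
import Cfsg.Agent.Lib.R4.AB

/-!
# The classification of the simple `S₃`-free groups
-/

namespace Cfsg.Agent.R4

universe u

theorem s3c : S3C.{u} := s3c_of kf2 ex ex2 de1 (de2 kf1 kf3) (de3 kf3) ab

end Cfsg.Agent.R4
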