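import Cfsg.Agent.Lib.W3.Base
import Cfsg.Agent.Lib.SZ.Basic

/-!
# `p`-stability for classes of groups closed under sections, in particular for `S₃`-free groups
-/

set_option autoImplicit false

namespace Cfsg.Agent.R4

open Subgroup Cfsg.Agent.Core
open scoped commutatorElement Pointwise

universe u

/-- a condition which excludes `SL₂(p ^ n)` -/
def WQ (p : ℕ) (H : Type*) [Group H] : Prop := (∀ x y : H, orderOf x = 2 → orderOf y = 2 → x = y) →
  (p ≠ 3 → 3 ∣ Nat.card H → ∃ x g : H, 3 ∣ orderOf x ∧ g * x * g⁻¹ = x⁻¹) → HasNormalPComplement 2 H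

/-- all sections of `M` satisfy `WQ p` -/
def SQ {G : Type u} [Group G] (p : ℕ) (M : Subgroup G) : Prop :=
  ∀ L ≤ M, ∀ (H : Type u) [Group H] (f : L →* H), Function.Surjective f → WQ p H

theorem SQ.mono {G : Type u} [Group G] {p : ℕ} {M L : Subgroup G} (h : SQ p M) (hL : L ≤ M) :
    SQ p L := fun K hK => h K (hK.trans hL)

theorem wq_of_s3f {H : Type u} [Group H] [Finite H] {p : ℕ} (hp : p ≠ 3) (h : SZ.S3F H) : WQ p H := by
  intro h1 h2
  have h3 : ¬ 3 ∣ Nat.card H := fun e => by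
    obtain ⟨x, g, hx, hg⟩ := h2 hp e
    exact h.not_dvd hg hx
  obtain ⟨P⟩ : Nonempty (Sylow 2 H) := inferInstance
  refine Transfer.frobenius_of_coprime_centralizes P fun X hX _ g hg hg2 =>
    Schur.mem_centralizer_of_rank_le (P.isPGroup'.to_le hX) (d := 2) ?_ hg hg2 (by
      rw [show ∏ i ∈ Finset.Icc 1 2, (2 ^ i - 1) = 3 by decide, Nat.coprime_comm,
        Nat.prime_three.coprime_iff_not_dvd]
      exact fun e => h3 (e.trans (_root_.orderOf_dvd_natCard g)))
  rcases PGrp.isCyclic_or_quaternion_gens_of_rank_le_one (P.isPGroup'.to_le hX)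
    (PGrp.rank_le_one_of_unique fun x y hx hy => by
      rw [show y = x from Subtype.ext (h1 _ _ (by rwa [orderOf_coe]) (by rwa [orderOf_coe]))]
      exact mem_zpowers x) with hc | ⟨-, n, x, y, -, h1, h2, -⟩
  · exact Schur.rank_le_two_of_index_le_two (C := ⊤) (by simp)
  · refine Schur.rank_le_two_of_index_le_two (C := zpowers x) (le_of_eq ?_)
    have := (zpowers x).card_mul_index
    rw [Nat.card_zpowers, h1, h2, pow_succ] at this
    exact Nat.eq_of_mul_eq_mul_left (by positivity) this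

theorem sq_of_s3f {G : Type u} [Group G] [Finite G] {p : ℕ} (hp : p ≠ 3) (h : SZ.S3F G)
    (M : Subgroup G) : SQ p M := fun L _ _ _ f hf =>
  have := Finite.of_surjective f hf
  wq_of_s3f hp ((h.sub L).of_surjective f hf)

section Ring

variable {R : Type*} [Ring R] {H : Type*} [Group H]

theorem isPGroup_of_quad [Finite H] {p : ℕ} [hp : Fact p.Prime] (hp2 : p ≠ 2)
    (hR : (p : R) = 0) (ρ : H →* R) (hρ : Function.Injective ρ)
    (hdom : ∀ s : R, (∀ h, Commute s (ρ h)) → s = 0 ∨ ∀ x, s * x = 0 → x = 0) {a b : H}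
    (hgen : closure ({a, b} : Set H) = ⊤) (ha : (ρ a - 1) * (ρ a - 1) = 0)
    (hb : (ρ b - 1) * (ρ b - 1) = 0) (h2 : WQ p H) : IsPGroup p H := by
  have ht := commute_trace ρ hgen (add_sub_cancel _ _).symm (add_sub_cancel _ _).symm ha hb
  have hinv : ∀ x, ρ x * ρ x⁻¹ = 1 := fun x => by rw [← map_mul, mul_inv_cancel, map_one]
  have hinv' : ∀ x, ρ x⁻¹ * ρ x = 1 := fun x => by rw [← map_mul, inv_mul_cancel, map_one]
  have hU : ∀ x, (ρ x - 1) * (ρ x - 1) = 0 → x ^ p = 1 := fun x hx => hρ (by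
    rw [map_pow, ← add_sub_cancel 1 (ρ x), one_add_pow_of_sq_eq_zero hx, hR, zero_mul, add_zero,
      map_one])
  have ht2 : ∀ x y, Commute (ρ x + ρ x⁻¹ - 2) (ρ y) := fun x y =>
    (ht x y).sub_left (Commute.ofNat_left 2 _)
  have hU' : ∀ x, (orderOf x).Coprime p → ρ x + ρ x⁻¹ - 2 = 0 → x = 1 := fun x hc hx =>
    orderOf_eq_one_iff.1 (hc.eq_one_of_dvd (orderOf_dvd_of_pow_eq_one (hU x (by
      have : (ρ x - 1) * (ρ x - 1) = ρ x * (ρ x + ρ x⁻¹ - 2) := by
        rw [mul_sub (ρ x), mul_add, hinv]; noncomm_ring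
      rw [this, hx, mul_zero]))))
  have h3 : ∀ (r : ℕ) [Fact r.Prime], r ≠ p → HasNormalPComplement r H → ¬ r ∣ Nat.card H := by
    intro r hr hrp h1
    have h3 : pResidual r H = ⊤ := by
      rw [eq_top_iff, ← hgen, closure_le]
      have k : ∀ x : H, x ^ p = 1 → x ∈ pResidual r H := fun x hx =>
        Transfer.mem_pResidual_of_coprime (Nat.Coprime.coprime_dvd_left
          (orderOf_dvd_of_pow_eq_one hx) ((Nat.coprime_primes hp.out hr.out).2 hrp.symm))
      rintro x (rfl | rfl)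
      exacts [k _ (hU _ ha), k _ (hU _ hb)]
    rwa [Transfer.hasNormalPComplement_iff_not_dvd_pResidual, h3, card_top] at h1
  have step : ∀ (r : ℕ) [Fact r.Prime], r ≠ p → ∀ S : Sylow r H,
      IsMulCommutative (S : Subgroup H) → (∀ g : H, ∀ x ∈ (S : Subgroup H), g * x * g⁻¹ = x⁻¹ →
        x * g = g * x) → ¬ r ∣ Nat.card H := by
    intro r hr hrp S hS hodd
    have hcop : ∀ x ∈ (S : Subgroup H), (orderOf x).Coprime p := fun x hx => by
      obtain ⟨k, hk⟩ := exists_orderOf_eq_pow_of_mem S.isPGroup' hx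
      rw [hk]
      exact ((Nat.coprime_primes hr.out hp.out).2 hrp).pow_left k
    refine h3 r hrp (Schur.hasNormalPComplement_of_abelian_of_coprime S hS fun g hg _ x hx => ?_)
    · obtain ⟨y, hydef⟩ : ∃ y, y = g * x * g⁻¹ := ⟨_, rfl⟩
      have hy : y ∈ (S : Subgroup H) := hydef ▸ (mem_normalizer_iff.1 hg x).1 hx
      have hxy : Commute x y := PGrp.isMulCommutative_iff_mem.1 hS x hx y hy
      have e : ρ x + ρ x⁻¹ = ρ y + ρ y⁻¹ := by
        rw [hydef, conj_inv, map_mul, map_mul, map_mul, map_mul, ← add_mul, ← mul_add,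
          ← (ht x g).eq, mul_assoc, hinv, mul_one]
      have c1 : Commute (ρ x⁻¹) (ρ y) := hxy.inv_left.map ρ
      have c2 : Commute (ρ x) (ρ y) := hxy.map ρ
      have c3 : Commute (ρ x⁻¹) (ρ y⁻¹) := hxy.inv_inv.map ρ
      have e1 : (ρ y - ρ x) * (ρ y - ρ x⁻¹) = 0 := by
        rw [sub_mul, mul_sub, mul_sub, hinv, ← c1.eq, ← hinv' y, sub_sub, add_sub, ← add_mul,
          add_comm (ρ x⁻¹), e, add_mul]
        abel
      have e2 : ρ (x * y⁻¹) + ρ (x * y⁻¹)⁻¹ - 2 = -((ρ y - ρ x) * (ρ y⁻¹ - ρ x⁻¹)) := by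
        rw [mul_inv_rev, inv_inv, map_mul, map_mul, sub_mul, mul_sub, mul_sub, hinv, hinv,
          ← one_add_one_eq_two]
        abel
      have e3 : ρ (x * y) + ρ (x * y)⁻¹ - 2 = -((ρ y - ρ x⁻¹) * (ρ y⁻¹ - ρ x)) := by
        rw [mul_inv_rev, map_mul, map_mul, sub_mul, mul_sub, mul_sub, hinv, hinv', c2.eq, c3.eq,
          ← one_add_one_eq_two]
        abel
      have c4 : Commute (ρ y⁻¹ - ρ x⁻¹) (ρ y - ρ x⁻¹) :=
        (((Commute.refl y).inv_left.map ρ).sub_right c3.symm).sub_left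
          (c1.sub_right (Commute.refl _))
      rcases hdom _ (ht2 (x * y⁻¹)) with h | h
      · have := hU' _ (hcop _ (mul_mem hx (inv_mem hy))) h
        rw [mul_inv_eq_one, hydef, eq_mul_inv_iff_mul_eq] at this
        exact this
      · have := hU' _ (hcop _ (mul_mem hx hy)) (h _ (by
          rw [e2, e3, neg_mul_neg, mul_assoc, ← mul_assoc (ρ y⁻¹ - ρ x⁻¹), c4.eq, ← mul_assoc,
            ← mul_assoc, e1, zero_mul, zero_mul]))
        exact hodd g x hx (hydef ▸ eq_inv_of_mul_eq_one_right this)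
  have habel : ∀ (r : ℕ) [Fact r.Prime], r ≠ p → r ≠ 2 → ∀ S : Sylow r H, r ∣ Nat.card H →
      IsMulCommutative (S : Subgroup H) := by
    intro r hr hrp hr2 S hd
    obtain ⟨z, ⟨hz, hzc⟩, hz1⟩ := (bot_or_exists_ne_one _).resolve_left (PGrp.inf_centralizer_ne_bot
      S.isPGroup' S.isPGroup' le_normalizer (S.ne_bot_of_dvd_card hd))
    have hz2 : (orderOf z).Coprime 2 := by
      obtain ⟨k, hk⟩ := exists_orderOf_eq_pow_of_mem S.isPGroup' hz
      rw [hk]
      exact ((Nat.coprime_primes hr.out Nat.prime_two).2 hr2).pow_left k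
    have e : (ρ z - ρ z⁻¹) * (ρ z - ρ z⁻¹) = ρ (z * z) + ρ (z * z)⁻¹ - 2 := by
      rw [mul_inv_rev, map_mul, map_mul, sub_mul, mul_sub, mul_sub, hinv, hinv',
        ← one_add_one_eq_two]
      abel
    have hd := (hdom _ (ht2 (z * z))).resolve_left fun h => by
      obtain ⟨k, hk⟩ := exists_orderOf_eq_pow_of_mem S.isPGroup' (mul_mem hz hz)
      have := hU' _ (by rw [hk]; exact ((Nat.coprime_primes hr.out hp.out).2 hrp).pow_left k) h
      exact hz1 (orderOf_eq_one_iff.1 ((hz2).eq_one_of_dvd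
        (orderOf_dvd_of_pow_eq_one (by rwa [pow_two]))))
    refine PGrp.isMulCommutative_iff_mem.2 fun y hy w hw => hρ ?_
    have cy : Commute y z := hzc y hy
    have cw : Commute w z := hzc w hw
    have e1 : (ρ z - ρ z⁻¹) * ρ y = ρ (z * y) + ρ (z * y)⁻¹ - (ρ z + ρ z⁻¹) * (ρ y + ρ y⁻¹) +
        (ρ y + ρ y⁻¹) * ρ z := by
      rw [mul_inv_rev, map_mul, map_mul, add_mul (ρ y), (cy.map ρ).eq, (cy.inv_left.map ρ).eq,
        (cy.inv_inv.map ρ).eq]
      noncomm_ring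
    have c1 : Commute ((ρ z - ρ z⁻¹) * ρ y) (ρ w) := by
      rw [e1]
      exact ((ht _ w).sub_left ((ht _ w).mul_left (ht _ w))).add_left
        ((ht _ w).mul_left (cw.symm.map ρ))
    have c2 : Commute (ρ z - ρ z⁻¹) (ρ w) := (cw.symm.map ρ).sub_left (cw.symm.inv_left.map ρ)
    rw [map_mul, map_mul, ← sub_eq_zero]
    refine hd _ ?_
    rw [← e, mul_assoc, mul_sub _ (ρ y * ρ w), ← mul_assoc _ (ρ y), c1.eq, c2.left_comm, sub_self,
      mul_zero]
  have hneg : ∀ x : H, orderOf x = 2 → ρ x = -1 := fun x hx => by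
    have x2 : x * x = 1 := by rw [← sq, ← hx, pow_orderOf_eq_one]
    have h1 := (hdom _ (ht2 x)).resolve_left fun h => by
      have := hU' x (by rw [hx]; exact (Nat.coprime_primes Nat.prime_two hp.out).2 hp2.symm) h
      simp [this] at hx
    refine eq_neg_of_add_eq_zero_left (h1 _ ?_)
    have h4 : ρ x * ρ x = 1 := by rw [← map_mul, x2, map_one]
    rw [inv_eq_of_mul_eq_one_right x2, ← one_add_one_eq_two]
    simp only [add_mul, sub_mul, mul_add, h4, mul_one, one_mul]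
    abel
  have hodd : ¬ 2 ∣ Nat.card H := h3 2 hp2.symm (h2 (fun x y hx hy => hρ ((hneg x hx).trans
    (hneg y hy).symm)) fun hp3 hd => by_contra fun e => by
      have : Fact (Nat.Prime 3) := ⟨Nat.prime_three⟩
      refine step 3 hp3.symm default (habel 3 hp3.symm (by decide) _ hd) (fun g x hx h => ?_) hd
      obtain ⟨k, hk⟩ := exists_orderOf_eq_pow_of_mem (default : Sylow 3 H).isPGroup' hx
      rcases k with _ | k
      · simp [orderOf_eq_one_iff.1 hk]
      · exact absurd ⟨x, g, hk ▸ dvd_pow_self 3 k.succ_ne_zero, h⟩ e)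
  refine isPGroup_iff_forall_prime_dvd.2 fun r hr hd => by_contra fun hrp => ?_
  have := Fact.mk hr
  refine step r hrp default (habel r hrp (fun e => hodd (e ▸ hd)) _ hd) (fun g x _ k1 => ?_) hd
  have k2 : g ^ 2 ∈ centralizer {x} := by
    rw [mem_centralizer_singleton_iff, ← mul_inv_eq_iff_eq_mul, pow_two, mul_inv_rev,
      mul_assoc g g x, ← mul_assoc, mul_assoc g (g * x), k1, ← conj_inv, k1, inv_inv]
  exact (mem_centralizer_singleton_iff.1 (zpowers_le.2 k2 (mem_zpowers_pow_iff.2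
    (Nat.coprime_two_left.2 (Nat.odd_iff.2 (Nat.two_dvd_ne_zero.1
      fun h => hodd (h.trans (orderOf_dvd_natCard g)))))))).symm

end Ring

theorem rep_trivial_of_quad {L : Type*} [Group L] [Finite L] {p : ℕ} [hp : Fact p.Prime]
    (hp2 : p ≠ 2) {a b : L} (hgen : closure ({a, b} : Set L) = ⊤)
    (h2 : ∀ (H : Type u) [Group H] (f : L →* H), Function.Surjective f → WQ p H) {g : L}
    (hg : (orderOf g).Coprime p) (n : ℕ) : ∀ (V : Type u) [AddCommGroup V] [Finite V],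
      Nat.card V = n → (∀ v : V, p • v = 0) → ∀ ρ : Representation ℤ L V,
      (∀ v, ρ a (ρ a v - v) = ρ a v - v) → (∀ v, ρ b (ρ b v - v) = ρ b v - v) →
      ∀ v, ρ g v = v := by
  induction n using Nat.strong_induction_on with
  | h n ih =>
  intro V _ _ hn hV ρ ha hb
  by_cases hdom : ∀ s : Module.End ℤ V, (∀ h, Commute s (ρ h)) → s = 0 ∨ ∀ x, s * x = 0 → x = 0
  · have hq : ∀ c, (∀ v, ρ c (ρ c v - v) = ρ c v - v) → (ρ c - 1) * (ρ c - 1) = 0 :=
      fun c hc => LinearMap.ext fun v => by simp [hc v]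
    have hf := (ρ.toHomUnits).rangeRestrict_surjective
    have := Finite.of_surjective _ hf
    have hP := isPGroup_of_quad hp2 (LinearMap.ext fun v => by simp [hV v])
      ((Units.coeHom _).comp ρ.toHomUnits.range.subtype)
      (Units.val_injective.comp (subtype_injective _))
      (fun s hs => hdom s fun h => hs (ρ.toHomUnits.rangeRestrict h))
      (a := ρ.toHomUnits.rangeRestrict a) (b := ρ.toHomUnits.rangeRestrict b)
      (by rw [← Set.image_pair, ← MonoidHom.map_closure, hgen, map_top_of_surjective _ hf])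
      (hq a ha) (hq b hb) (h2 _ _ hf)
    obtain ⟨k, hk⟩ := hP (ρ.toHomUnits.rangeRestrict g)
    have := orderOf_eq_one_iff.1 (((hg.coprime_dvd_left (orderOf_map_dvd _ g)).pow_right
      k).eq_one_of_dvd (orderOf_dvd_of_pow_eq_one hk))
    exact fun v => LinearMap.congr_fun (congrArg (fun x => (x.1 : Module.End ℤ V)) this) v
  push Not at hdom
  obtain ⟨s, hs, hs0, x, hx, hx0⟩ := hdom
  have key : ∀ W : Submodule ℤ V, W ≠ ⊤ → (∀ h, W ≤ W.comap (ρ h)) → ∀ w ∈ W, ρ g w = w :=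
    fun W hW hinv w hw => congrArg Subtype.val (ih _ (hn ▸ Finite.card_subtype_lt
      (p := (· ∈ W)) (Classical.choose_spec (not_forall.1 (mt Submodule.eq_top_iff'.2 hW)))) W rfl
      (fun v => Subtype.ext (hV v)) (ρ.subrepresentation W hinv) (fun v => Subtype.ext (ha v))
      (fun v => Subtype.ext (hb v)) ⟨w, hw⟩)
  have h1 := key (LinearMap.ker s) (fun e => hs0 (LinearMap.ker_eq_top.1 e)) fun h v hv => by
    change s (ρ h v) = 0
    rw [← Module.End.mul_apply, (hs h).eq, Module.End.mul_apply, LinearMap.mem_ker.1 hv, map_zero]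
  have h3 := key (LinearMap.range s) (fun e => hx0 (LinearMap.ext fun v =>
    (Finite.injective_iff_surjective.2 (LinearMap.range_eq_top.1 e))
      ((LinearMap.congr_fun hx v).trans (map_zero s).symm))) (by
      rintro h _ ⟨v, rfl⟩
      exact ⟨ρ h v, by rw [← Module.End.mul_apply, (hs h).eq]; rfl⟩)
  have h4 : (ρ g - 1) * (ρ g - 1) = 0 := LinearMap.ext fun v => by
    have : ρ g v - v ∈ LinearMap.ker s := by
      rw [LinearMap.mem_ker, map_sub, ← Module.End.mul_apply, (hs g).eq, Module.End.mul_apply,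
        h3 _ ⟨v, rfl⟩, sub_self]
    simp [h1 _ this]
  have h5 : ρ (g ^ p) = 1 := by
    rw [map_pow, ← add_sub_cancel 1 (ρ g), one_add_pow_of_sq_eq_zero h4]
    exact LinearMap.ext fun v => by simp [hV]
  have h6 : g ∈ ρ.ker := zpowers_le.2 (show g ^ p ∈ ρ.ker from h5)
    (mem_zpowers_pow_iff.2 hg.symm)
  exact fun v => LinearMap.congr_fun h6 v

variable {G : Type u} [Group G] [Finite G] {p : ℕ}

theorem commutator_mem_of_quad [Fact p.Prime] (hp2 : p ≠ 2) {V N : Subgroup G}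
    {a b : G} (h2 : SQ p (closure ({a, b} : Set G)))
    (hV : closure ({a, b} : Set G) ≤ normalizer (V : Set G))
    (hN : closure ({a, b} : Set G) ≤ normalizer (N : Set G)) (hVV : ⁅V, V⁆ ≤ N)
    (hVp : ∀ v ∈ V, v ^ p ∈ N) (ha : ∀ v ∈ V, ⁅a, ⁅a, v⁆⁆ ∈ N) (hb : ∀ v ∈ V, ⁅b, ⁅b, v⁆⁆ ∈ N)
    {g : G} (hg : g ∈ closure ({a, b} : Set G)) (ho : (orderOf g).Coprime p) :
    ∀ v ∈ V, ⁅v, g⁆ ∈ N := by
  set L := closure ({a, b} : Set G) with hL
  have hle : _root_.commutator V ≤ N.subgroupOf V := by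
    rw [subgroupOf, ← map_le_iff_le_comap, map_subtype_commutator]; exact hVV
  have hn : (N.subgroupOf V).Normal := Normal.of_commutator_le _ hle
  have hc : IsMulCommutative (V ⧸ N.subgroupOf V) :=
    Normal.quotient_commutative_iff_commutator_le.mpr hle
  have haL : a ∈ L := Subgroup.subset_closure (by simp)
  have hbL : b ∈ L := Subgroup.subset_closure (by simp)
  have hgen : closure ({⟨a, haL⟩, ⟨b, hbL⟩} : Set L) = ⊤ := by
    apply map_injective L.subtype_injective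
    rw [MonoidHom.map_closure, Set.image_pair, ← MonoidHom.range_eq_map, range_subtype]; rfl
  open scoped IsMulCommutative in
  have hq : ∀ c : L, (∀ v ∈ V, ⁅(c : G), ⁅(c : G), v⁆⁆ ∈ N) → ∀ v,
      autRep (Coprime.sectionHom hV hN) c (autRep (Coprime.sectionHom hV hN) c v - v) =
        autRep (Coprime.sectionHom hV hN) c v - v := fun c hc v => by
    obtain ⟨w, hw⟩ := QuotientGroup.mk_surjective (Additive.toMul v)
    change Coprime.sectionHom hV hN c (Coprime.sectionHom hV hN c (Additive.toMul v) /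
      Additive.toMul v) = Coprime.sectionHom hV hN c (Additive.toMul v) / Additive.toMul v
    rw [← hw, Coprime.sectionHom_mk, ← QuotientGroup.mk_div, Coprime.sectionHom_mk, eq_comm,
      QuotientGroup.eq_iff_div_mem, ← inv_mem_iff, inv_div, mem_subgroupOf]
    have := hc w w.2
    simp only [commutatorElement_def] at this
    convert this using 1
    simp [Coprime.conjHom, div_eq_mul_inv, mul_assoc]
  open scoped IsMulCommutative in
  have key := rep_trivial_of_quad hp2 hgen (h2 _ le_rfl) (g := ⟨g, hg⟩)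
    (by rwa [orderOf_mk]) _ (Additive (V ⧸ N.subgroupOf V)) rfl (fun v => by
      obtain ⟨w, hw⟩ := QuotientGroup.mk_surjective (Additive.toMul v)
      change Additive.toMul v ^ p = 1
      rw [← hw, ← QuotientGroup.mk_pow, QuotientGroup.eq_one_iff]
      exact hVp w w.2) (autRep (Coprime.sectionHom hV hN)) (hq _ ha) (hq _ hb)
  exact (Coprime.mem_ker_sectionHom hV hN ⟨g, hg⟩).1 (MulEquiv.ext fun v => key (Additive.ofMul v))

theorem mem_sup_of_quad [Fact p.Prime] (hp2 : p ≠ 2) {M V N S : Subgroup G}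
    (h2 : SQ p M) (hV : M ≤ normalizer (V : Set G))
    (hN : M ≤ normalizer (N : Set G)) (hVV : ⁅V, V⁆ ≤ N) (hVp : ∀ v ∈ V, v ^ p ∈ N)
    (hS : Coprime.IsSylowIn p S M) {w : G} (hw : w ∈ M) (h : ∀ v ∈ V, ⁅w, ⁅w, v⁆⁆ ∈ N) :
    w ∈ S ⊔ (M ⊓ relCentralizer V N) := by
  refine mem_sup_of_forall_pResidualOf_le
    (le_normalizer_inf le_normalizer (le_normalizer_relCentralizer hV hN)) hS hw fun g hg => ?_
  have hL : closure {w, g * w * g⁻¹} ≤ M := (closure_le _).2 (by
    rintro _ (rfl | rfl)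
    exacts [hw, mul_mem (mul_mem hg hw) (inv_mem hg)])
  refine pResidualOf_le_of_forall fun x hx ho => ⟨hL hx, hN (hL hx),
    commutator_mem_of_quad hp2 (h2.mono hL) (hL.trans hV) (hL.trans hN)
      hVV hVp h (fun v hv => ?_) hx ho⟩
  have := Coprime.conj_mem_of_le_normalizer hN hg
    (h _ (Coprime.conj_mem_of_le_normalizer' hV hg hv))
  convert this using 1
  simp [commutatorElement_def, mul_assoc]

open Cfsg.Agent.OO Cfsg.Agent.Coprime Cfsg.Agent.Sig Cfsg.Agent.GW Cfsg.Agent.W3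

variable {A H I M N P Q S X : Subgroup G}

section Puig

open Cfsg.Agent.OO.Pf hiding puig_le cent_puigInf_le puigInf_le_puig norm_le_norm_center_puig
  puigInf_def puig_def sub_Puig_eq

variable [hp : Fact p.Prime] (hp2 : p ≠ 2) (h2 : SQ p H)
include hp2 h2

theorem quo_le_Op_sq (hP : IsPGroup p P) (hn : P ⊴ H) (hA : A ≤ H) (ha : Ab A) (hPA : P ≤ 𝐍(A)) :
    A ⁒ (H ⊓ 𝐂(P)) ≤ Op p (H ⁒ (H ⊓ 𝐂(P))) := by
  have hC := hn.cent
  obtain ⟨D, hD⟩ : ∃ D, D = H ⊓ Core.relCentralizer P (Phi P) := ⟨_, rfl⟩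
  have hDn : D ⊴ H := hD ▸ normalIn_inf_of_norm (Core.le_normalizer_relCentralizer hn.norm hn.Phi.norm)
  have hDp : IsPGroup p (D ⁒ (H ⊓ 𝐂(P)) : Subgroup _) := by
    refine (isPGroup_quo_iff (hDn.le.trans hC.norm)).2 ((relIndex_Oup p D).of_dvd
      (relIndex_dvd_of_le_left _ (Oup_le_iff.2 fun x hx h => ⟨hDn.le hx, ?_⟩)))
    exact coprime_cent_Phi hP (zpowers_le.2 (hn.norm (hDn.le hx))) (coprime_card_of_isPGroup
      (by rwa [Nat.card_zpowers]) hP).symm (commutator_le.2 fun v hv y hy =>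
        (hD.le (zpowers_le.2 hx hy)).2.2 v hv) (mem_zpowers x)
  intro z hz
  refine mem_Op_of_forall_syl (quo_mono _ hA hz) fun S' hS' => ?_
  obtain ⟨S, hS, rfl⟩ := exists_syl_quo_eq hC.norm hS'
  obtain ⟨w, hw, rfl⟩ := (mem_quo_of_le (hA.trans hC.norm)).1 hz
  have h3 := coset_mem_quo (H ⊓ 𝐂(P)) (mem_sup_of_quad hp2 h2 hn.norm
    hn.Phi.norm (der_le_Phi hP) (fun v hv => pow_mem_Phi hP hv) hS (hA hw) fun v hv => by
      rw [Core.quadratic_of_mem_normalizer ha hw (hPA hv)]; exact one_mem _)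
  rw [← hD, quo_sup (hS.le.trans hC.norm) (hDn.le.trans hC.norm)] at h3
  exact sup_le le_rfl (hS'.le_of_normal (hDn.quo _) hDp) h3

theorem le_Op_of_ab_sq (hc : Core.IsCharIn p H) (hP : IsPGroup p P) (hn : P ⊴ H) (hA : A ≤ H)
    (ha : Ab A) (hPA : P ≤ 𝐍(A)) (h : Op p H ⊓ 𝐂(P) ≤ P) : A ≤ Op p H := by
  have hC : IsPGroup p ↥(H ⊓ 𝐂(P)) := by
    refine PiGrp.isPGroup fun q hq hd => by_contra fun hqp => ?_
    obtain ⟨x, hx, hxo⟩ := cauchy hq hd
    have hxp : PiGrp ({p} : Set ℕ)ᶜ (zpowers x) := piGrp_zpowers.2 (by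
      rw [PiElt, hxo]; exact (isPiNum_prime hq).2 hqp)
    have h3 : P ≤ Op p H ⊓ 𝐂(zpowers x) :=
      le_inf (le_Op hn hP) (le_cent_symm (zpowers_le.2 hx.2))
    have h4 := coprime_nil_faithful_cent_stab (A := zpowers x) (H := Op p H)
      ((zpowers_le.2 hx.1).trans (Op_normal p H).norm) (coprime_of_isPGroup (Op_isPGroup p H) hxp)
      (Op_nil p H) (((inf_le_inf_left _ (cent_anti h3)).trans h).trans h3)
    have h6 := ((Op_piGrp p H).of_le ((le_inf (zpowers_le.2 hx.1) h4).trans hc)).eq_bot hxp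
    rw [zpowers_eq_bot] at h6
    rw [h6, orderOf_one] at hxo
    exact hq.one_lt.ne hxo
  have := quo_le_Op_sq hp2 h2 hP hn hA ha hPA
  rwa [← quo_Op hn.cent hC, quo_le_quo_iff (hA.trans hn.cent.norm) (le_Op hn.cent hC)] at this

/-- Puig's theorem for `p`-stable groups -/
theorem puig_normal_sq (hc : Core.IsCharIn p H) (hS : Syl p S H) : Zc (puig S) ⊴ H := by
  have hT := Op_le_syl hS
  have k : ∀ n, puigAt S (2 * n) ≤ puigAt (Op p H) (2 * n) := fun n => by
    induction n with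
    | zero => exact bot_le
    | succ n ih =>
      have h3 : puigAt (Op p H) (2 * n + 1) ≤ puigAt S (2 * n + 1) := puigSucc_mono hT ih
      refine puigSucc_le_iff.2 fun A a1 a2 a3 => le_puigSucc ?_ a2 (h3.trans a3)
      exact le_Op_of_ab_sq hp2 h2 hc ((Op_isPGroup p H).to_le (puigAt_le _ _))
        ((Op_normal p H).char_trans (puigAt_le _ _) (norm_le_norm_puigAt _ _)) (a1.trans hS.le)
        a2 (h3.trans a3) (cent_puigSucc_le (Op_isPGroup p H) (puigAt_le _ _))
  have a1 : puigInf S ≤ puigInf (Op p H) := iSup_mono k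
  have a2 : puig (Op p H) ≤ puig S := iInf_mono fun n => puigSucc_mono hT (k n)
  obtain ⟨Y, hY⟩ : ∃ Y, Y = Zc (puig (Op p H)) := ⟨_, rfl⟩
  have hZY : Zc (puig S) ≤ Y := hY ▸ le_inf
    (((inf_le_inf (puig_le S) (cent_anti (puigInf_le_puig S))).trans
      (cent_puigInf_le hS.isPGroup)).trans (a1.trans (puigInf_le_puig _)))
    (inf_le_right.trans (cent_anti a2))
  have hYT : Y ≤ Op p H := hY ▸ (Zc_le _).trans (puig_le _)
  have hYn : Y ⊴ H := (Op_normal p H).char_trans hYT (hY ▸ norm_le_norm_center_puig _)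
  have hCn := hYn.cent
  obtain ⟨C, c1, c2, c3⟩ := exists_quo_eq_normal hCn (Op_normal p (H ⁒ (H ⊓ 𝐂(Y))))
  have hLH := (puig_le S).trans hS.le
  have hYL : Y ≤ puigInf S := puigInf_def S ▸ le_puigSucc (hYT.trans (Op_le_syl hS))
    (hY ▸ Zc_ab _) (hLH.trans hYn.norm)
  have hLC : puig S ≤ C := by
    rw [← puig_def]
    refine puigSucc_le_iff.2 fun A b1 b2 b3 => ?_
    rw [← quo_le_quo_iff ((b1.trans hS.le).trans hCn.norm) c1, c3]
    exact quo_le_Op_sq hp2 h2 ((Op_isPGroup p H).to_le hYT) hYn (b1.trans hS.le) b2 (hYL.trans b3)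
  have e1 : puig (C ⊓ S) = puig S := sub_Puig_eq inf_le_right (le_inf hLC (puig_le S))
  have hCS := hS.normal_inf c2
  have e2 : C ≤ C ⊓ S ⊔ H ⊓ 𝐂(Y) := by
    rw [← quo_le_quo_iff_le_sup (c2.le.trans hCn.norm) (inf_le_left.trans (c2.le.trans hCn.norm)),
      (hCS.quo (c2.le.trans hCn.norm)).eq_self (c3 ▸ Op_isPGroup p _)]
  have e3 : 𝐍(C ⊓ S) ≤ 𝐍(Zc (puig S)) := e1 ▸ norm_le_norm_center_puig _
  refine ⟨(Zc_le _).trans hLH, ?_⟩
  rw [← (hCS.frattini c2).sup_eq]
  exact sup_le (e2.trans (sup_le ((le_norm_self _).trans e3)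
    (inf_le_right.trans ((cent_anti hZY).trans (cent_le_norm _))))) (inf_le_right.trans e3)

end Puig

/-- Bender's uniqueness criterion in characteristic `p` -/
theorem eq_of_char_sq (hG : Smp (⊤ : Subgroup G)) [Fact p.Prime] (hp2 : p ≠ 2)
    (h2 : SQ p (⊤ : Subgroup G))
    (hM : IsCoatom M) (hI : I ≤ M) (h0 : I ≠ ⊥) (ha : Arr M I)
    (hc : ∀ N, IsCoatom N → I ≤ N → Core.IsCharIn p N) (hN : IsCoatom N) (hIN : I ≤ N) : N = M := by
  by_contra hne
  obtain ⟨N, ⟨hN, hIN, hne⟩, hmax⟩ := Set.exists_max_image {N | IsCoatom N ∧ I ≤ N ∧ N ≠ M}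
    (fun N => partn {p} ♯(M ⊓ N)) (Set.toFinite _) ⟨N, hN, hIN, hne⟩
  obtain ⟨R, hR⟩ := exists_syl p (M ⊓ N)
  have hcM := hc M hM hI
  have hF := Fit_eq_Op (Op'_eq_bot_of_isCharIn hcM)
  have h4' := arr_mono ha (inf_le_right.trans hIN)
  have h1 : Op' p (M ⊓ N) = ⊥ := by
    have h3 : Op p M ⊓ N ≤ 𝐂(Op' p (M ⊓ N)) := ((inf_le_inf_right _ (le_inf le_rfl (Op_le p M))).trans
      ((inf_assoc _ _ _).le.trans (Op_inf_le p inf_le_left))).trans (le_cent_symm (Op'_le_cent_Op p _))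
    have h4 := h4'
    have h5 := coprime_of_isPGroup (Op_isPGroup p M) (Op'_piGrp p (M ⊓ N))
    rw [Arr, hF] at h4
    rw [eq_bot_iff, ← OO.inf_eq_bot_of_coprime_card h5]
    exact le_inf ((le_inf ((Opi_le _ _).trans inf_le_left) (coprime_nil_faithful_cent_stab
      (((Opi_le _ _).trans inf_le_left).trans (Op_normal p M).norm) h5 (Op_nil p M)
      (le_inf inf_le_left ((le_inf inf_le_left ((inf_le_inf_left _ (cent_anti
        (le_inf inf_le_left h3))).trans h4)).trans h3)))).trans hcM) le_rfl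
  have h3 : Core.IsCharIn p (M ⊓ N) := by
    have h3 := fs_of_arr (show FS M by rw [FS, hF]; exact hcM) (arr_mono h4' le_rfl)
      (inf_le_left.trans inf_le_left)
    rwa [FS, Fit_eq_Op h1] at h3
  have h4 := puig_normal_sq hp2 (h2.mono le_top) h3 hR
  have h5 : Zc (puig R) ≠ ⊥ := fun e => h0 (eq_bot_iff.2 ((le_inf hI hIN).trans (by
    have e' : Op p (M ⊓ N) = ⊥ := eq_bot_iff.2 (trivg_center_Puig_pgroup hR.isPGroup e ▸ Op_le_syl hR)
    simpa [Core.IsCharIn, show pCoreOf p (M ⊓ N) = ⊥ from e'] using h3)))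
  have k : ∀ X Y, IsCoatom X → I ≤ X → R ≤ X → Syl p R Y → R ≤ Y ⊓ X → X ⊓ 𝐍(Zc (puig R)) ≤ Y →
      𝐍(Zc (puig R)) = X := fun X Y hX hIX hRX hY _ h => hG.norm_eq hX (puig_normal_sq hp2
    (h2.mono le_top) (hc X hX hIX) (IsSylowIn.of_syl_norm hRX (hY.mono (le_inf hRX (le_norm_self R))
      ((inf_le_inf_left _ (norm_le_norm_center_puig R)).trans h)))) h5
  obtain ⟨N', hN', h6⟩ := hG.exists_coatom h5 fun e => hM.1 (top_le_iff.1 (e ▸ h4.le.trans inf_le_left))
  have h7 : M ⊓ N ≤ M ⊓ N' := le_inf inf_le_left (h4.norm.trans h6)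
  by_cases e : N' = M
  · exact hne ((hN.le_iff.1 ((k N _ hN hIN (hR.le.trans inf_le_right) hR (le_inf hR.le
      (hR.le.trans inf_le_right)) (le_inf (inf_le_right.trans (e ▸ h6)) inf_le_left)).ge.trans
      (e ▸ h6))).resolve_left hM.1).symm
  · obtain ⟨R', hR'⟩ := exists_syl p (M ⊓ N')
    have h8 := hR'.of_card_le (hR.le.trans h7) hR.isPGroup (by
      rw [hR.card_eq_partn, hR'.card_eq_partn]
      exact hmax N' ⟨hN', ((le_inf hI hIN).trans h7).trans inf_le_right, e⟩)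
    exact e ((hM.le_iff.1 ((k M _ hM hI (hR.le.trans inf_le_left) h8 (le_inf h8.le
      (hR.le.trans inf_le_left)) (inf_le_inf_left _ h6)).ge.trans h6)).resolve_left hN'.1)

end Cfsg.Agent.R4
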