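import Cfsg.Agent.Lib.R4.KFDefs
import Cfsg.Agent.Lib.R4.Four
import Cfsg.Agent.Lib.W4.Lin

/-!
# The action of `N(A)` on a strongly closed elementary abelian subgroup `A`
-/

set_option autoImplicit false
set_option linter.unusedSectionVars false

namespace Cfsg.Agent.R4.Ex

open Subgroup Cfsg.Agent.OO Cfsg.Agent.GW Cfsg.Agent.Coprime Cfsg.Agent.SZ
open Cfsg.Agent.W4 (exists_two)
open scoped commutatorElement Pointwise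

universe u

variable {G : Type u} [Group G] [Finite G] {A B C D H K L M N S W X Y Z : Subgroup G}
  {a b c g k m n w x y : G}

/-- the standing hypotheses -/
structure St (A : Subgroup G) : Prop extends MC G, SC A where
  big : 8 ≤ ♯A
  fam : ∀ H : Subgroup G, H ≠ ⊤ → A ≤ H → ∃ 𝓛, Fam A H 𝓛

/-- `N(A)` is irreducible on `A` -/
def Irr (A : Subgroup G) : Prop := ∀ X ≤ A, 𝐍(A) ≤ 𝐍(X) → X = ⊥ ∨ X = A

/-- no element of `N(A)` interchanges two subgroups of `A` -/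
def NS (A : Subgroup G) : Prop := ∀ n ∈ 𝐍(A), ∀ X ≤ A, ∀ Y, n •ᶜ X = Y → n •ᶜ Y = X → X = Y

theorem le_of_parts (h1 : ∀ x ∈ N, PiElt {2} x → x ∈ K) (h2 : ∀ x ∈ N, x * x ∈ K) : N ≤ K :=
  fun x hx => constt_mul_constt_compl {2} x ▸ mul_mem (h1 _ (constt_mem _ hx) (piElt_constt _ x))
    (mem_of_odd_sq (Nat.not_even_iff_odd.1 fun e => (isPiNum_compl_singleton Nat.prime_two).1
      (piElt_constt _ x) (even_iff_two_dvd.1 e)) (h2 _ (constt_mem _ hx)))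

theorem ns_of (hA : Ab A) (h : ∀ g ∈ 𝐍(A), PiElt {2} g → g ∈ 𝐂(A)) : NS A := by
  intro n hn X hX Y h1 h2
  have h3 : n * n ∈ 𝐍(X) := conj_eq_self_iff.1 (by rw [← conj_conj, h1, h2])
  rw [← h1, conj_eq_of_mem_norm (le_of_parts (N := zpowers n) (fun x hx e => le_norm_of_le_cent
    (cent_anti hX) (h x (zpowers_le.2 hn hx) e)) (fun x ⟨i, hi⟩ => ?_) (mem_zpowers n))]
  rw [← hi, ← (Commute.refl n).mul_zpow]
  exact zpow_mem h3 i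

theorem s3_false (h : S3F G) {s t : G} (w2 : w * w = 1) (c2 : c * c = 1) (e : w * c = c * w)
    (c1 : c ≠ 1) (h1 : s * w * s⁻¹ = c * w) (h2 : s * c * s⁻¹ = c) (h3 : t * w * t⁻¹ = w)
    (h4 : t * c * t⁻¹ = c * w) : False := by
  have k0 : ∀ y : G, y * w * y⁻¹ = w → y * c * y⁻¹ = c → y ∈ 𝐂(zpowers w ⊔ zpowers c) :=
    fun y h1 h2 => by
      rw [cent_sup, cent_zpowers, cent_zpowers]
      exact ⟨mem_cent1_iff_conj.2 h1, mem_cent1_iff_conj.2 h2⟩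
  have w1 : w ∈ zpowers w ⊔ zpowers c := mem_sup_left (mem_zpowers w)
  have w3 : c ∈ zpowers w ⊔ zpowers c := mem_sup_right (mem_zpowers c)
  have k1 : ∀ y : G, y * w * y⁻¹ ∈ zpowers w ⊔ zpowers c → y * c * y⁻¹ ∈ zpowers w ⊔ zpowers c →
      y ∈ 𝐍(𝐂(zpowers w ⊔ zpowers c)) := fun y h1 h2 => norm_le_norm_cent _
    (mem_norm_of_conj_le (conj_le_iff_le_inv_conj.2 (sup_le
      (zpowers_le.2 (mem_conj.2 (by rwa [inv_inv]))) (zpowers_le.2 (mem_conj.2 (by rwa [inv_inv]))))))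
  have s1 : s * (c * w) * s⁻¹ = w := by rw [← conj_mul, h1, h2, ← mul_assoc, c2, one_mul]
  have t1 : t * (c * w) * t⁻¹ = c := by rw [← conj_mul, h3, h4, mul_assoc, w2, mul_one]
  have x1 : ∀ y, s * t * y * (s * t)⁻¹ = s * (t * y * t⁻¹) * s⁻¹ := fun y => by group
  have x2 : s * t * w * (s * t)⁻¹ = c * w := by rw [x1, h3, h1]
  have x3 : s * t * c * (s * t)⁻¹ = w := by rw [x1, h4, s1]
  have x4 : s * t * (c * w) * (s * t)⁻¹ = c := by rw [x1, t1, h2]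
  have x5 : ∀ y, s * (s * t) * s⁻¹ * (s * t) * y * (s * (s * t) * s⁻¹ * (s * t))⁻¹ =
      s * (s * (t * (t * y * t⁻¹) * t⁻¹) * s⁻¹) * s⁻¹ := fun y => by group
  have := mem_cent_iff_conj.1 (h _ (s * t) s (k1 _ (x2 ▸ mul_mem w3 w1) (x3 ▸ w1))
    (k1 _ (h1 ▸ mul_mem w3 w1) (h2.symm ▸ w3))
    (k0 _ (by rw [cube_conj, x2, x4, x3]) (by rw [cube_conj, x3, x2, x4]))
    (k0 _ (by rw [x5, h3, h3, h1, s1]) (by rw [x5, h4, t1, h2, h2]))) w w1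
  exact c1 (by simpa using x2.symm.trans this)

namespace St

theorem sq (h : St A) (hx : x ∈ A) : x * x = 1 := abelem_sq h.elem hx

theorem ab (h : St A) : Ab A := abelem_ab h.elem

theorem abelem (h : St A) (hB : B ≤ A) : IsElementaryAbelian 2 B :=
  ⟨ab_of_le h.ab hB, fun _ hx => (pow_two _).trans (h.sq (hB hx))⟩

theorem two (h : St A) (hB : B ≤ A) : IsPGroup 2 B := abelem_isPGroup (h.abelem hB)

theorem le_cent (h : St A) (hB : B ≤ A) : A ≤ 𝐂(B) := h.ab.le_cent.trans (cent_anti hB)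

theorem le_cent1 (h : St A) (ha : a ∈ A) : A ≤ 𝐂[a] := h.ab.le_cent.trans (cent_le_cent1 ha)

theorem le_norm (h : St A) (hB : B ≤ A) : A ≤ 𝐍(B) := le_norm_of_le_cent (h.le_cent hB)

theorem comm (h : St A) (ha : a ∈ A) (hb : b ∈ A) : a * b = b * a := ab_iff.1 h.ab a ha b hb

theorem conj_le (_h : St A) (hn : n ∈ 𝐍(A)) (hB : B ≤ A) : n •ᶜ B ≤ A := conj_le_of_mem_norm hn hB

theorem ne_bot (h : St A) : A ≠ ⊥ := fun e => by simpa [e] using h.big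

theorem norm_ne (h : St A) (h0 : K ≠ ⊥) (h1 : K ≠ ⊤) : 𝐍(K) ≠ ⊤ := fun e =>
  (h.simple.eq_bot_or_eq_top_of_normal K (normalIn_top.1 ⟨le_top, e.ge⟩)).elim h0 h1

theorem cent1_ne (h : St A) (h1 : a ≠ 1) : 𝐂[a] ≠ ⊤ := fun e => by
  rcases h.simple.eq_bot_or_eq_top_of_normal (center G) inferInstance with h2 | h2
  · exact h1 (mem_bot.1 (h2 ▸ mem_center_iff.2 fun g => mem_cent1.1 (e.ge (mem_top g))))
  · exact h.nab ⟨⟨fun x y => mem_center_iff.1 (h2.ge (mem_top y)) x⟩⟩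

theorem cent_ne (h : St A) (h1 : B ≠ ⊥) : 𝐂(B) ≠ ⊤ := fun e => by
  obtain ⟨b, hb, h2⟩ := exists_mem_ne_one h1
  exact h.cent1_ne h2 (eq_top_iff.2 (e.ge.trans (cent_le_cent1 hb)))

/-- `N(A)` has no subgroup of index two -/
theorem no_two (h : St A) (h1 : ∀ n ∈ 𝐍(A), ∀ m ∈ 𝐍(A), n ∉ K → m ∉ K → n * m ∈ K) : 𝐍(A) ≤ K := by
  obtain ⟨S, hS, hle⟩ := exists_syl_ge (M := ⊤) le_top (h.two le_rfl)
  have h2 : der (⊤ : Subgroup G) = ⊤ :=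
    (h.simple.eq_bot_or_eq_top_of_normal _ (normalIn_top.1 (der_normal ⊤))).resolve_left fun e' =>
      h.nab ⟨⟨fun x y => ab_iff.1 (ab_iff_der.2 e') x (mem_top x) y (mem_top y)⟩⟩
  have h3 : S ≤ 𝐍(A) := h.toSC.le_norm hS.isPGroup hle
  have h4 : S ⊓ der ⊤ ≤ der 𝐍(A) := by
    rw [focal_subgroup_gen hS, closure_le]
    rintro _ ⟨x, hx, g, hg, e, rfl⟩
    obtain ⟨n, hn, e'⟩ := (h.toSC.ctl hS hle).elt hx hg e
    rw [e', show x⁻¹ * (n * x * n⁻¹) = ⁅x⁻¹, n⁆ by simp only [commutatorElement_def]; group]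
    exact commutator_mem_commutator (inv_mem (h3 hx)) hn.2
  have h5 : der 𝐍(A) ≤ K := commutator_le.2 fun x hx y hy => by
    have e : ⁅x, y⁆ = x * y * (y * x)⁻¹ := by simp only [commutatorElement_def]; group
    by_cases h5 : x * y ∈ K
    · refine e ▸ mul_mem h5 (inv_mem (by_contra fun h6 => ?_))
      by_cases h7 : x ∈ K
      · exact h6 (mul_mem ((mul_mem_cancel_left h7).1 h5) h7)
      · exact h6 (h1 y hy x hx (fun h8 => h7 ((mul_mem_cancel_right h8).1 h5)) h7)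
    refine e ▸ h1 _ (mul_mem hx hy) _ (inv_mem (mul_mem hy hx)) h5 fun h6 => ?_
    rw [inv_mem_iff] at h6
    by_cases h7 : x ∈ K
    · exact h5 (mul_mem h7 ((mul_mem_cancel_right h7).1 h6))
    · exact h5 (h1 x hx y hy h7 fun h8 => h7 ((mul_mem_cancel_left h8).1 h6))
  refine le_of_parts (fun x hx e => ?_) fun x hx => by_contra fun e => e (h1 x hx x hx
    (fun e' => e (mul_mem e' e')) fun e' => e (mul_mem e' e'))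
  obtain ⟨g, hg, e'⟩ := (hS.mono h3 le_top).exists_conj_le (zpowers_le.2 hx)
    (isPGroup_zpowers_iff.2 e)
  have := conj_mem_of_norm' ((der_normal _).norm hg)
    (h4 ⟨e' (conj_mem_conj (mem_zpowers x)), h2.ge (mem_top _)⟩)
  exact h5 (by simpa [mul_assoc] using this)

end St

/-- `A = W C` and `k` centralizes `C` and permutes `W^#` cyclically -/
structure Lin (A W C : Subgroup G) (k : G) : Prop where
  wle : W ≤ A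
  cle : C ≤ A
  four : 2 < ♯W
  sup : A ≤ W ⊔ C
  kn : k ∈ 𝐍(A)
  kw : k ∈ 𝐍(W)
  kc : k ∈ 𝐂(C)
  cyc : ∀ v ∈ W, ∀ w ∈ W, v ≠ 1 → w ≠ 1 → ∃ j : ℕ, k ^ j * v * (k ^ j)⁻¹ = w

namespace Lin

variable (h : St A) (l : Lin A W C k)
include h l

theorem dec (ha : a ∈ A) : ∃ w ∈ W, ∃ c ∈ C, w * c = a :=
  (mem_sup_norm_right (l.wle.trans (h.le_norm l.cle))).1 (l.sup ha)

theorem nofix (hw : w ∈ W) (e : k * w * k⁻¹ = w) : w = 1 := by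
  by_contra h1
  obtain ⟨v, hv, h2, h3⟩ := exists_two (h.abelem l.wle) l.four (h.sq (l.wle hw))
  obtain ⟨j, rfl⟩ := l.cyc w hw v hv h1 h2
  exact h3 (mem_cent1_iff_conj.1 (pow_mem (mem_cent1_iff_conj.2 e) j))

theorem eq_one (hw : w ∈ W) (hc : w ∈ C) : w = 1 := l.nofix h hw (mem_cent_iff_conj.1 l.kc w hc)

theorem inf : W ⊓ C = ⊥ := eq_bot_iff.2 fun _ hw => l.eq_one h hw.1 hw.2

theorem card : ♯W * ♯C = ♯A := by
  rw [← card_sup_of_inf_eq_bot (.inl (l.wle.trans (h.le_norm l.cle))) (l.inf h),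
    le_antisymm (sup_le l.wle l.cle) l.sup]

theorem ne_bot : W ≠ ⊥ := fun e => by have := l.four; simp [e] at this

theorem not_le (h1 : W ≤ C) : False := l.ne_bot h (eq_bot_iff.2 (l.inf h ▸ le_inf le_rfl h1))

omit l in
theorem conj_mul (hg : g ∈ 𝐂(C)) (hc : c ∈ C) : g * (w * c) * g⁻¹ = g * w * g⁻¹ * c := by
  nth_rw 2 [← mem_cent_iff_conj.1 hg c hc]; group

theorem mem_of_fix (ha : a ∈ A) (e : k * a * k⁻¹ = a) : a ∈ C := by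
  obtain ⟨w, hw, c, hc, rfl⟩ := l.dec h ha
  rw [conj_mul h l.kc hc, mul_left_inj] at e
  rwa [l.nofix h hw e, one_mul]

theorem comm_mem (hg : g ∈ 𝐂(C)) (hn : g ∈ 𝐍(W)) (ha : a ∈ A) : g * a * g⁻¹ * a⁻¹ ∈ W := by
  obtain ⟨w, hw, c, hc, rfl⟩ := l.dec h ha
  rw [conj_mul h hg hc, mul_inv_rev, mul_assoc, mul_inv_cancel_left]
  exact mul_mem (conj_mem_of_norm hn hw) (inv_mem hw)

theorem le_of_inf (hX : X ≤ A) (hn : k ∈ 𝐍(X)) (h1 : X ⊓ W = ⊥) : X ≤ C := fun x hx =>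
  l.mem_of_fix h (hX hx) (mul_inv_eq_one.1 (mem_bot.1 (h1 ▸ show _ ∈ X ⊓ W from
    ⟨X.mul_mem (conj_mem_of_norm hn hx) (X.inv_mem hx), l.comm_mem h l.kc l.kw (hX hx)⟩)))

theorem dich (hX : X ≤ A) (hn : k ∈ 𝐍(X)) : W ≤ X ∨ X ≤ C := by
  refine or_iff_not_imp_right.2 fun e w hw => ?_
  obtain ⟨v, hv, h1⟩ := exists_mem_ne_one fun e' => e (l.le_of_inf h hX hn e')
  by_cases h2 : w = 1
  · exact h2 ▸ one_mem X
  obtain ⟨j, rfl⟩ := l.cyc v hv.2 w hw h1 h2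
  exact conj_mem_of_norm (pow_mem hn j) hv.1

theorem le_of_norm (hX : X ≤ A) (h1 : X ⊓ C = ⊥) {j : ℕ} (hn : k ^ j ∈ 𝐍(X)) (hw : w ∈ W)
    (h2 : k ^ j * w * (k ^ j)⁻¹ ≠ w) : X ≤ W := by
  have h3 : ∀ x ∈ X, k ^ j * x * (k ^ j)⁻¹ = x → x = 1 := fun x hx e => by
    obtain ⟨v, hv, c, hc, rfl⟩ := l.dec h (hX hx)
    rw [conj_mul h (pow_mem l.kc j) hc, mul_left_inj] at e
    obtain rfl : v = 1 := by
      by_contra h4
      obtain ⟨i, rfl⟩ := l.cyc v hv w hw h4 (by rintro rfl; simp at h2)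
      refine h2 ?_
      nth_rw 2 [← e]
      simp only [← mul_assoc, ← pow_add, add_comm i j]
      simp only [mul_assoc, ← mul_inv_rev, ← pow_add, add_comm i j]
    exact mem_bot.1 (h1 ▸ show _ ∈ X ⊓ C from ⟨hx, by rwa [one_mul]⟩)
  let f : X → X := fun x => ⟨k ^ j * x * (k ^ j)⁻¹ * (x : G)⁻¹,
    mul_mem (conj_mem_of_norm hn x.2) (inv_mem x.2)⟩
  have h4 : Function.Injective f := fun x y e => by
    have e' : k ^ j * x * (k ^ j)⁻¹ * (x : G)⁻¹ = k ^ j * y * (k ^ j)⁻¹ * (y : G)⁻¹ :=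
      congrArg Subtype.val e
    refine (Subtype.ext (inv_mul_eq_one.1 (h3 _ (mul_mem (inv_mem y.2) x.2) ?_))).symm
    calc _ = (k ^ j * y * (k ^ j)⁻¹)⁻¹ * (k ^ j * x * (k ^ j)⁻¹ * (x : G)⁻¹) * x := by group
      _ = _ := by rw [e']; group
  intro x hx
  obtain ⟨y, e⟩ := Finite.injective_iff_surjective.1 h4 ⟨x, hx⟩
  have e' : k ^ j * y * (k ^ j)⁻¹ * (y : G)⁻¹ = x := congrArg Subtype.val e
  exact e' ▸ l.comm_mem h (pow_mem l.kc j) (pow_mem l.kw j) (hX y.2)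

variable (ti : ∀ n ∈ 𝐍(A), n •ᶜ C ≠ C → n •ᶜ C ⊓ C = ⊥)
include ti

omit h l in
theorem ti2 (hn : n ∈ 𝐍(A)) (hm : m ∈ 𝐍(A)) (h1 : x ∈ n •ᶜ C) (h2 : x ∈ m •ᶜ C) (hx : x ≠ 1) :
    n •ᶜ C = m •ᶜ C := by
  by_contra e
  have := ti (m⁻¹ * n) (mul_mem (inv_mem hm) hn) fun e' => e (by
    rw [← conj_conj, conj_eq_iff_eq_inv_conj, inv_inv] at e'; exact e')
  refine hx ?_
  have h3 : m⁻¹ * x * m ∈ (m⁻¹ * n) •ᶜ C ⊓ C :=
    ⟨mem_conj.2 (by convert mem_conj.1 h1 using 1; group), mem_conj.1 h2⟩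
  rw [this] at h3
  simpa [mul_assoc, inv_mul_eq_one] using h3

theorem out (hn : n ∈ 𝐍(A)) (h1 : n •ᶜ C ≠ C) (h2 : ¬ n •ᶜ C ≤ W) : n •ᶜ C ⊓ W = ⊥ ∧
    ∀ w ∈ W, ∀ c ∈ C, w ≠ 1 → c ≠ 1 → ∃ j : ℕ, w * c ∈ (k ^ j * n) •ᶜ C := by
  have hX := h.conj_le hn l.cle
  have k1 : ∀ v c, c ∈ C → c ≠ 1 → v * c ∈ n •ᶜ C → v ≠ 1 := by
    rintro v c hc h3 h4 rfl
    exact h3 (mem_bot.1 (ti n hn h1 ▸ show _ ∈ n •ᶜ C ⊓ C from ⟨one_mul c ▸ h4, hc⟩))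
  have k2 : ∀ v ∈ W, ∀ w ∈ W, ∀ c ∈ C, c ≠ 1 → v * c ∈ n •ᶜ C → w ≠ 1 →
      ∃ j : ℕ, k ^ j * v * (k ^ j)⁻¹ = w ∧ w * c ∈ (k ^ j * n) •ᶜ C := by
    intro v hv w hw c hc h3 h4 h5
    obtain ⟨j, rfl⟩ := l.cyc v hv w hw (k1 v c hc h3 h4) h5
    exact ⟨j, rfl, by
      rw [← conj_mul h (pow_mem l.kc j) hc, ← conj_conj]; exact conj_mem_conj h4⟩
  have k3 : n •ᶜ C ⊓ W = ⊥ := eq_bot_iff.2 fun w hw => by
    obtain ⟨x, hx, h3⟩ := SetLike.not_le_iff_exists.1 h2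
    obtain ⟨v, hv, c, hc, rfl⟩ := l.dec h (hX hx)
    have h4 : c ≠ 1 := by rintro rfl; exact h3 (by rwa [mul_one])
    have h5 : w * v * c ∈ n •ᶜ C := mul_assoc w v c ▸ mul_mem hw.1 hx
    obtain ⟨j, h6, h7⟩ := k2 v hv (w * v) (mul_mem hw.2 hv) c hc h4 hx (k1 _ c hc h4 h5)
    have h8 := ti2 ti (mul_mem (pow_mem l.kn j) hn) hn h7 h5 fun e =>
      h4 (l.eq_one h (eq_inv_of_mul_eq_one_right e ▸ inv_mem (mul_mem hw.2 hv)) hc)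
    by_contra h9
    exact h2 (l.le_of_norm h hX (ti n hn h1) (conj_eq_self_iff.1 ((conj_conj _ _ _).trans h8)) hv
      (by rw [h6]; simpa using h9))
  refine ⟨k3, fun w hw c hc h3 h4 => ?_⟩
  have k4 : A ≤ W ⊔ n •ᶜ C := (eq_of_le_of_card_le (sup_le l.wle hX) (by
    rw [card_sup_of_inf_eq_bot (.inl (l.wle.trans (h.le_norm hX))) (inf_comm W _ ▸ k3),
      card_conj n C, l.card h])).ge
  obtain ⟨v, hv, x, hx, rfl⟩ := (mem_sup_norm_right (l.wle.trans (h.le_norm hX))).1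
    (k4 (l.cle hc))
  exact (k2 v⁻¹ (inv_mem hv) w hw _ hc h4 (by rwa [inv_mul_cancel_left]) h3).imp fun _ e => e.2

theorem same (h0 : C ≠ ⊥) (hn : n ∈ 𝐍(A)) (hm : m ∈ 𝐍(A)) (h1 : n •ᶜ C ≠ C) (h2 : m •ᶜ C ≠ C)
    (h3 : n •ᶜ C ≤ W ↔ m •ᶜ C ≤ W) : ∃ j : ℕ, (k ^ j * n) •ᶜ C = m •ᶜ C := by
  obtain ⟨c, hc, h4⟩ := exists_mem_ne_one h0
  have h5 : ∀ g : G, g * c * g⁻¹ ≠ 1 := fun g => by simpa using h4
  by_cases e : n •ᶜ C ≤ W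
  · obtain ⟨j, hj⟩ := l.cyc _ (e (conj_mem_conj hc)) _ (h3.1 e (conj_mem_conj hc)) (h5 n) (h5 m)
    exact ⟨j, ti2 ti (mul_mem (pow_mem l.kn j) hn) hm
      (hj ▸ conj_conj (k ^ j) n C ▸ conj_mem_conj (conj_mem_conj hc)) (conj_mem_conj hc) (h5 m)⟩
  obtain ⟨w, hw, d, hd, e'⟩ := l.dec h (h.conj_le hm l.cle (conj_mem_conj hc))
  have h6 : w * d ∈ m •ᶜ C := e' ▸ conj_mem_conj hc
  obtain ⟨j, hj⟩ := (l.out h ti hn h1 e).2 w hw d hd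
    (by
      rintro rfl
      exact h5 m (mem_bot.1 (ti m hm h2 ▸ show _ ∈ m •ᶜ C ⊓ C from
        ⟨conj_mem_conj hc, e' ▸ (one_mul d).symm ▸ hd⟩)))
    (by
      rintro rfl
      exact h5 m (mem_bot.1 ((l.out h ti hm h2 (mt h3.2 e)).1 ▸ show _ ∈ m •ᶜ C ⊓ W from
        ⟨conj_mem_conj hc, e' ▸ (mul_one w).symm ▸ hw⟩)))
  exact ⟨j, ti2 ti (mul_mem (pow_mem l.kn j) hn) hm hj h6 (e' ▸ h5 m)⟩

theorem mem_of_fix' (hn : n ∈ 𝐍(A)) (hg : g ∈ 𝐍(A)) (hx : x ∈ n •ᶜ C) (x1 : x ≠ 1)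
    (e : g * x * g⁻¹ = x) : g ∈ 𝐍(n •ᶜ C) :=
  conj_eq_self_iff.1 ((conj_conj _ _ _).trans (ti2 ti (mul_mem hg hn) hn
    (e ▸ conj_conj g n C ▸ conj_mem_conj hx) hx x1))

theorem exists_le (hi : Irr A) (h0 : C ≠ ⊥) : ∃ p ∈ 𝐍(A), p •ᶜ C ≤ W := by
  have h1 : ¬ A ≤ W := fun e => h0 (eq_bot_iff.2 (l.inf h ▸ le_inf (l.cle.trans e) le_rfl))
  obtain ⟨n, hn, h2⟩ : ∃ n ∈ 𝐍(A), n •ᶜ C ≠ C := by
    by_contra! e
    exact (hi C l.cle fun n hn => conj_eq_self_iff.1 (e n hn)).elim h0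
      fun e => l.not_le h (l.wle.trans e.ge)
  by_contra! e
  refine (hi W l.wle (le_norm_iff.2 fun g hg w hw => by_contra fun h3 => ?_)).elim (l.ne_bot h)
    fun e => h1 e.ge
  obtain ⟨v, hv, c, hc, e'⟩ := l.dec h (conj_mem_of_norm hg (l.wle hw))
  obtain ⟨m, hm, h4⟩ : ∃ m ∈ 𝐍(A), v * c ∈ m •ᶜ C := by
    by_cases h4 : v = 1
    · exact ⟨1, one_mem _, by simpa [h4] using hc⟩
    obtain ⟨j, hj⟩ := (l.out h ti hn h2 (e n hn)).2 v hv c hc h4 (by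
      rintro rfl; exact h3 (e' ▸ mul_mem hv (one_mem W)))
    exact ⟨_, mul_mem (pow_mem l.kn j) hn, hj⟩
  have h5 : w ∈ (g⁻¹ * m) •ᶜ C := mem_conj.2 (by convert mem_conj.1 (e' ▸ h4) using 1; group)
  have h6 := mul_mem (inv_mem hg) hm
  obtain rfl : w = 1 := by
    by_cases h7 : (g⁻¹ * m) •ᶜ C = C
    · exact l.eq_one h hw (h7 ▸ h5)
    · exact mem_bot.1 ((l.out h ti h6 h7 (e _ h6)).1 ▸ show _ ∈ (g⁻¹ * m) •ᶜ C ⊓ W from ⟨h5, hw⟩)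
  exact h3 (by simp)

theorem cover0 (hi : Irr A) (h0 : C ≠ ⊥) (hx : x ∈ A) (x1 : x ≠ 1) : ∃ m ∈ 𝐍(A), x ∈ m •ᶜ C := by
  obtain ⟨p, hp, h2⟩ := l.exists_le h ti hi h0
  have k1 : ∀ w ∈ W, w ≠ 1 → ∃ m ∈ 𝐍(A), w ∈ m •ᶜ C := fun w hw e => by
    obtain ⟨d, hd, h5⟩ := exists_mem_ne_one h0
    obtain ⟨j, hj⟩ := l.cyc _ (h2 (conj_mem_conj hd)) w hw (by simpa using h5) e
    exact ⟨_, mul_mem (pow_mem l.kn j) hp, by
      rw [← hj, ← conj_conj]; exact conj_mem_conj (conj_mem_conj hd)⟩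
  obtain ⟨q, hq, h3, h4⟩ : ∃ q ∈ 𝐍(A), q •ᶜ C ≠ C ∧ ¬ q •ᶜ C ≤ W := by
    by_contra! e
    have k2 : ∀ n ∈ 𝐍(A), n ∉ 𝐍(C) → n •ᶜ C = W := fun n hn h3 => by
      have h4 := mt conj_eq_self_iff.1 h3
      refine le_antisymm (e n hn h4) (by_contra fun h5 => ?_)
      have k3 : ∀ m ∈ 𝐍(A), m •ᶜ C ≠ n •ᶜ C → m •ᶜ C ≤ n •ᶜ W := fun m hm h6 => by
        rw [le_conj_iff_inv_conj_le, conj_conj]
        exact e _ (mul_mem (inv_mem hn) hm) fun e' => h6 (by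
          rwa [← conj_conj, conj_eq_iff_eq_inv_conj, inv_inv] at e')
      have k4 : ∀ w ∈ W, w ∉ n •ᶜ C → w ∈ n •ᶜ W := fun w hw h6 => by
        obtain ⟨m, hm, h7⟩ := k1 w hw (by rintro rfl; exact h6 (one_mem _))
        exact k3 m hm (fun e' => h6 (e' ▸ h7)) h7
      obtain ⟨v, hv, h6⟩ := SetLike.not_le_iff_exists.1 h5
      have h7 : A ≤ n •ᶜ W := l.sup.trans (sup_le (fun w hw => by_contra fun h7 => h7
        ((mul_mem_cancel_right (k4 v hv h6)).1 (k4 _ (mul_mem hw hv) fun h8 => h6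
          ((mul_mem_cancel_left (by_contra fun h9 => h7 (k4 w hw h9))).1 h8))))
        (by simpa using k3 1 (one_mem _) (by simpa using Ne.symm h4)))
      rw [le_conj_iff_inv_conj_le, conj_eq_of_mem_norm (inv_mem hn)] at h7
      exact h0 (eq_bot_iff.2 (l.inf h ▸ le_inf (l.cle.trans h7) le_rfl))
    refine (hi C l.cle (h.no_two fun n hn m hm h3 h4 => conj_eq_self_iff.1 ?_)).elim h0
      fun e => l.not_le h (l.wle.trans e.ge)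
    rw [← conj_conj, k2 m hm h4, conj_eq_iff_eq_inv_conj, k2 _ (inv_mem hn) (mt inv_mem_iff.1 h3)]
  obtain ⟨w, hw, c, hc, rfl⟩ := l.dec h hx
  by_cases e : w = 1
  · exact ⟨1, one_mem _, by simpa [e] using hc⟩
  by_cases e' : c = 1
  · exact e' ▸ (mul_one w).symm ▸ k1 w hw e
  obtain ⟨j, hj⟩ := (l.out h ti hq h3 h4).2 w hw c hc e e'
  exact ⟨_, mul_mem (pow_mem l.kn j) hq, hj⟩

theorem two_cent (hi : Irr A) (h0 : C ≠ ⊥)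
    (two : ∀ g ∈ 𝐍(A) ⊓ 𝐍(C), PiElt {2} g → ∀ a ∈ A, g * a * g⁻¹ * a⁻¹ ∈ C) (hg : g ∈ 𝐍(A))
    (h2 : PiElt {2} g) : g ∈ 𝐂(A) := by
  have two' : ∀ n ∈ 𝐍(A), ∀ g ∈ 𝐍(A), g ∈ 𝐍(n •ᶜ C) → PiElt {2} g → ∀ a ∈ A,
      g * a * g⁻¹ * a⁻¹ ∈ n •ᶜ C := fun n hn g hg h1 h2 a ha => by
    rw [norm_conj, mem_conj] at h1
    rw [mem_conj, show n⁻¹ * (g * a * g⁻¹ * a⁻¹) * n =
      n⁻¹ * g * n * (n⁻¹ * a * n) * (n⁻¹ * g * n)⁻¹ * (n⁻¹ * a * n)⁻¹ by group]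
    exact two _ ⟨𝐍(A).mul_mem (mul_mem (inv_mem hn) hg) hn, h1⟩ (by simpa using h2.conj n⁻¹) _
      (conj_mem_of_norm' hn ha)
  suffices k : ∀ g ∈ 𝐍(A), PiElt {2} g → g * g ∈ 𝐂(A) → g ∈ 𝐂(A) by
    obtain ⟨j, hj⟩ := isPGroup_zpowers_iff.2 h2 ⟨g, mem_zpowers g⟩
    replace hj : g ^ 2 ^ j ∈ 𝐂(A) := (show g ^ 2 ^ j = 1 from congrArg Subtype.val hj) ▸ one_mem _
    induction j with
    | zero => simpa using hj
    | succ j ih => exact ih (k _ (pow_mem hg _) (h2.pow _) (by rwa [← pow_two, ← pow_mul, ← pow_succ]))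
  have k1 : ∀ g ∈ 𝐍(A), g * g ∈ 𝐂(A) → ∀ a ∈ A,
      g * (g * a * g⁻¹ * a⁻¹) * g⁻¹ = g * a * g⁻¹ * a⁻¹ := fun g hg h1 a ha => by
    calc _ = g * g * a * (g * g)⁻¹ * (g * a * g⁻¹)⁻¹ := by group
      _ = _ := by
        rw [mem_cent_iff_conj.1 h1 a ha, inv_eq (h.sq (conj_mem_of_norm hg ha)), inv_eq (h.sq ha),
          h.comm ha (conj_mem_of_norm hg ha)]
  suffices k : ∀ g ∈ 𝐍(A), PiElt {2} g → g * g ∈ 𝐂(A) → ∀ a ∈ A, g * a * g⁻¹ * a⁻¹ ∈ C →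
      g * a * g⁻¹ * a⁻¹ = 1 by
    refine fun g hg h1 h2 => mem_cent_iff_conj.2 fun a ha => by_contra fun e => ?_
    rw [← mul_inv_eq_one] at e
    obtain ⟨m, hm, h3⟩ := l.cover0 h ti hi h0 (mul_mem (conj_mem_of_norm hg ha) (inv_mem ha)) e
    have e1 : m⁻¹ * g * m * (m⁻¹ * a * m) * (m⁻¹ * g * m)⁻¹ * (m⁻¹ * a * m)⁻¹ =
      m⁻¹ * (g * a * g⁻¹ * a⁻¹) * m := by group
    refine conj_ne_one'.2 e (e1 ▸ k _ (mul_mem (mul_mem (inv_mem hm) hg) hm)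
      (by simpa using h1.conj m⁻¹) ?_ _ (conj_mem_of_norm' hm ha) (e1 ▸ mem_conj.1 h3))
    convert conj_mem_of_norm' (norm_le_norm_cent A hm) h2 using 1
    group
  intro g hg h1 h2 a ha h3
  by_contra e
  have h4 := l.mem_of_fix' h ti (one_mem _) hg (by simpa using h3) e (k1 g hg h2 a ha)
  replace h4 := two g ⟨hg, by simpa using h4⟩ h1
  have h5 : ∀ x ∈ A, g * x * g⁻¹ = x → x ∈ C := fun x hx e' => by
    by_cases x1 : x = 1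
    · exact x1 ▸ one_mem C
    obtain ⟨m, hm, h5⟩ := l.cover0 h ti hi h0 hx x1
    have := ti2 ti hm (one_mem _) (two' m hm g hg (l.mem_of_fix' h ti hm hg h5 x1 e') h1 a ha)
      (by simpa using h3) e
    simpa [this] using h5
  obtain ⟨p, hp, h6⟩ := l.exists_le h ti hi h0
  obtain ⟨w, hw, w1⟩ := exists_mem_ne_one (l.ne_bot h)
  have c1 : g * w * g⁻¹ * w⁻¹ ≠ 1 := fun e =>
    w1 (l.eq_one h hw (h5 w (l.wle hw) (mul_inv_eq_one.1 e)))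
  have hc := h4 w (l.wle hw)
  have c2 := k1 g hg h2 w (l.wle hw)
  have c3 : g * w * g⁻¹ = g * w * g⁻¹ * w⁻¹ * w := by group
  generalize g * w * g⁻¹ * w⁻¹ = c at *
  have h7 := conj_mem_of_norm' hp (l.cle hc)
  have h8 := k1 g hg h2 _ h7
  have h9 := h6 (conj_mem_conj (g := p) (h4 _ h7))
  have c4 : g * (p⁻¹ * c * p) * g⁻¹ = g * (p⁻¹ * c * p) * g⁻¹ * (p⁻¹ * c * p)⁻¹ * (p⁻¹ * c * p) := by
    group
  have v1 : g * (p⁻¹ * c * p) * g⁻¹ * (p⁻¹ * c * p)⁻¹ ≠ 1 := fun e =>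
    c1 (l.eq_one h (h6 (mem_conj.2 (h5 _ h7 (mul_inv_eq_one.1 e)))) hc)
  generalize g * (p⁻¹ * c * p) * g⁻¹ * (p⁻¹ * c * p)⁻¹ = v at *
  obtain ⟨j, hj⟩ := l.cyc _ h9 w hw (conj_ne_one.2 v1) w1
  have c5 := mem_cent_iff_conj.1 (pow_mem l.kc j) c hc
  refine s3_false h.s3f (t := k ^ j * p * g * (k ^ j * p)⁻¹) (h.sq (l.wle hw)) (h.sq (l.cle hc))
    (h.comm (l.wle hw) (l.cle hc)) c1 c3 c2 ?_ ?_
  · calc _ = k ^ j * (p * (g * v * g⁻¹) * p⁻¹) * (k ^ j)⁻¹ := by rw [← hj]; group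
      _ = _ := by rw [h8, hj]
  · calc _ = k ^ j * (p * (g * (p⁻¹ * c * p) * g⁻¹) * p⁻¹) * (k ^ j)⁻¹ := by
          nth_rw 1 [← c5]; group
      _ = k ^ j * (p * v * p⁻¹) * (k ^ j)⁻¹ * (k ^ j * c * (k ^ j)⁻¹) := by rw [c4]; group
      _ = _ := by rw [hj, c5, h.comm (l.wle hw) (l.cle hc)]

variable (ns : NS A)
include ns

theorem anti (h0 : C ≠ ⊥) (hn : n ∈ 𝐍(A)) (h1 : n •ᶜ C ≠ C) : n •ᶜ C ≤ W ↔ ¬ n⁻¹ •ᶜ C ≤ W := by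
  have h2 : n⁻¹ •ᶜ C ≠ C := fun e => h1 (conj_eq_iff_eq_inv_conj.2 e.symm)
  by_contra e
  obtain ⟨j, hj⟩ := l.same h ti h0 hn (inv_mem hn) h1 h2 (by tauto)
  exact h2 (ns _ (mul_mem (pow_mem l.kn j) hn) _ l.cle _ hj (by
    rw [conj_conj, mul_inv_cancel_right, conj_eq_of_mem_cent (pow_mem l.kc j)])).symm

theorem xor (hn : n ∈ 𝐍(A)) (hm : m ∈ 𝐍(A)) (h1 : n •ᶜ C ≠ m •ᶜ C) (hx : x ∈ n •ᶜ C)
    (hy : y ∈ m •ᶜ C) (x1 : x ≠ 1) (y1 : y ≠ 1) : y ∈ n •ᶜ W ↔ x ∉ m •ᶜ W := by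
  have k : ∀ n m y, n ∈ 𝐍(A) → m ∈ 𝐍(A) → n •ᶜ C ≠ m •ᶜ C → y ∈ m •ᶜ C → y ≠ 1 →
      (n⁻¹ * m) •ᶜ C ≠ C ∧ (y ∈ n •ᶜ W ↔ (n⁻¹ * m) •ᶜ C ≤ W) := fun n m y hn hm h1 hy y1 => by
    have h2 : (n⁻¹ * m) •ᶜ C ≠ C := fun e => h1 (by
      rw [← conj_conj, conj_eq_iff_eq_inv_conj, inv_inv] at e; exact e.symm)
    have h3 : n⁻¹ * y * n ∈ (n⁻¹ * m) •ᶜ C := mem_conj.2 (by convert mem_conj.1 hy using 1; group)
    refine ⟨h2, fun e => by_contra fun e' => y1 ?_, fun e => mem_conj.2 (e h3)⟩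
    have h4 : n⁻¹ * y * n ∈ (n⁻¹ * m) •ᶜ C ⊓ W := ⟨h3, mem_conj.1 e⟩
    rw [(l.out h ti (mul_mem (inv_mem hn) hm) h2 e').1] at h4
    simpa [mul_assoc, inv_mul_eq_one] using h4
  have h0 : C ≠ ⊥ := by rintro rfl; simp [x1] at hx
  rw [(k n m y hn hm h1 hy y1).2, (k m n x hm hn h1.symm hx x1).2,
    l.anti h ti ns h0 (mul_mem (inv_mem hn) hm) (k n m y hn hm h1 hy y1).1, mul_inv_rev, inv_inv]

theorem cover (h0 : C ≠ ⊥) (hn : n ∈ 𝐍(A)) (h1 : n •ᶜ C ≠ C) (hx : x ∈ A) (x1 : x ≠ 1) :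
    ∃ m ∈ 𝐍(A), x ∈ m •ᶜ C := by
  obtain ⟨p, hp, q, hq, h2, h3, h4⟩ : ∃ p ∈ 𝐍(A), ∃ q ∈ 𝐍(A), p •ᶜ C ≤ W ∧ q •ᶜ C ≠ C ∧
      ¬ q •ᶜ C ≤ W := by
    by_cases e : n •ᶜ C ≤ W
    · exact ⟨n, hn, n⁻¹, inv_mem hn, e, fun e => h1 (conj_eq_iff_eq_inv_conj.2 e.symm),
        (l.anti h ti ns h0 hn h1).1 e⟩
    · exact ⟨n⁻¹, inv_mem hn, n, hn, not_not.1 (mt (l.anti h ti ns h0 hn h1).2 e), h1, e⟩
  obtain ⟨w, hw, c, hc, rfl⟩ := l.dec h hx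
  by_cases e : w = 1
  · exact ⟨1, one_mem _, by simpa [e] using hc⟩
  by_cases e' : c = 1
  · obtain ⟨d, hd, h5⟩ := exists_mem_ne_one h0
    obtain ⟨j, hj⟩ := l.cyc _ (h2 (conj_mem_conj hd)) w hw (by simpa using h5) e
    exact ⟨_, mul_mem (pow_mem l.kn j) hp, by
      rw [e', mul_one, ← hj, ← conj_conj]; exact conj_mem_conj (conj_mem_conj hd)⟩
  obtain ⟨j, hj⟩ := (l.out h ti hq h3 h4).2 w hw c hc e e'
  exact ⟨_, mul_mem (pow_mem l.kn j) hq, hj⟩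

theorem ti_false (h6 : 16 ≤ ♯A) (h0 : C ≠ ⊥) (hn : n ∈ 𝐍(A)) (h1 : n •ᶜ C ≠ C) : False := by
  have k0 : ∀ g x : G, x ∈ g •ᶜ W → x ∈ g •ᶜ C → x = 1 := fun g x h2 h3 => by
    simpa [mul_assoc, inv_mul_eq_one] using l.eq_one h (mem_conj.1 h2) (mem_conj.1 h3)
  have k1 : ∀ m x y, m ∈ 𝐍(A) → x ∈ C → y ∈ m •ᶜ C → x ≠ 1 → y ∉ C → (y ∈ W ↔ x ∉ m •ᶜ W) :=
    fun m x y hm hx hy x1 y1 => by
      simpa using l.xor h ti ns (one_mem _) hm (fun e => y1 (by simpa [← e] using hy))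
        (by simpa using hx) hy x1 (by rintro rfl; exact y1 (one_mem _))
  obtain ⟨b, hb, b1⟩ := exists_mem_ne_one (l.ne_bot h)
  obtain ⟨m, hm, hb'⟩ := l.cover h ti ns h0 hn h1 (l.wle hb) b1
  have b2 : b ∉ C := fun e => b1 (l.eq_one h hb e)
  have k2 : ∀ a ∈ C, a ≠ 1 → a * b ∉ W ∧ a * b ≠ 1 := fun a ha a1 => by
    have : a * b ∉ W := fun e => a1 (l.eq_one h ((mul_mem_cancel_right hb).1 e) ha)
    exact ⟨this, fun e => this (e ▸ one_mem W)⟩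
  have k3 : ∀ a ∈ C, a ≠ 1 → a * b ∈ m •ᶜ W := fun a ha a1 => by
    obtain ⟨p, hp, h2⟩ := l.cover h ti ns h0 hn h1 (mul_mem (l.cle ha) (l.wle hb)) (k2 a ha a1).2
    have h3 := not_not.1 (mt (k1 p a _ hp ha h2 a1 fun e =>
      b2 ((mul_mem_cancel_left ha).1 e)).2 (k2 a ha a1).1)
    have h4 : a ∉ m •ᶜ W := (k1 m a b hm ha hb' a1 b2).1 hb
    exact not_not.1 (mt (l.xor h ti ns hp hm (fun e => (k2 a ha a1).1 ((k1 m a _ hm ha (e ▸ h2) a1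
      fun e => b2 ((mul_mem_cancel_left ha).1 e)).2 h4)) h2 hb' (k2 a ha a1).2 b1).2
      fun e => (k2 a ha a1).2 (k0 p _ (mul_mem h3 e) h2))
  obtain ⟨a, ha, a1⟩ := exists_mem_ne_one h0
  have k4 : ∀ c ∈ C, c ≠ 1 → c = a := fun c hc c1 => by
    by_contra e
    refine (k1 m (c * a⁻¹) b hm (mul_mem hc (inv_mem ha)) hb' (by rwa [Ne, mul_inv_eq_one]) b2).1 hb ?_
    simpa [mul_assoc] using mul_mem (k3 c hc c1) (inv_mem (k3 a ha a1))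
  have k5 : ∀ p x y, p ∈ 𝐍(A) → x ∈ A → y ∈ A → x ∉ p •ᶜ W → y ∉ p •ᶜ W → x * y ∈ p •ᶜ W := by
    intro p x y hp hx hy h2 h3
    obtain ⟨v, hv, c, hc, e⟩ := l.dec h (conj_mem_of_norm' hp hx)
    obtain ⟨w, hw, d, hd, e'⟩ := l.dec h (conj_mem_of_norm' hp hy)
    rw [mem_conj] at h2 h3 ⊢
    rw [k4 c hc (by rintro rfl; exact h2 (e ▸ mul_mem hv (one_mem W)))] at e
    rw [k4 d hd (by rintro rfl; exact h3 (e' ▸ mul_mem hw (one_mem W)))] at e'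
    rw [show p⁻¹ * (x * y) * p = p⁻¹ * x * p * (p⁻¹ * y * p) by group, ← e, ← e',
      h.comm (l.wle hw) (l.cle ha), mul_assoc, ← mul_assoc a, h.sq (l.cle ha), one_mul]
    exact mul_mem hv hw
  have k6 : 2 < ♯(W ⊓ m •ᶜ W) := by
    have h2 := card_sup_mul_card_inf (.inl (l.wle.trans (h.le_norm (h.conj_le hm l.wle))))
    have h3 := card_le (sup_le l.wle (h.conj_le hm l.wle))
    have h4 := l.card h
    have h5 : ♯C ≤ 2 := not_lt.1 fun e => by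
      obtain ⟨c, hc, c1, c2⟩ := exists_two (h.abelem l.cle) e (h.sq (l.cle ha))
      exact c2 (k4 c hc c1)
    rw [card_conj] at h2
    by_contra! h7
    have h8 : ♯W * ♯W ≤ ♯W * ♯C * 2 := by rw [← h2, h4]; exact Nat.mul_le_mul h3 h7
    have h9 : 8 ≤ ♯W := by nlinarith
    nlinarith
  obtain ⟨p, hp, h2⟩ := l.cover h ti ns h0 hn h1 (mul_mem (l.cle ha) (l.wle hb)) (k2 a ha a1).2
  have k7 : ∀ t ∈ W ⊓ m •ᶜ W, t ≠ 1 → t ∉ p •ᶜ W := fun t ht t1 => by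
    obtain ⟨q, hq, h3⟩ := l.cover h ti ns h0 hn h1 (l.wle ht.1) t1
    have h4 := k5 q a b hq (l.cle ha) (l.wle hb)
      ((k1 q a t hq ha h3 a1 fun e => t1 (l.eq_one h ht.1 e)).1 ht.1)
      ((l.xor h ti ns hm hq (fun e => t1 (k0 m t ht.2 (e ▸ h3))) hb' h3 b1 t1).1 ht.2)
    exact (l.xor h ti ns hq hp (fun e => (k2 a ha a1).2 (k0 q _ h4 (e ▸ h2))) h3 h2 t1
      (k2 a ha a1).2).1 h4
  have k8 := h.abelem (inf_le_left.trans l.wle : W ⊓ m •ᶜ W ≤ A)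
  obtain ⟨x, hx, x1, -⟩ := exists_two k8 k6 (one_mul 1)
  obtain ⟨y, hy, y1, y2⟩ := exists_two k8 k6 (h.sq (l.wle hx.1))
  exact k7 _ (mul_mem hx hy) (fun e => y2 ((eq_inv_of_mul_eq_one_right e).trans
    (inv_eq (h.sq (l.wle hx.1))))) (k5 p x y hp (l.wle hx.1) (l.wle hy.1) (k7 x hx x1) (k7 y hy y1))

end Lin

end Cfsg.Agent.R4.Ex
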