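import Cfsg.Agent.Lib.R4.DEo
import Cfsg.Agent.Lib.R4.KFL3
import Cfsg.Agent.Lib.R4.KF3

/-!
# The involutions outside `D`
-/

set_option autoImplicit false

namespace Cfsg.Agent.R4

open Subgroup Cfsg.Agent.OO Cfsg.Agent.Coprime Cfsg.Agent.SZ Cfsg.Agent.GW Cfsg.Agent.W4
open scoped commutatorElement Pointwise

universe u

variable {G : Type u} [Group G] {A H M N Q S T X : Subgroup G} {a b d e g r s t x y z : G} {n : ℕ}

/-- the core of `H ⊓ M` in `H` -/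
def Nk (M H : Subgroup G) : Subgroup G where
  carrier := {y | y ∈ H ∧ ∀ c ∈ H, c * y * c⁻¹ ∈ M}
  one_mem' := ⟨one_mem _, fun c _ => by simp⟩
  mul_mem' := fun {x y} hx hy => ⟨mul_mem hx.1 hy.1, fun c hc => by
    convert mul_mem (hx.2 c hc) (hy.2 c hc) using 1; group⟩
  inv_mem' := fun {x} hx => ⟨inv_mem hx.1, fun c hc => by
    convert inv_mem (hx.2 c hc) using 1; group⟩

theorem Nk_normal (M H : Subgroup G) : Nk M H ⊴ H :=
  ⟨fun _ h => h.1, le_norm_iff.2 fun g hg y hy => ⟨mul_mem (mul_mem hg hy.1) (inv_mem hg),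
    fun c hc => by convert hy.2 _ (mul_mem hc hg) using 1; group⟩⟩

theorem Nk_le (M H : Subgroup G) : Nk M H ≤ M := fun y h => by simpa using h.2 1 (one_mem _)

theorem conj_mem_Nk (hg : g ∈ M) (hy : y ∈ Nk M H) : g * y * g⁻¹ ∈ Nk M (g •ᶜ H) :=
  ⟨conj_mem_conj hy.1, fun c hc => by
    convert mul_mem (mul_mem hg (hy.2 _ (mem_conj.1 hc))) (inv_mem hg) using 1; group⟩

theorem K1F.eq_Nk {L T W : Subgroup (Coset N)} {k : Coset N} (h : K1F A M H N L T W k n) :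
    N = Nk M H :=
  le_antisymm (fun _ hy => ⟨h.normal.le hy, fun _ hc => h.le (h.normal.conj_mem hc hy)⟩)
    (h.core _ (Nk_normal M H) (Nk_le M H))

/-- the facts which hold without reference to the involutions outside `D` -/
structure DM (A M : Subgroup G) (n : ℕ) : Prop extends DSE A M, Lin A n where
  normO : M ≤ 𝐍(A ⊔ O M)

variable [Finite G]

theorem MC.cent1_ne_top_de (h : MC G) (s1 : s ≠ 1) : 𝐂[s] ≠ ⊤ := fun e => by
  have := h.simple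
  rcases this.eq_bot_or_eq_top_of_normal (center G) inferInstance with e' | e'
  · exact s1 (mem_bot.1 (e' ▸ mem_center_iff.2 fun g => mem_cent1.1 (e ▸ mem_top g)))
  · exact h.nab ⟨⟨fun a b => mem_center_iff.1 (e' ▸ mem_top b) a⟩⟩

namespace DM

variable (h : DM A M n)
include h

theorem c2 (hT : IsPGroup 2 T) (hA : A ≤ T) : T ≤ 𝐂(A) := by
  obtain ⟨k, hk⟩ := hT.exists_card_eq
  exact le_of_coprime_relIndex (h.toSC.le_norm hT hA) (norm_le_norm_cent _)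
    (hk ▸ (Nat.coprime_two_left.2 h.oddN).pow_left k)

theorem exists_conj (hA : A ≤ H) (hQ : Q ≤ H) (h2 : IsPGroup 2 Q) : ∃ g ∈ H, g •ᶜ Q ≤ 𝐂(A) :=
  let ⟨g, hg, _, hS, h1, h3⟩ := h.toSC.exists_conj hA hQ h2; ⟨g, hg, h3.trans (h.c2 hS.isPGroup h1)⟩

theorem cent_two (hT : IsPGroup 2 T) (hd : d ∈ T) (h1 : InD A d) : T ≤ 𝐂[d] := by
  obtain ⟨g, -, S, hS, h2, h3⟩ := h.toSC.exists_conj (le_top : A ≤ ⊤) le_top hT
  rw [← conj_le_conj_iff (g := g), ← cent1_conj]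
  exact h3.trans ((h.c2 hS.isPGroup h2).trans (cent_le_cent1
    (h.toSC.mem_of_two hS.isPGroup h2 (h3 (conj_mem_conj hd)) (h1.conj g))))

/-- the dihedral group generated by an element of `D` and an involution -/
theorem dI (hd : InD A d) (d1 : d ≠ 1) (hs : s * s = 1) : ∃ e ∈ zpowers d ⊔ zpowers s,
    InD A e ∧ e ≠ 1 ∧ e ∈ 𝐂[s] ∧ d ∈ 𝐂[s * e] ∧ ¬ 2 ∣ orderOf (d * e) := by
  have d2 := h.toSC.sqD hd
  obtain ⟨i, ρ, ⟨j, rfl⟩, e⟩ := Nat.exists_eq_two_pow_mul_odd (orderOf_pos (d * s)).ne'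
  have e1 : d * (d * s) ^ (2 * j + 1) * d⁻¹ = ((d * s) ^ (2 * j + 1))⁻¹ := by
    rw [← conj_pow, ← inv_pow, mul_inv_rev, GW.inv_eq hs, ← mul_assoc, d2, one_mul]
  have e2 : (d * s) ^ (2 * j + 1) ∈ 𝐂[d] := h.cent_two (T := zpowers ((d * s) ^ (2 * j + 1)) ⊔ zpowers d)
    (isPGroup_sup (IsPGroup.of_card (n := i) (by
      rw [Nat.card_zpowers, orderOf_pow, e, Nat.gcd_mul_left_left, Nat.mul_div_cancel _ (by omega)]))
      (two_elt d2) (Or.inr (zpowers_le.2 (mem_norm_of_conj_le (by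
        rw [conj_zpowers, e1, zpowers_inv])))))
    (mem_sup_right (mem_zpowers d)) hd (mem_sup_left (mem_zpowers _))
  have e3 : (d * s) ^ (2 * (2 * j + 1)) = 1 := by
    rw [mem_cent1_iff_conj.1 (mem_cent1_comm.1 e2)] at e1
    rw [two_mul, pow_add]; nth_rw 1 [e1]; exact inv_mul_cancel _
  have e4 := R1.commute_of_pow_sq d2 hs e3
  have e5 : s * ((d * s) ^ (2 * j + 1) * s) = (d * s) ^ (2 * j + 1) := by
    rw [e4.eq, ← mul_assoc, hs, one_mul]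
  refine ⟨(d * s) ^ (2 * j + 1) * s, mul_mem (pow_mem (mul_mem (mem_sup_left (mem_zpowers d))
    (mem_sup_right (mem_zpowers s))) _) (mem_sup_right (mem_zpowers s)),
    R1.pow_conj_left d2 hs j ▸ hd.conj _, R1.pow_conj_left d2 hs j ▸ BSW.conj_ne_one d1,
    mul_mem (mem_cent1.2 e4.eq) (mem_cent1_self s), e5.symm ▸ mem_cent1_comm.1 e2, fun e6 => ?_⟩
  have e7 : orderOf (d * ((d * s) ^ (2 * j + 1) * s)) ∣ 2 * j + 1 := orderOf_dvd_of_pow_eq_one (by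
    rw [e4.eq, ← mul_assoc, ← pow_succ', ← pow_mul,
      show (2 * j + 1 + 1) * (2 * j + 1) = 2 * (2 * j + 1) * (j + 1) by ring, pow_mul, e3, one_pow])
  have := e6.trans e7
  omega

omit h [Finite G] in
theorem pow_eq (hs : s * s = 1) (he : e * e = 1) (h1 : e ∈ 𝐂[s]) (h2 : d ∈ 𝐂[s * e]) {k : ℕ}
    (hk : Odd k) (h3 : (d * e) ^ k = 1) : (d * s) ^ k = s * e := by
  obtain ⟨j, rfl⟩ := hk
  have h4 : Commute s e := (mem_cent1.1 h1).symm
  have h5 : Commute (d * e) (s * e) := Commute.mul_left (mem_cent1.1 h2)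
    (h4.symm.mul_right (Commute.refl e))
  have h6 : (s * e) ^ 2 = 1 := by rw [h4.mul_pow, pow_two, pow_two, hs, he, one_mul]
  have h7 : d * s = d * e * (s * e) := by rw [h4.eq, mul_assoc d, ← mul_assoc e, he, one_mul]
  rw [h7, h5.mul_pow, h3, one_mul, pow_succ, pow_mul, h6, one_pow, one_mul]

omit h in
theorem dI_uniq (hs : s * s = 1) (he : e * e = 1) (h1 : e ∈ 𝐂[s]) (h2 : d ∈ 𝐂[s * e])
    (h3 : ¬ 2 ∣ orderOf (d * e)) (hx : x * x = 1) (h4 : x ∈ 𝐂[s]) (h5 : d ∈ 𝐂[s * x])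
    (h6 : ¬ 2 ∣ orderOf (d * x)) : e = x := by
  have ho : Odd (orderOf (d * e) * orderOf (d * x)) :=
    (Nat.not_even_iff_odd.1 fun e => h3 e.two_dvd).mul (Nat.not_even_iff_odd.1 fun e => h6 e.two_dvd)
  exact mul_left_cancel ((pow_eq hs he h1 h2 ho (by rw [pow_mul, pow_orderOf_eq_one, one_pow])).symm.trans
    (pow_eq hs hx h4 h5 ho (by rw [pow_mul', pow_orderOf_eq_one, one_pow])))

omit h [Finite G] in
theorem A_le_cent (hs : s ∈ 𝐂(A)) : A ≤ 𝐂[s] := fun _ ha => mem_cent1_comm.1 (cent_le_cent1 ha hs)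

theorem not_inD_mul (h1 : ¬ InD A s) (he : InD A e) (hc : e ∈ 𝐂[s]) : ¬ InD A (s * e) := fun h2 => by
  have := h.toSC.mulD h2 he (by rw [← mul_assoc, mem_cent1.1 hc])
  rw [mul_assoc, h.toSC.sqD he, mul_one] at this
  exact h1 this

omit h [Finite G] in
theorem mul_sq (s2 : s * s = 1) (he : e * e = 1) (hc : e ∈ 𝐂[s]) : s * e * (s * e) = 1 := by
  rw [mul_assoc, ← mul_assoc e, mem_cent1.1 hc, mul_assoc, he, mul_one, s2]

theorem big_mul (hs : s ∈ 𝐂(A)) (s2 : s * s = 1) (h1 : ¬ InD A s) (hb : ¬ 𝐂[s] ≤ M) (ha : a ∈ A)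
    (a1 : a ≠ 1) : ¬ 𝐂[s * a] ≤ M := fun h2 => by
  have := h.simple
  have h3 : s ∈ M.normalCore := fun g => by
    obtain ⟨e, -, h4, e1, h5, h6, -⟩ := h.dI ((InD.of_mem ha).conj g⁻¹) (BSW.conj_ne_one a1) s2
    obtain ⟨c, hc, rfl⟩ := h.conj_in hb ⟨A_le_cent hs ha, h.A_le ha⟩ (.of_mem ha) a1 h5 h4 e1
    have h7 : c⁻¹ * g⁻¹ ∈ M := h.mem (h.A_le ha) (.of_mem ha) a1 (h2 (by
      rw [← mem_cent1_iff_conj.1 hc, conj_mul, cent1_conj, mem_conj] at h6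
      convert h6 using 1; group))
    convert mul_mem (mul_mem (inv_mem h7) (h.cent_A hs)) h7 using 1
    nth_rw 1 [← mem_cent1_iff_conj.1 hc]
    group
  rcases this.eq_bot_or_eq_top_of_normal M.normalCore inferInstance with e | e
  · exact h1 (mem_bot.1 (e ▸ h3) ▸ InD.one)
  · exact h.ne (top_le_iff.1 (e ▸ M.normalCore_le))

/-- the involutions outside `D` fix more than one point -/
theorem big (hs : s ∈ 𝐂(A)) (s2 : s * s = 1) (h1 : ¬ InD A s) : ¬ 𝐂[s] ≤ M := fun h2 => by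
  obtain ⟨u, hu, h3⟩ := h.exists_out
  obtain ⟨e, -, h4, e1, h5, h6, -⟩ := h.dI h3 (by rintro rfl; exact hu (one_mem _)) s2
  have e2 := h.toSC.sqD h4
  obtain ⟨g, hg, S, hS, h7, h8⟩ := h.toSC.exists_conj h.A_le
    (sup_le (zpowers_le.2 (h.cent_A hs)) (zpowers_le.2 (h2 h5)))
    (SC.two_pair s2 e2 (mem_cent1.1 h5).symm)
  have h9 := h.toSC.mem_of_two hS.isPGroup h7 (h8 (conj_mem_conj (mem_sup_right (mem_zpowers e))))
    (h4.conj g)
  refine h.big_mul (s := g * (s * e) * g⁻¹) (h.c2 hS.isPGroup h7 (h8 (conj_mem_conj (mul_mem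
    (mem_sup_left (mem_zpowers s)) (mem_sup_right (mem_zpowers e)))))) (conj_sq (mul_sq s2 e2 h5) g)
    (fun e => h.not_inD_mul h1 h4 h5 e.of_conj) (fun e => hu ?_) h9 (BSW.conj_ne_one e1) ?_
  · rw [cent1_conj, conj_le_iff_le_inv_conj, conj_eq_of_mem (inv_mem hg)] at e
    exact e h6
  · rw [conj_mul, mul_assoc s, e2, mul_one, cent1_conj]
    exact conj_le_of_mem hg h2

section

variable {L T W : Subgroup (Coset N)} {k : Coset N} {m : ℕ} (f : K1F A M H N L T W k m) (hA : A ≤ H)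
include f hA

omit h [Finite G] hA in
theorem inf_bot : N ⊓ A = ⊥ := eq_bot_iff.2 fun _ ht => f.free _ ht.1 (.of_mem ht.2)

theorem syl_quo (hS : Syl 2 S H) (h1 : A ≤ S) : S ⁒ N = T := by
  have h2 := hS.quo f.normal.norm
  refine (h2.eq_of_le (fun x hx => ?_) (f.syl.le.trans f.normalL.le) f.syl.isPGroup).symm
  have h3 := isPGroup_zpowers_iff.1 (h2.isPGroup.to_le (zpowers_le.2 hx))
  obtain ⟨l, hl, c, hc, rfl⟩ := (mem_sup_norm_left (cent_le_norm _)).1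
    (f.two x (f.normalL.norm (h2.le hx)) h3)
  have h4 : c = 1 := mem_bot.1 (f.centL ▸ ⟨(mul_mem_cancel_left (f.normalL.le hl)).1 (h2.le hx), hc⟩)
  exact f.syl.mem_of_mem_norm (by rwa [h4, mul_one]) (f.stab.le (quo_mono N
    (le_inf hS.le ((h.c2 hS.isPGroup h1).trans h.cent_A)) hx)).2 h3

theorem W_eq : W = A ⁒ N := by
  obtain ⟨S, hS, h1⟩ := exists_syl_ge hA h.toSC.two
  have e := h.syl_quo f hA hS h1
  have hn := f.normal.norm
  refine le_antisymm (fun w hw => ?_) fun w hw => (f.mem w).2 ⟨e ▸ quo_mono N h1 hw, ?_⟩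
  · obtain ⟨w1, w2⟩ := (f.mem w).1 hw
    obtain ⟨t, ht, h2, rfl⟩ := f.inD w (f.syl.le w1) w2
    have h3 : S ⊔ N ≤ H := sup_le hS.le f.normal.le
    obtain ⟨y, hy, h4⟩ := (hS.mono le_sup_left h3).exists_conj_le (zpowers_le.2
      ((coset_mem_quo_iff (hn ht) le_sup_right).1 (by rwa [quo_sup_self (hS.le.trans hn), e])))
      (two_elt (h.toSC.sqD h2))
    have h5 := coset_mem_quo N
      (h.toSC.mem_of_two hS.isPGroup h1 (h4 (conj_mem_conj (mem_zpowers t))) (h2.conj y))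
    have h6 := coset_mem_quo N hy
    rw [quo_sup_self (hS.le.trans hn), e] at h6
    rwa [coset_conj (hn (h3 hy)) (hn ht), mem_cent_iff_conj.1 (f.cent h6) _ hw] at h5
  · obtain ⟨a, ha, a1, rfl⟩ := mem_quo.1 hw
    rw [← coset_mul a1 a1, h.toSC.sq ha, coset_one]

theorem rank_eq : m = n := by
  have := card_inf_mul_card_quo (hA.trans f.normal.norm)
  rw [inf_bot f, card_bot, one_mul, ← h.W_eq f hA, f.cardW, h.card] at this
  exact Nat.pow_right_injective le_rfl this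

theorem singer : Singer A := by
  have hn := f.normal.norm
  have e := h.W_eq f hA
  obtain ⟨g, hg, g1, rfl⟩ := mem_quo.1 (f.normalL.le f.k_mem)
  have h1 : g ∈ 𝐍(A ⊔ N) := zpowers_le.1 (le_norm_sup_of_quo (zpowers_le.2 g1) (hA.trans hn) (by
    rw [quo_zpowers g1, ← e, zpowers_le]
    refine mem_norm_of_conj_mem fun w hw => (f.mem _).2
      ⟨conj_mem_of_norm f.k_norm ((f.mem w).1 hw).1, conj_sq ((f.mem w).1 hw).2 _⟩))
  obtain ⟨y, hy, S, hS, h2, h3⟩ := h.toSC.exists_conj (le_sup_left : A ≤ A ⊔ N)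
    (conj_le_of_mem_norm h1 le_sup_left) (isPGroup_conj.2 h.toSC.two)
  have y1 := hn (sup_le hA f.normal.le hy)
  have h4 : y * g ∈ 𝐍(A) := mem_norm_of_conj_mem fun a ha => h.toSC.mem_of_two hS.isPGroup h2
    (h3 (by rw [conj_conj]; exact conj_mem_conj ha)) ((InD.of_mem ha).conj _)
  have h5 : coset N y ∈ 𝐂(W) := by
    have := coset_mem_quo N hy
    rw [quo_sup_self (hA.trans hn), ← e] at this
    exact f.cent (f.toSzF.W_le this)
  have h6 : ∀ j : ℕ, ∀ a ∈ A, coset N ((y * g) ^ j * a * ((y * g) ^ j)⁻¹) =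
      coset N g ^ j * coset N a * (coset N g ^ j)⁻¹ := fun j a ha => by
    induction j with
    | zero => simp
    | succ j ih =>
      have h7 := conj_mem_of_norm (pow_mem h4 j) ha
      have h8 := coset_mem_quo N (conj_mem_of_norm h1 (mem_sup_left h7))
      rw [quo_sup_self (hA.trans hn), ← e] at h8
      calc _ = coset N (y * (g * ((y * g) ^ j * a * ((y * g) ^ j)⁻¹) * g⁻¹) * y⁻¹) := by
            rw [pow_succ']; simp only [mul_assoc, mul_inv_rev]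
        _ = _ := by
          rw [coset_conj y1 (hn (mul_mem (mul_mem hg (hA h7)) (inv_mem hg))),
            mem_cent_iff_conj.1 h5 _ h8, coset_conj g1 (hn (hA h7)), ih, pow_succ']; group
  have h7 : ∀ a ∈ A, coset N a = 1 → a = 1 := fun a ha e =>
    f.free a ((coset_eq_one_iff (hn (hA ha))).1 e) (.of_mem ha)
  refine ⟨y * g, h4, fun a ha b hb a1 b1 => ?_⟩
  obtain ⟨j, hj⟩ := f.cyc _ (e ▸ coset_mem_quo N ha) _ (e ▸ coset_mem_quo N hb)
    (mt (h7 a ha) a1) (mt (h7 b hb) b1)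
  have h8 := conj_mem_of_norm (pow_mem h4 j) ha
  exact ⟨j, inv_mul_eq_one.1 (f.free _ ((coset_eq_iff (hn (hA h8)) (hn (hA hb))).1
    ((h6 j a ha).trans hj)) (.of_mem (mul_mem (inv_mem h8) hb)))⟩

end

theorem exists_k1 (hs : s ∈ 𝐂(A)) (s2 : s * s = 1) (h1 : ¬ InD A s) :
    ∃ L T W k, K1F A M 𝐂[s] (Nk M 𝐂[s]) L T W k n := by
  obtain ⟨N, L, T, W, k, m, f⟩ := kf3_of kf1 G A M 𝐂[s] A h.toDSE
    (h.toMC.cent1_ne_top_de (by rintro rfl; exact h1 .one)) (le_inf (A_le_cent hs) h.A_le) h.elem h.four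
    (fun _ => .of_mem) (h.big hs s2 h1)
  obtain rfl := h.rank_eq f (A_le_cent hs)
  obtain rfl := f.eq_Nk
  exact ⟨L, T, W, k, f⟩

theorem self_mem (hs : s ∈ 𝐂(A)) : s ∈ Nk M 𝐂[s] :=
  ⟨mem_cent1_self s, fun _ hc => (mem_cent1_iff_conj.1 hc).symm ▸ h.cent_A hs⟩

theorem Nk_symm (hs : s ∈ 𝐂(A)) (s2 : s * s = 1) (h1 : ¬ InD A s) (hr : r ∈ 𝐂(A)) (r2 : r * r = 1)
    (h2 : ¬ InD A r) (h3 : r ∈ Nk M 𝐂[s]) : s ∈ Nk M 𝐂[r] := by
  obtain ⟨L, T, W, k, f⟩ := h.exists_k1 hr r2 h2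
  obtain ⟨g, hg, g1⟩ := SetLike.not_le_iff_exists.1 (h.big hs s2 h1)
  obtain ⟨m, hm, h4⟩ := h.exists_conj h.A_le (zpowers_le.2 (h3.2 _ (inv_mem hg)))
    (two_elt (conj_sq r2 _))
  obtain ⟨a, ha, a1⟩ := h.exists_ne
  obtain ⟨c, hc, e⟩ := h.conj_in (h.big hr r2 h2) ⟨A_le_cent hr ha, h.A_le ha⟩ (.of_mem ha) a1
    (t := g * m⁻¹ * a * (g * m⁻¹)⁻¹) (by
      have := conj_mem_conj (g := g * m⁻¹) (A_le_cent (h4 (conj_mem_conj (mem_zpowers _))) ha)
      rw [← cent1_conj] at this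
      convert this using 3; group) ((InD.of_mem ha).conj _) (BSW.conj_ne_one a1)
  have h5 : c⁻¹ * g ∈ M := (mul_mem_cancel_right (inv_mem hm)).1 (h.cent a ha a1
    (mem_cent1_iff_conj.2 (by
      calc _ = c⁻¹ * (g * m⁻¹ * a * (g * m⁻¹)⁻¹) * c := by group
        _ = a := by rw [← e]; group)))
  refine f.two_fix c hc (fun e => g1 ((mul_mem_cancel_left (inv_mem e)).1 h5)) s
    ⟨⟨mem_cent1_comm.1 h3.1, h.cent_A hs⟩, mem_conj.2 ?_⟩ (isPGroup_zpowers_iff.1 (two_elt s2))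
  convert mul_mem (mul_mem h5 (h.cent_A hs)) (inv_mem h5) using 1
  nth_rw 1 [← mem_cent1_iff_conj.1 hg]
  group

theorem f2 (hv : s ∈ M) (s2 : s * s = 1) (h1 : ¬ InD A s) (hX : X ⊴ M) (h2 : X ≤ 𝐂[s]) :
    X ≤ 𝐂(A) := by
  obtain ⟨m, hm, h3⟩ := h.exists_conj h.A_le (zpowers_le.2 hv) (two_elt s2)
  have h4 := h3 (conj_mem_conj (mem_zpowers s))
  have h5 : ∀ g ∈ M, ∀ x, X ≤ 𝐂[x] → X ≤ 𝐂[g * x * g⁻¹] := fun g hg x e => by
    rw [cent1_conj, ← hX.conj_eq hg]; exact conj_mono g e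
  replace h2 := h5 m hm s h2
  replace h1 : ¬ InD A (m * s * m⁻¹) := fun e => h1 e.of_conj
  replace s2 := conj_sq s2 m
  generalize m * s * m⁻¹ = v at *
  obtain ⟨a, ha, a1⟩ := h.exists_ne
  obtain ⟨b, hb, b1, ab⟩ := exists_third (W := A) (by have := h.four; omega) a
  have h6 := mul_mem h4 (abelem_le_cent h.elem ha)
  obtain ⟨g, hg, e⟩ := h.trans_in (A_le_cent h6) (h.big_mul h4 s2 h1 (h.big h4 s2 h1) ha a1) ha hb a1 b1
  have h7 := h5 g (h.norm hg.2) v h2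
  have e1 : g * v * g⁻¹ = v * (a * b⁻¹) := by
    rw [← mul_assoc, ← mem_cent1_iff_conj.1 hg.1, ← e]; group
  have h8 : X ≤ 𝐂[a * b⁻¹] := fun x hx => mem_cent1_comm.1
    ((mul_mem_cancel_left (mem_cent1_comm.1 (h2 hx))).1 (mem_cent1_comm.1 (e1 ▸ h7 hx)))
  refine le_cent_comm.1 fun c hc => le_cent_comm.1 ?_ (mem_zpowers c)
  rw [cent_zpowers]
  by_cases c1 : c = 1
  · rw [c1]; exact fun _ _ => mem_cent1.2 (by simp)
  obtain ⟨l, hl, rfl⟩ := h.toDSE.trans (mul_mem ha (inv_mem hb)) hc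
    (fun e => ab (mul_inv_eq_one.1 e).symm) c1
  exact h5 l (h.norm hl) _ h8

end DM

end Cfsg.Agent.R4
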