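import Cfsg.Agent.Lib.R4.Hyp
import Cfsg.Agent.Lib.SZ.S3F
import Cfsg.Prelude.Def_Exceptional

/-!
# Simple groups whose 3-elements are irrational
-/

set_option autoImplicit false

namespace Cfsg.Agent.R4

open Subgroup Cfsg.Agent.OO Cfsg.Agent.SZ

universe u

variable {G : Type u} [Group G] [Finite G]

theorem IsSz.isSuzuki (h : IsSz G) : IsSuzuki G := by
  obtain ⟨h0, S, t, m, h1, h2, h3, h4, -⟩ := h
  refine ⟨h0, m, h1, ?_⟩
  rw [h2.card_eq, h3, ← h4, Nat.add_sub_cancel]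
  ring

theorem fin31 (s3c : S3C.{u}) [IsSimpleGroup G] (hna : ¬ IsMulCommutative G)
    (hirr : ∀ x : G, (∀ r : ℕ, r.Prime → r ∣ orderOf x → r = 3) →
      Subgroup.normalizer ((Subgroup.zpowers x : Subgroup G) : Set G) ≤ Subgroup.centralizer {x}) :
    (∃ f : ℕ, 1 ≤ f ∧ Nonempty (G ≃* Matrix.ProjectiveSpecialLinearGroup (Fin 2)
      (GaloisField 3 (2 * f + 1)))) ∨ Cfsg.IsSuzuki G := by
  refine ((s3c G ‹_› hna (s3f_of_not_real fun y g hy e => ?_)).imp_left IsSz.isSuzuki).symm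
  have h1 : g ∈ 𝐍(zpowers y) := by
    rw [← conj_eq_self_iff, conj_zpowers, e, zpowers_inv]
  have h2 := mem_centralizer_singleton_iff.1 (hirr y (fun r hr h =>
    (Nat.prime_dvd_prime_iff_eq hr Nat.prime_three).1 (hy ▸ h)) h1)
  rw [h2, mul_inv_cancel_right, eq_inv_iff_mul_eq_one, ← pow_two, ← orderOf_dvd_iff_pow_eq_one,
    hy] at e
  omega

end Cfsg.Agent.R4
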