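import Cfsg.Agent.Lib.R4.USyl
import Cfsg.Agent.Lib.R4.KFDefs

/-!
# Package U34
-/

set_option autoImplicit false
set_option linter.unusedSectionVars false

namespace Cfsg.Agent.R4

open Subgroup Cfsg.Agent.OO Cfsg.Agent.Coprime Cfsg.Agent.SZ Cfsg.Agent.W4 Cfsg.Agent.GW
open scoped commutatorElement Pointwise

universe u

variable {G : Type u} [Group G] [Finite G] {A S P U H L T W : Subgroup G}
  {a b c e g k m n r s t u v x y : G} {p : ℕ}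

theorem L3F.not_five {f r c : ℕ} (h : L3F L T k f r c) : ¬ 5 ∣ ♯L := by
  have h1 := h.card
  have h2 := h.par
  have h3 : 3 ^ (2 * f + 1) % 5 = 3 ∨ 3 ^ (2 * f + 1) % 5 = 2 := by
    clear h h1 h2
    induction f with
    | zero => simp
    | succ f ih => rw [show 3 ^ (2 * (f + 1) + 1) = 3 ^ (2 * f + 1) * 9 by ring]; omega
  generalize 3 ^ (2 * f + 1) = q at h1 h2 h3
  rw [h1, Nat.prime_five.dvd_mul, Nat.prime_five.dvd_mul, Nat.prime_five.dvd_mul]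
  unfold JR.Par at h2
  omega

theorem SzF.dvd_card {n : ℕ} (h : SzF L T W k n) : 64 ∣ ♯L := by
  obtain ⟨j, hj⟩ := Nat.exists_eq_add_of_le h.three
  refine .trans ?_ (card_dvd h.syl.le)
  rw [h.cardT, hj, ← pow_mul]
  exact ⟨2 ^ (2 * j), by ring⟩

theorem le_of_dvd_syl (hT : Syl 2 T H) (hL : L ≤ H) (h : 64 ∣ ♯L) : 64 ∣ ♯T := by
  obtain ⟨Q, hQ⟩ := Sylow.exists_subgroup_card_pow_prime 2 (n := 6) h
  have := hT.card_dvd ((map_subtype_le Q).trans hL) ((isPGroup_of_card_prime_pow hQ).map _)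
  rwa [Core.card_map_subtype, hQ] at this

theorem MC.lt (hG : MC G) (h : H ≠ ⊤) : KY.{u} (♯H + 1) :=
  hG.ky.mono (by simpa using card_lt (lt_top_iff_ne_top.2 h))

theorem MC.cent_ne (hG : MC G) (h : P ≠ ⊥) : 𝐂(P) ≠ ⊤ := fun e => by
  have := hG.simple
  have h1 : P ≤ center G := cent_top (G := G) ▸ le_cent_symm e.ge
  rcases IsSimpleGroup.eq_bot_or_eq_top_of_normal (center G) inferInstance with e | e
  · exact h (le_bot_iff.1 (e ▸ h1))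
  · exact hG.nab ⟨⟨fun x y => mem_center_iff.1 (e.ge (mem_top y)) x⟩⟩

theorem MC.perfect (hG : MC G) : der (⊤ : Subgroup G) = ⊤ :=
  (hG.simple.eq_bot_or_eq_top_of_normal _ (normalIn_top.1 (der_normal ⊤))).resolve_left fun e' =>
    hG.nab ⟨⟨fun x y => ab_iff.1 (ab_iff_der.2 e') x (mem_top x) y (mem_top y)⟩⟩

namespace US

variable (h : US S A r)
include h

theorem le_CM : S ≤ CM A S := W4.le_CM.2 ⟨h.cen.trans (cent_le_norm A), h.hig.1.le⟩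

theorem norm_CM : 𝐍(S) ≤ 𝐍(CM A S) := le_norm_CM h.normA le_rfl

theorem fib_mem (ha : a ≠ 1) (e : x * x = a) : x ∉ A := fun e' => ha (e ▸ h.sqA e')

theorem mem_CM_of_ne (he : e ∈ 𝐍(S) ⊓ 𝐂(A)) (hp : p.Prime) (h5 : p ≠ 5) (h1 : PiElt {p} e) :
    e ∈ CM A S := by
  by_cases h2 : p = 2
  · exact h.le_CM (h.syl.mem_of_mem_norm (mem_top e) he.1 (h2 ▸ h1))
  have := Fact.mk hp
  obtain ⟨a, ha, a1⟩ := h.exists_ne
  obtain ⟨x, hx, h3⟩ := exists_fix_conj (isPGroup_zpowers_iff.2 h1) (X := {x | x ∈ S ∧ x * x = a})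
    (fun g hg w hw => ⟨conj_mem_of_norm (zpowers_le.2 he hg).1 hw.1, by
      rw [conj_mul, hw.2, mem_cent_iff_conj.1 (zpowers_le.2 he hg).2 a ha]⟩) fun e => by
      rw [h.ncard_fib ha a1, show 20 = 2 ^ 2 * 5 from rfl, hp.dvd_mul] at e
      exact e.elim (fun e => h2 ((Nat.prime_dvd_prime_iff_eq hp Nat.prime_two).1 (hp.dvd_of_dvd_pow e)))
        fun e => h5 ((Nat.prime_dvd_prime_iff_eq hp Nat.prime_five).1 e)
  exact h.mem_CM he.1 hx.1 (h.fib_mem a1 hx.2) (by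
    rw [h3 e (mem_zpowers e), mul_inv_cancel]; exact A.one_mem)

theorem mem_CM_of_five (he : e ∈ 𝐍(S) ⊓ 𝐂(A)) (h1 : constt {5} e ∈ CM A S) : e ∈ CM A S :=
  mem_of_forall_constt_mem fun p hp _ => by
    by_cases h5 : p = 5
    · exact h5 ▸ h1
    · exact h.mem_CM_of_ne (constt_mem _ he) hp h5 (piElt_constt _ e)

theorem mem_CM_of_pow (he : e ∈ 𝐍(S) ⊓ 𝐂(A)) {i : ℕ} (hi : ¬ 5 ∣ i) (h1 : e ^ i ∈ CM A S) :
    e ∈ CM A S := by
  refine h.mem_CM_of_five he (zpowers_le.2 (constt_pow _ e i ▸ constt_mem {5} h1)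
    (mem_zpowers_pow_iff.2 (Nat.Coprime.symm ?_)))
  exact (piElt_constt {5} e).coprime ((isPiNum_compl_singleton Nat.prime_five).2 hi)

theorem comm_CM : ⁅𝐍(S), 𝐍(S) ⊓ 𝐂(A)⁆ ≤ CM A S := by
  have := Fact.mk Nat.prime_five
  have := Fact.mk Nat.prime_three
  obtain ⟨a, ha, a1⟩ := h.exists_ne
  obtain ⟨x, hx, e⟩ : {x | x ∈ S ∧ x * x = a}.Nonempty :=
    Set.nonempty_of_ncard_ne_zero (by rw [h.ncard_fib ha a1]; norm_num)
  have hA := h.fib_mem a1 e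
  have hE : 𝐍(S) ≤ 𝐍(𝐍(S) ⊓ 𝐂(A)) := le_norm_inf (le_norm_self _) (le_norm_cent h.normA)
  have hSE : S ≤ 𝐍(S) ⊓ 𝐂(A) := le_inf (le_norm_self S) h.cen
  have hr : ∀ n ∈ 𝐍(S), n ∈ 𝐍(S) ⊓ 𝐂(A) ∨ r⁻¹ * n ∈ 𝐍(S) ⊓ 𝐂(A) ∨ (r * r)⁻¹ * n ∈ 𝐍(S) ⊓ 𝐂(A) :=
    fun n hn => (h.split (h.normA hn)).imp (⟨hn, ·⟩) fun e => e.imp
      (mem_inf.2 ⟨mul_mem (inv_mem h.normS) hn, ·⟩)
      (mem_inf.2 ⟨mul_mem (inv_mem (mul_mem h.normS h.normS)) hn, ·⟩)
  have h0 := fun e he => h.mem_CM_of_five (e := e) he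
  have h1 : (𝐍(S) ⊓ 𝐂(A) ⊓ 𝐂[x]).relIndex (𝐍(S) ⊓ 𝐂(A)) ≤ 20 := by
    rw [← Camina.ncard_class, ← h.ncard_fib ha a1]
    refine Set.ncard_le_ncard ?_
    rintro _ ⟨g, hg, rfl⟩
    exact ⟨conj_mem_of_norm hg.1 hx, by rw [conj_mul, e, mem_cent_iff_conj.1 hg.2 a ha]⟩
  have hle : 𝐍(S) ⊓ 𝐂(A) ≤ 𝐍(S) := inf_le_left
  generalize 𝐍(S) ⊓ 𝐂(A) = E at *
  have h2 := relIndex_mul_relIndex (E ⊓ 𝐂[x]) (E ⊓ CM A S) E (le_inf inf_le_left fun g hg =>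
    h.mem_CM (hle hg.1) hx hA (by rw [mem_cent1_iff_conj.1 hg.2, mul_inv_cancel]; exact A.one_mem))
    inf_le_left
  have h3 : 4 ≤ (E ⊓ 𝐂[x]).relIndex (E ⊓ CM A S) := by
    have k1 := card_inf_mul_relIndex (E ⊓ 𝐂[x]) S
    rw [inf_right_comm, inf_eq_right.2 hSE, h.card_cent hx hA, h.cardS] at k1
    have := relIndex_le_of_le_right (H := E ⊓ 𝐂[x]) (le_inf hSE h.le_CM) (relIndex_pos _ _).ne'
    omega
  have hn := hle.trans h.norm_CM
  have h4 : ♯(E ⁒ CM A S) ≤ 5 := by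
    rw [card_quo hn, ← inf_relIndex_left]
    nlinarith
  have h5 : IsPGroup 5 (E ⁒ CM A S) := isPGroup_iff_piGrp.2 (piGrp_iff_forall.2 fun z hz => by
    obtain ⟨e, he, rfl⟩ := (mem_quo_of_le hn).1 hz
    have k1 : constt {5}ᶜ e ∈ CM A S := h0 _ (constt_mem _ he) (by
      rw [constt_eq_one (piElt_constt _ e)]; exact one_mem _)
    rw [← constt_mul_constt_compl {5} e, coset_mul_of_mem (hn (constt_mem _ he)) k1]
    exact (piElt_constt _ e).coset _)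
  refine (quo_le_cent_iff h.norm_CM hn).1 ?_
  by_cases h6 : E ⁒ CM A S = ⊥
  · rw [h6, cent_bot]; exact le_top
  have h7 : ♯(E ⁒ CM A S) = 5 :=
    le_antisymm h4 (Nat.le_of_dvd (card_pos' _) (dvd_card_of_isPGroup h5 h6))
  have h8 := h7 ▸ Nat.prime_five
  have h9 : ∀ e ∈ E, coset (CM A S) e ∈ 𝐂(E ⁒ CM A S) := fun e he =>
    (ab_of_isCyclic (isCyclic_of_prime h8)).le_cent (coset_mem_quo _ he)
  obtain ⟨w, hw, h10⟩ := exists_fix_conj (isPGroup_zpowers_iff.2 (h.three.coset (CM A S)))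
    (X := sharp (E ⁒ CM A S)) (fun g hg w hw => conj_mem_sharp
      (zpowers_le.2 (coset_mem_norm _ (hE h.normS)) hg) hw) (by rw [ncard_sharp, h7]; norm_num)
  have h11 : coset (CM A S) r ∈ 𝐂(E ⁒ CM A S) := by
    rw [← eq_zpowers_of_prime h8 hw.1 hw.2, cent_zpowers]
    exact mem_cent1_iff_conj.2 (h10 _ (mem_zpowers _))
  have h12 := h.norm_CM h.normS
  intro z hz
  obtain ⟨n, hn', rfl⟩ := (mem_quo_of_le h.norm_CM).1 hz
  rcases hr n hn' with e | e | e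
  · exact h9 n e
  · rw [← mul_inv_cancel_left r n, coset_mul h12 (hn e)]
    exact mul_mem h11 (h9 _ e)
  · rw [← mul_inv_cancel_left (r * r) n, coset_mul (mul_mem h12 h12) (hn e), coset_mul h12 h12]
    exact mul_mem (mul_mem h11 h11) (h9 _ e)

theorem cenN : 𝐂(A) ≤ 𝐍(A) := cent_le_norm A

theorem SN : S ≤ 𝐍(A) := h.cen.trans h.cenN

theorem sylq : Syl 2 (S ⁒ A) (𝐂(A) ⁒ A) := (h.syl.mono h.cen le_top).quo h.cenN

theorem normal_q : (𝐂(A) ⁒ A) ⊴ ⊤ := quo_norm A ▸ NormalIn.quo ⟨h.cenN, norm_le_norm_cent A⟩ A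

theorem exists_norm {z : Coset A} (hz : z ∈ 𝐍(S ⁒ A)) : ∃ n ∈ 𝐍(S), coset A n = z :=
  (mem_quo_of_le h.normA).1 ((quo_norm_eq ⟨h.le, h.SN⟩).ge hz)

theorem mem_C (hn : n ∈ 𝐍(A)) (e : coset A n ∈ 𝐂(A) ⁒ A) : n ∈ 𝐂(A) :=
  (coset_mem_quo_iff hn (h.le.trans h.cen)).1 e

/-- `C(A) / A` has 2-length one -/
theorem normal_K (kf2 : KF2.{u}) (hG : MC G) : (O (𝐂(A) ⁒ A) ⊔ S ⁒ A) ⊴ ⊤ := by
  have h1 : IsElementaryAbelian 2 (S ⁒ A) :=
    (abelem_quo_iff h.SN).2 ⟨h.hig.1.le, fun x hx => pow_two x ▸ h.sq hx⟩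
  have h2 : ♯(S ⁒ A) = 16 := by
    have := card_mul_card_quo (⟨h.le, h.SN⟩ : A ⊴ S)
    rw [h.card, h.cardS] at this
    omega
  obtain ⟨a, ha, a1⟩ := h.exists_ne
  obtain ⟨F, hF⟩ := kf2 _ _ _ _ (s3f_coset hG.s3f A) ((hG.lt (hG.cent_ne fun e : A = ⊥ =>
    a1 (mem_bot.1 (e ▸ ha)))).mono (Nat.succ_le_succ (card_quo_le _ _))) h.sylq le_rfl h1
    fun _ _ _ _ e => e
  have h3 : F = ∅ := Set.eq_empty_of_forall_notMem fun L hL => by
    obtain ⟨W, k, hc⟩ := hF.cp L hL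
    obtain ⟨Z, -, -, -, -, -, ⟨T, n, h4, -⟩ | ⟨f, r, c, -, -, h4, -⟩⟩ := hc.kind
    · have := le_of_dvd_syl h.sylq hc.le (h4.dvd_card.trans (card_quo_dvd _ _))
      omega
    obtain ⟨e, he, rfl⟩ := h.exists_norm hc.kA
    have he' : e ∈ 𝐍(S) ⊓ 𝐂(A) := ⟨he, h.mem_C (h.normA he) (hc.le hc.kL)⟩
    obtain ⟨v, hv, v1⟩ := exists_mem_ne_one (H := W) fun e => by rw [e, card_bot] at h4; omega
    obtain ⟨x, hx, rfl⟩ := (mem_quo_of_le h.SN).1 (hc.wle hv).1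
    have hA : x ∉ A := fun e => v1 (coset_eq_one e)
    have k1 : ∀ i : ℕ, ¬ 5 ∣ i → coset A e ^ i * coset A x * (coset A e ^ i)⁻¹ ≠ coset A x :=
      fun i hi e' => by
        have k2 := h.mem_CM_of_pow he' hi (h.mem_CM (pow_mem he i) hx hA
          ((coset_commute_iff (pow_mem (h.normA he) i) (h.SN hx)).1 (by
            rw [coset_pow (h.normA he)]; exact mul_inv_eq_iff_eq_mul.1 e')))
        have k3 : coset A e ∈ 𝐂[coset A x] :=
          mem_cent1.2 ((coset_commute_iff k2.1 (h.SN hx)).2 (k2.2 x hx))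
        refine absurd (card_le (show W ≤ zpowers (coset A x) from fun w hw => ?_)) ?_
        · by_cases w1 : w = 1
          · exact w1 ▸ one_mem _
          obtain ⟨j, rfl⟩ := hc.cyc _ hv w hw v1 w1
          rw [mem_cent1_iff_conj.1 (pow_mem k3 j)]
          exact mem_zpowers _
        · rw [h4, Nat.card_zpowers, orderOf_eq_prime (h1.2 _ (hc.wle hv).1) v1]; norm_num
    have k2 := conj_mem_of_norm hc.kW hv
    have k3 := conj_mem_of_norm hc.kW k2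
    generalize coset A e = k at *
    generalize coset A x = v at *
    have k4 : k * v * k⁻¹ ≠ v := by simpa using k1 1 (by norm_num)
    have k5 : k * (k * v * k⁻¹) * k⁻¹ ≠ v := by simpa [pow_two, mul_assoc] using k1 2 (by norm_num)
    rcases W0.five h4.le hv k2 k3 (conj_mem_of_norm hc.kW k3) v1 (by simpa) (by simpa) (by simpa) with
      e | e | e | e | e | e
    · exact k4 e.symm
    · exact k5 e.symm
    · exact k1 3 (by norm_num) ((cube_conj k v).trans e.symm)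
    · exact k4 (by simpa using e.symm)
    · exact k5 (by simpa using e.symm)
    · exact k4 (by simpa using e.symm)
  have h4 := hF.ncl_le
  rw [h3, sSup_empty, sup_bot_eq] at h4
  have h5 : ⊤ ≤ 𝐍(O (𝐂(A) ⁒ A)) := le_norm_O h.normal_q.2
  refine ⟨le_top, (h.sylq.frattini h.normal_q).sup_eq.ge.trans (sup_le (fun g hg => ?_)
    (le_norm_sup (le_top.trans h5) inf_le_right))⟩
  refine mem_norm_of_conj_le ?_
  rw [conj_sup, conj_eq_of_mem_norm (h5 (mem_top g))]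
  exact sup_le le_sup_left
    (((conj_mono g (le_ncl _ _)).trans (conj_eq_of_mem_norm (norm_ncl _ _ hg)).le).trans h4)

theorem two_le (hU : IsPGroup 2 U) (hA : A ≤ U) : U ≤ 𝐂(A) := by
  obtain ⟨g, -, e⟩ := h.syl.exists_conj_le le_top hU
  have h1 : g ∈ 𝐍(A) := mem_norm_of_conj_mem fun a ha =>
    h.inv _ (e (conj_mem_conj (hA ha))) (W0.conj_sq (h.sqA ha) g)
  exact conj_le_conj_iff.1 ((e.trans h.cen).trans
    (conj_eq_of_mem_norm (norm_le_norm_cent A h1)).ge)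

/-- a normal subgroup of `N(A)` of index 15 -/
theorem exists_D (kf2 : KF2.{u}) (hG : MC G) : ∃ D : Subgroup G, 𝐍(A) ≤ 𝐍(D) ∧
    (∀ n ∈ 𝐍(S), n ∈ D → n ∈ CM A S) ∧ (∀ m ∈ 𝐍(A), ∀ x ∈ 𝐂(A), x⁻¹ * (m * x * m⁻¹) ∈ D) ∧
    ∀ u ∈ 𝐂(A), u ∉ D → Syl 2 A 𝐂[u] := by
  have hK := h.normal_K kf2 hG
  have hO : O (𝐂(A) ⁒ A) ⊴ ⊤ := h.normal_q.Opi _
  have hOH := O_le (𝐂(A) ⁒ A)
  have hodd : ¬ 2 ∣ ♯(O (𝐂(A) ⁒ A)) := not_dvd_Op' _
  generalize O (𝐂(A) ⁒ A) = R at hK hO hOH hodd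
  have hn : ∀ z, z ∈ 𝐍(R) := fun z => hO.2 (mem_top z)
  have hRT : R ⊓ S ⁒ A = ⊥ := ((piGrp_compl_singleton Nat.prime_two).2 hodd).inf_eq_bot' h.sylq.piGrp
  have hD : ⊤ ≤ 𝐍(CM R (S ⁒ A ⊔ R)) := le_norm_CM hO.2 (sup_comm R _ ▸ hK.2)
  have hRD : R ≤ CM R (S ⁒ A ⊔ R) := W4.le_CM.2 ⟨le_norm_self R, commutator_le_left' fun z _ => hn z⟩
  have k0 : ∀ n ∈ 𝐍(S), ∀ s ∈ S, ⁅coset A n, coset A s⁆ ∈ R → ⁅n, s⁆ ∈ A := fun n hn s hs e => by
    have h1 : ⁅n, s⁆ ∈ S := mul_mem (conj_mem_of_norm hn hs) (inv_mem hs)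
    rw [← coset_commutator (h.normA hn) (h.SN hs)] at e
    exact (coset_eq_one_iff (h.SN h1)).1 (mem_bot.1 (hRT.le ⟨e, coset_mem_quo A h1⟩))
  have k1 : ∀ n ∈ CM A S, coset A n ∈ CM R (S ⁒ A ⊔ R) := fun n h1 =>
    le_CM_sup (Y := zpowers (coset A n)) (zpowers_le.2 ⟨hn _, fun z hz => by
      obtain ⟨s, hs, rfl⟩ := (mem_quo_of_le h.SN).1 hz
      rw [← coset_commutator h1.1 (h.SN hs), coset_eq_one (h1.2 s hs)]
      exact R.one_mem⟩) (fun z _ => hn z) (mem_zpowers _)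
  have k2 : ∀ z ∈ R ⊔ S ⁒ A, ∃ o ∈ R, ∃ s ∈ S, z = o * coset A s := fun z hz => by
    obtain ⟨o, ho, t, ht, rfl⟩ := (mem_sup_norm_left fun z _ => hn z).1 hz
    obtain ⟨s, hs, rfl⟩ := (mem_quo_of_le h.SN).1 ht
    exact ⟨o, ho, s, hs, rfl⟩
  have hT : Syl 2 (S ⁒ A) (R ⊔ S ⁒ A) := h.sylq.mono le_sup_right (sup_le hOH h.sylq.le)
  have k3 : ∀ z : Coset A, ∃ o ∈ R, ∃ n ∈ 𝐍(S), z = o * coset A n := fun z => by
    obtain ⟨w, hw, z, hz, rfl⟩ := (hT.frattini hK).mem_iff.1 (mem_top z)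
    obtain ⟨o, ho, s, hs, rfl⟩ := k2 w hw
    obtain ⟨n, hn, rfl⟩ := h.exists_norm hz.2
    exact ⟨o, ho, s * n, mul_mem (le_norm_self S hs) hn, by
      rw [coset_mul (h.SN hs) (h.normA hn), mul_assoc]⟩
  refine ⟨quoPre A (CM R (S ⁒ A ⊔ R)), le_norm_quoPre le_rfl (le_top.trans hD), fun n hn e =>
    ⟨h.normA hn, fun s hs => k0 n hn s hs ((mem_quoPre.1 e).2.2 _ (mem_sup_left (coset_mem_quo A hs)))⟩,
    fun m hm x hx => ?_, fun u hu hu' => ?_⟩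
  · have hx' := h.cenN hx
    have h1 := conj_mem_of_norm (le_norm_self _ hm) hx'
    refine mem_quoPre.2 ⟨mul_mem (inv_mem hx') h1, ?_⟩
    obtain ⟨o, ho, e, he, h2⟩ := k3 (coset A x)
    obtain ⟨o', ho', n, hn', h3⟩ := k3 (coset A m)
    have h4 : e ∈ 𝐂(A) := h.mem_C (h.normA he)
      ((mul_mem_cancel_left (hOH ho)).1 (h2 ▸ coset_mem_quo A hx))
    have h5 := k1 _ (h.comm_CM (commutator_mem_commutator hn' ⟨he, h4⟩))
    have hd : ∀ z, z ∈ 𝐍(CM R (S ⁒ A ⊔ R)) := fun z => hD (mem_top z)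
    rw [coset_commutator (h.normA hn') (h.normA he), ← coset_commute_iff (hd _) (hd _)] at h5
    rw [coset_mul (inv_mem hx') h1, coset_inv, coset_conj hm hx', ← coset_eq_iff (hd _) (hd _),
      coset_conj (hd _) (hd _), h2, h3, coset_mul_of_mem' (hRD ho) (hd _),
      coset_mul_of_mem' (hRD ho') (hd _), h5, mul_inv_cancel_right]
  · refine syl_of_max (le_cent1_iff.2 hu) (abelem_isPGroup h.elem) fun U h1 h2 h3 =>
      le_antisymm (fun x hx => ?_) h1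
    have hx' := h.two_le h3 h1 hx
    have h4 := ((piGrp_singleton h3).piElt hx).coset A
    obtain ⟨g, hg, h5⟩ := h.sylq.exists_conj_le (zpowers_le.2 (coset_mem_quo A hx'))
      (isPGroup_zpowers_iff.2 h4)
    obtain ⟨o, ho, s, hs, h6⟩ := k2 (coset A x) ((mem_norm_iff.1 (hK.2 (mem_top g)) _).2
      (mem_sup_right (h5 (conj_mem_conj (mem_zpowers _)))))
    obtain ⟨o', ho', n, hn', h7⟩ := k3 (coset A u)
    have h8 : coset A u * coset A x = coset A x * coset A u := by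
      rw [← coset_mul (h.cenN hu) (h.cenN hx'), ← mem_cent1.1 (h2 hx), coset_mul (h.cenN hx') (h.cenN hu)]
    have h9 := congrArg (coset R) h8
    rw [coset_mul (hn _) (hn _), coset_mul (hn _) (hn _), h6, h7, coset_mul_of_mem' ho (hn _),
      coset_mul_of_mem' ho' (hn _), coset_commute_iff (hn _) (hn _)] at h9
    by_cases h10 : s ∈ A
    · rw [coset_eq_one h10, mul_one] at h6
      exact (coset_eq_one_iff (h.cenN hx')).1 (h4.eq_one
        (((piGrp_compl_singleton Nat.prime_two).2 hodd).piElt (h6 ▸ ho)))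
    · exact absurd (mem_quoPre.2 ⟨h.cenN hu, h7 ▸ mul_mem (hRD ho')
        (k1 n (h.mem_CM hn' hs h10 (k0 n hn' s hs h9)))⟩) hu'

theorem not_five (kf2 : KF2.{u}) (hG : MC G) (hH : H ≠ ⊤) (hA : Syl 2 A H) (hO : O H ≤ 𝐂(A)) :
    ¬ 5 ∣ 𝐍(A).relIndex H := by
  obtain ⟨F, hF⟩ := kf2 G A H A hG.s3f (hG.lt hH) hA le_rfl h.elem fun _ _ _ _ e => e
  have h1 : ncl A H ≤ H := ncl_le hA.le (le_norm_self H)
  have h2 : 𝐍(A).relIndex H = 𝐍(A).relIndex (ncl A H) := by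
    have := relIndex_sup_eq (A := ncl A H) (B := H ⊓ 𝐍(A)) (.inr (inf_le_left.trans (norm_ncl A H)))
    rw [le_antisymm (sup_le h1 inf_le_left) hF.fratt, inf_relIndex_left] at this
    rw [this, ← inf_relIndex_left (ncl A H), ← inf_assoc, inf_eq_left.2 h1, inf_relIndex_left]
  have hO' := hO.trans h.cenN
  rw [h2]
  rcases F.eq_empty_or_nonempty with rfl | ⟨L, hL⟩
  · rw [relIndex_eq_one.2 (hF.ncl_le.trans (by simpa using ⟨hO', le_norm_self A⟩))]; norm_num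
  have k1 : ∀ L ∈ F, A ≤ L ∧ ¬ A ≤ 𝐂(L) ∧ ¬ 5 ∣ ♯(L ⁒ O H) := fun L hL => by
    obtain ⟨W, k, hc⟩ := hF.cp L hL
    obtain ⟨Z, -, -, -, -, -, ⟨T, n, h4, -⟩ | ⟨f, r, c, h3, rfl, h4, -⟩⟩ := hc.kind
    · have := le_of_dvd_syl hA hc.le (h4.dvd_card.trans (card_quo_dvd _ _))
      rw [h.card] at this
      omega
    obtain rfl : W = A := eq_of_le_of_card_le (hc.wle.trans inf_le_left) (by rw [h4, h.card])
    refine ⟨hc.wle.trans inf_le_right, fun e => ?_, h3.not_five⟩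
    obtain ⟨a, ha, a1⟩ := h.exists_ne
    obtain ⟨j, hj⟩ := hc.cyc a ha _ (conj_mem_of_norm h.norm ha) a1 (conj_ne_one.2 a1)
    rw [mem_cent_iff_conj.1 (pow_mem (le_cent_symm e hc.kL) j) a ha] at hj
    exact a1 (h.fpf ha hj.symm)
  have h3 : ncl A H ≤ L ⊔ O H := hF.ncl_le.trans (sup_le (sup_le le_sup_right
    ((k1 L hL).1.trans le_sup_left)) (sSup_le fun L' hL' => by_contra fun e =>
      (k1 L' hL').2.1 ((le_inf le_rfl ((k1 L hL).1.trans le_sup_left)).trans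
        (hF.comm L hL L' hL' fun e' => e (e' ▸ le_sup_left)).1)))
  obtain ⟨W, k, hc⟩ := hF.cp L hL
  have h4 := hc.le.trans (le_norm_O (le_norm_self H))
  refine fun e => (k1 L hL).2.2 ((e.trans (relIndex_dvd_of_le_left _ hO')).trans ?_)
  rw [card_quo h4, ← relIndex_sup_eq (.inl h4)]
  exact relIndex_dvd_of_le_norm h3 (sup_le h4 (le_norm_self _))

theorem le_CM' (kf2 : KF2.{u}) (hG : MC G) (hN : NP A) : 𝐍(S) ⊓ 𝐂(A) ≤ CM A S := fun e he => by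
  have := Fact.mk Nat.prime_five
  obtain ⟨D, h1, h2, h3, h4⟩ := h.exists_D kf2 hG
  obtain ⟨P, hP, h5⟩ := exists_syl_ge (p := 5) (zpowers_le.2 (constt_mem {5} (h.normA he.1)))
    (isPGroup_zpowers_iff.2 (piElt_constt _ e))
  refine h.mem_CM_of_five he (h2 _ (constt_mem _ he.1) (by_contra fun h6 => ?_))
  have hu := h5 (mem_zpowers _)
  generalize constt {5} e = u at hu h6
  have hPC : P ≤ 𝐂(A) := fun x hx => h.mem_cent (hP.le hx)
    ((hP.piGrp.piElt hx).not_dvd Nat.prime_three (by simp))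
  have h7 : Syl 2 A 𝐂(P) := (h4 u (hPC hu) h6).mono (le_cent_symm hPC) (cent_le_cent1 hu)
  obtain ⟨c, hc, n, hn, e⟩ := ((hP.mono hPC h.cenN).frattini
    ⟨h.cenN, norm_le_norm_cent A⟩).mem_iff.1 h.norm
  have h8 := h.not_five kf2 hG (hG.cent_ne fun e : P = ⊥ => h6 (mem_bot.1 (e ▸ hu) ▸ D.one_mem)) h7
    (hN _ (Nat.odd_iff.2 (Nat.two_dvd_ne_zero.1 (not_dvd_Op' _))) (le_norm_O (le_norm_of_le h7.le))
      ⟨n, le_norm_O (norm_le_norm_cent P) hn.2, hn.1, fun e' => h.not_mem (e ▸ mul_mem hc e')⟩)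
  have h9 := (h7.frattini ⟨cent_le_norm P, norm_le_norm_cent P⟩).relIndex_eq
  rw [← inf_relIndex_left 𝐂(P), ← inf_assoc, inf_eq_left.2 (cent_le_norm P),
    inf_relIndex_left 𝐂(P)] at h9
  have h10 : Syl 5 P ⊤ := .of_syl_norm le_top (by
    rw [top_inf_eq]
    exact ((hP.mono (le_inf (le_norm_self P) hP.le) inf_le_right).hall.trans_of_relIndex inf_le_left
      ((isPiNum_compl_singleton Nat.prime_five).2 (h9 ▸ h8))).syl)
  have k1 : ∀ x ∈ P, ∀ g, g * x * g⁻¹ ∈ P → x ∉ D → x⁻¹ * (g * x * g⁻¹) ∈ D := fun x hx g hg e => by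
    have k2 := (h4 x (hPC hx) e).conj g
    rw [← cent1_conj] at k2
    obtain ⟨c, hc, k3⟩ := k2.exists_conj' (k2.of_card_eq (le_cent1_iff.2 (hPC hg)) (card_conj g A).symm)
    have k4 := h3 (c * g) (conj_eq_self_iff.1 (by rw [← conj_conj, ← k3])) x (hPC hx)
    rwa [show c * g * x * (c * g)⁻¹ = c * (g * x * g⁻¹) * c⁻¹ by group, mem_cent1_iff_conj.1 hc] at k4
  have h11 := focal_subgroup_gen h10
  rw [hG.perfect, inf_top_eq] at h11
  refine h6 ((h11.le.trans ((closure_le D).2 ?_)) hu)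
  rintro _ ⟨x, hx, g, -, hg, rfl⟩
  by_cases e1 : x ∈ D
  · by_cases e2 : g * x * g⁻¹ ∈ D
    · exact mul_mem (inv_mem e1) e2
    · simpa [mul_assoc] using inv_mem (k1 _ hg g⁻¹ (by simpa [mul_assoc] using hx) e2)
  · exact k1 x hx g hg e1

end US

theorem u34 (kf2 : KF2.{u}) : U34.{u} := fun G _ _ A hG hA h4 hD hN => by
  have := hG.simple
  obtain ⟨S, hS, hle⟩ := exists_syl_ge (M := ⊤) le_top (abelem_isPGroup hA.elem)
  obtain ⟨h1, r, h2, h3, h5⟩ := hA.exists_q4 hG.nab hG.s3f h4 hS hle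
  have h6 : Ab S := by_contra fun e =>
    have h : US S A r := ⟨h5, hS, h2, h3, hle, h1, fun x hx x2 => hA.mem hS.isPGroup hle hx (hD x x2), e⟩
    (h.hyp hA (h.le_CM' kf2 hG hN)).false_of hG.perfect
  intro P hP
  obtain ⟨g, -, e⟩ := hS.exists_conj_le le_top hP
  exact ab_conj.1 (ab_of_le h6 e)

end Cfsg.Agent.R4
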