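import Cfsg.Agent.Lib.R4.KF2c

/-!
# The structure of `S₃`-free `K`-groups with a strongly closed elementary abelian subgroup
-/

set_option autoImplicit false
set_option linter.unusedSectionVars false

namespace Cfsg.Agent.R4

open Subgroup Cfsg.Agent.OO Cfsg.Agent.Coprime Cfsg.Agent.SZ Cfsg.Agent.GW Cfsg.Agent.W4
  Cfsg.Agent.Wal
open scoped commutatorElement Pointwise

universe u

variable {G : Type u} [Group G] [Finite G] {A H L N T W Y : Subgroup G} {a g k w x : G}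

theorem quo_ncl_le (hA : A ≤ H) (hH : H ≤ 𝐍(N)) : ncl A H ⁒ N ≤ ncl (A ⁒ N) (H ⁒ N) :=
  (quo_le_iff_le_quoPre ((ncl_le hA (le_norm_self H)).trans hH)).2 (ncl_le
    ((quo_le_iff_le_quoPre (hA.trans hH)).1 (le_ncl _ _)) (le_norm_quoPre hH (norm_ncl _ _)))

/-- `L` is a minimal lift of the component `K` -/
structure Lf (A H T : Subgroup G) (K : Subgroup (Coset (O H))) (L W : Subgroup G) (k : G) : Prop
    extends Pre A H T K W k where
  cent : L ≤ 𝐂(A ⊓ quoPre (O H) 𝐂(K))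
  ge : W ≤ L
  eq : L ⁒ O H = K
  kL : k ∈ L
  norm : L ≤ 𝐍(O H)
  min : ∀ L', W ≤ L' → L' ⁒ O H = K → L' ≤ L → L' = L

namespace K2H

variable (h : K2H A H T) {K : Subgroup (Coset (O H))} (hK : Cmp (H ⁒ O H) K)
include h hK

theorem exists_lf (hm : ¬ A ⁒ O H ≤ 𝐂(K)) : ∃ L W k, Lf A H T K L W k := by
  obtain ⟨W, k0, P⟩ := h.exists_pre hK hm
  have hN := quoPre_le_norm K
  have hZ := preZ_normal K
  obtain ⟨L, h1, h2, h3⟩ := Core.exists_minimal_le (P := fun L => W ≤ L ∧ L ⁒ O H = K)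
    (H := quoPre (O H) K ⊓ 𝐂(A ⊓ quoPre (O H) 𝐂(K))) ⟨le_inf (P.wle.trans inf_le_right)
      (le_cent_mono (abelem_le_cent h.elem) (P.wle.trans inf_le_left) inf_le_left), by
    rw [quo_inf_cent (le_quoPre K) (inf_le_left.trans h.leN) (cop (odd_O H) (h.two.to_le inf_le_left))
      (.inl (sol_of_odd (odd_O H))), quo_quoPre, inf_quoPre_quo, inf_eq_left]
    exact le_cent_symm inf_le_right⟩
  have h4 := h1.trans inf_le_left
  obtain ⟨g, hg, -, e⟩ := mem_quo.1 (h2.2.ge (mem_quoPre.1 P.kmem).2)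
  obtain ⟨k, hk, e'⟩ := exists_norm_lift (h4.trans hN) (odd_O H) h2.1
    (h.two.to_le (P.wle.trans inf_le_left)) hg (e ▸ coset_mem_norm _ P.kW)
  have e1 := (coset_eq_iff (hZ.norm (h4 hk.1)) (hZ.norm P.kmem)).2
    (le_quoPre _ ((coset_eq_iff (hN (h4 hk.1)) (hN P.kmem)).1 (e'.trans e)))
  exact ⟨L, W, k, ⟨e1 ▸ P.kk, P.wle, P.inf, P.sup, h4 hk.1, hk.2⟩, h1.trans inf_le_right, h2.1, h2.2,
    hk.1, h4.trans hN, fun L' a b => h3 L' ⟨a, b⟩⟩

variable (P : Lf A H T K L W k)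
include P

omit h hK in
theorem lf_sup : L ⊔ O H = quoPre (O H) K := by rw [← quoPre_quo_eq_sup P.norm, P.eq]

omit hK in
theorem lf_cent : A ⊓ 𝐂(L) = A ⊓ quoPre (O H) 𝐂(K) :=
  le_antisymm (fun _ ha => ⟨ha.1, mem_quoPre.2 ⟨h.leN ha.1,
    P.eq ▸ quo_cent_le L _ (coset_mem_quo _ ha.2)⟩⟩) (le_inf inf_le_left (le_cent_symm P.cent))

omit h hK in
theorem lf_inj {v : G} (hv : v ∈ W) (hw : w ∈ W)
    (e : coset (quoPre (O H) (Zc K)) v = coset (quoPre (O H) (Zc K)) w) : v = w :=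
  inv_mul_eq_one.1 (mem_bot.1 (P.inf.le ⟨(coset_eq_iff ((preZ_normal K).norm (P.wle hv).2)
    ((preZ_normal K).norm (P.wle hw).2)).1 e, W.mul_mem (W.inv_mem hv) hw⟩))

omit h hK in
theorem lf_card : ♯(W ⁒ quoPre (O H) (Zc K)) = ♯W :=
  card_quo_of_inf_eq_bot ((P.wle.trans inf_le_right).trans (preZ_normal K).norm) P.inf

omit hK in
theorem lf_split (ha : a ∈ A) : ∃ w ∈ W, ∃ c ∈ A ⊓ 𝐂(L), w * c = a :=
  (mem_sup_norm_left (le_norm_of_le_cent (le_cent_mono (abelem_le_cent h.elem) inf_le_left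
    (P.wle.trans inf_le_left)))).1 (h.lf_cent P ▸ P.sup ha)

theorem lf_cent_iff (ha : a ∈ A) : a ∈ 𝐂(L) ↔
    coset (quoPre (O H) (Zc K)) a ∈ 𝐂(quoPre (O H) K ⁒ quoPre (O H) (Zc K)) := by
  rw [coset_cent_iff hK.der_eq (h.norm_pre hK ha)]
  exact ⟨fun e => (mem_quoPre.1 ((h.lf_cent P).le ⟨ha, e⟩).2).2,
    fun e => ((h.lf_cent P).ge ⟨ha, mem_quoPre.2 ⟨h.leN ha, e⟩⟩).2⟩

theorem lf_pc : PC A L W k := by
  have hF := P.kk.sf
  have hZ := preZ_normal K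
  have hWZ := (P.wle.trans inf_le_right).trans hZ.norm
  have hk := hZ.norm P.kmem
  have four : 2 < ♯W := by have := hF.four; rw [lf_card P] at this; omega
  have cyc : ∀ v ∈ W, ∀ w ∈ W, v ≠ 1 → w ≠ 1 → ∃ j : ℕ, k ^ j * v * (k ^ j)⁻¹ = w :=
    fun v hv w hw v1 w1 => by
      obtain ⟨j, e⟩ := hF.cyc _ (coset_mem_quo _ hv) _ (coset_mem_quo _ hw)
        (fun e => v1 (lf_inj P hv (one_mem _) (e.trans (coset_one _).symm)))
        fun e => w1 (lf_inj P hw (one_mem _) (e.trans (coset_one _).symm))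
      exact ⟨j, lf_inj P (conj_mem_of_norm (pow_mem P.kW j) hv) hw (by
        rw [coset_conj (pow_mem hk j) (hWZ hv), coset_pow hk, e])⟩
  refine ⟨le_inf (P.wle.trans inf_le_left) P.ge, four, h.lf_cent P ▸ P.sup, P.kL, ?_, P.kW, cyc,
    fun X hX a ha a1 => ?_,
    fun e => Core.not_isSolvable_of_isQuasisimple hK.2 (P.eq ▸ sol_quo e (O H))⟩
  · rw [P.sup.antisymm (sup_le (P.wle.trans inf_le_left) inf_le_left)]
    exact mem_norm_sup P.kW (cent_le_norm _ (P.cent P.kL))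
  obtain ⟨w, hw, c, hc, rfl⟩ := h.lf_split P ha.1
  have h1 : ⁅k, w * c⁆ = ⁅k, w⁆ := by
    rw [commutatorElement_def, commutatorElement_def, mul_assoc, mul_assoc, ← mul_assoc (w * c),
      mul_assoc w, ← mem_cent_iff.1 hc.2 _ (L.inv_mem P.kL)]
    group
  have h2 : ⁅k, w⁆ ∈ W := W.mul_mem (conj_mem_of_norm P.kW hw) (W.inv_mem hw)
  have h3 : ⁅k, w⁆ ∈ X := h1 ▸ X.mul_mem (conj_mem_of_norm (hX P.kL) ha.2) (X.inv_mem ha.2)
  have h4 : ⁅k, w⁆ ≠ 1 := fun e => a1 (by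
    rw [lf_inj P hw (one_mem _) ((hF.fpf (coset_mem_quo _ hw) (by
      rw [← commutatorElement_eq_one_iff_mul_comm, ← coset_commutator hk (hWZ hw), e,
        coset_one])).trans (coset_one _).symm), one_mul]
    exact hc.2)
  have h5 : W ≤ L ⊓ X := le_inf P.ge fun v hv => by
    by_cases v1 : v = 1
    · exact v1 ▸ one_mem _
    obtain ⟨j, rfl⟩ := cyc _ h2 v hv h4 v1
    exact conj_mem_of_norm (hX (pow_mem P.kL j)) h3
  have h6 := (normalIn_inf_of_norm hX).quo (O H)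
  rw [P.eq] at h6
  refine (P.min _ h5 ((Core.le_centralizer_or_eq_of_isQuasisimple hK.2 h6.le h6.norm).resolve_left
    fun e => h4 (mem_bot.1 (P.inf.le ⟨mem_quoPre.2 ⟨P.norm (P.ge h2), ?_⟩, h2⟩)))
      inf_le_left).ge.trans inf_le_right
  exact ⟨h6.le (coset_mem_quo _ (h5 h2)), e (coset_mem_quo _ (h5 h2))⟩

theorem lf_normO (hY : Y ≤ H) (ho : Odd ♯Y) (hn : A ≤ 𝐍(Y)) : Y ≤ 𝐍(quoPre (O H) K) :=
  le_norm_quoPre (hY.trans (O_norm H)) (h.b2.normO hK (fun e => by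
    have h1 := (h.lf_pc hK P).four
    rw [eq_bot_iff.2 (P.inf ▸ le_inf (fun w hw => mem_quoPre.2 ⟨P.norm (P.ge hw), P.eq ▸ coset_mem_quo _
      (P.ge hw), e (coset_mem_quo _ (P.wle hw).1)⟩) le_rfl : W ≤ ⊥), card_bot] at h1
    omega) (quo_mono _ hY) (odd_quo ho _) (quo_le_norm _ hn))

theorem lf_Z (hW : W ⁒ quoPre (O H) (Zc K) = (T ⊓ quoPre (O H) K) ⁒ quoPre (O H) (Zc K)) :
    Zc K = ⊥ := by
  have := Fact.mk Nat.prime_two
  have hZ := preZ_normal K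
  have hWK := P.wle.trans inf_le_right
  have h1 := quo_mono (O H) ((quo_le_quo_iff_le_sup (inf_le_right.trans hZ.norm)
    (hWK.trans hZ.norm)).1 hW.ge)
  rw [quo_sup (P.ge.trans P.norm) (quoPre_le_norm _), inf_quoPre_quo, quo_quoPre] at h1
  have h2 := syl_inf_of_subnormal h.b2.syl hK.1
  refine eq_bot_iff.2 fun z hz => eq_one_of_mem_Zc (ab_of_le (ab_sup
    (ab_quo (ab_of_le h.elem.1 (P.wle.trans inf_le_left)) _) (Zc_ab K) (le_cent_symm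
      ((Zc_le_cent K).trans (cent_anti (P.eq ▸ quo_mono _ P.ge))))) h1) hz (hK.der_eq.ge hz.1) ?_
  exact ((Op_piGrp 2 _).piElt (cmp_Zc_le h.b2.O_eq hK hz)).coprime
    ((isPiNum_compl_singleton Nat.prime_two).2 h2.not_dvd)

theorem lf_cp : Cp A H L W k := by
  have := Fact.mk Nat.prime_two
  have hF := P.kk.sf
  have hb := h.b2
  have hZ := preZ_normal K
  have hN := quoPre_le_norm K
  have hO : O H ≤ quoPre (O H) (Zc K) := le_quoPre _
  have hWK := P.wle.trans inf_le_right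
  have hWZ := hWK.trans hZ.norm
  have hs := lf_sup P
  have hLK : L ≤ quoPre (O H) K := hs ▸ le_sup_left
  have hL : L ⁒ quoPre (O H) (Zc K) = quoPre (O H) K ⁒ quoPre (O H) (Zc K) := by
    rw [← hs, quo_sup_of_le (hLK.trans hZ.norm) hO]
  have hAZ : ∀ a ∈ A, a ∈ 𝐍(quoPre (O H) (Zc K)) := fun a ha => mem_norm_preZ (h.norm_pre hK ha)
  have hW : (A ⊓ quoPre (O H) K) ⁒ _ = W ⁒ quoPre (O H) (Zc K) := le_antisymm (fun w hw' => by
    obtain ⟨w, hw, -, rfl⟩ := mem_quo.1 hw'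
    exact h.mem_W hF hZ hw) (quo_mono _ P.wle)
  refine ⟨h.lf_pc hK P, hLK.trans (pre_le hK), ?_, fun Y a b c => hs ▸ h.lf_normO hK P a b c,
    fun Y a b c => ?_, fun a ha a1 => ?_, fun g hg g2 a ha => ?_, quoPre (O H) (Zc K), hO, hs ▸ hZ,
    fun g hg => mem_norm_preZ (hs ▸ hg), ?_, ?_, ?_⟩
  · exact hs ▸ le_norm_quoPre ((ncl_le h.leH (le_norm_self H)).trans (O_norm H))
      ((quo_ncl_le h.leH (O_norm H)).trans (hb.ncl_norm hK))
  · rw [hs] at a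
    exact (quo_eq_bot_iff (a.trans hN)).1 (hb.eq_bot ((Core.subnormalIn_of_le_normalizer
      ((quo_le_iff_le_quoPre (a.trans hN)).2 a) (P.eq ▸ quo_le_norm _ c)).trans hK.1) (odd_quo b _))
  · obtain ⟨w, hw, c, hc, rfl⟩ := h.lf_split P ha
    rw [hs]
    refine sol_of_quo (inf_le_left.trans hZ.norm) (sol_of_le (sol_quoPre (sol_of_odd (odd_O H))
      (sol_of_ab (Zc_ab K))) inf_le_left) (sol_of_le (P.kk.sol (coset_mem_quo _ hw) fun e => a1 ?_)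
        fun y hy' => ?_)
    · rw [lf_inj P hw (one_mem _) (e.trans (coset_one _).symm), one_mul]
      exact hc.2
    · obtain ⟨y, hy, h1, rfl⟩ := mem_quo.1 hy'
      have h2 := congrArg (coset (quoPre (O H) (Zc K))) (mem_cent1.1 hy.2)
      rw [coset_mul h1 (hAZ _ ha), coset_mul (hAZ _ ha) h1, coset_mul (hWZ hw) (hAZ _ hc.1), mul_assoc,
        ← mem_cent_iff.1 ((h.lf_cent_iff hK P hc.1).1 hc.2) _ (coset_mem_quo _ hy.1), ← mul_assoc,
        ← mul_assoc, mul_left_inj] at h2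
      exact ⟨coset_mem_quo _ hy.1, mem_cent1.2 h2⟩
  · rw [hs] at hg
    have h1 := mem_norm_preZ ⟨hg.1.1, hg.2⟩
    have h2 := coset_mem_norm (quoPre (O H) (Zc K)) hg.2
    have h3 := hF.two_cent h2 (g2.coset _) (hW ▸ coset_mem_norm _ (mem_norm_inf hg.1.2 hg.2))
    obtain ⟨w, hw, c, hc, rfl⟩ := h.lf_split P ha
    have h4 := (h.lf_cent_iff hK P hc.1).1 hc.2
    rw [h.lf_cent_iff hK P (A.mul_mem (conj_mem_of_norm hg.1.2 ha) (A.inv_mem ha)),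
      ← commutatorElement_def, coset_commutator h1 (hAZ _ ha), coset_mul (hWZ hw) (hAZ _ hc.1)]
    have h5 := conj_mem_of_norm (norm_le_norm_cent _ (le_norm_self _
      (coset_mem_quo (quoPre (O H) (Zc K)) (hWK hw))))
      (mul_mem (conj_mem_of_norm (norm_le_norm_cent _ h2) h4) (inv_mem h4))
    convert h5 using 1
    nth_rw 2 [← mem_cent_iff_conj.1 h3 _ (coset_mem_quo _ hw)]
    rw [commutatorElement_def]
    group
  · exact (quo_le_cent_iff (quoPre_le_norm _) P.norm).1 (by rw [quo_quoPre, P.eq]; exact Zc_le_cent K)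
  · rw [quo_quoPre]
    exact (Op_isPGroup 2 _).to_le (cmp_Zc_le hb.O_eq hK)
  rw [hL, hs]
  rcases P.kk with ⟨n, hz⟩ | ⟨e, f, r, c, hz⟩
  · refine .inl ⟨_, n, hz, lf_card P ▸ hz.cardW, fun Y a b c => ?_⟩
    have h1 := h.lf_normO hK P a b c
    have h2 := hz.le_cent (odd_quo b _) (quo_le_norm _ h1)
      (quo_le_norm _ ((P.wle.trans inf_le_left).trans c))
    refine (quo_le_cent_iff (a.trans (O_norm H)) P.norm).1 fun y hy' => ?_
    obtain ⟨y, hy, h3, rfl⟩ := mem_quo.1 hy'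
    exact P.eq ▸ (coset_cent_iff hK.der_eq ⟨h3, h1 hy⟩).1 (h2 (coset_mem_quo _ hy))
  have hZ' : quoPre (O H) (Zc K) = O H := by rw [h.lf_Z hK P e, quoPre_bot]
  rw [← e] at hz
  refine .inr ⟨f, r, c, hz, hZ', lf_card P ▸ hz.cardT, P.wle.antisymm' fun a ha => ?_,
    fun M h1 h2 => hLK.trans ((quo_le_quo_iff hZ.norm (hZ'.le.trans h1)).1 (hz.gen _ fun w hw' w1 => ?_))⟩
  · obtain ⟨w, hw, h1, e1⟩ := mem_quo.1 (hW.le (coset_mem_quo _ ha))
    have h2 := (inf_eq_bot_odd h.two (odd_O H)).le ⟨A.mul_mem (A.inv_mem (P.wle hw).1) ha.1,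
      hZ'.le ((coset_eq_iff h1 (hZ.norm ha.2)).1 e1)⟩
    exact inv_mul_eq_one.1 (mem_bot.1 h2) ▸ hw
  · obtain ⟨w, hw, -, rfl⟩ := mem_quo.1 hw'
    rw [← quo_cent1_of_odd hZ.norm (hZ'.symm ▸ odd_O H) (hWK hw) (h.sq (P.wle hw).1)]
    exact quo_mono _ (h2 w hw fun e => w1 (by rw [e, coset_one]))

end K2H

theorem kf2_of (kf1 : KF1.{u}) : KF2.{u} := by
  intro G _ _ A H T h1 h2 h3 h4 h5 h6
  have := Fact.mk Nat.prime_two
  have h : K2H A H T := ⟨kf1, h1, h2, h3, h4, h5, h6⟩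
  have hb := h.b2
  have hO := (Opi_normal _ H : O H ⊴ H)
  have hM : ncl A H ⊴ H := ⟨ncl_le h.leH (le_norm_self H), norm_ncl A H⟩
  choose f W k hf using fun K : {K // Cmp (H ⁒ O H) K ∧ ¬ A ⁒ O H ≤ 𝐂(K)} => h.exists_lf K.2.1 K.2.2
  have cm : ∀ x ∈ H, (∀ L ∈ Set.range f, x ∈ CM (O H) L) →
      ∀ K, Cmp (H ⁒ O H) K → ¬ A ⁒ O H ≤ 𝐂(K) → coset (O H) x ∈ 𝐂(K) := fun x hx e K a b => by
    have := (coset_mem_cent_iff (hO.norm hx) (hf ⟨K, a, b⟩).norm).2 (e _ ⟨⟨K, a, b⟩, rfl⟩).2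
    rwa [(hf ⟨K, a, b⟩).eq] at this
  have comm : ∀ K K', K ≠ K' → A ⊓ (f K ⊔ O H) ≤ 𝐂(f K') := fun K K' hne =>
    (inf_le_inf_left _ ((K2H.lf_sup (hf K)).le.trans (quoPre_mono
      (K.2.1.cent K'.2.1 (Subtype.ext_iff.not.1 hne))))).trans (le_cent_symm (hf K').cent)
  have perm : ∀ g ∈ H, ∀ L ∈ Set.range f, ∃ L' ∈ Set.range f, g •ᶜ (L ⊔ O H) = L' ⊔ O H := by
    rintro g hg _ ⟨K, rfl⟩
    refine ⟨_, ⟨⟨_, K.2.1.conj (coset_mem_quo _ hg), hb.perm K.2.1 K.2.2 (coset_mem_quo _ hg)⟩, rfl⟩, ?_⟩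
    rw [K2H.lf_sup (hf _), K2H.lf_sup (hf _), quoPre_conj (hO.norm hg)]
  have a0 : ∀ a ∈ A, (∀ L ∈ Set.range f, a ∈ 𝐂(L)) → ∀ g ∈ H, g * a * g⁻¹ ∈ O H ⊔ A :=
    fun a ha e g hg => by
      have k1 := hb.mem_Op (le_ncl _ _ (coset_mem_quo _ ha)) (cm a (h.leH ha) fun L hL =>
        le_CM_of_cent (zpowers_le.2 (e L hL)) (zpowers_le.2 (h.leN ha)) (mem_zpowers a))
      have k2 := hb.scl _ (coset_mem_quo _ ha) _ (coset_mem_quo _ hg)
        (hb.Op_le ((Op_normal 2 _).conj_mem (coset_mem_quo _ hg) k1))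
      rwa [← coset_conj (hO.norm hg) (h.leN ha), ← quo_self_sup h.leN, coset_mem_quo_iff
        (hO.norm (H.mul_mem (H.mul_mem hg (h.leH ha)) (H.inv_mem hg))) le_sup_left] at k2
  refine ⟨Set.range f, ?_, ?_, (closure_le _).2 ?_, ?_, perm, a0, fun x hx ho e => ?_,
    fun a ha X k1 k2 => ?_⟩
  · rintro _ ⟨K, rfl⟩
    exact ⟨_, _, h.lf_cp K.2.1 (hf K)⟩
  · rintro _ ⟨K, rfl⟩ _ ⟨K', rfl⟩ hne
    refine ⟨comm K K' fun e => hne (e ▸ rfl), (quo_le_cent_iff (hf K).norm (hf K').norm).1 ?_⟩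
    rw [(hf K).eq, (hf K').eq]
    exact K.2.1.cent K'.2.1 fun e => hne (Subtype.ext e ▸ rfl)
  · rintro _ ⟨g, hg, a, ha, rfl⟩
    induction' hn : {K | a ∉ 𝐂(f K)}.ncard using Nat.strong_induction_on with n ih generalizing a
    by_cases e : ∀ K, a ∈ 𝐂(f K)
    · exact mem_sup_left (a0 a ha (by rintro _ ⟨K, rfl⟩; exact e K) g hg)
    obtain ⟨K, hK⟩ := not_forall.1 e
    obtain ⟨w, hw, c, hc, rfl⟩ := h.lf_split (hf K) ha
    obtain ⟨L', hL', e'⟩ := perm g hg _ ⟨K, rfl⟩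
    rw [show g * (w * c) * g⁻¹ = g * w * g⁻¹ * (g * c * g⁻¹) by group]
    refine mul_mem (sup_le ((le_sSup hL').trans le_sup_right) (le_sup_left.trans le_sup_left)
      (e'.le (conj_mem_conj (mem_sup_left ((hf K).ge hw))))) (ih _ ?_ c hc.1 rfl)
    refine hn ▸ Set.ncard_lt_ncard ⟨fun K' k1 k2 => k1 ?_, fun k1 => k1 hK hc.2⟩
    by_cases e1 : K = K'
    · exact e1 ▸ hc.2
    · exact (mul_mem_cancel_left (comm K K' e1 ⟨((hf K).wle hw).1, mem_sup_left ((hf K).ge hw)⟩)).1 k2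
  · exact ((h3.inf_normal hM).frattini hM).sup_eq.ge.trans (sup_le_sup_left (fun g hg =>
      ⟨hg.1, h6.mem_norm inf_le_left (le_inf h4 (le_ncl A H)) hg⟩) _)
  · have k1 := sup_le hM.le hO.le hx
    have k2 := coset_mem_quo (O H) hx
    rw [quo_sup_self (hM.le.trans hO.norm)] at k2
    exact (coset_eq_one_iff (hO.norm k1)).1 (((Op_piGrp 2 _).piElt (hb.mem_Op
      (quo_ncl_le h.leH hO.norm k2) (cm x k1 e))).eq_one (PiElt.coset
        ((isPiNum_compl_singleton Nat.prime_two).2 ho.not_two_dvd_nat) _))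
  · have k3 : X ≤ H := k1.trans ((O_le _).trans inf_le_left)
    refine (quo_eq_bot_iff (k3.trans hO.norm)).1 (hb.le_O (coset_mem_quo _ ha) ?_ fun K a b y hy' => ?_)
    · rw [← quo_cent1_of_odd hO.norm (odd_O H) (h.leH ha) (h.sq ha)]
      exact (quo_mono _ k1).trans (quo_Opi_le _ _ _)
    · obtain ⟨y, hy, -, rfl⟩ := mem_quo.1 hy'
      exact cm y (k3 hy) (fun L hL => k2 L hL hy) K a b

end Cfsg.Agent.R4
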