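import Cfsg.Agent.Lib.R1.Hyp3
import Cfsg.Agent.Lib.GW.Good
import Cfsg.Agent.Lib.ZL.SEB
import Cfsg.Agent.Lib.SZ.Basic

/-!
# Interfaces for the classification of the simple `S₃`-free groups (plan R4)
-/

set_option autoImplicit false

namespace Cfsg.Agent.R4

open Subgroup Cfsg.Agent.OO Cfsg.Agent.Coprime Cfsg.Agent.SZ
open scoped commutatorElement Pointwise

universe u

/-- the simple Suzuki groups, as Zassenhaus groups -/
def IsSz (G : Type u) [Group G] : Prop := IsSimpleGroup G ∧ ∃ (S : Subgroup G) (t : G) (m : ℕ),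
  1 ≤ m ∧ BSW.HypC S t ∧ ♯S = (2 ^ (2 * m + 1)) ^ 2 ∧ ♯(BSW.Kt S t) + 1 = 2 ^ (2 * m + 1) ∧
    Nonempty (G ≃* Lie.Sz (GaloisField 2 (2 * m + 1)) (2 ^ (m + 1)))

/-- the groups `L₂(3 ^ (2 f + 1))`, `f ≥ 1` -/
def IsL3 (G : Type u) [Group G] : Prop := ∃ f : ℕ, 1 ≤ f ∧
  Nonempty (G ≃* Matrix.ProjectiveSpecialLinearGroup (Fin 2) (GaloisField 3 (2 * f + 1)))

/-- the classification of the simple `S₃`-free groups of order less than `n` -/
def KY (n : ℕ) : Prop := ∀ (X : Type u) [Group X] [Finite X], Nat.card X < n → IsSimpleGroup X →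
  ¬ IsMulCommutative X → S3F X → IsSz X ∨ IsL3 X

/-- the classification of the simple `S₃`-free groups -/
def S3C : Prop := ∀ (X : Type u) [Group X] [Finite X], IsSimpleGroup X →
  ¬ IsMulCommutative X → S3F X → IsSz X ∨ IsL3 X

section

variable {G : Type u} [Group G]

/-- a strongly closed elementary abelian 2-subgroup -/
structure SC (A : Subgroup G) : Prop where
  elem : IsElementaryAbelian 2 A
  cl : ∀ T : Subgroup G, IsPGroup 2 T → A ≤ T → ∀ a ∈ A, ∀ g : G, g * a * g⁻¹ ∈ T → g * a * g⁻¹ ∈ A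

/-- a minimal nontrivial strongly closed elementary abelian 2-subgroup -/
structure MinSC (A : Subgroup G) : Prop extends SC A where
  ne : A ≠ ⊥
  min : ∀ B : Subgroup G, SC B → B ≤ A → B = ⊥ ∨ B = A

/-- `t` is conjugate into `A` -/
def InD (A : Subgroup G) (t : G) : Prop := ∃ g : G, g * t * g⁻¹ ∈ A

/-- odd subgroups normalized by `A` and by an element moving `A` centralize `A` -/
def NP (A : Subgroup G) : Prop := ∀ Y : Subgroup G, Odd (♯Y) → A ≤ 𝐍(Y) →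
  (∃ r ∈ 𝐍(Y), r ∈ 𝐍(A) ∧ r ∉ 𝐂(A)) → Y ≤ 𝐂(A)

variable (G) in
/-- a minimal counterexample -/
structure MC : Prop where
  simple : IsSimpleGroup G
  nab : ¬ IsMulCommutative G
  s3f : S3F G
  ky : KY.{u} (Nat.card G)

/-- the conjugates of the involutions of `A` fix exactly one point of `G / M` -/
structure DSE (A M : Subgroup G) : Prop extends MC G, SC A where
  four : 4 ≤ ♯A
  ne : M ≠ ⊤
  norm : 𝐍(A) ≤ M
  cent : ∀ a ∈ A, a ≠ 1 → 𝐂[a] ≤ M

/-- `N(A)` contains a Singer cycle -/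
def Singer (A : Subgroup G) : Prop :=
  ∃ k ∈ 𝐍(A), ∀ a ∈ A, ∀ b ∈ A, a ≠ 1 → b ≠ 1 → ∃ i : ℕ, k ^ i * a * (k ^ i)⁻¹ = b

/-- `N(A) / C(A)` has odd order and is transitive on the involutions of `A` -/
structure Lin (A : Subgroup G) (n : ℕ) : Prop where
  odd : Odd n
  three : 3 ≤ n
  card : ♯A = 2 ^ n
  oddN : Odd ((𝐂(A)).relIndex 𝐍(A))
  trans : ∀ a ∈ A, ∀ b ∈ A, a ≠ 1 → b ≠ 1 → ∃ g ∈ 𝐍(A), g * a * g⁻¹ = b

/-- the structure of a maximal `D`-embedded subgroup -/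
structure DN (A M : Subgroup G) (n : ℕ) : Prop extends DSE A M, Lin A n where
  coatom : IsCoatom M
  normO : M ≤ 𝐍(A ⊔ GW.O M)
  f1 : ∀ x : G, x * x ≠ 1 → x * x * (x * x) = 1 → InD A (x * x)
  f2 : ∀ v ∈ M, v * v = 1 → ¬ InD A v → ∀ X : Subgroup G, X ⊴ M → X ≤ 𝐂[v] → X ≤ 𝐂(A)
  cnt : (∀ t : G, t * t = 1 → InD A t) ∨
    (M.index = 1 + (2 ^ n) ^ 3 * ((2 ^ n) ^ 2 - 2 ^ n + 1) ∧ Singer A)

end

/-- package Y1: a strongly closed elementary abelian subgroup exists -/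
def Y1 : Prop := ∀ (G : Type u) [Group G] [Finite G], MC G → ∃ A : Subgroup G, A ≠ ⊥ ∧ SC A

/-- package EX: rank at least 3 -/
def EX : Prop := ∀ (G : Type u) [Group G] [Finite G] (A : Subgroup G), MC G → MinSC A → 8 ≤ ♯A →
  (∃ M, DSE A M) ∨ R1.Ab2 G

/-- package EX2: two commuting strongly closed four-groups -/
def EX2 : Prop := ∀ (G : Type u) [Group G] [Finite G] (A B : Subgroup G), MC G → SC A → SC B →
  ♯A = 4 → ♯B = 4 → A ⊓ B = ⊥ → B ≤ 𝐂(A) → ∃ D M : Subgroup G, DSE D M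

/-- package RK2: one strongly closed four-group -/
def RK2 : Prop := ∀ (G : Type u) [Group G] [Finite G] (A : Subgroup G), MC G → SC A → ♯A = 4 →
  (∀ B : Subgroup G, SC B → B ≤ 𝐂(A) → A ⊓ B = ⊥ → B = ⊥) → (∀ M, ¬ DSE A M) →
  R1.Ab2 G ∨ ((∀ t : G, t * t = 1 → InD A t) ∧ NP A)

/-- package U34: Sylow 2-subgroups of type `U₃(4)` -/
def U34 : Prop := ∀ (G : Type u) [Group G] [Finite G] (A : Subgroup G), MC G → SC A → ♯A = 4 →
  (∀ t : G, t * t = 1 → InD A t) → NP A → R1.Ab2 G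

/-- package DE1 -/
def DE1 : Prop := ∀ (G : Type u) [Group G] [Finite G] (A M : Subgroup G), DSE A M → IsCoatom M →
  ∃ n, DN A M n

/-- package DE2 -/
def DE2 : Prop := ∀ (G : Type u) [Group G] [Finite G] (A M : Subgroup G) (n : ℕ), DN A M n →
  M ≤ 𝐍(A)

/-- package DE3 -/
def DE3 : Prop := ∀ (G : Type u) [Group G] [Finite G] (A M : Subgroup G) (n : ℕ), DN A M n →
  M ≤ 𝐍(A) → ∀ t : G, t * t = 1 → InD A t

/-- package SEA2: a strongly embedded subgroup whose involutions commute -/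
def SEA2 : Prop := ∀ (G : Type u) [Group G] [Finite G] (M : Subgroup G), IsSimpleGroup G →
  S3F G → ZL.SE M → (∀ s ∈ M, ∀ t ∈ M, s * s = 1 → t * t = 1 → s * t = t * s) →
  (∃ s ∈ M, ∃ t ∈ M, s ≠ 1 ∧ t ≠ 1 ∧ s ≠ t ∧ s * s = 1 ∧ t * t = 1) → IsSz G

/-- package AB: abelian Sylow 2-subgroups -/
def AB : Prop := ∀ (G : Type u) [Group G] [Finite G], IsSimpleGroup G → ¬ IsMulCommutative G →
  S3F G → R1.Ab2 G → IsL3 G

end Cfsg.Agent.R4
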