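import Cfsg.Agent.Lib.R4.DE2E

/-!
# Package DE2: linear groups of degree at most `p` with a solvable normal subgroup
-/

set_option autoImplicit false

namespace Cfsg.Agent.R4.E2

open Subgroup Cfsg.Agent.OO Cfsg.Agent.Coprime Cfsg.Agent.SZ Cfsg.Agent.GW Cfsg.Agent.W4
open Cfsg.Agent.Mod Module
open scoped commutatorElement Pointwise

universe u

/-- the 2-subgroups are abelian -/
def A2 {G : Type u} [Group G] (Y : Subgroup G) : Prop := ∀ T ≤ Y, IsPGroup 2 T → Ab T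

variable {G G' : Type u} [Group G] [Finite G] [Group G'] {L V X Y : Subgroup G} {p : ℕ} {t y : G}

theorem A2.map (h : A2 Y) (f : G →* G') : A2 (Y.map f) := fun _ hT h2 =>
  let ⟨R, h3, h4, e⟩ := Mod.exists_isPGroup_map_eq h2 hT
  e ▸ ab_map (h R h3 h4) f

omit [Finite G] in
theorem A2.subgroupOf (h : A2 Y) (L : Subgroup G) : A2 (Y.subgroupOf L) := fun T hT h2 =>
  ab_iff.2 fun _ ha _ hb => Subtype.ext (ab_iff.1 (h (T.map L.subtype) (map_le_iff_le_comap.2 hT)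
    (h2.map _)) _ (mem_map_of_mem _ ha) _ (mem_map_of_mem _ hb))

variable {K W : Type*} [Field K] [AddCommGroup W] [Module K W] [FiniteDimensional K W]
  [hp : Fact p.Prime]

theorem lin_core2 [IsAlgClosed K] [CharP K p] (hs : Sol Y) (h2 : A2 Y) (p2 : p ≠ 2)
    (h0 : Op p Y = ⊥) (hX : IsPGroup p X) (hn : X ≤ 𝐍(Y)) {σ : Representation K G W}
    (hσ : Function.Injective σ) (hd : finrank K W ≤ p) : ¬ p ^ 2 ∣ 𝐂(Y).relIndex X := by
  have hY := normalIn_sup_left hn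
  have hq : IsPGroup p ((Y ⊔ X) ⁒ Y : Subgroup _) := quo_self_sup hn ▸ isPGroup_quo hX Y
  have hL := sup_comm X Y ▸ sol_sup hn (sol_of_isPGroup hX) hs
  have hXL : X ≤ Y ⊔ X := le_sup_right
  generalize Y ⊔ X = L at hY hq hL hXL
  have hc : IsInv σ L (fix σ (Op p L)) := isInv_fix (Op_normal p L).norm
  have hk := normalizer_kerOn hc
  have h1 : Y ⊓ kerOn σ (fix σ (Op p L)) = ⊥ := by_contra fun e => by
    have h3 := Fit_inf_ne_bot (⟨inf_le_left, le_norm_inf (le_norm_self Y) (hY.le.trans hk)⟩ :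
      Y ⊓ kerOn σ (fix σ (Op p L)) ⊴ Y) (sol_of_le hs inf_le_left) e
    have h7 : Op p L ≤ 𝐍(Fit Y ⊓ (Y ⊓ kerOn σ (fix σ (Op p L)))) :=
      (Op_le p L).trans (le_norm_inf hY.Fit.norm (le_norm_inf hY.norm hk))
    have h8 := isCompl_fix_cmt (ρ := σ) (natCast_ne_zero_of_not_dvd K fun e =>
      (syl_Op_Fit p Y).eq_bot_iff.1 h0 (e.trans (card_dvd
        (inf_le_left : Fit Y ⊓ (Y ⊓ kerOn σ (fix σ (Op p L))) ≤ _))))
    have h9 : cmt σ (Fit Y ⊓ (Y ⊓ kerOn σ (fix σ (Op p L)))) = ⊥ := by_contra fun e =>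
      (isInv_cmt h7).inf_fix_ne_bot_of_isPGroup (Op_isPGroup p L) e (eq_bot_iff.2 (h8.inf_eq_bot ▸
        le_inf (inf_le_right.trans (le_kerOn_iff.1 (inf_le_right.trans inf_le_right))) inf_le_left))
    refine h3 (eq_bot_iff.2 fun g hg => hσ (LinearMap.ext fun w => ?_))
    have := sub_mem_cmt (ρ := σ) hg w
    rw [h9, Submodule.mem_bot, sub_eq_zero] at this
    rw [this, map_one, End.one_apply]
  obtain ⟨G', _, _, π, τ, h⟩ := exists_isFaithfulOn hc
  have h3 : π.ker = (kerOn σ (fix σ (Op p L))).subgroupOf L := Subgroup.ext fun _ => h.eq_one_iff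
  have h4 : Y ⊓ (L ⊓ kerOn σ (fix σ (Op p L))) = ⊥ :=
    eq_bot_iff.2 ((inf_le_inf_left Y inf_le_right).trans h1.le)
  have h5 : IsPGroup p π.ker := by
    rw [h3, ← inf_subgroupOf_left]
    refine isPGroup_subgroupOf (PiGrp.isPGroup ?_) L
    rw [PiGrp, ← card_quo_of_inf_eq_bot (inf_le_left.trans hY.norm) h4]
    exact (piGrp_singleton hq).of_le (quo_mono Y inf_le_left)
  intro e
  refine SE.lin_core (Group.isSolvable_of_surjective h.surj) (fun T hT => ?_) p2 ?_ h.inj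
    ((Submodule.finrank_le _).trans hd) ?_
  · refine (A2.subgroupOf (Y := L) (fun T hT h2' => h2 T ((quo_eq_bot_iff (hT.trans hY.norm)).1
      ?_) h2') L).map π T (by rw [subgroupOf_self, map_top_of_surjective π h.surj]; exact le_top) hT
    exact eq_bot_iff.2 (inf_eq_bot_odd (isPGroup_quo h2' Y) (odd_of_isPGroup p2 hq) ▸
      le_inf le_rfl (quo_mono Y hT))
  · haveI := normalIn_top.1 (Op_normal p (⊤ : Subgroup G'))
    refine eq_bot_iff.2 fun x hx => ?_
    obtain ⟨x, rfl⟩ := h.surj x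
    exact h.eq_one_iff.2 (le_kerOn_iff.2 le_rfl (le_Op (normalIn_map_subtype _)
      (((Op_isPGroup p ⊤).comap_of_ker_isPGroup π h5).map _) (mem_map_of_mem _ hx)))
  · rw [← card_top, ← MonoidHom.range_eq_top.2 h.surj, ← index_ker, h3, ← inf_subgroupOf_left]
    refine (e.trans (relIndex_dvd_of_le_left X (le_cent_of_inf_eq_bot (inf_le_left.trans hY.norm)
      (le_norm_inf (le_norm_of_le hY.le) (hY.le.trans hk)) (inf_comm Y _ ▸ h4)))).trans
      (relIndex_dvd_of_le_norm hXL (le_norm_inf (le_norm_self L) hk))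

theorem lin2 [Y.Normal] (hs : Sol Y) (h2 : A2 Y) (p2 : p ≠ 2) (hV : Core.IsMinNormal V)
    (hE : IsElementaryAbelian p V) (hy : y ^ p = 1) (hc : ♯(V ⊓ 𝐂[y]) ≤ p) (hX : IsPGroup p X)
    (ht : t ∈ Y) (t2 : t * t = 1) (h1 : t ∉ 𝐂(V)) (h3 : V ⊓ 𝐂[t] ≠ ⊥) :
    ∃ K : Subgroup G, ¬ p ^ 2 ∣ K.relIndex X ∧ ∀ z ∈ K, z ^ p = 1 → p < ♯(V ⊓ 𝐂[z]) := by
  haveI := hV.normal
  obtain ⟨W, _, _, _, ρ, ι, h⟩ := exists_isLin (AlgebraicClosure (ZMod p)) hE
  have hπ := QuotientGroup.mk'_surjective ρ.ker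
  have hY := normalIn_top.2 (Normal.map inferInstance _ hπ : (Y.map (QuotientGroup.mk' ρ.ker)).Normal)
  refine ⟨𝐂(Y.map (QuotientGroup.mk' ρ.ker)).comap (QuotientGroup.mk' ρ.ker), ?_, fun z hz zp => ?_⟩
  · rw [relIndex_comap]
    refine lin_core2 (Core.isSolvable_map hs _) (h2.map _) p2 (eq_bot_iff.2
      ((Op_le_of_normal p hY).trans ?_)) (hX.map _) (le_top.trans hY.norm)
      (kerRep_injective (ρ := ρ)) ?_
    · have hW : (⊤ : Submodule (AlgebraicClosure (ZMod p)) W) ≠ ⊥ :=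
        haveI := h.nontrivial_iff.2 hV.ne_bot
        top_ne_bot
      have h1 := (isInv_top (ρ := kerRep ρ) _).inf_fix_ne_bot_of_isPGroup (Op_isPGroup p ⊤) hW
      haveI := normalIn_top.1 (Op_normal p (⊤ : Subgroup (G ⧸ ρ.ker)))
      have h3 := hV.le_of_inf_ne_bot (K := 𝐂((Op p ⊤).comap (QuotientGroup.mk' ρ.ker))) fun e =>
        h1 (eq_bot_iff.2 (h.fix_eq_bot_iff.2 e ▸ fun w hw => mem_fix.2 fun g hg =>
          mem_fix.1 hw.2 _ hg))
      intro x hx
      obtain ⟨x, rfl⟩ := hπ x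
      exact (QuotientGroup.eq_one_iff x).2 (h.ker_eq ▸ le_cent_symm h3 hx)
    · have h1 := h.card_fix (zpowers y)
      rw [cent_zpowers] at h1
      rw [h1, SE.fix_zpowers] at hc
      have h3 := finrank_ker_pow_le (ρ y - 1) p
      have h4 := sub_one_pow_char_pow (ρ := ρ) (p := p) y 1
      rw [pow_one, hy, map_one, sub_self] at h4
      rw [h4, LinearMap.ker_zero, finrank_top] at h3
      exact h3.trans (mul_le_of_le_one_right' ((Nat.pow_le_pow_iff_right hp.out.one_lt).1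
        (by rwa [pow_one])))
  · have k : ∀ g, fix (kerRep ρ) (zpowers (QuotientGroup.mk' ρ.ker g)) = fix ρ (zpowers g) :=
      fun g => by rw [SE.fix_zpowers, SE.fix_zpowers, kerRep_mk]
    have h4 := le_norm_of_le_cent ((zpowers_le.2 (cent_le_cent1 (mem_map_of_mem _ ht)
      (mem_comap.1 hz))).trans (cent_zpowers _).ge)
    have h5 := abelem_isPGroup (abelem_zpowers (show QuotientGroup.mk' ρ.ker z ^ p = 1 by
      rw [← map_pow, zp, map_one]))
    have h6 := isCompl_fix_cmt (ρ := kerRep ρ) (H := zpowers (QuotientGroup.mk' ρ.ker t))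
      (natCast_ne_zero_of_not_dvd _ fun e => p2 ((Nat.prime_dvd_prime_iff_eq hp.out
        Nat.prime_two).1 (e.trans ((Nat.card_zpowers _).dvd.trans
          (orderOf_dvd_of_pow_eq_one (by rw [← map_pow, sq, t2, map_one]))))))
    have h7 := (isInv_fix h4).inf_fix_ne_bot_of_isPGroup (ρ := kerRep ρ) h5 fun e =>
      h3 (cent_zpowers t ▸ h.fix_eq_bot_iff.1 (k t ▸ e))
    have h8 := (isInv_cmt h4).inf_fix_ne_bot_of_isPGroup (ρ := kerRep ρ) h5 fun e => h1 (by
      have := h6.sup_eq_top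
      rw [e, sup_bot_eq, k, fix_eq_top_iff] at this
      exact h.ker_eq ▸ this t (mem_zpowers t))
    have h9 := Submodule.finrank_sup_add_finrank_inf_eq
      (fix (kerRep ρ) (zpowers (QuotientGroup.mk' ρ.ker t)) ⊓ fix ρ (zpowers z))
      (cmt (kerRep ρ) (zpowers (QuotientGroup.mk' ρ.ker t)) ⊓ fix ρ (zpowers z))
    rw [k z, ← Submodule.one_le_finrank_iff] at h7 h8
    rw [inf_inf_inf_comm, h6.inf_eq_bot, bot_inf_eq, finrank_bot] at h9
    have h10 := Submodule.finrank_mono (sup_le inf_le_right inf_le_right :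
      fix (kerRep ρ) (zpowers (QuotientGroup.mk' ρ.ker t)) ⊓ fix ρ (zpowers z) ⊔
      cmt (kerRep ρ) (zpowers (QuotientGroup.mk' ρ.ker t)) ⊓ fix ρ (zpowers z) ≤ _)
    rw [← cent_zpowers, h.card_fix]
    exact (pow_one p).symm.trans_lt (Nat.pow_lt_pow_right hp.out.one_lt (by omega))

end Cfsg.Agent.R4.E2
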