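import Cfsg.Agent.Lib.R4.RK2b

/-!
# Package RK2, part c: the global setup
-/

set_option autoImplicit false

namespace Cfsg.Agent.R4

open Subgroup Cfsg.Agent.OO Cfsg.Agent.Coprime Cfsg.Agent.GW Cfsg.Agent.SZ
open scoped commutatorElement Pointwise

universe u

variable {G : Type u} [Group G] [Finite G] {A B C X Y E S T M N U V : Subgroup G} {t s ρ a b g x z : G}
  {n p : ℕ}

omit [Finite G] in
theorem sup_inf_Zc (hU : U ⊴ C) (hV : V ⊴ C) (h0 : U ⊓ V = ⊥) (h1 : U ⊓ Zc C = ⊥)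
    (h2 : V ⊓ Zc C = ⊥) : (U ⊔ V) ⊓ Zc C = ⊥ := eq_bot_iff.2 fun w hw => by
  obtain ⟨u, hu, v, hv, rfl⟩ := (mem_sup_norm_left (hV.le.trans hU.norm)).1 hw.1
  obtain rfl : u = 1 := mem_bot.1 (h1 ▸ (⟨hu, mem_Zc.2 ⟨hU.le hu, fun g hg => by
    have e := (mem_Zc.1 hw.2).2 g hg
    have h3 : u⁻¹ * (g * u * g⁻¹) ∈ U ⊓ V := ⟨U.mul_mem (U.inv_mem hu) (hU.conj_mem hg hu), by
      rw [show u⁻¹ * (g * u * g⁻¹) = u⁻¹ * (g * (u * v)) * (v⁻¹ * g⁻¹) by group, e,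
        show u⁻¹ * (u * v * g) * (v⁻¹ * g⁻¹) = v * (g * v⁻¹ * g⁻¹) by group]
      exact mul_mem hv (hV.conj_mem hg (inv_mem hv))⟩
    rw [h0, mem_bot, inv_mul_eq_one, eq_mul_inv_iff_mul_eq] at h3
    exact h3.symm⟩⟩ : u ∈ U ⊓ Zc C))
  exact h2 ▸ (⟨by simpa using hv, hw.2⟩ : _ ∈ V ⊓ Zc C)

theorem Fu.exists_normal (h : Fu N t s ρ) (ky : KY.{u} n) (hn : ♯N < n) (hN : N ≤ 𝐍(S4 t s))
    (hC : C = N ⊓ 𝐂(S4 t s)) (hO : O C = ⊥) (hY : Y ⊴ C) (h0 : Y ≠ ⊥) (h1 : Y ⊓ S4 t s = ⊥) :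
    ∃ W, W ⊴ N ∧ W ≠ ⊥ ∧ W ≤ C ∧ IC W ∧ W ⊓ S4 t s = ⊥ := by
  have hCN : C ⊴ N := hC ▸ normalIn_inf_cent hN
  have hA : S4 t s ≤ Zc C := le_inf (hC ▸ le_inf h.le h.pair.ab.le_cent)
    (le_cent_symm (hC.le.trans inf_le_right))
  by_cases h2 : Y ⊓ Zc C = ⊥
  · obtain ⟨V, hV, hVY⟩ := exists_minNormalBy h0 hY.norm
    have h3 := hVY.trans hY.le
    have h4 := ic_of_min ky h.s3f ((card_le (h3.trans hCN.le)).trans_lt hn) hV h3
    obtain ⟨U, ⟨k1, k2, k3⟩, k4⟩ := Set.exists_max_image {U | U ⊴ C ∧ IC U ∧ U ⊓ Zc C = ⊥}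
      (fun U => ♯U) (Set.toFinite _) ⟨⊥, .bot C, ic_of_ab ab_bot, bot_inf_eq _⟩
    have h5 : Core.invClosure V N ≤ U := Core.invClosure_le_of_forall fun l hl => by
      have h5 : IsMinNormalBy (l •ᶜ V) C := hCN.conj_eq hl ▸ hV.conj l
      have h6 : l •ᶜ V ≤ C := conj_le_of_mem_norm (hCN.norm hl) h3
      refine (h5.inf_eq_bot_or_le k1.norm).elim (fun e => ?_) id
      refine le_sup_right.trans (eq_of_le_of_card_le le_sup_left (k4 _ ⟨k1.sup ⟨h6, h5.norm⟩, k2.sup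
        (h4.conj l) (le_cent_of_inf_eq_bot (h6.trans k1.norm) (k1.le.trans h5.norm) e)
          (inf_comm U _ ▸ e), sup_inf_Zc k1 ⟨h6, h5.norm⟩ (inf_comm U _ ▸ e) k3 ?_⟩)).ge
      rw [← hCN.Zc.conj_eq hl, ← conj_inf, conj_eq_bot_iff]
      exact eq_bot_iff.2 (h2 ▸ inf_le_inf_right _ hVY)
    exact ⟨_, ⟨(h5.trans k1.le).trans hCN.le, Core.le_normalizer_invClosure V N⟩, fun e => hV.ne_bot
      (eq_bot_iff.2 (e ▸ Core.le_invClosure V N)), h5.trans k1.le, k2.mono h5,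
      eq_bot_iff.2 (k3 ▸ inf_le_inf h5 hA)⟩
  obtain ⟨z, hz, z1⟩ := exists_prime_order_mem h2
  have z0 : z ≠ 1 := fun e => by simp [e, Nat.not_prime_one] at z1
  have z2 : orderOf z = 2 := by_contra fun e => z0 (zpowers_eq_bot.1 (eq_bot_iff.2 (hO ▸ le_O
    (normalIn_of_le_Zc (zpowers_le.2 hz.2)) (by rw [Nat.card_zpowers]; exact z1.odd_of_ne_two e))))
  have h3 := h.mem_norm
  obtain ⟨W, k1, k2⟩ := Maschke_abelem (H := zpowers (constt ({2} : Set ℕ)ᶜ ρ))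
    (Ohm_abelem 2 (Zc_ab C)) (by
      rw [Nat.card_zpowers]; exact (isPiNum_compl_singleton Nat.prime_two).1 (piElt_constt _ ρ))
    (le_Ohm hA h.pair.isEp.abelem) (zpowers_le.2 (constt_mem _ ((hCN.Zc.Ohm 2).norm h.ρ_mem)))
    (zpowers_le.2 (constt_mem _ h3))
  have k3 := k1.right_le.trans (Ohm_le _ _)
  have k4 : C ≤ 𝐍(W) := le_norm_of_le_cent ((le_cent_Zc C).trans (cent_anti k3))
  refine ⟨W, ⟨(k3.trans (Zc_le C)).trans hCN.le, ((le_inf le_rfl hN).trans h.norm_le).trans (sup_le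
    (hC ▸ k4) (zpowers_le.2 (mem_of_constt_mem (π := {2}) (k4 (hC ▸ ⟨constt_mem _ h.ρ_mem, h.cz
      (S4 t s ⊔ zpowers (constt {2} ρ)) (sup_le h.le (zpowers_le.2 (constt_mem _ h.ρ_mem)))
      (isPGroup_sup h.two (isPGroup_zpowers_iff.2 (piElt_constt _ _)) (.inr (zpowers_le.2
        (constt_mem _ h3)))) le_sup_left (mem_sup_right (mem_zpowers _))⟩)) (zpowers_le.1 k2))))⟩,
    fun e => z0 (mem_bot.1 (h1 ▸ ⟨hz.1, ?_⟩)), k3.trans (Zc_le C), ic_of_ab (ab_of_le_Zc k3),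
    inf_comm W _ ▸ k1.inf_eq⟩
  rw [← sup_bot_eq (S4 t s), ← e, k1.sup_eq]
  exact mem_Ohm hz.2 (z2 ▸ pow_orderOf_eq_one z)

theorem sc_of_scl (hS : Syl 2 S ⊤) (he : IsElementaryAbelian 2 B) (h : SCl ⊤ S B) :
    SC B := ⟨he, fun T hT hle a ha g hg => by
  obtain ⟨c, -, e⟩ := hS.exists_conj_le le_top hT
  have h1 : c ∈ 𝐍(B) := mem_norm_of_conj_mem fun x hx =>
    h x hx c (mem_top c) (e (conj_mem_conj (hle hx)))
  have h2 := conj_mem_of_norm' h1 (h a ha (c * g) (mem_top _) (by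
    convert e (conj_mem_conj hg) using 1; group))
  convert h2 using 1
  group⟩

theorem Fu.odd_of_normal (h : Fu ⊤ t s ρ) (ky : KY.{u} ♯(⊤ : Subgroup G)) (hN : 𝐍(S4 t s) ≠ ⊤)
    (hB : ∀ B : Subgroup G, SC B → B ≤ 𝐂(S4 t s) → S4 t s ⊓ B = ⊥ → B = ⊥)
    (hY : Y ⊴ 𝐂(S4 t s)) (h1 : Y ⊓ S4 t s = ⊥) : Odd ♯Y := by
  by_contra ho
  have hp := h.pair
  have h2 := h.mono' (le_norm_self _) h.mem_norm le_top
  have h3 : 𝐂(S4 t s) ⊴ 𝐍(S4 t s) := ⟨cent_le_norm _, norm_le_norm_cent _⟩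
  obtain ⟨B, hB'⟩ : ∃ B, B = O 𝐂(S4 t s) := ⟨_, rfl⟩
  have h4 : B ⊴ 𝐍(S4 t s) := hB' ▸ h3.Opi _
  have h5 : Odd ♯B := hB' ▸ odd_O _
  have h6 := h2.quo_cent h4 h5
  have e := S4_quo (h4.norm h2.t_mem) (h4.norm h2.s_mem)
  rw [inf_eq_right.2 h3.le] at h6
  have h7 := (hY.le.trans h3.le).trans h4.norm
  obtain ⟨W', k1, k2, k3, k4, k5⟩ := (h2.quo' h4 h5).exists_normal ky ((card_quo_le _ _).trans_lt
    (card_lt hN.lt_top)) (e ▸ (quo_norm_le _ B)) h6 (hB' ▸ O_quo _) (hY.quo B)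
    (quo_ne_bot h7 fun e => ho (odd_of_le h5 e)) (by
      rw [← e, ← quo_sup_self h7, ← quo_inf_of_le_left le_sup_right, quo_eq_bot]
      refine le_trans (le_inf (le_of_coprime_relIndex inf_le_left (sup_le (le_norm_self Y)
        ((hB' ▸ Opi_le _ _ : B ≤ _).trans hY.norm)) ?_) inf_le_right) (h1.le.trans bot_le)
      rw [relIndex_sup_eq' (.inl h7)]
      exact ((hp.coprime h5).coprime_dvd_left (relIndex_dvd_card _ _)).symm.coprime_dvd_left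
        (card_dvd inf_le_right))
  obtain ⟨W, w1, w2, rfl⟩ := exists_quo_eq_normal h4 k1
  obtain ⟨S, s1, s2, s3⟩ := h.exists_syl
  have s4 := (s3.trans h3.le).trans h4.norm
  have s5 : B ⊓ S = ⊥ := inf_eq_bot_of_coprime_card (coprime_of_isPGroup s1.isPGroup (odd_iff.1 h5)).symm
  have k6 : ∀ i ∈ S ⊓ W, ∀ j ∈ S ⊓ W, i * i = 1 → j * j = 1 → Commute i j := fun i hi j hj i2 j2 => by
    obtain ⟨k, hk⟩ := s1.isPGroup ⟨i * j, mul_mem hi.1 hj.1⟩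
    have := k4 _ (coset_mem_quo B hi.2) _ (coset_mem_quo B hj.2) (coset_sq (s4 hi.1) i2)
      (coset_sq (s4 hj.1) j2) k (by
        rw [← coset_mul (s4 hi.1) (s4 hj.1), ← coset_pow (s4 (mul_mem hi.1 hj.1)),
          show (i * j) ^ 2 ^ k = 1 from congrArg Subtype.val hk, coset_one])
    exact commutatorElement_eq_one_iff_commute.1 (mem_bot.1 (s5 ▸ ⟨(coset_commute_iff (s4 hi.1)
      (s4 hj.1)).1 this, commutator_le_of_le le_rfl le_rfl (commutator_mem_commutator hi.1 hj.1)⟩))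
  let B' : Subgroup G :=
    { carrier := {x | x ∈ S ⊓ W ∧ x * x = 1}
      one_mem' := ⟨one_mem _, one_mul 1⟩
      inv_mem' := fun hx => by rwa [inv_eq hx.2]
      mul_mem' := fun hx hy => ⟨mul_mem hx.1 hy.1, by
        rw [(k6 _ hy.1 _ hx.1 hy.2 hx.2).mul_mul_mul_comm, hx.2, hy.2, one_mul]⟩ }
  have k7 : B' = ⊥ := hB B' (sc_of_scl s1 ⟨ab_iff.2 fun x hx y hy =>
    k6 x hx.1 y hy.1 hx.2 hy.2, fun x hx => by rw [sq, hx.2]⟩ fun x hx g hg e' => by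
      obtain ⟨m, hm, e''⟩ := (fus_ab s1 s2 (h.cl S le_top s1.isPGroup s2) hp.ab).elt hx.1.1 hg e'
      exact ⟨⟨e', e'' ▸ w2.conj_mem hm.2 hx.1.2⟩, conj_sq hx.2 g⟩)
    (fun x hx => s3 hx.1.1) (eq_bot_iff.2 fun x hx => by_contra fun x1 => coset_ne_one h5 (s4 hx.2.1.1)
      x1 hx.2.2 (mem_bot.1 (k5 ▸ ⟨coset_mem_quo B hx.2.1.2, e ▸ coset_mem_quo B hx.1⟩)))
  have k8 : Odd ♯(S ⊓ W) := odd_of_forall fun x hx x2 => mem_bot.1 (k7 ▸ (⟨hx, x2⟩ : x ∈ B'))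
  have k9 := ((s1.mono (s3.trans h3.le) le_top).inf_normal w2).dvd_card_iff
  refine k2 (eq_bot_iff.2 ((le_O (k1.mono k3 (quo_mono _ h3.le)) (odd_quo ?_ B)).trans
    (hB' ▸ (O_quo _).le)))
  rw [← Nat.not_even_iff_odd, even_iff_two_dvd] at k8 ⊢
  exact mt k9.2 k8

/-- the setting of package RK2 -/
structure RK (t s ρ : G) : Prop extends Fu ⊤ t s ρ where
  simple : IsSimpleGroup G
  ky : KY.{u} ♯(⊤ : Subgroup G)
  mn : ∀ Y, Y ⊴ 𝐂(S4 t s) → Y ⊓ S4 t s = ⊥ → Odd ♯Y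
  der : S4 t s ≤ der 𝐂(S4 t s)
  unf : ∀ M ≠ ⊤, ∀ a ∈ S4 t s, a ≠ 1 → 𝐂[a] ≤ M → M ⊓ 𝐍(S4 t s) ≤ 𝐂(S4 t s)

omit [Finite G] in
theorem MC.cent_ne_top (h : MC G) (ha : a ≠ 1) : 𝐂[a] ≠ ⊤ := fun e => by
  have := h.simple
  refine h.nab (center_eq_top_iff.1 ((this.eq_bot_or_eq_top_of_normal (center G) inferInstance).resolve_left
    fun e' => ha (mem_bot.1 (e' ▸ mem_center_iff.2 fun g => mem_cent1.1 (e ▸ mem_top g)))))

theorem MC.exists_conj (h : MC G) (ha : a ≠ 1) (h2 : a * a = 1) :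
    ∃ g, g * a * g⁻¹ ∈ 𝐂[a] ∧ g * a * g⁻¹ ≠ a := by
  by_contra! e
  have := h.simple
  have h1 := R1.zstar G a h2 fun g hg => e g (mem_cent1.2 hg.symm)
  rcases this.eq_bot_or_eq_top_of_normal (pPrimeCore 2 G) inferInstance with h3 | h3
  · exact h.cent_ne_top ha (eq_top_iff.2 fun g _ => mem_cent1_iff_conj.2
      (mul_inv_eq_one.1 (mem_bot.1 (h3 ▸ h1 g))))
  · exact not_mem_of_odd (odd_O ⊤) ha h2 (by rw [O, Op'_top, h3]; exact mem_top a)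

theorem MC.le_cent (h : MC G) (hA : SC A) (h4 : ♯A = 4) (hT : IsPGroup 2 T) (hle : A ≤ T) :
    T ≤ 𝐂(A) := by
  obtain ⟨S, hS, hTS⟩ := exists_syl_ge le_top hT
  have h1 := hle.trans hTS
  have h2 : S ≤ 𝐍(A) := fun x hx => (hA.scl hS.isPGroup h1 ⊤).mem_norm le_rfl h1
    ⟨mem_top x, le_normalizer hx⟩
  obtain ⟨a, ha, a1⟩ := exists_mem_ne_one (inf_Zc_ne_bot hS.nil ⟨h1, h2⟩ fun e => by simp [e] at h4)
  have k : ∀ x ∈ A, x * x = 1 := fun x hx => by simpa [sq] using hA.elem.2 x hx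
  have h3 : S ≤ 𝐂[a] := le_cent1_iff.2 ha.2.2
  obtain ⟨g, hg, g1⟩ := h.exists_conj a1 (k a ha.1)
  obtain ⟨c, hc, e⟩ := (hS.mono h3 le_top).exists_conj_le (zpowers_le.2 hg)
    (isPGroup_zp (conj_sq (k a ha.1) g))
  obtain ⟨m, hm, e'⟩ := (hA.ctl hS h1).elt (h1 ha.1) (mem_top (c * g)) (by
    convert e (conj_mem_conj (mem_zpowers _)) using 1; group)
  obtain ⟨b, hb⟩ : ∃ b, m * a * m⁻¹ = b := ⟨_, rfl⟩
  have hbA : b ∈ A := hb ▸ conj_mem_of_norm hm.2 ha.1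
  have hp : Pair A a b := ⟨ha.1, hbA, a1, hb ▸ conj_ne_one.2 a1, fun e'' => g1 (by
    calc _ = c⁻¹ * (c * g * a * (c * g)⁻¹) * c⁻¹⁻¹ := by group
      _ = a := by rw [e', hb, ← e'']; exact mem_cent1_iff_conj.1 (inv_mem hc)), k a ha.1, k b hbA,
    ab_iff.1 hA.elem.1 a ha.1 b hbA, by rw [h4]; decide⟩
  obtain rfl : S4 a b = A := eq_of_le_of_card_le hp.le (h4.trans hp.card.symm).le
  refine hTS.trans fun x hx => cent_S4 a b ▸ ⟨h3 hx, by_contra fun x1 => ?_⟩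
  have x2 := mem_cent1_iff_conj.1 (h3 hx)
  have x3 : x * b * x⁻¹ = a * b := by
    rcases hp.mem_S4.1 (conj_mem_of_norm (h2 hx) hbA) with e | e | e | e
    exacts [absurd e (conj_ne_one.2 hp.s_ne), absurd (by simpa using x2.trans e.symm) hp.ne,
      absurd (mem_cent1_iff_conj.2 e) x1, e]
  have k2 : ∀ r ∈ 𝐍(S4 a b), r * a * r⁻¹ = b → r * b * r⁻¹ = a * b → False := fun r hr r1 r2 => by
    have r3 : r * (a * b) * r⁻¹ = a := by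
      rw [← conj_mul, r1, r2, ← mul_assoc, ← hp.comm.eq, mul_assoc, hp.s_sq, mul_one]
    have x4 : x * (a * b) * x⁻¹ = b := by rw [← conj_mul, x2, x3, ← mul_assoc, hp.t_sq, one_mul]
    have x5 : x⁻¹ * b * x = a * b := by nth_rewrite 1 [← x4]; group
    have x6 : x⁻¹ * (a * b) * x = b := by rw [← x3]; group
    have r4 : ∀ y, r ^ 3 * y * (r ^ 3)⁻¹ = r * (r * (r * y * r⁻¹) * r⁻¹) * r⁻¹ := fun y => by
      simp only [pow_succ, pow_zero]; group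
    have r5 : ∀ y, x * r * x⁻¹ * r * y * (x * r * x⁻¹ * r)⁻¹ =
      x * (r * (x⁻¹ * (r * y * r⁻¹) * x) * r⁻¹) * x⁻¹ := fun y => by group
    have := h.s3f 𝐂(S4 a b) r x (norm_le_norm_cent _ hr) (norm_le_norm_cent _ (h2 hx))
      (cent_S4 a b ▸ ⟨mem_cent1_iff_conj.2 (by rw [r4, r1, r2, r3]),
        mem_cent1_iff_conj.2 (by rw [r4, r2, r3, r1])⟩)
      (cent_S4 a b ▸ ⟨mem_cent1_iff_conj.2 (by rw [r5, r1, x5, r3, x2]),
        mem_cent1_iff_conj.2 (by rw [r5, r2, x6, r2, x4])⟩)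
    exact hp.ne ((mem_cent_iff_conj.1 this a ha.1).symm.trans r1)
  rcases hp.mem_S4.1 (conj_mem_of_norm hm.2 hbA) with e | e | e | e
  · exact conj_ne_one.2 hp.s_ne e
  · refine k2 (m * x) (mul_mem hm.2 (h2 hx)) ?_ ?_
    · rw [show m * x * a * (m * x)⁻¹ = m * (x * a * x⁻¹) * m⁻¹ by group, x2, hb]
    · rw [show m * x * b * (m * x)⁻¹ = m * (x * b * x⁻¹) * m⁻¹ by group, x3, ← conj_mul, hb, e,
        hp.comm.eq]
  · exact hp.ne (by simpa using hb.trans e.symm)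
  · exact k2 m hm.2 hb e

theorem exists_rk (h : MC G) (hA : SC A) (h4 : ♯A = 4)
    (hB : ∀ B : Subgroup G, SC B → B ≤ 𝐂(A) → A ⊓ B = ⊥ → B = ⊥) (hD : ∀ M, ¬ DSE A M)
    (h2 : ¬ R1.Ab2 G) : ∃ t s ρ : G, S4 t s = A ∧ RK t s ρ := by
  have := h.simple
  obtain ⟨t, s, hp⟩ := exists_pair (X := A) (by rw [h4]; decide) (syl_self (abelem_isPGroup hA.elem))
    ((show IsEp 2 2 A A from ⟨le_rfl, hA.elem, h4⟩).not_isCyclic le_rfl)
  obtain rfl : S4 t s = A := eq_of_le_of_card_le hp.le (h4.trans hp.card.symm).le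
  have h1 : St ⊤ t s := ⟨hp, le_top, h.s3f, fun T _ => h.le_cent hA h4, fun T _ h1 h2 => hA.scl h1 h2 ⊤⟩
  have h3 : O (⊤ : Subgroup G) = ⊥ := (smp_top _ (Opi_normal _ _)).resolve_right fun e =>
    not_mem_of_odd (odd_O ⊤) hp.t_ne hp.t_sq (e.ge (mem_top t))
  obtain ⟨ρ, hρ⟩ := h1.unf_or.resolve_left fun e => h.cent_ne_top hp.t_ne (eq_top_iff.2
    ((OO.commutator_eq_bot_iff.1 (eq_bot_iff.2 (h3 ▸ h1.comm_le e))).trans (cent_le_cent1 hp.t_mem)))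
  have h5 := fun Y => hρ.odd_of_normal (Y := Y) (card_top (G := G) ▸ h.ky) (smp_top.norm_ne_top
    (fun e => hp.t_ne (mem_bot.1 (e ▸ hp.t_mem))) fun e => h.cent_ne_top hp.t_ne
      (top_le_iff.1 (e ▸ hp.le_cent))) hB
  refine ⟨t, s, ρ, rfl, hρ, this, card_top (G := G) ▸ h.ky, h5, hρ.le_of_inf
    (norm_le_norm_der _ (norm_le_norm_cent _ hρ.mem_norm)) fun e => h2 fun P hP => ?_,
    fun M hM a ha a1 hc => ((h1.mono ((h1.le_cent ha).trans hc) le_top).unf_or.resolve_right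
      fun ⟨σ, hσ⟩ => hD M ⟨h, hA, h4.ge, hM, ?_, fun b hb b1 => ?_⟩)⟩
  · obtain ⟨S, s1, -, s3⟩ := h1.exists_syl
    obtain ⟨g, -, e'⟩ := s1.exists_conj_le le_top hP
    refine ab_conj.1 (ab_of_le (ab_iff_der.2 ?_) e')
    exact (s1.piGrp.of_le (der_le S)).eq_bot ((odd_iff.1 (h5 _ (der_normal _) e)).of_le (der_mono s3))
  · exact ((le_inf le_top le_rfl).trans (Fu.norm_le ⟨h1, mem_top σ, hσ.ρt, hσ.ρs⟩)).trans (sup_le
      (inf_le_right.trans ((cent_le_cent1 ha).trans hc)) (zpowers_le.2 hσ.ρ_mem))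
  · obtain ⟨x, hx, rfl⟩ := hσ.exists_conj ha a1
    obtain ⟨y, hy, rfl⟩ := hσ.exists_conj hb b1
    rw [cent1_conj] at hc ⊢
    rw [conj_le_iff_le_inv_conj, conj_eq_of_mem (inv_mem (zpowers_le.2 hσ.ρ_mem hx))] at hc
    exact conj_le_of_mem (zpowers_le.2 hσ.ρ_mem hy) hc

end Cfsg.Agent.R4
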