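import Cfsg.Agent.Lib.W0.Char

/-!
# Characters of the principal 2-block for a Sylow 2-subgroup of type `U₃(4)` with automizer of
order three
-/

set_option autoImplicit false

namespace Cfsg.Agent.R4.U

open Subgroup Cfsg.Agent.OO Cfsg.Agent.Blk Cfsg.Agent.R1 Cfsg.Agent.W0
open scoped ComplexConjugate

universe u

variable {G : Type u} [Group G] [Finite G] {H C O S A : Subgroup G}
  {φ ψ χ α β η a b c l m : G → ℂ} {g r t x y z n : G}

theorem num1 {v : ℤ} {y : ℤ} (h1 : y ≠ 1) (h : y = 64 * v + 1) :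
    -(1 / 63 : ℚ) ≤ 1 / (y : ℚ) ∧ 1 / (y : ℚ) ≤ 1 / 63 := by
  rcases lt_or_gt_of_ne (show v ≠ 0 from fun e => h1 (by simp [h, e])) with h2 | h2
  · have h3 : (y : ℚ) ≤ -63 := by exact_mod_cast (by omega : y ≤ -63)
    refine ⟨?_, (one_div_nonpos.2 (by linarith)).trans (by norm_num)⟩
    rw [le_div_iff_of_neg (by linarith)]; linarith
  · have h3 : (63 : ℚ) ≤ y := by exact_mod_cast (by omega : 63 ≤ y)
    exact ⟨le_trans (by norm_num) (one_div_nonneg.2 (by linarith)),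
      one_div_le_one_div_of_le (by norm_num) h3⟩

theorem num2 {y k : ℤ} (h : 0 ≤ y ∨ y ≤ -k) (hk : 0 < k) : -(1 / (k : ℚ)) ≤ 1 / (y : ℚ) := by
  have h0 : (0 : ℚ) < k := by exact_mod_cast hk
  rcases h with h | h
  · exact le_trans (by simp [h0.le]) (one_div_nonneg.2 (by exact_mod_cast h))
  · have h3 : (y : ℚ) ≤ -k := by exact_mod_cast h
    rw [le_div_iff_of_neg (by linarith), neg_mul, one_div_mul_eq_div, le_neg, div_le_iff₀ h0]
    linarith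

theorem num {ya yb yc za zb zc i j k l : ℤ} (h1 : ya ≠ 1) (h2 : yb ≠ 1)
    (h3 : ya + 3 * za = 64 * i + 4) (h4 : yb + 3 * zb = 64 * j + 4) (h5 : ya - za = 16 * k)
    (h6 : yb - zb = 16 * l) (h7 : 1 + ya + yb + yc = 0) (h8 : 1 + za + zb + zc = 0)
    (h9 : 1 + za ^ 2 + zb ^ 2 + 5 * zc ^ 2 ≤ 64)
    (h : 1 + (za : ℂ) * za / ya + (zb : ℂ) * zb / yb + (zc : ℂ) * zc / yc = 0) : False := by
  replace h : 1 + (za : ℚ) * za / ya + (zb : ℚ) * zb / yb + (zc : ℚ) * zc / yc = 0 := by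
    exact_mod_cast h
  have k1 : zc ≤ 3 := by nlinarith [sq_nonneg za, sq_nonneg zb]
  have k2 : -3 ≤ zc := by nlinarith [sq_nonneg za, sq_nonneg zb]
  have k3 : za ≤ 7 := by nlinarith [sq_nonneg zc, sq_nonneg zb]
  have k4 : -7 ≤ za := by nlinarith [sq_nonneg zc, sq_nonneg zb]
  have k5 : (za = 1 ∧ zb = 1 ∧ zc = -3) ∨ (za = 1 ∧ zb = -3 ∧ zc = 1) ∨
      (za = -3 ∧ zb = 1 ∧ zc = 1) := by
    have k6 : zc = 1 ∨ zc = -3 := by omega
    have k7 : za = -7 ∨ za = -3 ∨ za = 1 ∨ za = 5 := by omega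
    obtain rfl : zb = -1 - za - zc := by omega
    rcases k6 with rfl | rfl <;> rcases k7 with rfl | rfl | rfl | rfl <;> simp at h9 ⊢
  have k6 : ∀ {ya yb yc i j : ℤ}, ya ≠ 1 → ya + 3 * 1 = 64 * i + 4 → yb + 3 * -3 = 64 * j + 4 →
      1 + ya + yb + yc = 0 → (1 : ℚ) + 1 / ya + 9 * (1 / yb) + 1 / yc = 0 → False := by
    intro ya yb yc i j h1 h3 h4 h7 h
    have := (num1 h1 (v := i) (by omega)).1
    have := num2 (y := yb) (k := 51) (by omega) (by norm_num)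
    have := num2 (y := yc) (k := 15) (by omega) (by norm_num)
    norm_num at *
    linarith
  rcases k5 with ⟨rfl, rfl, rfl⟩ | ⟨rfl, rfl, rfl⟩ | ⟨rfl, rfl, rfl⟩
  · obtain ⟨e1, e2⟩ := num1 h1 (v := i) (by omega)
    obtain ⟨e3, e4⟩ := num1 h2 (v := j) (by omega)
    by_cases e : yc = -3
    · subst e
      norm_num at *
      linarith
    · have := num2 (y := yc) (k := 67) (by omega) (by norm_num)
      have e5 : (1 : ℚ) + 1 / ya + 1 / yb + 9 * (1 / yc) = 0 := by rw [← h]; push_cast; ring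
      norm_num at *
      linarith
  · exact k6 h1 h3 h4 h7 (by rw [← h]; push_cast; ring)
  · exact k6 h2 h4 h3 (yc := yc) (by omega) (by rw [← h]; push_cast; ring)

omit [Finite G] in
theorem card_cent_conj (hn : n ∈ 𝐍(S)) (x : G) : ♯(S ⊓ 𝐂[n * x * n⁻¹]) = ♯(S ⊓ 𝐂[x]) := by
  rw [cent1_conj, ← card_conj n (S ⊓ 𝐂[x]), conj_inf, conj_smul_eq_of_mem_normalizer hn]

/-- the Sylow 2-subgroup `S` of order 64 with center `A`, fusion given by `r` of order three -/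
structure Hyp (S A : Subgroup G) (r : G) : Prop where
  two : ∀ x ∈ S, ∃ k, x ^ 2 ^ k = 1
  syl : ∀ u : G, (∃ k, u ^ 2 ^ k = 1) → ∃ g, g * u * g⁻¹ ∈ S
  norm : r ∈ 𝐍(S)
  normA : r ∈ 𝐍(A)
  le : A ≤ S
  cA : ♯A = 4
  cS : ♯S = 64
  cen : S ≤ 𝐂(A)
  sq : ∀ x ∈ A, x * x = 1
  inv : ∀ x ∈ S, x * x = 1 → x ∈ A
  der : der S ≤ A
  cls : ∀ x ∈ S, x ∉ A → ∀ v ∈ A, ∃ s ∈ S, s * x * s⁻¹ = v * x
  fpf : ∀ x ∈ S, r * x * r⁻¹ * x⁻¹ ∈ A → x ∈ A
  fpfA : ∀ x ∈ A, r * x * r⁻¹ = x → x = 1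
  cube : ∀ x ∈ S, r * (r * (r * x * r⁻¹) * r⁻¹) * r⁻¹ = x
  fus : ∀ x ∈ S, ∀ g, g * x * g⁻¹ ∈ S → (∃ s ∈ S, s * x * s⁻¹ = g * x * g⁻¹) ∨
    (∃ s ∈ S, s * (r * x * r⁻¹) * s⁻¹ = g * x * g⁻¹) ∨
    ∃ s ∈ S, s * (r * (r * x * r⁻¹) * r⁻¹) * s⁻¹ = g * x * g⁻¹
  cent : ∀ x ∈ S, x ≠ 1 → ∃ O, O ⊴ ⊤ ⊓ 𝐂[x] ∧ ¬ 2 ∣ ♯O ∧ ♯O * ♯(S ⊓ 𝐂[x]) = ♯(⊤ ⊓ 𝐂[x]) ∧
    ∀ g, g ∈ Reg 2 (⊤ ⊓ 𝐂[x]) ↔ g ∈ O
  hinv : ∀ t u : G, t * t = 1 → (∃ k, u ^ 2 ^ k = 1) → t * u * t⁻¹ = u⁻¹ → u * u = 1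

namespace Hyp

variable (h : Hyp S A r)
include h

omit [Finite G] in
theorem mem (hx : x ∈ S) : r * x * r⁻¹ ∈ S := conj_mem_of_norm h.norm hx

omit [Finite G] in
theorem memA (hx : x ∈ A) : r * x * r⁻¹ ∈ A := conj_mem_of_norm h.normA hx

omit [Finite G] in
theorem eq_one (hx : x ∈ S) (ho : ¬ 2 ∣ orderOf x) : x = 1 := by
  obtain ⟨k, hk⟩ := h.two x hx
  exact orderOf_eq_one_iff.1 (Nat.eq_one_of_dvd_coprimes
    ((Nat.prime_two.coprime_iff_not_dvd.2 ho).pow_left k) (orderOf_dvd_of_pow_eq_one hk) dvd_rfl)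

omit [Finite G] in
theorem conj_eq (hx : x ∈ A) (hg : g ∈ S) : g * x * g⁻¹ = x := by
  rw [← mem_cent_iff.1 (h.cen hg) x hx, mul_inv_cancel_right]

omit [Finite G] in
theorem normal : A ⊴ S := ⟨h.le, h.cen.trans (cent_le_norm A)⟩

omit [Finite G] in
theorem excl (hx : x ∈ S) (h1 : x ≠ 1) (h2 : ∃ s ∈ S, s * x * s⁻¹ = z) :
    ¬ ∃ s ∈ S, s * (r * x * r⁻¹) * s⁻¹ = z := by
  rintro ⟨s', hs', e'⟩
  obtain ⟨s, hs, e⟩ := h2
  have h3 : r * x * r⁻¹ = s'⁻¹ * s * x * (s'⁻¹ * s)⁻¹ := by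
    calc _ = s'⁻¹ * (s' * (r * x * r⁻¹) * s'⁻¹) * s' := by group
      _ = _ := by rw [e', ← e]; group
  have h4 := mul_mem (inv_mem hs') hs
  have h5 := h.fpf x hx (h3 ▸ h.der (commutator_mem_commutator h4 hx))
  exact h1 (h.fpfA x h5 (h3.trans (h.conj_eq h5 h4)))

theorem T_reg (hα : α ∈ CF S) (h1 : α 1 = 0) (hg : ¬ 2 ∣ orderOf g) : T S α g = 0 :=
  prB_eq_zero_of_reg (fun y hy => cfInd_eq_zero _ fun k _ => by
    by_cases e : k⁻¹ * y * k ∈ S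
    · rw [h.eq_one e (by
        rw [← orderOf_conj k, show k * (k⁻¹ * y * k) * k⁻¹ = y by group]; exact hy.2), h1]
    · exact cfun0 hα e) ⟨mem_top g, hg⟩

theorem T_mul (α : G → ℂ) (hx : x ∈ S) (h1 : x ≠ 1) (hy : y ∈ 𝐂[x]) (ho : ¬ 2 ∣ orderOf y) :
    T S α (x * y) = T S α x := by
  obtain ⟨O, h2, h3, -, h4⟩ := h.cent x hx h1
  obtain ⟨k, hk⟩ := h.two x hx
  simpa [T_def] using prB_mul_eq (mem_top x) hk one_mem_Reg h2 h3 ((h4 y).1 ⟨⟨mem_top y, hy⟩, ho⟩)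
    (cfInd ⊤ S α)

theorem sum_conj (hα : α ∈ CF S) (hx : x ∈ S) (h1 : x ≠ 1) :
    (♯(S ⊓ 𝐂[x]) : ℂ) * ∑ i ∈ elts ((⊤ : Subgroup G) : Set G), α (i * x * i⁻¹) =
      ♯S * ♯(⊤ ⊓ 𝐂[x]) * N r α x := by
  classical
  have k1 : ∀ n ∈ 𝐍(S), ∀ y, n * x * n⁻¹ = y → ∀ z, ∑ s ∈ elts (S : Set G),
      (if s * y * s⁻¹ = z then α y else 0) =
        if ∃ s ∈ S, s * y * s⁻¹ = z then ♯(S ⊓ 𝐂[x]) * α z else 0 := fun n hn y e z => by
    rw [← Finset.sum_filter, Finset.sum_const, card_filter_conj_eq]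
    split_ifs with h2
    · obtain ⟨s, hs, rfl⟩ := h2
      rw [card_cent_conj (le_normalizer hs), cfunJ hα hs, ← e, card_cent_conj hn, nsmul_eq_mul]
    · simp
  have k2 : ∀ n y, n * x * n⁻¹ = y → ∑ i ∈ elts ((⊤ : Subgroup G) : Set G), ∑ s ∈ elts (S : Set G),
      (if s * y * s⁻¹ = i * x * i⁻¹ then α y else 0) = ♯S * ♯(⊤ ⊓ 𝐂[x]) * α y := fun n y e => by
    rw [Finset.sum_comm, Finset.sum_congr rfl (g := fun _ => (♯(⊤ ⊓ 𝐂[x]) : ℂ) * α y) fun s _ => ?_,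
      sum_elts_const, nsmul_eq_mul, mul_assoc]
    simp only [eq_comm (a := s * y * s⁻¹)]
    have e' : s * n * x * (s * n)⁻¹ = s * y * s⁻¹ := by rw [← e]; group
    rw [← Finset.sum_filter, Finset.sum_const, card_filter_conj_eq, if_pos ⟨s * n, mem_top _, e'⟩,
      ← e', card_cent_conj ((normalizer_eq_top ⊤).ge (mem_top _)), nsmul_eq_mul]
  have e2 : r * r * x * (r * r)⁻¹ = r * (r * x * r⁻¹) * r⁻¹ := by group
  rw [N_apply, mul_add, mul_add, ← k2 1 x (by simp), ← k2 r _ rfl, ← k2 (r * r) _ e2,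
    ← Finset.sum_add_distrib, ← Finset.sum_add_distrib, Finset.mul_sum]
  refine Finset.sum_congr rfl fun i _ => ?_
  rw [k1 1 (one_mem _) x (by simp), k1 r h.norm _ rfl, k1 (r * r) (mul_mem h.norm h.norm) _ e2]
  have x1 : r * x * r⁻¹ ≠ 1 := by simpa using h1
  have x2 : r * (r * x * r⁻¹) * r⁻¹ ≠ 1 := by simpa using h1
  have k3 := fun z => h.excl (z := z) hx h1
  have k4 := fun z => h.excl (z := z) (h.mem hx) x1
  have k5 := fun z => h.excl (z := z) (h.mem (h.mem hx)) x2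
  simp only [h.cube x hx] at k5
  by_cases e : i * x * i⁻¹ ∈ S
  · rcases h.fus x hx i e with e | e | e
    · rw [if_pos e, if_neg (k3 _ e), if_neg fun e' => k5 _ e' e]; simp
    · rw [if_pos e, if_neg (k4 _ e), if_neg fun e' => k3 _ e' e]; simp
    · rw [if_pos e, if_neg (k5 _ e), if_neg fun e' => k4 _ e' e]; simp
  · simp [cfun0 hα e]

theorem T_apply (hα : α ∈ CF S) (h0 : α 1 = 0) (hx : x ∈ S) : T S α x = N r α x := by
  classical
  by_cases h1 : x = 1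
  · rw [h1, h.T_reg hα h0 (by simp), N_apply]; simp [h0]
  obtain ⟨O, h2, h3, h4, h5⟩ := h.cent x hx h1
  obtain ⟨k, hk⟩ := h.two x hx
  have h6 := prB_cent (mem_top x) hk one_mem_Reg (cfInd_mem_CF ⊤ S α)
  rw [mul_one, ← prB_cfRes] at h6
  have hxC : x ∈ ⊤ ⊓ 𝐂[x] := ⟨mem_top x, mem_cent1_self x⟩
  refine mul_left_cancel₀ (cardC_ne_zero O) ?_
  rw [T_def, ← h6, prB_avg h2 h3 h5 (cfRes_mem_CF le_top (cfInd_mem_CF ⊤ S α)),
    Finset.sum_eq_single 1 (fun y hy hy1 => ?_) fun e => absurd (mem_elts.2 O.one_mem) e, one_mul,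
    cfResE _ hxC, cfIndE' _ _ (mem_top x)]
  · have h7 := h.sum_conj hα hx h1
    rw [← h4] at h7
    have := cardC_ne_zero S
    refine mul_left_cancel₀ (cardC_ne_zero (S ⊓ 𝐂[x])) ?_
    rw [mul_left_comm, h7]
    push_cast
    field_simp
  · replace hy := mem_elts.1 hy
    rw [cfResE _ (mul_mem (h2.1 hy) hxC)]
    refine cfInd_eq_zero _ fun g _ => cfun0 hα fun e => hy1 ?_
    obtain ⟨j, hj⟩ := h.two _ e
    have hc : Commute y x := mem_cent1.1 (h2.1 hy).2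
    have k1 : (y * x) ^ 2 ^ j = 1 := by
      rwa [show g⁻¹ * (y * x) * g = g⁻¹ * (y * x) * g⁻¹⁻¹ by simp, conj_pow, conj_eq_one_iff] at hj
    have k2 : y ^ 2 ^ (j + k) = 1 := by
      have : (y * x) ^ 2 ^ (j + k) = 1 := by rw [pow_add, pow_mul, k1, one_pow]
      rwa [hc.mul_pow, pow_add, mul_comm (2 ^ j), pow_mul x, hk, one_pow, mul_one, mul_comm,
        ← pow_add] at this
    exact orderOf_eq_one_iff.1 (Nat.eq_one_of_dvd_coprimes
      ((Nat.prime_two.coprime_iff_not_dvd.2 ((h5 y).2 hy).2).pow_left _)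
      (orderOf_dvd_of_pow_eq_one k2) dvd_rfl)

theorem cfdot_TT (hα : α ∈ CF S) (hβ : β ∈ CF S) (h0 : β 1 = 0) :
    ⟪T S α, T S β⟫[⊤] = ⟪α, N r β⟫[S] := by
  rw [cfdot_T hα (prB_T β)]
  exact cfdot_congr (fun _ _ => rfl) fun x hx => h.T_apply hβ h0 hx

theorem lin (hl : IsIrr S l) (hA : A ≤ cfker S l) : IsLinChar S l := lin_irr_der1 hl (h.der.trans hA)

theorem conj_ne (hl : IsIrr S l) (hA : A ≤ cfker S l) (h1 : l ≠ cf1 S) : cfConjg r⁻¹ l ≠ l :=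
  fun e => h1 <| by
  have h2 := h.lin hl hA
  have h3 : ∀ x ∈ S, r * x * r⁻¹ * x⁻¹ ∈ S := fun x hx => mul_mem (h.mem hx) (inv_mem hx)
  have h4 : Function.Injective fun x : S => (⟨r * x * r⁻¹ * (x : G)⁻¹, h3 x x.2⟩ : S) := fun x y e => by
    have h5 : r * x * r⁻¹ * (x : G)⁻¹ = r * y * r⁻¹ * (y : G)⁻¹ := congrArg Subtype.val e
    have h7 : r * ((y : G)⁻¹ * x) * r⁻¹ = (y : G)⁻¹ * x := by
      calc _ = (r * y * r⁻¹)⁻¹ * (r * x * r⁻¹ * (x : G)⁻¹) * x := by group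
        _ = _ := by rw [h5]; group
    have h6 := h.fpfA _ (h.fpf ((y : G)⁻¹ * x) (mul_mem (inv_mem y.2) x.2)
      (by rw [h7, mul_inv_cancel]; exact A.one_mem)) h7
    exact Subtype.ext (inv_mul_eq_one.1 h6).symm
  refine cfun_ext hl.mem_CF (cf1_mem_CF S) fun y hy => ?_
  obtain ⟨x, hx⟩ := Finite.surjective_of_injective h4 ⟨y, hy⟩
  have h5 := congrFun e x
  rw [cfConjgE, inv_inv] at h5
  rw [cf1E hy, ← show r * x * r⁻¹ * (x : G)⁻¹ = y from congrArg Subtype.val hx,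
    lin_charM h2 (h.mem x.2) (inv_mem x.2), h5, ← lin_charM h2 x.2 (inv_mem x.2), mul_inv_cancel, h2.one]

theorem conj3 (hα : α ∈ CF S) : cfConjg r⁻¹ (cfConjg r⁻¹ (cfConjg r⁻¹ α)) = α :=
  have := inv_mem h.norm
  cfun_ext (cfConjg_mem_CF this (cfConjg_mem_CF this (cfConjg_mem_CF this hα))) hα fun x hx => by
    simp only [cfConjgE, inv_inv, h.cube x hx]

open Classical in
theorem cfdot_N (hm : IsIrr S m) (hl : IsIrr S l) (hA : A ≤ cfker S l) (h1 : l ≠ cf1 S) :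
    ⟪m, N r l⟫[S] =
    if m ∈ ({l, cfConjg r⁻¹ l, cfConjg r⁻¹ (cfConjg r⁻¹ l)} : Finset (G → ℂ)) then 1 else 0 := by
  have h2 := hl.cfConjg (inv_mem h.norm)
  have h3 := h2.cfConjg (inv_mem h.norm)
  have k1 := h.conj_ne hl hA h1
  have k2 : cfConjg r⁻¹ (cfConjg r⁻¹ l) ≠ cfConjg r⁻¹ l := fun e => k1 (cfConjg_inj _ e)
  have k3 : cfConjg r⁻¹ (cfConjg r⁻¹ l) ≠ l := fun e => k1 (by simpa [e] using h.conj3 hl.mem_CF)
  rw [N, cfdotDr, cfdotDr, cfdot_irr hm hl, cfdot_irr hm h2, cfdot_irr hm h3]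
  by_cases e1 : m = l
  · simp [e1, k1.symm, k3.symm]
  by_cases e2 : m = cfConjg r⁻¹ l
  · simp [e2, k1, k2.symm]
  simp [e1, e2]

theorem cfdot_one_N (hl : IsIrr S l) (h1 : l ≠ cf1 S) : ⟪cf1 S, N r l⟫[S] = 0 := by
  have h2 := inv_mem h.norm
  have h3 := cfdot_symm0 (hl.cfdot_cf1 h1)
  have h4 : ∀ φ, ⟪cf1 S, cfConjg r⁻¹ φ⟫[S] = ⟪cf1 S, φ⟫[S] := fun φ => by
    rw [← cfdot_cfConjg h2 _ φ, cfConjg_cf1 h2]
  rw [N, cfdotDr, cfdotDr, h4, h4, h4, h3]; simp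

theorem sub_A (hm : IsIrr S m) (hA : A ≤ cfker S m) (hx : x ∈ A) : (cf1 S - m) x = 0 := by
  rw [Pi.sub_apply, cf1E (h.le hx), cfker1 (hA hx), (h.lin hm hA).one, sub_self]

theorem T_A (hm : IsIrr S m) (hA : A ≤ cfker S m) (hx : x ∈ A) : T S (cf1 S - m) x = 0 := by
  rw [h.T_apply (W0.Hyp.sub_mem' hm) (h.sub_A hm hA A.one_mem) (h.le hx), N_apply, h.sub_A hm hA hx,
    h.sub_A hm hA (h.memA hx), h.sub_A hm hA (h.memA (h.memA hx))]
  simp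

theorem cfdot_eta (hm : IsIrr S m) (hm1 : m ≠ cf1 S) (hl : IsIrr S l) (hA : A ≤ cfker S l)
    (hl1 : l ≠ cf1 S) : ⟪eta S m, eta S l⟫[⊤] = 2 + ⟪m, N r l⟫[S] := by
  have h2 := inv_mem h.norm
  have h3 : N r (cf1 S - l) = cf1 S + cf1 S + cf1 S - N r l := by
    simp only [N, cfConjg_sub, cfConjg_cf1 h2]; abel
  rw [eta, eta, cfdotBl, cfdotBr, cfdotBr, h.cfdot_TT (W0.Hyp.sub_mem' hm) (W0.Hyp.sub_mem' hl)
    (h.sub_A hl hA A.one_mem), W0.Hyp.T_one hm hm1, cfdotC (cf1 ⊤), W0.Hyp.T_one hl hl1, cfdot_cf1, h3]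
  simp only [cfdotBl, cfdotBr, cfdotDr, cfdot_cf1, hm.cfdot_cf1 hm1, h.cfdot_one_N hl hl1, map_one]
  ring

theorem relIndex : A.relIndex S = 16 := by
  have := card_mul_relIndex h.le
  rw [h.cA, h.cS] at this
  omega

omit [Finite G] in
theorem ne1 (ht : t ∈ A) (t1 : t ≠ 1) : r * t * r⁻¹ ≠ t ∧ r * (r * t * r⁻¹) * r⁻¹ ≠ t :=
  have k2 : r * t * r⁻¹ ≠ t := fun e => t1 (h.fpfA t ht e)
  ⟨k2, fun e => k2 (by simpa [e] using h.cube t (h.le ht))⟩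

theorem sum_A (ht : t ∈ A) (t1 : t ≠ 1) (f : G → ℂ) : ∑ v ∈ elts (A : Set G), f v =
    f 1 + (f t + (f (r * t * r⁻¹) + f (r * (r * t * r⁻¹) * r⁻¹))) := by
  classical
  obtain ⟨k2, k4⟩ := h.ne1 ht t1
  have k3 : r * t * r⁻¹ ≠ r * (r * t * r⁻¹) * r⁻¹ := fun e => k2 (by simpa using e.symm)
  have k5 : (1 : G) ∉ ({t, r * t * r⁻¹, r * (r * t * r⁻¹) * r⁻¹} : Finset G) := by
    simp only [Finset.mem_insert, Finset.mem_singleton, eq_comm (a := (1 : G)), conj_eq_one_iff, t1]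
    simp
  have k6 : t ∉ ({r * t * r⁻¹, r * (r * t * r⁻¹) * r⁻¹} : Finset G) := by
    simp only [Finset.mem_insert, Finset.mem_singleton, k2.symm, k4.symm]
    simp
  rw [← Finset.eq_of_subset_of_card_le (s := {1, t, r * t * r⁻¹, r * (r * t * r⁻¹) * r⁻¹})
    (t := elts (A : Set G))
    (by simp only [Finset.insert_subset_iff, Finset.singleton_subset_iff, mem_elts, SetLike.mem_coe]
        exact ⟨A.one_mem, ht, h.memA ht, h.memA (h.memA ht)⟩)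
    (by rw [card_elts, h.cA, Finset.card_insert_of_notMem k5, Finset.card_insert_of_notMem k6,
      Finset.card_pair k3]), Finset.sum_insert k5, Finset.sum_insert k6, Finset.sum_pair k3]

/-- an irreducible character of degree four -/
theorem exists_four : ∃ ψ, IsIrr S ψ ∧ ψ ∈ suppOn (A : Set G) ∧ ψ 1 = 4 ∧
    ∑ v ∈ elts (A : Set G), ψ v = 0 := by
  obtain ⟨ψ, h1, -, h2⟩ := exists_irr_cfker_not_le (NormalIn.bot S) (K := A) fun e => by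
    have := h.cA
    rw [le_bot_iff.1 e, card_bot] at this
    omega
  obtain ⟨l, hl, -, h3⟩ := h1.exists_lin_of_central h.le
    ((commutator_eq_bot_iff.2 (le_cent_comm.1 h.cen)).le.trans bot_le)
  obtain ⟨v, hv, h4⟩ := SetLike.not_le_iff_exists.1 h2
  have h5 : l v ≠ 1 := fun e => h4 (mem_cfker.2 ⟨h.le hv, fun y => by rw [h3 v hv, e, one_mul]⟩)
  have h6 : ψ ∈ suppOn (A : Set G) := mem_suppOn.2 fun x hx => by
    by_cases e : x ∈ S
    · obtain ⟨s, hs, e'⟩ := h.cls x e hx v hv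
      have h7 := h3 v hv x
      rw [← e', cfunJ h1.mem_CF hs] at h7
      exact (mul_left_eq_self₀.1 h7.symm).resolve_left h5
    · exact cfun0 h1.mem_CF e
  refine ⟨ψ, h1, h6, ?_, h1.sum_eq_zero_of_not_cfker h.normal h2⟩
  have h7 := cfdot_of_suppOn h.le h6 ψ
  obtain ⟨n, hn⟩ := Cnat_char1 h1.isChar
  rw [cfdot_irr_self h1, h.relIndex, cfdotE, Finset.sum_congr rfl (g := fun _ => (n : ℂ) * n)
    fun v hv => by
      have := h3 v (mem_elts.1 hv) 1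
      rw [mul_one, hn] at this
      rw [this, map_mul, map_natCast, mul_mul_mul_comm, lin_char_mul_conj hl (mem_elts.1 hv),
        one_mul], sum_elts_const, nsmul_eq_mul, ← mul_assoc, inv_mul_cancel₀ (cardC_ne_zero A),
    one_mul, mul_one] at h7
  have h8 : 4 * 4 = n * n := by exact_mod_cast h7
  rw [hn, ← Nat.mul_self_inj.1 h8]; rfl

omit h in
theorem prB_of_eta (hl : IsIrr S l) (hl1 : l ≠ cf1 S) (ha : IsDirr ⊤ a) (h1 : ⟪eta S l, a⟫[⊤] = 1) :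
    ⟪cf1 ⊤, a⟫[⊤] = 0 ∧ prB 2 ⊤ a = a := by
  have k0 : ⟪eta S l, cf1 ⊤⟫[⊤] = 0 := by
    rw [eta, cfdotBl, W0.Hyp.T_one hl hl1, cfdot_cf1, sub_self]
  have k1 : ⟪cf1 ⊤, a⟫[⊤] = 0 := cfdot_dirr_eq_zero (isIrr_cf1 ⊤).isDirr ha
    (fun e => by rw [← e, k0] at h1; exact zero_ne_one h1)
    fun e => by rw [e, cfdotNr, h1] at k0; simp at k0
  refine ⟨k1, ?_⟩
  obtain ⟨ε, -, χ, hχ, rfl⟩ := ha.exists_sign
  rw [map_smul, prB_of_mem (by_contra fun e => ?_)]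
  rw [eta, cfdotBl, k1, cfdotZr, T_def, cfdot_prB_of_not_mem _ hχ e] at h1
  simp at h1

theorem cint (ht : t ∈ A) (ha : a ∈ ZIrr ⊤) : IsCint (a t) := Cint_vchar_of_pow ha fun k hk => by
  by_cases t1 : t = 1
  · simp [t1]
  have h1 : orderOf t = 2 := orderOf_eq_prime ((pow_two t).trans (h.sq t ht)) t1
  obtain ⟨j, rfl⟩ := Nat.coprime_two_right.1 (h1 ▸ hk)
  rw [pow_succ, pow_mul, pow_two, h.sq t ht, one_pow, one_mul]

/-- the congruences for the two nonexceptional constituents -/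
theorem values (hp : OO.der (⊤ : Subgroup G) = ⊤) (ht : t ∈ A) (t1 : t ≠ 1) (ha : IsDirr ⊤ a)
    (k1 : ⟪cf1 ⊤, a⟫[⊤] = 0) (k2 : prB 2 ⊤ a = a)
    (h1 : ∀ m, IsIrr S m → A ≤ cfker S m → m ≠ cf1 S → ⟪eta S m, a⟫[⊤] = 1) :
    ∃ y z i k : ℤ, a 1 = y ∧ a t = z ∧ y ≠ 1 ∧ y + 3 * z = 64 * i + 4 ∧ y - z = 16 * k := by
  classical
  obtain ⟨y, hy⟩ := Cint_vchar1 ha.vchar
  obtain ⟨z, hz⟩ := h.cint ht ha.vchar
  have k3 := cfRes_vchar le_top ha.vchar (H := S)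
  obtain ⟨i, hi⟩ := Cint_cfdot_vchar (cf1_vchar S) k3
  obtain ⟨ψ, h2, h3, h4, h5⟩ := h.exists_four
  obtain ⟨k, hk⟩ := Cint_cfdot_vchar (irr_vchar h2) k3
  rw [cfdot_cfRes_right] at hi hk
  have k4 : ∀ φ ∈ suppOn (A : Set G), 64 * ⟪φ, a⟫[S] =
      φ 1 * (y - z) + z * ∑ v ∈ elts (A : Set G), φ v := fun φ hφ => by
    rw [cfdotEl h.le hφ, h.cS, h.sum_A ht t1, h.sum_A ht t1, cfunJ ha.mem_CF (mem_top r) (_ * _),
      cfunJ ha.mem_CF (mem_top r), hy, hz, map_intCast, map_intCast]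
    push_cast
    ring
  refine ⟨y, z, i - 1, k, hy, hz, fun e => ?_, ?_, ?_⟩
  · rw [e, Int.cast_one] at hy
    have h6 := ha.isIrr (by simp [hy])
    rw [h6.le_cfker_iff.1 (hp.ge.trans (lin_char_der1 (h6.isLinChar hy))), cfdot_cf1] at k1
    exact one_ne_zero k1
  · have h6 := congrArg (fun φ => ⟪φ, a⟫[S]) (sum_irr_cfker h.normal)
    have h7 := k4 _ (CF_le_suppOn A (cf1_mem_CF A))
    have h8 : cf1 S ∈ (Irr S).filter fun χ => A ≤ cfker S χ :=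
      Finset.mem_filter.2 ⟨cf1_mem_Irr S, by rw [cfker_cf1]; exact h.le⟩
    simp only [cfdot_suml, cfdotZl] at h6
    rw [← Finset.add_sum_erase _ _ h8, Finset.sum_congr rfl (g := fun _ => (i : ℂ) - 1) fun m hm => by
      obtain ⟨m1, hm⟩ := Finset.mem_erase.1 hm
      obtain ⟨hm, hA⟩ := Finset.mem_filter.1 hm
      replace hm := mem_Irr.1 hm
      rw [(h.lin hm hA).one, one_mul, ← h1 m hm hA m1, eta, cfdotBl, k1,
        cfdot_T (W0.Hyp.sub_mem' hm) k2, cfdotBl, hi]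
      ring, Finset.sum_const, Finset.card_erase_of_mem h8, card_irr_cfker_of_der_le h.normal h.der,
      h.relIndex, hi, cf1_one] at h6
    rw [Finset.sum_congr rfl fun v hv => cf1E (mem_elts.1 hv), sum_elts_const, h.cA, cf1_one] at h7
    have : (y : ℂ) + 3 * z = 64 * (i - 1) + 4 := by
      simp only [nsmul_eq_mul] at h6 h7
      push_cast at h6 h7
      linear_combination -h7 - 4 * h6
    exact_mod_cast this
  · have h6 := k4 ψ h3
    rw [hk, h4, h5] at h6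
    have : (y : ℂ) - z = 16 * k := by linear_combination -h6 / 4
    exact_mod_cast this

theorem false_of (hp : OO.der (⊤ : Subgroup G) = ⊤) : False := by
  classical
  obtain ⟨t, ht, t1⟩ := exists_mem_ne_one (H := A) fun e => by
    have := h.cA
    rw [e, card_bot] at this
    omega
  have t2 := h.sq t ht
  set L := ((Irr S).filter fun χ => A ≤ cfker S χ).erase (cf1 S) with hL
  have k0 : ∀ m ∈ L, IsIrr S m ∧ A ≤ cfker S m ∧ m ≠ cf1 S := fun m hm =>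
    have := Finset.mem_filter.1 (Finset.mem_of_mem_erase hm)
    ⟨mem_Irr.1 this.1, this.2, Finset.ne_of_mem_erase hm⟩
  have hc : L.card = 15 := by
    rw [hL, Finset.card_erase_of_mem (Finset.mem_filter.2 ⟨cf1_mem_Irr S, by
      rw [cfker_cf1]; exact h.le⟩), card_irr_cfker_of_der_le h.normal h.der, h.relIndex]
  obtain ⟨l, hlL⟩ := Finset.card_pos.1 (hc ▸ by norm_num : 0 < L.card)
  obtain ⟨hl, hlA, hl1⟩ := k0 l hlL
  have k1 : ∀ m ∈ L, ⟪eta S m, eta S m⟫[⊤] = 3 := fun m hm => by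
    obtain ⟨hm, hA, h1⟩ := k0 m hm
    rw [h.cfdot_eta hm h1 hm hA h1, h.cfdot_N hm hm hA h1, if_pos (by simp)]; norm_num
  have y1 : ∀ η ∈ L.image (eta S), η ∈ ZIrr ⊤ := by
    simpa only [Finset.forall_mem_image] using fun m hm => W0.Hyp.eta_vchar (k0 m hm).1
  have y2 : ∀ η ∈ L.image (eta S), ⟪η, η⟫[⊤] = 3 := by
    simpa only [Finset.forall_mem_image] using k1
  have y3 : ∀ η ∈ L.image (eta S), ∀ η' ∈ L.image (eta S), η ≠ η' → ⟪η, η'⟫[⊤] = 2 := by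
    simp only [Finset.forall_mem_image]
    intro m hm' n hn' h1
    obtain ⟨hm, -, hm1⟩ := k0 m hm'
    obtain ⟨hn, hA, hn1⟩ := k0 n hn'
    have h2 := h.cfdot_eta hm hm1 hn hA hn1
    rw [h.cfdot_N hm hn hA hn1] at h2
    split_ifs at h2 with h3
    · refine absurd (sub_eq_zero.1 ((cfdot_self_eq0 (vchar_mem_CF
        (sub_mem (W0.Hyp.eta_vchar hm) (W0.Hyp.eta_vchar hn)))).1 ?_)) h1
      rw [cfdotBl, cfdotBr, cfdotBr, k1 m hm', k1 n hn',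
        cfdot_vchar_comm (W0.Hyp.eta_vchar hn) (W0.Hyp.eta_vchar hm), h2]
      norm_num
    · simpa using h2
  have y4 : 5 ≤ (L.image (eta S)).card := by
    have h1 := Finset.card_le_mul_card_image (f := eta S) L 3 (by
      simp only [Finset.forall_mem_image]
      intro n hn'
      obtain ⟨hn, hA, hn1⟩ := k0 n hn'
      refine (Finset.card_le_card (t := {n, cfConjg r⁻¹ n, cfConjg r⁻¹ (cfConjg r⁻¹ n)})
        fun m hm => by_contra fun h3 => ?_).trans Finset.card_le_three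
      obtain ⟨hm, h4⟩ := Finset.mem_filter.1 hm
      have h2 := h.cfdot_eta (k0 m hm).1 (k0 m hm).2.2 hn hA hn1
      rw [h.cfdot_N (k0 m hm).1 hn hA hn1, if_neg h3, h4, k1 n hn'] at h2
      norm_num at h2)
    omega
  have y5 : ∀ η ∈ L.image (eta S), prB 2 ⊤ η = η ∧ ⟪η, cf1 ⊤⟫[⊤] = 0 ∧ ∀ x ∈ A, η x = -1 := by
    simp only [Finset.forall_mem_image]
    intro m hm'
    obtain ⟨hm, hA, hm1⟩ := k0 m hm'
    refine ⟨by rw [eta, map_sub, prB_T, prB_of_mem cf1_mem_B0], by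
      rw [eta, cfdotBl, W0.Hyp.T_one hm hm1, cfdot_cf1, sub_self], fun x hx => ?_⟩
    rw [eta, Pi.sub_apply, h.T_A hm hA hx, cf1E (mem_top x), zero_sub]
  have y6 := Finset.mem_image_of_mem (eta S) hlL
  obtain ⟨a, b, c, ha, hb, hc, e, h1, h2⟩ := common y1 y2 y3 y4 y6
  generalize hY : L.image (eta S) = Y at y1 y2 y3 y4 y5 y6 h2
  have h3 : ∀ m, IsIrr S m → A ≤ cfker S m → m ≠ cf1 S → eta S m ∈ Y := fun m hm hA h3 =>
    hY ▸ Finset.mem_image_of_mem _ (Finset.mem_erase.2 ⟨h3, Finset.mem_filter.2 ⟨mem_Irr.2 hm, hA⟩⟩)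
  obtain ⟨a3, a4⟩ := prB_of_eta hl hl1 ha (h2 _ y6).1
  obtain ⟨b3, b4⟩ := prB_of_eta hl hl1 hb (h2 _ y6).2
  obtain ⟨ya, za, i, k, a1, a2, a5, a6, a7⟩ := h.values hp ht t1 ha a3 a4
    fun m hm hA h4 => (h2 _ (h3 m hm hA h4)).1
  obtain ⟨yb, zb, j, n, b1, b2, b5, b6, b7⟩ := h.values hp ht t1 hb b3 b4
    fun m hm hA h4 => (h2 _ (h3 m hm hA h4)).2
  have c0 : ∀ x ∈ A, c x = -1 - a x - b x := fun x hx => by
    have := (y5 _ y6).2.2 x hx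
    rw [e, Pi.add_apply, Pi.add_apply] at this
    linear_combination this
  have c1 : c 1 = (-1 - ya - yb : ℤ) := by rw [c0 1 A.one_mem, a1, b1]; push_cast; ring
  have c2 : c t = (-1 - za - zb : ℤ) := by rw [c0 t ht, a2, b2]; push_cast; ring
  have hab : ⟪a, b⟫[⊤] = 0 := by
    have h4 := (h2 _ y6).2
    have h5 := (h2 _ y6).1
    rw [e, cfdotDl, cfdotDl, hb.cfdot_self] at h4
    rw [e, cfdotDl, cfdotDl, ha.cfdot_self, cfdot_vchar_comm hb.vchar ha.vchar] at h5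
    rw [e, cfdotDl, cfdotDl, hc.cfdot_self, cfdot_vchar_comm ha.vchar hc.vchar,
      cfdot_vchar_comm hb.vchar hc.vchar] at h1
    linear_combination (h4 + h5 - h1) / 2
  -- the bound
  have bd : 1 + za ^ 2 + zb ^ 2 + 5 * (-1 - za - zb) ^ 2 ≤ 64 := by
    set α : G → ℂ := fun x => if x = t then 64 else 0 with hα
    have e1 : α ∈ CF S := mem_CF_of (fun x hx => if_neg fun e : x = t => hx (e ▸ h.le ht)) fun g hg x _ => by
      simp only [hα]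
      refine if_congr ⟨fun e => ?_, fun e => by rw [e, h.conj_eq ht hg]⟩ rfl rfl
      simpa using e.trans (h.conj_eq ht hg).symm
    have e2 : ∀ ψ, ⟪α, ψ⟫[S] = conj (ψ t) := fun ψ => by
      rw [cfdotE, Finset.sum_eq_single t (fun x _ e => by simp [hα, e])
        fun e => absurd (mem_elts.2 (h.le ht)) e, h.cS]
      simp [hα]
    have e3 : ⟪T S α, T S α⟫[⊤] = 64 := by
      rw [h.cfdot_TT e1 e1 (if_neg t1.symm), e2, N_apply]
      simp [hα, (h.ne1 ht t1).1, (h.ne1 ht t1).2]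
      exact map_ofNat _ _
    set σ := ∑ ξ ∈ Y, (ξ - a - b) with hσ
    have hba := cfdot_symm0 hab
    have s1 : ⟪σ, cf1 ⊤⟫[⊤] = 0 := by
      rw [hσ, cfdot_suml]
      exact Finset.sum_eq_zero fun ξ hξ => by
        rw [cfdotBl, cfdotBl, (y5 ξ hξ).2.1, cfdot_symm0 a3, cfdot_symm0 b3]; simp
    have s2 : ⟪σ, a⟫[⊤] = 0 := by
      rw [hσ, cfdot_suml]
      exact Finset.sum_eq_zero fun ξ hξ => by
        rw [cfdotBl, cfdotBl, (h2 ξ hξ).1, ha.cfdot_self, hba]; simp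
    have s3 : ⟪σ, b⟫[⊤] = 0 := by
      rw [hσ, cfdot_suml]
      exact Finset.sum_eq_zero fun ξ hξ => by
        rw [cfdotBl, cfdotBl, (h2 ξ hξ).2, hb.cfdot_self, hab]; simp
    have s4 : ⟪σ, σ⟫[⊤] = Y.card := by
      conv_lhs => rw [hσ, cfdot_sumr]
      rw [Finset.sum_congr rfl (g := fun _ => 1) fun ξ hξ => ?_]
      · simp
      rw [← hσ, cfdotBr, cfdotBr, s2, s3, hσ, cfdot_suml, Finset.sum_eq_single ξ (fun ζ hζ e => ?_)
        fun e => absurd hξ e]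
      all_goals
        rw [cfdotBl, cfdotBl, cfdot_vchar_comm ha.vchar (y1 ξ hξ), cfdot_vchar_comm hb.vchar (y1 ξ hξ),
          (h2 ξ hξ).1, (h2 ξ hξ).2]
      · rw [y2 ξ hξ]; ring
      · rw [y3 ζ hζ ξ hξ e]; ring
    have s5 : prB 2 ⊤ σ = σ := by
      rw [hσ, map_sum]
      exact Finset.sum_congr rfl fun ξ hξ => by rw [map_sub, map_sub, (y5 ξ hξ).1, a4, b4]
    have s6 : σ t = Y.card * (-1 - za - zb : ℤ) := by
      rw [hσ, Finset.sum_apply, Finset.sum_congr rfl (g := fun _ => ((-1 - za - zb : ℤ) : ℂ))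
        fun ξ hξ => by rw [Pi.sub_apply, Pi.sub_apply, (y5 ξ hξ).2.2 t ht, a2, b2]; push_cast; ring,
        Finset.sum_const, nsmul_eq_mul]
    generalize -1 - za - zb = zc at s6 ⊢
    set w := cf1 ⊤ + (za : ℂ) • a + (zb : ℂ) • b + (zc : ℂ) • σ with hw
    have w1 : ⟪w, w⟫[⊤] = ((1 + za ^ 2 + zb ^ 2 + Y.card * zc ^ 2 : ℤ) : ℝ) := by
      simp only [hw, cfdotDl, cfdotDr, cfdotZl, cfdotZr, cfdot_cf1, a3, b3, cfdot_symm0 a3,
        cfdot_symm0 b3, hab, hba, s1, s2, s3, s4, cfdot_symm0 s1, cfdot_symm0 s2, cfdot_symm0 s3,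
        ha.cfdot_self, hb.cfdot_self, map_intCast]
      push_cast
      ring
    have w2 : ⟪T S α, w⟫[⊤] = ((1 + za ^ 2 + zb ^ 2 + Y.card * zc ^ 2 : ℤ) : ℝ) := by
      rw [cfdot_T e1 (by simp only [hw, map_add, map_smul, a4, b4, s5, prB_of_mem cf1_mem_B0]), e2]
      simp only [hw, Pi.add_apply, Pi.smul_apply, smul_eq_mul, a2, b2, s6, cf1E (mem_top t), map_add,
        map_mul, map_intCast, map_natCast, map_one]
      push_cast
      ring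
    have w3 := cfnorm_ge0 (H := ⊤) (T S α - w)
    rw [cfnormB, w2, cfnorm_eq_of_cfdot w1, cfnorm_eq_of_cfdot (r := 64) (by simpa using e3),
      Complex.ofReal_re] at w3
    have w4 : 1 + za ^ 2 + zb ^ 2 + Y.card * zc ^ 2 ≤ (64 : ℤ) := by
      have : ((1 + za ^ 2 + zb ^ 2 + Y.card * zc ^ 2 : ℤ) : ℝ) ≤ 64 := by linarith
      exact_mod_cast this
    have w5 : (5 : ℤ) ≤ Y.card := by exact_mod_cast y4
    nlinarith [sq_nonneg zc]
  have k3 : ∀ g : G, T S (cf1 S - l) (g * t * g⁻¹ * t) = 0 := fun g => by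
    obtain ⟨u, s, hu, hs, h3, h4, -, h5⟩ := exists_decomp Nat.prime_two (g * t * g⁻¹ * t)
    by_cases h6 : u = 1
    · exact h.T_reg (W0.Hyp.sub_mem' hl) (h.sub_A hl hlA A.one_mem) (by rwa [h5, h6, one_mul])
    have h7 : t * u * t⁻¹ = u⁻¹ := by
      obtain ⟨n, rfl⟩ := mem_zpowers_iff.1 h4
      rw [← conj_zpow, ← inv_zpow]
      congr 1
      have h8 : t⁻¹ = t := inv_eq_of_mul_eq_one_right t2
      simp only [mul_inv_rev, inv_inv, h8, mul_assoc, t2, mul_one]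
    obtain ⟨y, hy⟩ := h.syl u hu
    rw [h5, ← cfunJ (T_mem _) (mem_top y), ← conj_mul, h.T_mul _ hy (by simpa using h6)
      (mem_cent1.2 (by rw [conj_mul, conj_mul, h3.eq])) (by rwa [orderOf_conj]),
      h.T_A hl hlA (h.inv _ hy (conj_sq (h.hinv t u t2 hu h7) y))]
  have k4 : ∑ g ∈ elts ((⊤ : Subgroup G) : Set G), (1 + a (g * t * g⁻¹ * t) + b (g * t * g⁻¹ * t) +
      c (g * t * g⁻¹ * t)) = 0 := Finset.sum_eq_zero fun g _ => by
    have h3 := congrFun e (g * t * g⁻¹ * t)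
    simp only [eta, Pi.sub_apply _ (cf1 ⊤), k3, cf1E (mem_top _), Pi.add_apply] at h3
    linear_combination -h3
  have k5 : ∀ a, IsDirr ⊤ a → ∑ g ∈ elts ((⊤ : Subgroup G) : Set G), a (g * t * g⁻¹ * t) =
      ♯(⊤ : Subgroup G) * (a t * a t / a 1) := fun a ha => by
    rw [← mul_div_assoc, eq_div_iff ha.one_ne_zero, mul_comm, sum_conj_mul_dirr ha (mem_top t), mul_assoc]
  simp only [Finset.sum_add_distrib, k5 a ha, k5 b hb, k5 c hc, sum_elts_const, nsmul_one, a1, b1, c1,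
    a2, b2, c2] at k4
  refine num (yc := -1 - ya - yb) a5 b5 a6 b6 a7 b7 (by ring) (by ring) bd
    (mul_left_cancel₀ (cardC_ne_zero (⊤ : Subgroup G)) ?_)
  linear_combination k4

end Hyp

end Cfsg.Agent.R4.U
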