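import Cfsg.Agent.Lib.R4.Four
import Cfsg.Agent.Lib.R4.UChar
import Cfsg.Agent.Lib.Suz2.Cyclic
import Cfsg.Agent.Lib.ZG.Two
import Cfsg.Agent.Lib.Cls.Camina
import Cfsg.Agent.Lib.W4.Tools

/-!
# Sylow 2-subgroups of type `U₃(4)`
-/

set_option autoImplicit false
set_option linter.unusedSectionVars false

namespace Cfsg.Agent.R4

open Subgroup Cfsg.Agent.OO Cfsg.Agent.Coprime Cfsg.Agent.SZ Cfsg.Agent.W4 Cfsg.Agent.Blk
open scoped commutatorElement Pointwise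

universe u

variable {G : Type u} [Group G] [Finite G] {A S P U : Subgroup G} {a b c g n r s t u v x y : G}
  {p : ℕ}

theorem ncard_modEq_conj [Fact p.Prime] (hP : IsPGroup p P) {X : Set G}
    (hX : ∀ a ∈ P, ∀ w ∈ X, a * w * a⁻¹ ∈ X) :
    X.ncard ≡ {w ∈ X | ∀ a ∈ P, a * w * a⁻¹ = w}.ncard [MOD p] :=
  @ncard_modEq_of_invariant G _ G _ (MulAction.compHom G (MulAut.conj : G →* MulAut G)) p _ P hP X hX

theorem mem_of_odd_four {H : Subgroup G} (ho : Odd (orderOf n)) (h : n ^ 4 ∈ H) : n ∈ H :=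
  zpowers_le.2 h (mem_zpowers_pow_iff.2 ((Nat.coprime_two_left.2 ho).pow_left 2))

theorem fix_of_odd (ho : Odd (orderOf t)) (e : t * s * t⁻¹ = s * u) (h1 : t * u * t⁻¹ = u)
    (h4 : u ^ 4 = 1) : t * s * t⁻¹ = s := by
  have k : ∀ m : ℕ, t ^ m * s * (t ^ m)⁻¹ = s * u ^ m := fun m => by
    induction m with
    | zero => simp
    | succ m ih =>
      calc _ = t * (t ^ m * s * (t ^ m)⁻¹) * t⁻¹ := by rw [pow_succ']; group
        _ = _ := by rw [ih, ← conj_mul, e, ← conj_pow, h1, pow_succ', mul_assoc]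
  exact mem_cent1_iff_conj.1 (mem_of_odd_four ho (mem_cent1_iff_conj.2 (by rw [k, h4, mul_one])))

theorem Q4.sum (h : Q4 A r) {M : Type*} [AddCommMonoid M] (ha : a ∈ A) (a1 : a ≠ 1) (f : G → M) :
    ∑ v ∈ elts (A : Set G), f v = f 1 + (f a + (f (r * a * r⁻¹) + f (r * (r * a * r⁻¹) * r⁻¹))) := by
  classical
  have hb := conj_mem_of_norm h.norm ha
  have k2 : a ≠ r * a * r⁻¹ := fun e => a1 (h.fpf ha e.symm)
  have k3 : r * a * r⁻¹ ≠ r * (r * a * r⁻¹) * r⁻¹ := fun e => k2 (by simpa using e)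
  have k4 : a ≠ r * (r * a * r⁻¹) * r⁻¹ := by
    rw [h.cyc h.norm h.not_mem ha]; simpa using a1
  have k5 : (1 : G) ∉ ({a, r * a * r⁻¹, r * (r * a * r⁻¹) * r⁻¹} : Finset G) := by
    simp only [Finset.mem_insert, Finset.mem_singleton, eq_comm (a := (1 : G)), conj_eq_one_iff, a1]
    simp
  have k6 : a ∉ ({r * a * r⁻¹, r * (r * a * r⁻¹) * r⁻¹} : Finset G) := by
    simp only [Finset.mem_insert, Finset.mem_singleton, k2, k4]
    simp
  rw [← Finset.eq_of_subset_of_card_le (s := {1, a, r * a * r⁻¹, r * (r * a * r⁻¹) * r⁻¹})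
    (t := elts (A : Set G))
    (by simp only [Finset.insert_subset_iff, Finset.singleton_subset_iff, mem_elts, SetLike.mem_coe]
        exact ⟨A.one_mem, ha, hb, conj_mem_of_norm h.norm hb⟩)
    (by rw [card_elts, h.card, Finset.card_insert_of_notMem k5, Finset.card_insert_of_notMem k6,
      Finset.card_pair k3]), Finset.sum_insert k5, Finset.sum_insert k6, Finset.sum_pair k3]

/-- a nonabelian Sylow 2-subgroup all of whose involutions lie in the four-group `A` -/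
structure US (S A : Subgroup G) (r : G) : Prop extends Q4 A r where
  syl : Syl 2 S ⊤
  normS : r ∈ 𝐍(S)
  three : PiElt {3} r
  le : A ≤ S
  cen : S ≤ 𝐂(A)
  inv : ∀ x ∈ S, x * x = 1 → x ∈ A
  nab : ¬ Ab S

namespace US

variable (h : US S A r)
include h

theorem sqA (ha : a ∈ A) : a * a = 1 := abelem_sq h.elem ha

theorem hig : der S = A ∧ Zc S = A ∧ (∀ x ∈ S, x * x ∈ A) ∧ (♯S = 16 ∨ ♯S = 64) := by
  obtain ⟨a, ha, a1⟩ := h.exists_ne
  have hb := conj_mem_of_norm h.norm ha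
  obtain ⟨h1, h2, h3, h4⟩ := R1.higman G S (zpowers r) h.syl.isPGroup inferInstance
    (zpowers_le.2 h.normS) h.nab ⟨a, h.le ha, _, h.le hb, fun e => a1 (h.fpf ha e.symm), a1, h.sqA ha,
      conj_ne_one.2 a1, h.sqA hb⟩ fun x hx y hy x1 x2 y1 y2 => by
      rcases h.cases (h.inv x hx x2) x1 (h.inv y hy y2) with e | e | e | e
      · exact absurd e y1
      · exact ⟨1, one_mem _, by simp [e]⟩
      · exact ⟨r, mem_zpowers r, e.symm⟩
      · exact ⟨r * r, mul_mem (mem_zpowers r) (mem_zpowers r), .trans (by group) e.symm⟩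
  have k : ∀ x, x ∈ S ∧ x * x = 1 ↔ x ∈ A := fun x =>
    ⟨fun e => h.inv x e.1 e.2, fun e => ⟨h.le e, h.sqA e⟩⟩
  have e : der S = A := ext fun x => (h1 x).trans (k x)
  refine ⟨e, ext fun x => (h2 x).trans (k x), fun x hx => e ▸ h3 x hx, ?_⟩
  rwa [show ⁅S, S⁆ = A from e, h.card] at h4

theorem sq (hx : x ∈ S) : x * x ∈ A := h.hig.2.2.1 x hx

theorem four (hx : x ∈ S) : x ^ 4 = 1 := by
  rw [show x ^ 4 = x * x * (x * x) by simp only [pow_succ, pow_zero, one_mul, mul_assoc],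
    h.sqA (h.sq hx)]

theorem comm (hx : x ∈ S) (hy : y ∈ S) : ⁅x, y⁆ ∈ A := h.hig.1 ▸ commutator_mem_commutator hx hy

theorem conj_eq (ha : a ∈ A) (hg : g ∈ S) : g * a * g⁻¹ = a := mem_cent_iff_conj.1 (h.cen hg) a ha

theorem swap (ha : a ∈ A) (hg : g ∈ S) : a * g = g * a := mem_cent_iff.1 (h.cen hg) a ha

theorem normA : 𝐍(S) ≤ 𝐍(A) := h.hig.1 ▸ norm_le_norm_der S

theorem mem (hx : x ∈ S) : r * x * r⁻¹ ∈ S := conj_mem_of_norm h.normS hx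

theorem fib (h1 : A ≤ U) (h2 : U ≤ S) (h3 : r ∈ 𝐍(U)) (ha : a ∈ A) (a1 : a ≠ 1) :
    3 * {x | x ∈ U ∧ x * x = a}.ncard + 4 = ♯U := by
  classical
  have k1 : ∀ v, ((elts (U : Set G)).filter fun x => x * x = v).card = {x | x ∈ U ∧ x * x = v}.ncard :=
    fun v => by rw [← Set.ncard_coe_finset]; congr 1; ext; simp
  have k2 : ∀ v, {x | x ∈ U ∧ x * x = r * v * r⁻¹}.ncard = {x | x ∈ U ∧ x * x = v}.ncard := fun v => by
    rw [← Set.ncard_image_of_injective {x | x ∈ U ∧ x * x = v} (MulAut.conj r).injective]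
    congr 1
    ext x
    refine ⟨fun e => ⟨r⁻¹ * x * r, ⟨conj_mem_of_norm' h3 e.1, ?_⟩, by simp [mul_assoc]⟩, ?_⟩
    · calc _ = r⁻¹ * (x * x) * r := by group
        _ = _ := by rw [e.2]; group
    · rintro ⟨y, hy, rfl⟩
      exact ⟨conj_mem_of_norm h3 hy.1, by rw [← hy.2]; simp [mul_assoc]⟩
  have k3 : {x | x ∈ U ∧ x * x = 1} = A := Set.ext fun x =>
    ⟨fun e => h.inv x (h2 e.1) e.2, fun e => ⟨h1 e, h.sqA e⟩⟩
  rw [← card_elts U, Finset.card_eq_sum_card_fiberwise (f := fun x => x * x) (t := elts (A : Set G))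
    fun x hx => by simpa using h.sq (h2 (mem_elts.1 hx)), h.sum ha a1, k1, k1, k1, k1, k2, k2, k2, k3,
    ← Nat.card_coe_set_eq (A : Set G), SetLike.coe_sort_coe, h.card]
  ring

theorem cube (hx : x ∈ S) : r * (r * (r * x * r⁻¹) * r⁻¹) * r⁻¹ = x := by
  have := Fact.mk Nat.prime_three
  obtain ⟨a, ha, a1⟩ := h.exists_ne
  have h1 := h.toQ4.cube h.norm
  have h2 := pow_mem h.normS 3
  have h3 := h.fib h.le le_rfl h.normS ha a1
  have h4 := h.fib (U := S ⊓ 𝐂[r ^ 3]) (le_inf h.le (le_cent1_iff.2 h1)) inf_le_left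
    (mem_norm_inf h.normS (le_norm_self _ (mem_cent1.2 (Commute.self_pow r 3).eq))) ha a1
  have h5 := ncard_modEq_conj (isPGroup_zpowers_iff.2 (h.three.pow 3))
    (X := {x | x ∈ S ∧ x * x = a}) fun g hg w hw => ⟨conj_mem_of_norm (zpowers_le.2 h2 hg) hw.1, by
      rw [conj_mul, hw.2, mem_cent_iff_conj.1 (zpowers_le.2 h1 hg) a ha]⟩
  rw [show {w ∈ {x | x ∈ S ∧ x * x = a} | ∀ g ∈ zpowers (r ^ 3), g * w * g⁻¹ = w} =
      {x | x ∈ S ⊓ 𝐂[r ^ 3] ∧ x * x = a} from Set.ext fun w =>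
    ⟨fun e => ⟨⟨e.1.1, mem_cent1_comm.1 (mem_cent1_iff_conj.2 (e.2 _ (mem_zpowers _)))⟩, e.1.2⟩,
      fun e => ⟨⟨e.1.1, e.2⟩, fun g hg =>
        mem_cent1_iff_conj.1 (zpowers_le.2 (mem_cent1_comm.1 e.1.2) hg)⟩⟩] at h5
  have h6 := card_dvd (inf_le_left : S ⊓ 𝐂[r ^ 3] ≤ S)
  have h7 : ♯S ≤ ♯(S ⊓ 𝐂[r ^ 3]) := by
    generalize ♯(S ⊓ 𝐂[r ^ 3]) = m at h4 h6
    unfold Nat.ModEq at h5
    rcases h.hig.2.2.2 with e | e <;> rw [e] at h6 h3 ⊢ <;> have := Nat.le_of_dvd (by norm_num) h6 <;>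
      interval_cases m <;> omega
  rw [← cube_conj]
  exact mem_cent1_iff_conj.1 (mem_cent1_comm.1 ((eq_of_le_of_card_le inf_le_left h7).ge hx).2)

/-- an element fixing a coset of `A` fixes the square -/
theorem sq_fix (hx : x ∈ S) (e : n * x * n⁻¹ * x⁻¹ ∈ A) : n * (x * x) * n⁻¹ = x * x := by
  rw [← conj_mul, ← inv_mul_cancel_right (n * x * n⁻¹) x]
  generalize n * x * n⁻¹ * x⁻¹ = v at e
  rw [mul_assoc, ← mul_assoc x, ← h.swap e hx, mul_assoc _ x, ← mul_assoc, h.sqA e, one_mul]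

theorem mem_cent_of_fix (hn : n ∈ 𝐍(A)) (hx : x ∈ S) (hA : x ∉ A) (e : n * x * n⁻¹ * x⁻¹ ∈ A) :
    n ∈ 𝐂(A) := h.fix n hn _ (h.sq hx) (fun e => hA (h.inv x hx e)) (h.sq_fix hx e)

theorem fpfS (hx : x ∈ S) (e : r * x * r⁻¹ * x⁻¹ ∈ A) : x ∈ A :=
  by_contra fun hA => h.not_mem (h.mem_cent_of_fix h.norm hx hA e)

theorem tr (hx : x ∈ S) : x * (r * x * r⁻¹) * (r * (r * x * r⁻¹) * r⁻¹) ∈ A := by
  have h1 := mul_mem (h.mem hx) (h.mem (h.mem hx))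
  refine h.fpfS (mul_mem (mul_mem hx (h.mem hx)) (h.mem (h.mem hx))) ?_
  rw [← conj_mul, ← conj_mul, h.cube hx]
  convert h.comm h1 hx using 1
  have := h.conj_eq (h.comm h1 hx) (mul_mem hx h1)
  generalize r * (r * x * r⁻¹) * r⁻¹ = z at *
  generalize r * x * r⁻¹ = y at *
  rw [commutatorElement_def]
  group

theorem comm_mul_left (hs : s ∈ S) (ht : t ∈ S) (hx : x ∈ S) : ⁅s * t, x⁆ = ⁅s, x⁆ * ⁅t, x⁆ := by
  rw [h.swap (h.comm hs hx) (h.le (h.comm ht hx)), ← h.conj_eq (h.comm ht hx) hs]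
  simp only [commutatorElement_def]
  group

theorem comm_mul_right (hs : s ∈ S) (hx : x ∈ S) (hy : y ∈ S) : ⁅s, x * y⁆ = ⁅s, x⁆ * ⁅s, y⁆ := by
  rw [← h.conj_eq (h.comm hs hy) hx]
  simp only [commutatorElement_def]
  group

omit h in
theorem comm_conj (g s x : G) : ⁅g * s * g⁻¹, g * x * g⁻¹⁆ = g * ⁅s, x⁆ * g⁻¹ := by
  simp only [commutatorElement_def]
  group

omit h in
theorem conj3 (k g x : G) : k * g * k⁻¹ * (k * x * k⁻¹) * (k * g * k⁻¹)⁻¹ = k * (g * x * g⁻¹) * k⁻¹ := by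
  group

theorem cls (hx : x ∈ S) (hA : x ∉ A) (hv : v ∈ A) : ∃ s ∈ S, ⁅s, x⁆ = v := by
  obtain ⟨s, hs, w1⟩ : ∃ s ∈ S, ⁅s, x⁆ ≠ 1 := by
    by_contra! e
    exact hA (h.hig.2.1 ▸ mem_Zc.2 ⟨hx, fun y hy => commutatorElement_eq_one_iff_mul_comm.1 (e y hy)⟩)
  have hw := h.comm hs hx
  generalize hsx : ⁅s, x⁆ = w at w1 hw
  obtain ⟨t, ht, t1, tw⟩ : ∃ t ∈ S, ⁅t, x⁆ ≠ 1 ∧ ⁅t, x⁆ ≠ w := by
    by_contra! e
    replace e : ∀ t ∈ S, ⁅t, x⁆ = 1 ∨ ⁅t, x⁆ = w := fun t ht => or_iff_not_imp_left.2 (e t ht)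
    have k1 : ⁅s, r * x * r⁻¹⁆ = r * ⁅r * (r * s * r⁻¹) * r⁻¹, x⁆ * r⁻¹ := by
      rw [← comm_conj, h.cube hs]
    have k2 : ⁅s, r * (r * x * r⁻¹) * r⁻¹⁆ = r * (r * ⁅r * s * r⁻¹, x⁆ * r⁻¹) * r⁻¹ := by
      rw [← comm_conj, ← comm_conj, h.cube hs]
    have k3 := commutatorElement_eq_one_iff_mul_comm.2 (h.swap (h.tr hx) hs).symm
    have k4 := commutatorElement_eq_one_iff_mul_comm.2 (h.swap (h.tr hs) hx)
    rw [h.comm_mul_right hs (mul_mem hx (h.mem hx)) (h.mem (h.mem hx)),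
      h.comm_mul_right hs hx (h.mem hx), k1, k2, hsx] at k3
    rw [h.comm_mul_left (mul_mem hs (h.mem hs)) (h.mem (h.mem hs)) hx,
      h.comm_mul_left hs (h.mem hs) hx, hsx] at k4
    have k5 := h.sqA hw
    have k6 : r * w * r⁻¹ ≠ w := fun e => w1 (h.fpf hw e)
    rcases e _ (h.mem hs) with e1 | e1 <;> rcases e _ (h.mem (h.mem hs)) with e2 | e2 <;>
      rw [e1, e2] at k3 k4
    · exact w1 (by simpa using k4)
    · exact k6 (mul_left_cancel (.trans (by simpa using k3) k5.symm))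
    · rw [h.cyc h.norm h.not_mem hw] at k3
      simp [← mul_assoc, k5, w1] at k3
    · exact w1 (by simpa [k5] using k4)
  rcases four_cases h.elem h.card hw (h.comm ht hx) w1 t1 tw.symm hv with e | e | e | e
  · exact ⟨1, S.one_mem, by simp [e]⟩
  · exact ⟨s, hs, hsx.trans e.symm⟩
  · exact ⟨t, ht, e.symm⟩
  · exact ⟨s * t, mul_mem hs ht, by rw [h.comm_mul_left hs ht hx, hsx, e]⟩

theorem cls' (hx : x ∈ S) (hA : x ∉ A) (hv : v ∈ A) : ∃ s ∈ S, s * x * s⁻¹ = v * x :=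
  (h.cls hx hA hv).imp fun s e => ⟨e.1, by rw [← e.2, commutatorElement_def]; group⟩

theorem card_cent' (hx : x ∈ S) (hA : x ∉ A) : ♯(S ⊓ 𝐂[x]) * 4 = ♯S := by
  rw [← card_mul_relIndex (inf_le_left : S ⊓ 𝐂[x] ≤ S), ← Camina.ncard_class, ← h.card,
    ← SetLike.coe_sort_coe A, Nat.card_coe_set_eq,
    ← Set.ncard_image_of_injective (A : Set G) (mul_left_injective x)]
  congr 2
  ext y
  refine ⟨?_, fun ⟨s, hs, e⟩ => ⟨_, h.comm hs hx, by rw [← e, commutatorElement_def]; group⟩⟩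
  rintro ⟨v, hv, rfl⟩
  exact h.cls' hx hA hv

theorem exists_not_mem : ∃ x ∈ S, x ∉ A :=
  SetLike.not_le_iff_exists.1 fun e => h.nab (ab_of_le (abelem_ab h.elem) e)

theorem le_cent1 (hx : x ∈ S) : A ≤ S ⊓ 𝐂[x] := le_inf h.le (le_cent1_iff.2 (h.cen hx))

theorem cardS : ♯S = 64 := h.hig.2.2.2.resolve_left fun e => by
  obtain ⟨x, hx, hA⟩ := h.exists_not_mem
  have h1 := h.card_cent' hx hA
  exact hA ((eq_of_le_of_card_le (h.le_cent1 hx) (by rw [h.card]; omega)).ge ⟨hx, mem_cent1_self x⟩)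

theorem card_cent (hx : x ∈ S) (hA : x ∉ A) : ♯(S ⊓ 𝐂[x]) = 16 := by
  have := h.card_cent' hx hA
  rw [h.cardS] at this
  omega

theorem cent_of_odd (ht : t ∈ 𝐍(S)) (ho : Odd (orderOf t)) (hx : x ∈ S) (hA : x ∉ A)
    (e : t * x * t⁻¹ * x⁻¹ ∈ A) : t ∈ 𝐂(S) := by
  have h0 := h.mem_cent_of_fix (h.normA ht) hx hA e
  have h1 : t * x * t⁻¹ = x := fix_of_odd ho ((inv_mul_cancel_right _ x).symm.trans (h.swap e hx))
    (mem_cent_iff_conj.1 h0 _ e) (h.four (h.le e))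
  have h2 : t ∈ 𝐍(S ⊓ 𝐂[x]) := mem_norm_inf ht (le_norm_self _ (mem_cent1_iff_conj.2 h1))
  have h3 : S ⊓ 𝐂[x] ≤ 𝐂[t] := by
    have k1 : A < S ⊓ 𝐂[x] ⊓ 𝐂[t] := (le_inf (h.le_cent1 hx) (le_cent1_iff.2 h0)).lt_of_ne fun e =>
      hA (e.ge ⟨⟨hx, mem_cent1_self x⟩, mem_cent1_comm.1 (mem_cent1_iff_conj.2 h1)⟩)
    have k2 := card_lt k1
    have k3 := card_mul_relIndex (inf_le_left : S ⊓ 𝐂[x] ⊓ 𝐂[t] ≤ _)
    rw [h.card_cent hx hA] at k3
    rw [h.card] at k2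
    have k4 : (S ⊓ 𝐂[x] ⊓ 𝐂[t]).relIndex (S ⊓ 𝐂[x]) = 1 ∨
        (S ⊓ 𝐂[x] ⊓ 𝐂[t]).relIndex (S ⊓ 𝐂[x]) = 2 := by
      generalize (S ⊓ 𝐂[x] ⊓ 𝐂[t]).relIndex (S ⊓ 𝐂[x]) = m at k3
      have : m ≤ 3 := by nlinarith
      interval_cases m <;> omega
    rcases k4 with k4 | k4
    · exact (relIndex_eq_one.1 k4).trans inf_le_right
    intro u hu
    by_contra hu'
    have k5 := conj_mem_of_norm h2 hu
    have k6 : u⁻¹ * (t * u * t⁻¹) ∈ S ⊓ 𝐂[x] ⊓ 𝐂[t] :=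
      (mul_mem_iff_of_index_two k4 (a := ⟨_, inv_mem hu⟩) (b := ⟨_, k5⟩)).2 (iff_of_false
        (fun e => hu' ((inv_mem_iff (H := 𝐂[t])).1 e.2)) fun e => hu' (by
          simpa [mul_assoc] using conj_mem_of_norm' (le_norm_self _ (mem_cent1_self t)) e.2))
    exact hu' (mem_cent1_comm.1 (mem_cent1_iff_conj.2 (fix_of_odd ho (mul_inv_cancel_left u _).symm
      (mem_cent1_iff_conj.1 (mem_cent1_comm.1 k6.2)) (h.four k6.1.1))))
  refine mem_cent_iff_conj.2 fun s hs => ?_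
  have h4 := mul_mem (inv_mem hs) (conj_mem_of_norm ht hs)
  refine fix_of_odd ho (mul_inv_cancel_left s _).symm (mem_cent1_iff_conj.1 (mem_cent1_comm.1
    (h3 ⟨h4, mem_cent1_iff_conj.2 ?_⟩))) (h.four h4)
  have h5 := mem_cent_iff_conj.1 h0 _ (h.comm hs hx)
  rw [← comm_conj, h1] at h5
  calc _ = s⁻¹ * (⁅t * s * t⁻¹, x⁆ * x) * s := by rw [commutatorElement_def]; group
    _ = _ := by rw [h5, commutatorElement_def]; group

/-- an element of `N(S)` fixing a nontrivial coset of `A` induces an inner automorphism -/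
theorem inner (hn : n ∈ 𝐍(S)) (hx : x ∈ S) (hA : x ∉ A) (e : n * x * n⁻¹ * x⁻¹ ∈ A) :
    ∃ u ∈ S, ∀ s ∈ S, n * s * n⁻¹ = u * s * u⁻¹ := by
  obtain ⟨u, t, hu, ht, -, h1, h2, rfl⟩ := R1.exists_decomp Nat.prime_two n
  have h3 := h.syl.mem_of_mem_norm (mem_top u) (zpowers_le.2 hn h1) (W0.piElt_iff.2 hu)
  have h4 := h.cent_of_odd (zpowers_le.2 hn h2) (Nat.odd_iff.2 (by omega)) hx hA (by
    have := mul_mem (conj_mem_of_norm' (h.normA (le_norm_self S h3)) e) (h.comm (inv_mem h3) hx)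
    rw [commutatorElement_def] at this
    convert this using 1
    group)
  exact ⟨u, h3, fun s hs => by rw [← mem_cent_iff_conj.1 h4 s hs]; nth_rewrite 1 [mem_cent_iff_conj.1 h4 s hs]; group⟩

theorem mem_CM (hn : n ∈ 𝐍(S)) (hx : x ∈ S) (hA : x ∉ A) (e : n * x * n⁻¹ * x⁻¹ ∈ A) :
    n ∈ CM A S := by
  obtain ⟨u, hu, h1⟩ := h.inner hn hx hA e
  exact ⟨h.normA hn, fun s hs => by rw [commutatorElement_def, h1 s hs]; exact h.comm hu hs⟩

theorem ncard_fib (ha : a ∈ A) (a1 : a ≠ 1) : {x | x ∈ S ∧ x * x = a}.ncard = 20 := by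
  have := h.fib h.le le_rfl h.normS ha a1
  rw [h.cardS] at this
  omega

theorem ctl (hA : SC A) : Ctl ⊤ S 𝐍(S) :=
  (fus h.syl (fun i => if i = 0 then ⊥ else if i = 1 then A else S) 2 rfl le_rfl
    (fun i hi => by
      interval_cases i
      · exact fun a ha g _ _ => by simpa using ha
      · exact hA.scl h.syl.isPGroup h.le ⊤
      · exact fun _ _ _ _ e => e)
    fun i hi => by
      interval_cases i
      · exact (commutator_eq_bot_iff'.2 h.cen).le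
      · exact h.hig.1.le).le inf_le_right

theorem syl_cent (hx : x ∈ S) : Syl 2 (S ⊓ 𝐂[x]) (⊤ ⊓ 𝐂[x]) := by
  by_cases hA : x ∈ A
  · have h1 := le_cent1_iff.2 (le_cent_symm h.cen hA)
    rw [inf_eq_left.2 h1]
    exact h.syl.mono (le_inf le_top h1) le_top
  have h1 := h.syl.isPGroup.to_le (inf_le_left : S ⊓ 𝐂[x] ≤ S)
  obtain ⟨T, hT, h2⟩ := exists_syl_ge (inf_le_inf_right 𝐂[x] le_top) h1
  obtain ⟨g, -, h3⟩ := h.syl.exists_conj_le le_top hT.isPGroup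
  have h4 := h3 (conj_mem_conj (h2 ⟨hx, mem_cent1_self x⟩))
  refine hT.of_card_le (h2.trans hT.le) h1 ?_
  rw [h.card_cent hx hA, ← h.card_cent h4 fun e => hA (h.inv x hx (conj_eq_one_iff.1 (conj_mul.symm.trans (h.sqA e)))), ← card_conj g]
  exact card_le (le_inf h3 (cent1_conj g x ▸ conj_mono g (hT.le.trans inf_le_right)))

/-- the case in which `N(S) ⊓ C(A)` acts trivially on `S / A` -/
theorem hyp (hA : SC A) (hE : 𝐍(S) ⊓ 𝐂(A) ≤ CM A S) : R4.U.Hyp S A r := by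
  obtain ⟨x0, hx0, hA0⟩ := h.exists_not_mem
  have k0 : ∀ n ∈ 𝐍(S), n ∈ 𝐂(A) → ∃ u ∈ S, ∀ s ∈ S, n * s * n⁻¹ = u * s * u⁻¹ := fun n hn e =>
    h.inner hn hx0 hA0 ((hE ⟨hn, e⟩).2 x0 hx0)
  have k1 : ∀ n ∈ 𝐍(S), ∀ x ∈ S, x ≠ 1 → n * x * n⁻¹ = x →
      ∃ u ∈ S, ∀ s ∈ S, n * s * n⁻¹ = u * s * u⁻¹ := fun n hn x hx x1 e => by
    by_cases e' : x ∈ A
    · exact k0 n hn (h.fix n (h.normA hn) x e' x1 e)
    · exact h.inner hn hx e' (by rw [e, mul_inv_cancel]; exact A.one_mem)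
  have k2 : ∀ m ∈ 𝐍(S), ∀ n ∈ 𝐍(S), m⁻¹ * n ∈ 𝐂(A) → ∀ x ∈ S,
      ∃ s ∈ S, s * (m * x * m⁻¹) * s⁻¹ = n * x * n⁻¹ := fun m hm n hn e x hx => by
    obtain ⟨u, hu, h1⟩ := k0 _ (mul_mem (inv_mem hm) hn) e
    refine ⟨_, conj_mem_of_norm hm hu, ?_⟩
    calc _ = m * (u * x * u⁻¹) * m⁻¹ := by group
      _ = _ := by rw [← h1 x hx]; group
  have k3 : ∀ {X : Subgroup G}, IsPGroup 2 X → ∃ g, g •ᶜ X ≤ S := fun hX =>
    (h.syl.exists_conj_le le_top hX).imp fun _ e => e.2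
  refine ⟨fun x hx => ⟨2, h.four hx⟩, fun u hu => ?_, h.normS, h.norm, h.le, h.card, h.cardS, h.cen,
    fun x hx => h.sqA hx, h.inv, h.hig.1.le, fun x hx e v hv => h.cls' hx e hv,
    fun x hx => h.fpfS hx, fun x hx => h.fpf hx, fun x hx => h.cube hx, fun x hx g hg => ?_,
    fun x hx x1 => ?_, fun t u t2 hu e => ?_⟩
  · obtain ⟨g, e⟩ := k3 (isPGroup_zpowers_iff.2 (W0.piElt_iff.2 hu))
    exact ⟨g, e (conj_mem_conj (mem_zpowers u))⟩
  · obtain ⟨n, hn, e⟩ := (h.ctl hA).elt hx (mem_top g) hg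
    rw [e]
    rcases h.split (h.normA hn) with e | e | e
    · exact .inl (by simpa using k2 1 (one_mem _) n hn (by simpa using e) x hx)
    · exact .inr (.inl (k2 r h.normS n hn e x hx))
    · exact .inr (.inr (by simpa [mul_assoc] using k2 _ (mul_mem h.normS h.normS) n hn e x hx))
  · have h3 := (ZG.pnil_two (H := ⊤ ⊓ 𝐂[x]) fun R hR h2 g hg hn ho => by
      have h4 : zpowers x ≤ 𝐂(R) := zpowers_le.2 (le_cent1_iff.1 (hR.trans inf_le_right))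
      obtain ⟨k, hk⟩ := k3 (isPGroup_sup h2 (h.syl.isPGroup.to_le (zpowers_le.2 hx))
        (.inr (le_norm_of_le_cent h4)))
      have h5 : k * g * k⁻¹ ∈ 𝐍(k •ᶜ (R ⊔ zpowers x)) := norm_conj k _ ▸ conj_mem_conj
        (mem_norm_sup hn (cent_le_norm _ (cent_zpowers x ▸ hg.2)))
      obtain ⟨n, h6, h7⟩ := h.ctl hA _ hk _ (mem_top _) ((conj_eq_of_mem_norm h5).le.trans hk)
      have h8 := conj_mem_conj (g := k) (mem_sup_right (S := R) (mem_zpowers x))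
      obtain ⟨u, hu, h9⟩ := k1 n h6 _ (hk h8) (conj_ne_one.2 x1) (by
        rw [← h7 _ h8, US.conj3, mem_cent1_iff_conj.1 hg.2])
      have k4 : ∀ m : ℕ, ∀ y ∈ k •ᶜ (R ⊔ zpowers x), (k * g * k⁻¹) ^ m * y * ((k * g * k⁻¹) ^ m)⁻¹ =
          u ^ m * y * (u ^ m)⁻¹ := fun m y hy => by
        induction m with
        | zero => simp
        | succ m ih =>
          have h10 := conj_mem_of_norm (pow_mem h5 m) hy
          calc _ = k * g * k⁻¹ * ((k * g * k⁻¹) ^ m * y * ((k * g * k⁻¹) ^ m)⁻¹) * (k * g * k⁻¹)⁻¹ := by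
                rw [pow_succ']; simp only [mul_assoc, mul_inv_rev]
            _ = _ := by rw [h7 _ h10, h9 _ (hk h10), ih, pow_succ']; group
      refine mem_of_odd_four ho (mem_cent_iff_conj.2 fun y hy => ?_)
      have h10 := k4 4 _ (conj_mem_conj (mem_sup_left hy))
      rw [h.four hu, conj_pow, US.conj3] at h10
      simpa using h10).sdprod (h.syl_cent hx)
    refine ⟨_, h3.normal, not_dvd_Op' _, h3.card, fun g => ⟨fun hg => ?_, fun hg => ⟨h3.left_le hg,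
      (isPiNum_compl_singleton Nat.prime_two).1 ((Op'_piGrp _ _).piElt hg)⟩⟩⟩
    exact (h3.hall_left (Op'_piGrp _ _) (by simpa using (h.syl_cent hx).piGrp)).mem_of_normal
      h3.normal.2 hg.1 ((isPiNum_compl_singleton Nat.prime_two).2 hg.2)
  · have h5 : zpowers t ≤ 𝐍(zpowers u) := zpowers_le.2 (mem_normalizer_fintype fun y hy => by
      obtain ⟨i, rfl⟩ := mem_zpowers_iff.1 hy
      rw [← conj_zpow, e]; exact zpow_mem (inv_mem (mem_zpowers u)) i)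
    obtain ⟨k, hk⟩ := k3 (isPGroup_sup (two_elt t2) (isPGroup_zpowers_iff.2 (W0.piElt_iff.2 hu))
      (.inl h5))
    have h6 := h.swap (h.inv _ (hk (conj_mem_conj (mem_sup_left (mem_zpowers t)))) (W0.conj_sq t2 k))
      (hk (conj_mem_conj (mem_sup_right (mem_zpowers u))))
    rw [conj_mul, conj_mul] at h6
    rw [show t * u = u * t by simpa using h6, mul_inv_cancel_right] at e
    exact mul_eq_one_iff_eq_inv.2 e

end US

end Cfsg.Agent.R4
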