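import Cfsg.Agent.Lib.R4.KFDefs
import Cfsg.Agent.Lib.R4.Stab
import Cfsg.Agent.Lib.SE.N2

/-!
# `D`-embedded subgroups: the elementary facts used for the package DE2
-/

set_option autoImplicit false

namespace Cfsg.Agent.R4.E2

open Subgroup Cfsg.Agent.OO Cfsg.Agent.Coprime Cfsg.Agent.SZ Cfsg.Agent.GW Cfsg.Agent.W4
open scoped commutatorElement Pointwise

universe u

variable {G : Type u} [Group G] {A H K M N S T X Y : Subgroup G} {n p : ℕ} {g s t u v w x y : G}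

theorem inD_conj (h : InD A t) (g : G) : InD A (g * t * g⁻¹) :=
  let ⟨k, e⟩ := h
  ⟨k * g⁻¹, by rwa [show k * g⁻¹ * (g * t * g⁻¹) * (k * g⁻¹)⁻¹ = k * t * k⁻¹ by group]⟩

theorem inD_of_mem (h : t ∈ A) : InD A t := ⟨1, by simpa using h⟩

variable (h : DN A M n)
include h

theorem A_le : A ≤ M := (le_norm_self A).trans h.norm

theorem sq_A (ht : t ∈ A) : t * t = 1 := by rw [← sq]; exact h.elem.2 t ht

theorem inD_sq (ht : InD A t) : t * t = 1 := by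
  obtain ⟨k, e⟩ := ht
  have := conj_sq (sq_A h e) k⁻¹
  rwa [show k⁻¹ * (k * t * k⁻¹) * k⁻¹⁻¹ = t by group] at this

theorem eight : 8 ≤ ♯A := h.card ▸ Nat.pow_le_pow_right (n := 2) two_pos h.three

variable [Finite G]

theorem exists_A : ∃ a ∈ A, a ≠ 1 := exists_mem_ne_one fun e => by simpa [e] using h.four

theorem exists_conj_two (hT : IsPGroup 2 T) (hM : T ≤ M) :
    ∃ m ∈ M, ∀ t ∈ T, InD A t → m * t * m⁻¹ ∈ A := by
  obtain ⟨S, hS, hA⟩ := exists_syl_ge (A_le h) (abelem_isPGroup h.elem)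
  obtain ⟨m, hm, e⟩ := hS.exists_conj_le hM hT
  refine ⟨m, hm, fun t ht hD => ?_⟩
  obtain ⟨k, hk⟩ := inD_conj hD m
  have := h.cl S hS.isPGroup hA _ hk k⁻¹
  rw [show k⁻¹ * (k * (m * t * m⁻¹) * k⁻¹) * k⁻¹⁻¹ = m * t * m⁻¹ by group] at this
  exact this (e (conj_mem_conj ht))

theorem exists_conj_A (ht : t ∈ M) (hD : InD A t) : ∃ m ∈ M, m * t * m⁻¹ ∈ A :=
  let ⟨m, hm, e⟩ := exists_conj_two h (SE.isPGroup_zp (inD_sq h hD)) (zpowers_le.2 ht)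
  ⟨m, hm, e t (mem_zpowers t) hD⟩

theorem cls (hs : s ∈ M) (s1 : s ≠ 1) (sD : InD A s) (ht : t ∈ M) (t1 : t ≠ 1) (tD : InD A t) :
    ∃ g ∈ M, g * s * g⁻¹ = t := by
  obtain ⟨a, ha, e1⟩ := exists_conj_A h hs sD
  obtain ⟨b, hb, e2⟩ := exists_conj_A h ht tD
  obtain ⟨k, hk, e⟩ := h.trans _ e1 _ e2 (conj_ne_one.2 s1) (conj_ne_one.2 t1)
  exact ⟨b⁻¹ * k * a, mul_mem (mul_mem (inv_mem hb) (h.norm hk)) ha, by
    rw [show b⁻¹ * k * a * s * (b⁻¹ * k * a)⁻¹ = b⁻¹ * (k * (a * s * a⁻¹) * k⁻¹) * b by group, e]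
    group⟩

theorem cent_le (ht : t ∈ M) (t1 : t ≠ 1) (tD : InD A t) : 𝐂[t] ≤ M := by
  obtain ⟨a, ha, e⟩ := exists_conj_A h ht tD
  have := h.cent _ e (conj_ne_one.2 t1)
  rwa [cent1_conj, ← conj_eq_of_mem ha, conj_le_conj_iff] at this

theorem mem_of_conj (ht : t ∈ M) (t1 : t ≠ 1) (tD : InD A t) (hg : g * t * g⁻¹ ∈ M) : g ∈ M := by
  obtain ⟨m, hm, e⟩ := cls h ht t1 tD hg (conj_ne_one.2 t1) (inD_conj tD g)
  refine (M.mul_mem_cancel_left (inv_mem hm)).1 (cent_le h ht t1 tD (mem_cent1_iff_conj.2 ?_))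
  rw [show m⁻¹ * g * t * (m⁻¹ * g)⁻¹ = m⁻¹ * (g * t * g⁻¹) * m by group, ← e]
  group

theorem norm_le (hT : T ≤ M) (ht : t ∈ T) (t1 : t ≠ 1) (tD : InD A t) : 𝐍(T) ≤ M := fun _ hg =>
  mem_of_conj h (hT ht) t1 tD (hT (conj_mem_of_norm hg ht))

theorem norm_M : 𝐍(M) ≤ M :=
  let ⟨_, ha, a1⟩ := exists_A h
  norm_le h le_rfl (A_le h ha) a1 (inD_of_mem ha)

theorem le_of_two (hT : IsPGroup 2 T) (ht : t ∈ T) (hM : t ∈ M) (t1 : t ≠ 1) (tD : InD A t) :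
    T ≤ M :=
  inf_eq_left.1 (eq_of_nil_of_inf_norm_le (nil_of_isPGroup hT) inf_le_left (le_inf inf_le_left
    (inf_le_right.trans (norm_le h inf_le_right (mem_inf.2 ⟨ht, hM⟩) t1 tD))))

theorem free (hN : N ≤ M) (hH : H ≤ 𝐍(N)) (hn : ¬ H ≤ M) : ∀ t ∈ N, InD A t → t = 1 :=
  fun _ ht tD => by_contra fun t1 => hn (hH.trans (norm_le h hN ht t1 tD))

theorem free_inf (hu : u ∉ M) : ∀ t ∈ M ⊓ u •ᶜ M, InD A t → t = 1 := fun t ht tD =>
  by_contra fun t1 => hu (inv_mem_iff.1 (mem_of_conj h ht.1 t1 tD (g := u⁻¹)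
    (by rw [inv_inv]; exact mem_conj.1 ht.2)))

theorem odd_mul (hs : s ∈ M) (s1 : s ≠ 1) (sD : InD A s) (hu : u ∉ M) (uD : InD A u) :
    ¬ 2 ∣ orderOf (u * s) := fun e => by
  have s2 := inD_sq h sD
  have e1 : s * (u * s) * s⁻¹ = (u * s)⁻¹ := by
    rw [mul_inv_rev, inv_eq s2, inv_eq (inD_sq h uD), ← mul_assoc, mul_assoc, s2, mul_one]
  have e2 : u = u * s * s := by rw [mul_assoc, s2, mul_one]
  generalize u * s = x at e e1 e2
  have h1 : ∀ π, s * constt π x * s⁻¹ = (constt π x)⁻¹ := fun π => by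
    rw [← constt_conj, e1, constt_inv]
  obtain ⟨j, hj⟩ := SEA.exists_sqrt ((isPiNum_compl_singleton Nat.prime_two).1 (piElt_constt {2}ᶜ x))
  have h2 : s * constt {2}ᶜ x ^ j = (constt {2}ᶜ x ^ j)⁻¹ * s := by
    rw [← inv_pow, ← h1, conj_pow, inv_mul_cancel_right]
  have h3 := (commute_constt_constt {2} {2}ᶜ x).pow_right j
  have h4 : InD A (constt {2} x * s) := by
    convert inD_conj uD (constt {2}ᶜ x ^ j)⁻¹ using 1
    rw [e2, inv_inv, mul_assoc, mul_assoc x, h2]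
    nth_rw 3 [← constt_mul_constt_compl {2} x]
    nth_rw 2 [← hj]
    rw [← mul_assoc, ← mul_assoc, ← mul_assoc, ← mul_assoc, ← h3.inv_right.eq]
    group
  have h5 : IsPGroup 2 (zpowers (constt {2} x) ⊔ zpowers s : Subgroup G) :=
    isPGroup_sup (isPGroup_zpowers_iff.2 (piElt_constt _ x)) (SE.isPGroup_zp s2) (.inr
      (zpowers_le.2 (by rw [← conj_eq_self_iff, conj_zpowers, h1, zpowers_inv])))
  have h6 := mem_sup_left (T := zpowers s) (mem_zpowers (constt {2} x))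
  have h7 := mem_sup_right (S := zpowers (constt {2} x)) (mem_zpowers s)
  have h8 := le_of_two h h5 h7 hs s1 sD
  obtain ⟨m, -, e3⟩ := exists_conj_two h h5 h8
  have h9 := cent_le h (h8 h6) (fun e' => (isPiNum_compl_singleton Nat.prime_two).1
    (constt_eq_one_iff.1 e') e) ⟨m, by
      convert mul_mem (e3 _ (mul_mem h6 h7) h4) (inv_mem (e3 s h7 sD)) using 1
      group⟩ (mem_cent1.2 (commute_constt {2} x).eq.symm)
  exact hu (e2 ▸ mul_mem h9 hs)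

/-- `M ∩ Mᵘ` is transitive on `D ∩ M` -/
theorem exists_conj (hu : u ∉ M) (u2 : u * u = 1) (hs : s ∈ M) (s1 : s ≠ 1) (sD : InD A s)
    (ht : t ∈ M) (t1 : t ≠ 1) (tD : InD A t) : ∃ k ∈ M ⊓ u •ᶜ M, k * s * k⁻¹ = t := by
  obtain ⟨v, h1, h2⟩ := ZL.exists_swap (conj_sq (inD_sq h tD) u) (inD_sq h sD)
    (odd_mul h hs s1 sD (fun e => hu (mem_of_conj h ht t1 tD e)) (inD_conj tD u))
  have h3 : u * v * s * (u * v)⁻¹ = t := by
    rw [show u * v * s * (u * v)⁻¹ = u * (v * s * v⁻¹) * u⁻¹ by group, h2,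
      show u * (u * t * u⁻¹) * u⁻¹ = u * u * t * (u * u)⁻¹ by group, u2]
    group
  have h4 := mem_of_conj h hs s1 sD (h3 ▸ ht)
  refine ⟨u * v, ⟨h4, mem_conj.2 ?_⟩, h3⟩
  rw [show u⁻¹ * (u * v) * u = (u⁻¹ * v⁻¹)⁻¹ by group, inv_eq u2, inv_eq h1]
  exact inv_mem h4

theorem relIndex_cent (hu : u ∉ M) (u2 : u * u = 1) (ht : t ∈ M) (t1 : t ≠ 1) (tD : InD A t) :
    𝐂[t].relIndex M = 𝐂[t].relIndex (M ⊓ u •ᶜ M) := by
  rw [← GW.ncard_conj, ← GW.ncard_conj]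
  congr 1
  refine (Set.image_mono fun _ h => h.1).antisymm' ?_
  rintro _ ⟨m, hm, rfl⟩
  exact exists_conj h hu u2 ht t1 tD (mul_mem (mul_mem hm ht) (inv_mem hm)) (conj_ne_one.2 t1)
    (inD_conj tD m)

theorem le_of_not_conj (hs : s ∈ H) (hM : s ∈ M) (s1 : s ≠ 1) (sD : InD A s) (ht : t ∈ H)
    (hM' : t ∈ M) (t1 : t ≠ 1) (tD : InD A t) (hc : ∀ g ∈ H, g * s * g⁻¹ ≠ t) : H ≤ M :=
  fun g hg => by_contra fun e => by
    obtain ⟨j, hj⟩ := R1.exists_conj_of_odd (conj_sq (inD_sq h sD) g) (inD_sq h tD)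
      (odd_mul h hM' t1 tD (fun e' => e (mem_of_conj h hM s1 sD e')) (inD_conj sD g))
    have h1 : (g * s * g⁻¹ * t) ^ j ∈ H :=
      pow_mem (mul_mem (mul_mem (mul_mem hg hs) (inv_mem hg)) ht) j
    generalize (g * s * g⁻¹ * t) ^ j = c at hj h1
    refine hc _ (mul_mem (inv_mem h1) hg) ?_
    rw [show c⁻¹ * g * s * (c⁻¹ * g)⁻¹ = c⁻¹ * (g * s * g⁻¹) * c by group, ← hj]
    group

theorem sq_eq_one (hN : ∀ t ∈ N, InD A t → t = 1) (hx : PiElt {2} x) (h2 : x * x ∈ N) :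
    x * x = 1 := by_contra fun e => by
  obtain ⟨z, hz, z1, z2⟩ := SE.exists_inv (dvd_card_of_isPGroup (isPGroup_zpowers_iff.2
    (hx.mul_of_commute hx (Commute.refl x))) (zpowers_ne_bot.2 e))
  have h1 := zpowers_le.2 h2 hz
  obtain ⟨k, rfl⟩ := mem_zpowers_iff.1 hz
  rw [(Commute.refl x).mul_zpow] at z1 z2 h1
  exact z1 (hN _ h1 (h.f1 _ z1 z2))

theorem exists_out : ∃ u ∉ M, u * u = 1 := by
  obtain ⟨a, ha, a1⟩ := exists_A h
  obtain ⟨g, -, hg⟩ := SetLike.exists_of_lt (lt_top_iff_ne_top.2 h.ne)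
  exact ⟨_, fun e => hg (mem_of_conj h (A_le h ha) a1 (inD_of_mem ha) e), conj_sq (sq_A h ha) g⟩

/-- an involution outside `M` normalizing a Sylow subgroup of `M ∩ Mᵘ` -/
theorem exists_inv_norm [Fact p.Prime] (hu : u ∉ M) (u2 : u * u = 1) (hX : Syl p X (M ⊓ u •ᶜ M)) :
    ∃ w ∉ M, w * w = 1 ∧ w ∈ 𝐍(X) := by
  have h1 := SE.norm_inf_conj u2 M
  obtain ⟨d, hd, e⟩ := hX.exists_conj' (hX.conj_of_norm h1)
  have h2 : d⁻¹ * u ∈ 𝐍(X) := by rw [← conj_eq_self_iff, ← conj_conj, e, inv_conj_conj]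
  have h3 : (d⁻¹ * u) ^ 2 ∈ M ⊓ u •ᶜ M := by
    rw [sq, show d⁻¹ * u * (d⁻¹ * u) = d⁻¹ * (u * d⁻¹ * u⁻¹) * (u * u) by group, u2, mul_one]
    exact mul_mem (inv_mem hd) (conj_mem_of_norm h1 (inv_mem hd))
  have h4 : d⁻¹ * u ∉ M := fun e => hu ((M.mul_mem_cancel_left (inv_mem hd.1)).1 e)
  generalize d⁻¹ * u = g at h2 h3 h4
  have h5 : constt {2}ᶜ g ∈ zpowers (constt {2}ᶜ g ^ 2) := mem_zpowers_pow_iff.2
    (Nat.prime_two.coprime_iff_not_dvd.2 ((isPiNum_compl_singleton Nat.prime_two).1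
      (piElt_constt _ g)))
  rw [← constt_pow] at h5
  refine ⟨constt {2} g, fun e => h4 (mem_of_constt_mem e
    (zpowers_le.2 (constt_mem _ h3) h5).1), sq_eq_one h (free_inf h hu) (piElt_constt _ g) ?_,
    constt_mem _ h2⟩
  rw [← sq, ← constt_pow]
  exact constt_mem _ h3

omit [Finite G] in
theorem Y_normal : ncl A M ⊴ M := ⟨ncl_le (A_le h) (le_norm_self M), norm_ncl A M⟩

theorem mem_Y (ht : t ∈ M) (tD : InD A t) : t ∈ ncl A M := by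
  obtain ⟨m, hm, e⟩ := exists_conj_A h ht tD
  have := conj_mem_of_norm' (norm_ncl A M hm) (le_ncl A M e)
  rwa [show m⁻¹ * (m * t * m⁻¹) * m = t by group] at this

theorem Y_le_cent (hX : M ≤ 𝐍(X)) (hs : s ∈ M) (s1 : s ≠ 1) (sD : InD A s) (hc : s ∈ 𝐂(X)) :
    ncl A M ≤ 𝐂(X) := ncl_le (fun t ht => by
  by_cases t1 : t = 1
  · exact t1 ▸ one_mem _
  · obtain ⟨g, hg, rfl⟩ := cls h hs s1 sD (A_le h ht) t1 (inD_of_mem ht)
    exact conj_mem_of_norm (le_norm_cent hX hg) hc) (le_norm_cent hX)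

omit [Finite G] in
theorem Y_le : ncl A M ≤ A ⊔ O M := ncl_le le_sup_left h.normO

theorem syl_A : Syl 2 A (A ⊔ O M) :=
  (((IsSdprod.of_sup ((A_le h).trans (O_norm M)) (inf_comm A _ ▸ inf_eq_bot_odd
    (abelem_isPGroup h.elem) (odd_O M))).hall_right (odd_iff.1 (odd_O M))
      (piGrp_singleton (abelem_isPGroup h.elem))).syl).mono le_sup_left (sup_comm _ _).le

theorem sol_Y : Sol (ncl A M) := sol_of_le (sol_sup ((A_le h).trans (O_norm M))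
  (sol_of_ab (abelem_ab h.elem)) (sol_of_odd (odd_O M))) (Y_le h)

theorem ab_Y (hT : T ≤ ncl A M) (h2 : IsPGroup 2 T) : Ab T := by
  obtain ⟨g, -, e⟩ := (syl_A h).exists_le_conj' (hT.trans (Y_le h)) h2
  exact ab_of_le (ab_conj.2 (abelem_ab h.elem)) e

/-- normal subgroups of `M` which are not centralized by `A` have a centralizer of odd order -/
theorem odd_cent (hX : X ⊴ M) (hc : ¬ ncl A M ≤ 𝐂(X)) : Odd ♯(M ⊓ 𝐂(X)) :=
  odd_of_forall fun v hv v2 => by_contra fun v1 => by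
    by_cases e : InD A v
    · exact hc (Y_le_cent h hX.norm hv.1 v1 e hv.2)
    · exact hc (ncl_le (le_cent_symm (h.f2 v hv.1 v2 e X hX (le_cent1_iff.2 hv.2)))
        (le_norm_cent hX.norm))

end Cfsg.Agent.R4.E2
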