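import Cfsg.Agent.Lib.R4.DE2A

/-!
# Package DE2: known simple groups acted on by a group of type `(p, p)`
-/

set_option autoImplicit false

namespace Cfsg.Agent.R4.E2

open Subgroup Cfsg.Agent.OO Cfsg.Agent.Coprime Cfsg.Agent.SZ Cfsg.Agent.GW Cfsg.Agent.W4
open scoped commutatorElement Pointwise

universe u

variable {G : Type u} [Group G] [Finite G] {B C D E F H K L M P R T U W X Y : Subgroup G}
  {n p r : ℕ} {b g k t w x y : G}

theorem exists_conj_le [Fact p.Prime] [Fact r.Prime] (hD : D ⊴ H) (hR : Syl r R D) (hP : P ≤ H)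
    (hp : IsPGroup p P) (hU : H ⊓ 𝐍(R) ≤ U) (h : ¬ p ∣ U.relIndex D) : ∃ g ∈ H, g •ᶜ P ≤ U := by
  have h1 : IsProd D (H ⊓ U) H := IsProd.of_forall hD.le inf_le_left fun x hx =>
    let ⟨a, ha, b, hb, e⟩ := (hR.frattini hD).mem_iff.1 hx
    ⟨a, ha, b, ⟨hb.1, hU hb⟩, e⟩
  obtain ⟨S, hS⟩ := exists_syl p (H ⊓ U)
  obtain ⟨g, hg, e⟩ := (hS.hall.trans_of_relIndex inf_le_left
    ((isPiNum_compl_singleton Fact.out).2 (by
      rwa [h1.relIndex_eq, ← inf_relIndex_right, inf_right_comm, inf_eq_right.2 hD.le,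
        inf_relIndex_left]))).syl.exists_conj_le hP hp
  exact ⟨g, hg, e.trans (hS.le.trans inf_le_right)⟩

/-- two complements of a cyclic normal subgroup -/
theorem inf_ne_bot [hp : Fact p.Prime] (p2 : p ≠ 2) (hP : IsPGroup p P) (hC : C ⊴ P)
    (hc : IsCyclic C) (h0 : C ≠ ⊥) (hE : IsEp p 2 E P) (hF : F ≤ P) (h1 : E ≤ C ⊔ F)
    (h2 : C ⊓ F = ⊥) : E ⊓ F ≠ ⊥ := fun h3 => by
  have hW := isEp_Ohm_of_isCyclic hc (dvd_card_of_isPGroup (hP.to_le hC.le) h0)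
  have h4 : E ≤ Ohm p C ⊔ F := fun e he => by
    obtain ⟨y, hy, f, hf, rfl⟩ := (mem_sup_norm_left (hF.trans hC.norm)).1 (h1 he)
    have e1 := hE.abelem.2 _ he
    have e2 : f ^ p = 1 := mem_bot.1 (h2 ▸ mem_inf.2 ⟨by
      rw [← coset_eq_one_iff (pow_mem (hC.norm (hF hf)) p), coset_pow (hC.norm (hF hf)),
        ← coset_mul_of_mem' hy (hC.norm (hF hf)), ← coset_pow (hC.norm (hE.le he)), e1, coset_one],
      pow_mem hf p⟩)
    by_cases e : y * f ∈ C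
    · exact mem_sup_left (mem_Ohm e e1)
    have h5 := isEp_zpowers (mem_zpowers _) (orderOf_eq_prime e1 fun e' => e (e' ▸ one_mem C))
    have h6 := zpowers_le.2 (hE.le he)
    have h7 := hP.to_le (sup_le hC.le h6)
    obtain ⟨x, rfl⟩ := exists_zpowers_eq hc
    have h8 := (Ohm1_extremal_odd h7 (odd_of_isPGroup p2 h7) (fun e' => e (Ohm_le p _ (by
      rw [(hW.mono le_sup_left).eq_Ohm_of_isCyclic e', ← (h5.mono le_sup_right).eq_Ohm_of_isCyclic e']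
      exact mem_zpowers _))) (mem_sup_left (mem_zpowers x)) (by
        rw [relIndex_sup_eq' (.inr (h6.trans hC.norm)), ← inf_relIndex_left,
          h5.inf_eq_bot (fun e' => e (zpowers_le.1 e')), relIndex_bot_left, h5.card_one])).abelem
    have h9 := mem_sup_right (S := zpowers x) (mem_zpowers (y * f))
    refine mul_mem (mem_sup_left (mem_Ohm hy (h8.2 y ?_))) (mem_sup_right hf)
    simpa using mul_mem (mem_Ohm h9 e1) (inv_mem (mem_Ohm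
      ((mul_mem_cancel_left (mem_sup_left hy)).1 h9) e2))
  have h5 := relIndex_le_of_le_right h4 (relIndex_pos F _).ne'
  rw [relIndex_sup_eq (.inr (hF.trans (hC.Ohm p).norm)), ← inf_relIndex_left, h3,
    relIndex_bot_left, hE.card] at h5
  have h6 := h5.trans (Nat.le_of_dvd (card_pos' _) (relIndex_dvd_card _ _))
  rw [hW.card] at h6
  exact (Nat.pow_lt_pow_right hp.out.one_lt one_lt_two).not_ge h6

omit [Finite G] in
theorem inv_of_mem (h : g * w * g⁻¹ = w⁻¹) : g ∈ 𝐍(zpowers w) := by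
  rw [← conj_eq_self_iff, conj_zpowers, h, zpowers_inv]

/-- the hypotheses on a simple group -/
structure Lo (L M Y E : Subgroup G) (p : ℕ) : Prop where
  five : 5 ≤ p
  smp : Smp L
  nab : ¬ Ab L
  syl : Syl p (Y ⊓ L) L
  pY : IsPGroup p Y
  norm : Y ≤ 𝐍(L)
  dvd : p ∣ ♯L
  YM : Y ≤ M
  inv : ∀ X ≤ L, X ≠ L → Y ≤ 𝐍(X) → X ≤ M
  ep : IsEp p 2 E Y
  cent : ∀ b ∈ E, b ≠ 1 → ∀ x ∈ L ⊓ 𝐂[b], PiElt {p}ᶜ x → x ∈ M
  two : ∀ T ≤ L, IsPGroup 2 T → ∀ x ∈ T, x * x ≠ 1 → x * x * (x * x) = 1 → x * x ∈ M → T ≤ M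
  kf : ∀ T, Syl 2 T L → (∃ W k n, SzF L T W k n) ∨ ∃ k f r c, L3F L T k f r c

namespace Lo

variable [hp : Fact p.Prime] (h : Lo L M Y E p)
include h

omit [Finite G] hp in
theorem norm_le (hX : X ≤ L) (h0 : X ≠ ⊥) (ha : Ab X) (hY : Y ≤ 𝐍(X)) : L ⊓ 𝐍(X) ≤ M :=
  h.inv _ inf_le_left (fun e => (h.smp X ⟨hX, inf_eq_left.1 e⟩).elim h0 fun e => h.nab (e ▸ ha))
    (le_norm_inf h.norm (le_norm_norm hY))

theorem exists_w : ∃ w ∈ Y ⊓ L, w ≠ 1 ∧ Y ≤ 𝐂[w] ∧ p ∣ orderOf w ∧ Odd (orderOf w) ∧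
    ∃ g ∈ L ⊓ M, g ≠ 1 ∧ g * g = 1 ∧ g * w * g⁻¹ = w⁻¹ := by
  obtain ⟨w, hw, w1⟩ := exists_mem_ne_one (inf_cent_ne_bot_of_isPGroup h.pY h.syl.isPGroup
    (le_norm_inf (le_norm_self Y) h.norm) (h.syl.ne_bot h.dvd))
  have h5 := h.five
  have h1 := h.pY.to_le (zpowers_le.2 hw.1.1)
  have ho := odd_of_mem (odd_of_isPGroup (by omega) h.pY) hw.1.1
  have h3 : ¬ 3 ∣ orderOf w := (isPGroup_zpowers_iff.1 h1).not_dvd Nat.prime_three
    fun e => by rw [Set.mem_singleton_iff] at e; omega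
  obtain ⟨T, hT⟩ := exists_syl 2 L
  obtain ⟨g, hg, g2, e⟩ : ∃ g ∈ L, g * g = 1 ∧ g * w * g⁻¹ = w⁻¹ := by
    rcases h.kf T hT with ⟨W, k, n, h2⟩ | ⟨k, f, r, c, h2⟩ <;> exact h2.real w hw.1.2 ho h3
  refine ⟨w, hw.1, w1, le_cent1_iff.2 hw.2, Nat.card_zpowers w ▸ dvd_card_of_isPGroup h1
    (zpowers_ne_bot.2 w1), ho, g, ⟨hg, h.norm_le (zpowers_le.2 hw.1.2) (zpowers_ne_bot.2 w1)
      (ab_of_isCyclic inferInstance) (le_norm_of_le_cent (le_cent_symm (zpowers_le.2 hw.2)))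
      ⟨hg, inv_of_mem e⟩⟩, fun e' => w1 (SE.eq_one_of_inv ho e (e' ▸ one_mem _)), g2, e⟩

theorem le_of_sz (hs : SzF L T W k n) : L ≤ M := by
  obtain ⟨w, hw, w1, -, -, ho, g, hg, g1, g2, e⟩ := h.exists_w
  obtain ⟨c, hc, e1⟩ := hs.syl.exists_conj_le (zpowers_le.2 hg.1) (SE.isPGroup_zp g2)
  have h1 := e1 (conj_mem_conj (mem_zpowers g))
  obtain ⟨x, hx, hxW⟩ := SetLike.not_le_iff_exists.1 fun e : T ≤ W => by
    have h1 := card_le e
    have h2 := hs.four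
    rw [hs.cardT, ← hs.cardW] at h1
    nlinarith
  obtain ⟨j, e2⟩ := hs.cyc _ (hs.sq x hx) _ ((hs.mem _).2 ⟨h1, conj_sq g2 c⟩)
    (fun e => hxW ((hs.mem x).2 ⟨hx, e⟩)) (conj_ne_one.2 g1)
  have e3 : c⁻¹ * (k ^ j * x * (k ^ j)⁻¹) * c⁻¹⁻¹ * (c⁻¹ * (k ^ j * x * (k ^ j)⁻¹) * c⁻¹⁻¹) = g := by
    rw [JR.cj_mul, JR.cj_mul, e2]
    group
  have h2 := h.two _ (conj_le_of_mem (inv_mem hc) hs.syl.le) (isPGroup_conj.2 hs.syl.isPGroup) _
    (conj_mem_conj (conj_mem_of_norm (pow_mem hs.k_norm j) hx)) (e3.symm ▸ g1) (e3.symm ▸ g2)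
    (e3.symm ▸ hg.2)
  rcases hs.max (c •ᶜ (L ⊓ M)) (le_conj_iff_inv_conj_le.2 (le_inf
    (conj_le_of_mem (inv_mem hc) hs.syl.le) h2)) (conj_le_of_mem hc inf_le_left) with h3 | h3
  · have h4 := h3 (conj_mem_conj (mem_inf.2 ⟨hw.2, h.YM hw.1⟩))
    have h5 := mul_mem (conj_mem_of_norm h4 h1) (inv_mem h1)
    rw [JR.cj_cj, JR.cj_inv, JR.cj_mul, show w * g * w⁻¹ * g⁻¹ = w * (g * w * g⁻¹)⁻¹ by group, e,
      inv_inv] at h5
    refine (w1 (eq_one_of_odd_of_sq ho ((piElt_conj.1 (hs.syl.piGrp.piElt h5)).eq_one ?_))).elim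
    exact (odd_iff.1 (by rwa [Nat.card_zpowers] : Odd ♯(zpowers w))).piElt
      (mul_mem (mem_zpowers w) (mem_zpowers w))
  · rw [conj_eq_iff_eq_inv_conj, conj_eq_of_mem (inv_mem hc)] at h3
    exact inf_eq_left.1 h3

theorem le_of_r {q c : ℕ} (hl : JR.LF L 3 q r c) (hr : p ∣ r) : L ≤ M := by
  obtain ⟨w, -, -, -, -, -, g, hg, g1, g2, -⟩ := h.exists_w
  obtain ⟨e1, e2⟩ := hl.three rfl
  have h5 := h.five
  have := Fact.mk Nat.prime_three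
  obtain ⟨y, hy, ho⟩ := cauchy Nat.prime_three (H := L)
    (hl.card ▸ ((hl.dvd_q.mul_left 4).mul_right r).mul_right c)
  obtain ⟨P, hP, -⟩ := hl.exists_uni hy (fun e => by simp [e] at ho)
    (by rw [PiElt, ho]; exact (isPiNum_prime Nat.prime_three).2 rfl)
  have k : ∀ P, JR.Uni L P 3 q → ♯(L ⊓ 𝐍(P) : Subgroup G) = q * r := fun P hP => by
    have h1 := hP.card_norm
    rw [show q - 1 = 2 * r by omega, mul_left_comm] at h1
    exact Nat.eq_of_mul_eq_mul_left two_pos h1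
  have hq : 0 < q * r := k P hP ▸ card_pos' _
  have h1 : Syl 3 P L := ⟨hP.le, abelem_isPGroup hP.elem, fun e => by
    have h1 := card_mul_relIndex hP.le
    rw [hP.card, hl.card, show 4 * q * r * c = q * (2 * (r * (2 * c))) by ring] at h1
    rw [Nat.eq_of_mul_eq_mul_left (by omega) h1] at e
    exact ((Nat.prime_three.dvd_mul.1 ((Nat.prime_three.dvd_mul.1 e).resolve_left
      (by decide))).resolve_left hl.not_dvd_r |> hl.not_dvd_k)⟩
  obtain ⟨a, ha, h2⟩ := exists_conj_le (normalIn_sup_left h.norm) h1 le_sup_right h.pY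
    inf_le_right fun e => by
      have h1 := card_inf_mul_relIndex 𝐍(P) L
      rw [inf_comm, k P hP, hl.card, show 4 * q * r * c = q * r * (4 * c) by ring] at h1
      rw [Nat.eq_of_mul_eq_mul_left hq h1, show 4 * c = 2 * r + 2 by omega] at e
      have := Nat.le_of_dvd two_pos ((Nat.dvd_add_right (hr.mul_left 2)).1 e)
      omega
  have h3 := hP.conj_mem (inv_mem ((normalIn_sup_left h.norm).norm ha))
  rw [conj_le_iff_le_inv_conj, ← norm_conj] at h2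
  have h4 := h.norm_le h3.le (fun e => by
    have := h3.card
    rw [e, card_bot] at this
    omega) (abelem_ab h3.elem) h2
  rcases h3.max (L ⊓ M) (le_inf inf_le_left h4) inf_le_left with h6 | h6
  · exact (not_mem_of_odd (k _ h3 ▸ hl.odd_q.mul hl.par.1) g1 g2 (mem_inf.2 ⟨hg.1, h6 hg⟩)).elim
  · exact inf_eq_left.1 h6

theorem le_of_four (hV : Pair L t x) (hM : L ⊓ 𝐂[t] ≤ M) (hb : b ∈ E) (b1 : b ≠ 1)
    (hn : b ∈ 𝐍(S4 t x)) : L ≤ M := by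
  rcases h.kf _ hV.syl with ⟨W, k, n, h2⟩ | ⟨k, f, r, c, h2⟩
  · exact h.le_of_sz h2
  have h5 := h.five
  have h1 := h.pY.to_le (zpowers_le.2 (h.ep.le hb))
  have h3 := card_modEq_card_inf_centralizer h1 (zpowers_le.2 hn)
  have h4 := card_le (inf_le_left : S4 t x ⊓ 𝐂(zpowers b) ≤ _)
  have h6 := Nat.eq_zero_of_dvd_of_lt ((Nat.modEq_iff_dvd' h4).1 h3.symm)
    (by rw [hV.card]; omega)
  have h7 := inf_eq_left.1 (eq_of_le_of_card_le inf_le_left (by omega) :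
    S4 t x ⊓ 𝐂(zpowers b) = _)
  have h8 : ♯(L ⊓ 𝐍(S4 t x) : Subgroup G) ∣ 4 * 3 := by
    have := h2.ord
    rw [h2.norm, ← hV.card, show 3 = ♯(zpowers k) by rw [Nat.card_zpowers]; have := hV.card; omega]
    exact card_sup_dvd (.inr (zpowers_le.2 h2.k_norm))
  have h9 := card_modEq_card_inf_centralizer h1 (le_norm_inf
    ((zpowers_le.2 (h.ep.le hb)).trans h.norm) (le_norm_norm (zpowers_le.2 hn)))
  have h10 : L ⊓ 𝐍(S4 t x) ≤ 𝐂(zpowers b) := by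
    obtain ⟨a, ha⟩ := card_dvd (le_inf (le_inf hV.le (le_norm_self _)) h7)
    obtain ⟨d, hd⟩ := card_dvd (inf_le_left : L ⊓ 𝐍(S4 t x) ⊓ 𝐂(zpowers b) ≤ _)
    refine inf_eq_left.1 (eq_of_le_of_card_le inf_le_left (by_contra fun e => ?_))
    rw [hd, ha, hV.card] at h8 h9 e
    have h11 : a * d ∣ 3 := Nat.dvd_of_mul_dvd_mul_left four_pos (by rwa [← mul_assoc])
    obtain ⟨rfl, rfl⟩ : a = 1 ∧ d = 3 := by
      have := Nat.le_of_dvd three_pos (Dvd.dvd.trans (Dvd.intro _ rfl) h11)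
      have := Nat.le_of_dvd three_pos (Dvd.dvd.trans (Dvd.intro_left _ rfl) h11)
      interval_cases a <;> interval_cases d <;> simp_all
    have := (Nat.prime_dvd_prime_iff_eq hp.out Nat.prime_two).1 (hp.out.dvd_of_dvd_pow
      (n := 3) ((Nat.modEq_iff_dvd' (by norm_num)).1 h9.symm))
    omega
  have h11 : k ∈ M := h.cent b hb b1 k ⟨h2.k_mem, cent_zpowers b ▸ h10 ⟨h2.k_mem, h2.k_norm⟩⟩ (by
    have := h2.ord
    rw [PiElt, show orderOf k = 3 by have := hV.card; omega, isPiNum_prime Nat.prime_three]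
    simp only [Set.mem_compl_iff, Set.mem_singleton_iff]
    omega)
  refine h2.gen M fun w hw w1 => ?_
  obtain ⟨j, rfl⟩ := h2.cyc t (t_mem_S4 t x) w hw hV.t_ne w1
  rw [cent1_conj, ← conj_eq_of_mem (pow_mem h2.k_mem j), ← conj_inf]
  exact conj_le_of_mem (pow_mem h11 j) hM

theorem le_of_c {c : ℕ} (h8 : ¬ 8 ∣ ♯L) (hC : JR.Tor L C (2 * c)) (hw : w ∈ C) (w1 : w ≠ 1)
    (ho : Odd (orderOf w)) (hY : Y ≤ 𝐂[w]) : L ≤ M := by
  have h5 := h.five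
  have h1 := hC.cent hw fun e => w1 (eq_one_of_odd_of_sq ho e)
  have h2 : Y ⊓ L ≤ C := h1 ▸ le_inf inf_le_right (inf_le_left.trans hY)
  have h3 : Y ≤ 𝐍(C) := h1 ▸ le_norm_inf h.norm (le_norm_of_le hY)
  obtain ⟨t, ht, t1, t2⟩ := SE.exists_inv (H := C) (hC.card ▸ dvd_mul_right 2 c)
  have h4 : 𝐍(C) ≤ 𝐂[t] := fun g hg => mem_cent1_iff_conj.2 (((mem_zp t2).1 (conj_mem_of_norm
    (norm_le_norm_of_isCyclic hC.cyc (zpowers_le.2 ht) hg) (mem_zpowers t))).resolve_left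
      (conj_ne_one.2 t1))
  have h6 := hC.cent_inv ht t1 t2
  have hM := h6 ▸ h.norm_le hC.le (fun e => t1 (mem_bot.1 (e ▸ ht))) hC.ab h3
  have hV : ∀ j ∈ L ⊓ 𝐍(C), j ∉ C → Pair L t j := fun j hj e => ⟨hC.le ht, hj.1, t1,
    fun e' => e (e' ▸ one_mem C), fun e' => e (e' ▸ ht), t2, (hC.inv j hj e).1,
    (mem_cent1.1 (h4 hj.2)).symm, h8⟩
  obtain ⟨j, hj, j1⟩ := hC.exists_inv
  have hn : Y ≤ 𝐍(L ⊓ 𝐍(C)) := le_norm_inf h.norm (le_norm_norm h3)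
  have hΓ : L ⊓ 𝐍(C) ⊔ Y ≤ 𝐍(C) := sup_le inf_le_right h3
  have hΓ' := hΓ.trans (norm_le_norm_of_isCyclic hC.cyc h2)
  have h7 : Y ⊓ L ≤ L ⊓ 𝐍(C) := le_inf inf_le_right (inf_le_left.trans h3)
  have hS : ∀ j ∈ L ⊓ 𝐍(C), S4 t j ≤ L ⊓ 𝐍(C) := fun j hj =>
    S4_le.2 ⟨⟨hC.le ht, le_norm_self C ht⟩, hj⟩
  obtain ⟨a, ha, h9⟩ := exists_conj_le (U := 𝐍(Y ⊓ L ⊔ S4 t j)) (normalIn_sup_left hn)
    ((hV j hj j1).syl.mono (hS j hj) inf_le_left) le_sup_right h.pY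
    (le_norm_sup (inf_le_left.trans hΓ') inf_le_right) fun e => (h.syl.mono h7 inf_le_left).not_dvd
      (e.trans (relIndex_dvd_of_le_left _ (le_norm_of_le le_sup_left)))
  rw [conj_le_iff_le_inv_conj, ← norm_conj, conj_sup, conj_eq_of_mem_norm (inv_mem (hΓ' ha)),
    conj_S4, mem_cent1_iff_conj.1 (inv_mem (h4 (hΓ ha)))] at h9
  have h10 := conj_mem_of_norm (inv_mem ((normalIn_sup_left hn).norm ha)) hj
  have h11 : a⁻¹ * j * a⁻¹⁻¹ ∉ C := fun e => j1 ((mem_norm_iff.1 (inv_mem (hΓ ha)) j).2 e)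
  generalize a⁻¹ * j * a⁻¹⁻¹ = i at h9 h10 h11
  have h12 := hV i h10 h11
  have h13 := (h12.syl.mono le_sup_right (sup_le inf_le_right h12.le)).frattini
    (normalIn_sup_left h9)
  have h14 := (hS i h10).trans (le_sup_left.trans hΓ')
  obtain ⟨b, hb, b1⟩ := exists_mem_ne_one (inf_ne_bot (C := Y ⊓ L) (F := Y ⊓ 𝐍(S4 t i)) (by omega)
    h.pY ⟨inf_le_left, le_sup_right.trans hΓ'⟩ (isCyclic_of_le' hC.cyc h2) (h.syl.ne_bot h.dvd) h.ep
    inf_le_left (fun e he => by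
      obtain ⟨a, ha, m, hm, e1⟩ := h13.mem_iff.1 (mem_sup_right (h.ep.le he))
      obtain ⟨y, hy, v, hv, rfl⟩ := (mem_sup_norm_left h14).1 ha
      rw [← e1, mul_assoc]
      refine mul_mem (mem_sup_left hy) (mem_sup_right ⟨?_, mul_mem (le_norm_self _ hv) hm.2⟩)
      exact (Y.mul_mem_cancel_left hy.1).1 (by rw [← mul_assoc, e1]; exact h.ep.le he))
    (eq_bot_iff.2 fun y hy => SE.eq_one_of_inv (odd_of_mem (odd_of_isPGroup (by omega) h.pY) hy.1.1)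
      ((hC.inv i h10 h11).2 y (h2 hy.1)) (le_cent_of_coprime (h14.trans
        (norm_le_norm_of_isCyclic (isCyclic_of_le' hC.cyc h2) (zpowers_le.2 hy.1)))
        (zpowers_le.2 hy.2.2) (coprime_of_isPGroup_ne h12.syl.isPGroup
          (h.pY.to_le (zpowers_le.2 hy.1.1)) (by omega)) |>.trans (cent_zpowers y).le
            (s_mem_S4 t i))))
  exact h.le_of_four h12 hM hb.1 b1 hb.2.2

theorem le : L ≤ M := by
  obtain ⟨T, hT⟩ := exists_syl 2 L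
  rcases h.kf T hT with ⟨W, k, n, h2⟩ | ⟨k, f, r, c, h2⟩
  · exact h.le_of_sz h2
  obtain ⟨w, hw, w1, hY, h1, ho, -⟩ := h.exists_w
  obtain ⟨C, hC, e | e | e⟩ := h2.part w hw.2 w1
  · have h3 := h1.trans (orderOf_dvd_card hC)
    rw [e.card] at h3
    have := (Nat.prime_dvd_prime_iff_eq hp.out Nat.prime_three).1 (hp.out.dvd_of_dvd_pow h3)
    have := h.five
    omega
  · exact h.le_of_r h2.toLF (h1.trans (e.card ▸ orderOf_dvd_card hC))
  · exact h.le_of_c h2.toLF.not_eight e hC w1 ho hY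

end Lo

end Cfsg.Agent.R4.E2
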