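import Cfsg.Agent.Lib.R4.DE2B

/-!
# Package DE2: minimal subgroups containing a good Sylow subgroup
-/

set_option autoImplicit false

namespace Cfsg.Agent.R4.E2

open Subgroup Cfsg.Agent.OO Cfsg.Agent.Coprime Cfsg.Agent.SZ Cfsg.Agent.GW Cfsg.Agent.W4
open Cfsg.Agent.OO.Pf (quo_puig)
open scoped commutatorElement Pointwise

universe u

variable {G : Type u} [Group G] [Finite G] {A B C D E F H K L M P R S T U W X Y : Subgroup G}
  {n p r : ℕ} {b g k t w x y : G}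

/-- the hypotheses on a minimal normal subgroup -/
structure Co (H K M Y E : Subgroup G) (p : ℕ) : Prop where
  five : 5 ≤ p
  s3f : S3F G
  ky : KY.{u} (♯K + 1)
  min : IsMinNormalBy K H
  le : K ≤ H
  nsol : ¬ Sol K
  syl : Syl p Y H
  YM : Y ≤ M
  max : ∀ X, Y ≤ X → X < H → X ≤ M
  dvd : p ∣ ♯K
  ep : IsEp p 2 E Y
  cent : ∀ b ∈ E, b ≠ 1 → ∀ x ∈ K ⊓ 𝐂[b], PiElt {p}ᶜ x → x ∈ M
  two : ∀ T ≤ H, IsPGroup 2 T → ∀ x ∈ T, x * x ≠ 1 → x * x * (x * x) = 1 → x * x ∈ M → T ≤ M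

theorem Co.le_M [hp : Fact p.Prime] (kf1 : KF1.{u}) (h : Co H K M Y E p) : K ≤ M := by
  by_contra hn
  have hK : K ⊴ H := ⟨h.le, h.min.norm⟩
  have hYK := h.syl.le.trans hK.norm
  have hH : K ⊔ Y = H := (sup_le h.le h.syl.le).eq_of_not_lt fun e =>
    hn (le_sup_left.trans (h.max _ le_sup_right e))
  obtain ⟨L, hL, hLK⟩ := exists_minNormalBy h.min.ne_bot (le_norm_self K)
  have hLn : L ⊴ K := ⟨hLK, hL.norm⟩
  have h0 : ∀ X, X ⊴ K → Sol X → X = ⊥ := fun X hX hs => by_contra fun e =>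
    h.nsol (sol_of_nil (h.min.eq_of_ne_bot (Fit_le K) hK.Fit.norm (fun e' =>
      Fit_inf_ne_bot hX hs e (by rw [e', bot_inf_eq])) ▸ Fit_nil K))
  have hor : ∀ g ∈ H, g ∉ 𝐍(L) → g •ᶜ L ≤ 𝐂(L) := fun g hg e => by
    have h1 := hLn.conj g
    rw [hK.conj_eq hg] at h1
    exact le_cent_symm (le_cent_of_inf_eq_bot (hLK.trans h1.norm) (h1.le.trans hL.norm)
      (hL.inf_eq_bot_of_not_le h1.norm fun e' =>
        e (conj_eq_self_iff.1 (eq_of_le_of_card_le e' (card_conj g L).le).symm)))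
  have hZ : L ⊓ 𝐂(L) = ⊥ := h0 _ hLn.Zc (sol_of_ab (Zc_ab L))
  have h1 : ∀ X ≤ L, Y ⊓ 𝐍(L) ≤ 𝐍(X) → ncl X Y ≤ X ⊔ 𝐂(L) := fun X hX hY =>
    (closure_le _).2 fun _ ⟨y, hy, x, hx, e⟩ => by
      subst e
      by_cases e : y ∈ 𝐍(L)
      · exact mem_sup_left (conj_mem_of_norm (hY ⟨hy, e⟩) hx)
      · exact mem_sup_right (hor y (h.syl.le hy) e (conj_mem_conj (hX hx)))
  have h2 : ncl L Y = K := h.min.eq_of_ne_bot (ncl_le hLK hYK) (hH ▸ sup_le (le_norm_closure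
    fun a ha _ ⟨y, hy, x, hx, e⟩ => ⟨y, hy, _, conj_mem_of_norm
      (hL.norm (conj_mem_of_norm' (hYK hy) ha)) hx, by rw [e]; group⟩) (norm_ncl L Y))
    (ne_bot_of_le_ne_bot hL.ne_bot (le_ncl L Y))
  have h3 : K ≤ L ⊔ 𝐂(L) := h2 ▸ h1 L le_rfl inf_le_right
  have h4 : ¬ L ≤ M := fun e => hn (h2 ▸ ncl_le e (le_norm_of_le h.YM))
  have hs : Smp L := fun N hN => hL.eq_bot_or_eq hN.le
    (h3.trans (sup_le hN.norm ((cent_anti hN.le).trans (cent_le_norm N))))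
  have hab : ¬ Ab L := fun e => hL.ne_bot (h0 L hLn (sol_of_ab e))
  have hd : p ∣ ♯L := by_contra fun e => not_dvd_Op' K ((h.min.eq_of_ne_bot (Opi_le _ K)
    (hK.Opi _).norm (ne_bot_of_le_ne_bot hL.ne_bot
      (le_Opi hLn ((piGrp_compl_singleton hp.out).2 e)))).symm ▸ h.dvd)
  have hS : Syl p (Y ⊓ 𝐍(L) ⊓ L) L := by
    have := (h.syl.inf_normal hK).inf_normal hLn
    rwa [inf_assoc, inf_eq_right.2 hLK, ← inf_eq_right.2 (le_norm_self L), ← inf_assoc,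
      inf_eq_right.2 (le_norm_self L)] at this
  have hE : E ≤ 𝐍(L) := fun b hb => by_contra fun e => by
    have b1 : b ≠ 1 := fun e' => e (e' ▸ one_mem _)
    have ho := orderOf_eq_of_abelem h.ep.abelem hb b1
    have hbH := h.syl.le (h.ep.le hb)
    have k : ∀ x ∈ L, ∀ i, i < p → ∃ c ∈ K ⊓ 𝐂(L), (x * b) ^ (i + 1) = x * c * b ^ (i + 1) :=
      fun x hx i => by
        induction i with
        | zero => exact fun _ => ⟨1, one_mem _, by simp⟩
        | succ i ih =>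
          intro hi
          obtain ⟨c, hc, e1⟩ := ih (by omega)
          refine ⟨_, mul_mem hc ⟨hK.conj_mem (pow_mem hbH (i + 1)) (hLK hx),
            hor _ (pow_mem hbH (i + 1)) (fun e' => ?_) (conj_mem_conj hx)⟩, by
              rw [pow_succ, e1]; group⟩
          exact pow_ne_one_of_lt_orderOf (x := b) i.succ_ne_zero (ho ▸ hi)
            (mem_bot.1 ((isEp_zpowers (mem_zpowers b) ho).inf_eq_bot
              (fun e' => e (zpowers_le.1 e')) ▸ mem_inf.2 ⟨npow_mem_zpowers b _, e'⟩))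
    have h5 : Oup p L ≤ 𝐍(L ⊓ M) := Oup_le_iff.2 fun x hx hc => by
      obtain ⟨c, hc', e1⟩ := k x hx (p - 1) (Nat.sub_one_lt hp.out.ne_zero)
      rw [Nat.sub_add_cancel hp.out.one_le, h.ep.abelem.2 b hb, mul_one] at e1
      have h6 : Commute x c := mem_cent_iff.1 hc'.2 x hx
      have h7 : x * c ∈ 𝐂[b] := mem_cent1_comm.1 (((𝐂[x * c]).mul_mem_cancel_left
        (mem_cent1.2 ((Commute.refl x).mul_right h6).eq)).1
          (mem_cent1.2 (e1 ▸ (Commute.self_pow (x * b) p).eq)))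
      have h8 := constt_mem {p}ᶜ (mem_inf.2 ⟨mul_mem (hLK hx) hc'.1, h7⟩)
      have h9 := mem_norm_inf (hL.norm h8.1) (le_norm_self M
        (h.cent b hb b1 _ h8 (piElt_constt _ _)))
      rwa [constt_mul_of_commute _ h6, constt_eq_self ((isPiNum_compl_singleton hp.out).2
        (hp.out.coprime_iff_not_dvd.1 hc.symm)), mul_mem_cancel_right
          ((cent_anti inf_le_left).trans (cent_le_norm _) (constt_mem _ hc'.2))] at h9
    have h6 : Y ⊓ 𝐍(L) ⊓ L ≤ L ⊓ M := le_inf inf_le_right (inf_le_left.trans (inf_le_left.trans h.YM))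
    rcases hs (L ⊓ M) ⟨inf_le_left, (Oup_isProd hS).sup_eq.ge.trans (sup_le h5 (le_norm_of_le h6))⟩ with
      e' | e'
    · exact hS.ne_bot hd (eq_bot_iff.2 (e' ▸ h6))
    · exact h4 (inf_eq_left.1 e')
  refine h4 (Lo.le (Y := Y ⊓ 𝐍(L)) (E := E) ⟨h.five, hs, hab, hS, h.syl.isPGroup.to_inf_left,
    inf_le_right, hd, inf_le_left.trans h.YM, fun X hX e hY => ?_, h.ep.of_le (le_inf h.ep.le hE),
    fun b hb b1 x hx => h.cent b hb b1 x ⟨hLK hx.1, hx.2⟩,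
    fun T hT => h.two T (hT.trans (hLK.trans h.le)), fun T hT => kf1 G L T h.s3f
      (h.ky L (Nat.lt_succ_of_le (card_le hLK)) (hs.isSimpleGroup hL.ne_bot) hab (h.s3f.sub L)) hT⟩)
  have h5 := ncl_le (hX.trans hLK) hYK
  refine ((le_ncl X Y).trans le_sup_left).trans (h.max _ le_sup_right
    ((sup_le (h5.trans h.le) h.syl.le).lt_of_ne fun e' => ?_))
  rcases h.min.eq_bot_or_eq h5 (e' ▸ sup_le (le_norm_self _) (norm_ncl X Y)) with h6 | h6
  · rw [h6, bot_sup_eq] at e'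
    exact hn (h.le.trans (e' ▸ h.YM))
  · have h7 := sup_inf_of_le_left (H := L) (.inr ((cent_anti hX).trans (cent_le_norm X))) hX
    rw [inf_eq_right.2 (hLK.trans (h6 ▸ h1 X hX hY)), inf_comm, hZ, sup_bot_eq] at h7
    exact e h7.symm

theorem char_quo [Fact p.Prime] (hs : Sol ((H ⊓ 𝐂(Op p H)) ⁒ Op' p H : Subgroup _)) :
    Core.IsCharIn p (H ⁒ Op' p H) := by
  have hD := Opi_normal ({p} : Set ℕ)ᶜ H
  have h1 := (Op_normal p H).cent.quo (Op' p H)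
  have h2 := Op_le_of_normal p h1
  refine le_trans (le_inf ?_ (inf_le_right.trans (cent_anti h2))) ((cent_Op_le_of_Op'_eq_bot hs
    (eq_bot_iff.2 (Opi_quo_Opi _ H ▸ Opi_le_of_normal _ h1))).trans h2)
  rw [coprime_quotient_cent hD ((Op_le p H).trans hD.norm) (coprime_of_isPGroup (Op_isPGroup p H)
    (Op'_piGrp p H)).symm (.inr (sol_of_isPGroup (Op_isPGroup p H)))]
  exact inf_le_inf_left _ (cent_anti (quo_Op_le p H _))

theorem factorisation [Fact p.Prime] (h3 : S3F G) (h5 : 5 ≤ p)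
    (hs : Sol ((H ⊓ 𝐂(Op p H)) ⁒ Op' p H : Subgroup _)) (hS : Syl p S H) :
    Op' p H ⊔ H ⊓ 𝐍(Zc (puig S)) = H := by
  have hD := Opi_normal ({p} : Set ℕ)ᶜ H
  have hSD := hS.le.trans hD.norm
  have hi : Op' p H ⊓ S = ⊥ := (Op'_piGrp p H).inf_eq_bot' hS.piGrp
  have hL := (puig_le S).trans hSD
  have h1 := puig_normal_sq (by omega) (sq_of_s3f (by omega) (s3f_coset h3 _) _) (char_quo hs)
    (hS.quo hD.norm)
  have hi' : Op' p H ⊓ puig S = ⊥ := eq_bot_iff.2 ((inf_le_inf_left _ (puig_le S)).trans hi.le)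
  rw [← quo_puig hSD hi, Zc, ← quo_inf_cent_of_norm hL (le_norm_self _) (by simp [hi'])
    (Or.inl (by rw [hi']; exact sol_bot))] at h1
  have hZS := (Zc_le (puig S)).trans (puig_le S)
  have h2 : Zc (puig S) ⊔ Op' p H ⊴ H :=
    ⟨sup_le (hZS.trans hS.le) hD.le, le_norm_sup_of_quo hD.norm (hZS.trans hSD) h1.norm⟩
  have h3 : Syl p (Zc (puig S)) (Zc (puig S) ⊔ Op' p H) :=
    (((IsSdprod.of_sup (hZS.trans hSD) (eq_bot_iff.2 ((inf_le_inf_left _ hZS).trans hi.le))).hall_right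
      (Op'_piGrp p H) (hS.piGrp.of_le hZS)).syl).mono le_sup_left (sup_comm _ _).le
  refine le_antisymm (sup_le hD.le inf_le_left) ?_
  conv_lhs => rw [← (h3.frattini h2).sup_eq]
  exact sup_le (sup_le (le_sup_of_le_right (le_inf (hZS.trans hS.le) (le_norm_self _))) le_sup_left)
    le_sup_right

theorem le_of_min [hp : Fact p.Prime] (kf1 : KF1.{u}) (h : DN A M n) (h5 : 5 ≤ p) (hH : H ≠ ⊤)
    (hY : Syl p Y H) (hYM : Y ≤ M) (hE : IsEp p 2 E Y) (hg : ∀ b ∈ E, b ≠ 1 → 𝐂[b] ≤ M)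
    (hmax : ∀ X, Y ≤ X → X < H → X ≤ M) (hZ : 𝐍(Zc (puig Y)) ≤ M) : H ≤ M := by
  by_contra hn
  have hOn := Opi_normal ({p} : Set ℕ)ᶜ H
  have hO : Op' p H ≤ M := le_of_forall_centralizer_le hE.ab (hE.not_isCyclic le_rfl)
    ((hE.le.trans hY.le).trans hOn.norm) (coprime_of_isPGroup hE.isPGroup (Op'_piGrp p H))
    fun b hb b1 => inf_le_right.trans (hg b hb b1)
  have hN := hOn.sup (Op_normal p H)
  have hNM : Op' p H ⊔ Op p H ≤ M := sup_le hO ((Op_le_syl hY).trans hYM)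
  have k1 : ∀ K, K ⊴ H → K ≤ 𝐂(Op p H) → Y ⊓ K ≤ Op p H → K ≤ Op' p H ⊔ Op p H :=
    fun K h1 h2 h3 => (Burnside_normal_complement (hY.inf_normal h1) (inf_le_left.trans
      (h2.trans (cent_anti h3)))).sup_eq ▸ sup_le_sup (Opi_le_of_normal _ h1) h3
  have k2 : ∀ K, K ⊴ H → K ≤ 𝐂(Op p H) → K ≤ M → K ≤ Op' p H ⊔ Op p H := fun K h1 h2 h3 =>
    k1 K h1 h2 (le_Op ⟨inf_le_left.trans hY.le, by_contra fun e => hn
      (((hY.inf_normal h1).frattini h1).sup_eq ▸ sup_le h3 (hmax _ (le_inf hY.le (le_norm_inf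
        (le_norm_self Y) (hY.le.trans h1.norm))) (inf_lt_left.2 e)))⟩ hY.isPGroup.to_inf_left)
  have hC := (Op_normal p H).cent
  have hCM : ¬ H ⊓ 𝐂(Op p H) ≤ M := fun e => hn (factorisation h.s3f h5 (sol_of_le
    (sol_of_isPGroup (isPGroup_quo (Op_isPGroup p H) (Op' p H))) (by
      rw [← quo_self_sup ((Op_le p H).trans hOn.norm)]
      exact quo_mono _ (k2 _ hC inf_le_right e))) hY ▸ sup_le hO (inf_le_right.trans hZ))
  have hQ : ∀ X ≤ Op' p H ⊔ Op p H, IsPGroup p X → X ≤ Op p H := fun X =>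
    ((IsSdprod.of_sup ((Op_le p H).trans hOn.norm) (inf_comm (Op p H) _ ▸ Op_inf_Op' p H)).hall_right
      (Op'_piGrp p H) (Op_piGrp p H)).syl.le_of_normal_syl (hN.le.trans (Op_normal p H).norm)
  obtain ⟨N, hNe⟩ : ∃ N, N = Op' p H ⊔ Op p H := ⟨_, rfl⟩
  rw [← hNe] at hN hNM k1 k2 hQ
  obtain ⟨K', hK', h1⟩ := exists_minNormalBy (quo_ne_bot (hC.le.trans hN.norm)
    fun e => hCM (e.trans hNM)) (hC.quo N).norm
  have h2 := h1.trans (hC.quo N).le
  have hK := hC.inf (quoPre_normal hN ⟨h2, hK'.norm⟩)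
  have h3 := (inf_quoPre_quo (H ⊓ 𝐂(Op p H)) K').trans (inf_eq_right.2 h1)
  have h4 : H ⊓ 𝐂(Op p H) ⊓ quoPre N K' ≤ 𝐂(Op p H) := inf_le_left.trans inf_le_right
  generalize H ⊓ 𝐂(Op p H) ⊓ quoPre N K' = K at hK h3 h4
  subst h3
  have hKN := hK.le.trans hN.norm
  have hYN := hY.le.trans hN.norm
  have h6 : ¬ K ≤ N := fun e => hK'.ne_bot (quo_eq_bot e)
  have hd : p ∣ ♯(K ⁒ N) := by_contra fun e => h6 (k1 K hK h4 (hQ _ ((quo_eq_bot_iff
    (inf_le_left.trans hYN)).1 (PiGrp.eq_bot ((hY.piGrp.inf_left K).quo N)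
      (((piGrp_compl_singleton hp.out).2 e).of_le (quo_mono N inf_le_right))))
        hY.isPGroup.to_inf_left))
  refine h6 (k2 K hK h4 ((quo_le_quo_iff hKN hNM).1 ?_))
  by_cases hs : Sol (K ⁒ N)
  · exact ((hY.quo hN.norm).le_of_normal (hK.quo N)
      (abelem_isPGroup (hK'.abelem_of_dvd hs hp.out hd))).trans (quo_mono N hYM)
  have hEN := hE.le.trans hYN
  have hf := free h hNM hN.norm hn
  refine Co.le_M (E := E ⁒ N) kf1 ⟨h5, s3f_coset h.s3f N, h.ky.mono (((card_quo_le K N).trans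
    (card_le hK.le)).trans_lt (SE.card_lt_of_ne_top hH)), hK', h2, hs, hY.quo hN.norm,
    quo_mono N hYM, fun X h7 h8 => ?_, hd, ⟨quo_mono N hE.le, abelem_quo hE.abelem N, ?_⟩, ?_, ?_⟩
  · rw [← quo_quoPre X]
    refine quo_mono N (hmax _ ((quo_le_iff_le_quoPre hYN).1 h7) ?_)
    rwa [← quoPre_quo hN, quoPre_lt_quoPre_iff]
  · rw [card_quo_of_inf_eq_bot hEN (eq_bot_iff.2 fun b hb => by_contra fun b1 =>
      hCM (inf_le_right.trans ((cent_le_cent1 (hQ _ inf_le_left hE.isPGroup.to_inf_right hb)).trans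
        (hg b hb.2 b1)))), hE.card]
  · intro b' hb' b1 x' hx hx0
    obtain ⟨b, hb, rfl⟩ := (mem_quo_of_le hEN).1 hb'
    obtain ⟨x, hxK, -, hx', rfl⟩ := exists_piElt_coset_eq hx.1 hx0
    have h7 := (coset_commute_iff (hKN hxK) (hEN hb)).1 (mem_cent1.1 hx.2)
    obtain ⟨o, ho, q, hq, e⟩ := (mem_sup_norm_left ((Op_le p H).trans hOn.norm)).1 (hNe ▸ h7)
    have hxO := hOn.norm (hK.le hxK)
    have hbO := hOn.norm (hY.le (hE.le hb))
    have h8 : q = 1 := by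
      have h9 := mem_cent_iff.1 (mul_mem (inv_mem (h4 hxK)) (Op'_le_cent_Op p H ho)) q hq
      rw [← constt_eq_of_mul ((Op_piGrp p H).piElt hq) (((Op'_piGrp p H).sup (piGrp_zpowers.2 hx')
        (.inr (zpowers_le.2 hxO))).piElt (mul_mem (inv_mem (mem_sup_right (mem_zpowers x)))
          (mem_sup_left ho))) h9, h9, mul_assoc, e, show x⁻¹ * ⁅x, b⁆ = b * x⁻¹ * b⁻¹ by group]
      exact constt_eq_one (hx'.inv.conj b)
    rw [h8, mul_one] at e
    have h9 := coprime_quotient_cent hOn (zpowers_le.2 hbO) (coprime_of_isPGroup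
      (hE.isPGroup.to_le (zpowers_le.2 hb)) (Op'_piGrp p H)).symm
      (.inr (sol_of_ab (ab_of_isCyclic inferInstance)))
    rw [quo_zpowers hbO, cent_zpowers, cent_zpowers] at h9
    refine coset_mem_quo N ((coset_mem_quo_iff hxO hO).1 (quo_mono _ (inf_le_right.trans
      (hg b hb fun e => b1 (e ▸ coset_one N))) (h9.ge ⟨coset_mem_quo _ (hK.le hxK), ?_⟩)))
    exact mem_cent1.2 ((coset_commute_iff hxO hbO).2 (e ▸ ho))
  · intro T' hT hT' x' hx' x1 x2 hM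
    obtain ⟨T, -, hTN, hT2, rfl⟩ := exists_isPGroup_quo_eq hT hT'
    obtain ⟨x, hx, rfl⟩ := (mem_quo_of_le hTN).1 hx'
    have h7 := mul_mem hx hx
    rw [← coset_mul (hTN hx) (hTN hx)] at x1 x2 hM
    rw [← coset_mul (hTN h7) (hTN h7), coset_eq_one_iff (hTN (mul_mem h7 h7))] at x2
    have h8 : x * x ≠ 1 := fun e => x1 (e ▸ coset_one N)
    exact quo_mono N (le_of_two h hT2 h7 ((coset_mem_quo_iff (hTN h7) hNM).1 hM) h8
      (h.f1 x h8 (sq_eq_one h hf ((piGrp_singleton hT2).piElt h7) x2)))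

end Cfsg.Agent.R4.E2
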