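import Cfsg.Agent.Lib.R4.DE2C

/-!
# Package DE2: uniqueness theorems
-/

set_option autoImplicit false

namespace Cfsg.Agent.R4.E2

open Subgroup Cfsg.Agent.OO Cfsg.Agent.Coprime Cfsg.Agent.SZ Cfsg.Agent.GW Cfsg.Agent.W4
open scoped commutatorElement Pointwise

universe u

variable {G : Type u} [Group G] [Finite G] {A B E F H M N P U V Y : Subgroup G} {n p : ℕ}

theorem le_of_k1f {L T W : Subgroup (Coset N)} {k : Coset N} (h : K1F A M H N L T W k n)
    (hU : U ⊴ H ⊓ M) (ho : Odd ♯U) : U ≤ N := by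
  have hT := h.syl.le.trans h.normalL.le
  have h1 := hU.quo N
  rw [h.stab] at h1
  have h2 : Odd ♯(U ⁒ N) := odd_iff.2 ((odd_iff.1 ho).quo N)
  have h3 := le_cent_of_coprime (h1.le.trans inf_le_right)
    ((le_inf hT (le_norm_self T)).trans h1.norm)
    (coprime_of_isPGroup h.syl.isPGroup (odd_iff.1 h2)).symm
  have h4 := le_inf (h.centW.trans' (le_inf (h1.le.trans (inf_le_left.trans h.normalL.norm))
    (h3.trans (cent_anti fun w hw => ((h.mem w).1 hw).1)))) (h1.le.trans inf_le_left)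
  rw [sup_inf_of_le_left (.inl (le_norm_cent (le_norm_of_le h.syl.le))) hT, inf_comm, h.centL,
    sup_bot_eq] at h4
  exact (quo_eq_bot_iff (hU.le.trans (inf_le_left.trans h.normal.norm))).1
    (eq_bot_iff.2 (inf_eq_bot_odd h.syl.isPGroup h2 ▸ le_inf h4 le_rfl))

/-- the standing hypotheses of the uniqueness theorems -/
structure UH (A M B : Subgroup G) (n p : ℕ) : Prop where
  kf1 : KF1.{u}
  kf3 : KF3.{u}
  dn : DN A M n
  five : 5 ≤ p
  odd : Odd ♯(M ⊓ 𝐂(Op p M))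
  ep : IsEp p 2 B (Op p M)
  good : ∀ b ∈ B, b ≠ 1 → 𝐂[b] ≤ M

namespace UH

variable [hp : Fact p.Prime] (h : UH A M B n p)
include h

omit hp [Finite G] in
theorem smp : Smp (⊤ : Subgroup G) := @smp_top _ _ h.dn.simple

omit hp in
theorem norm_ne_top (h0 : Y ≠ ⊥) (hY : Y ≤ M) : 𝐍(Y) ≠ ⊤ :=
  h.smp.norm_ne_top h0 fun e => h.dn.ne (eq_top_iff.2 (e ▸ hY))

theorem normZ (hP : Syl p P M) : 𝐍(Zc (puig P)) ≤ M := by
  by_contra hn
  have h5 := h.five
  have hB := h.ep.le.trans (Op_le_syl hP)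
  have h0 : Zc (puig P) ≠ ⊥ := fun e => h.ep.ne_bot two_ne_zero
    (eq_bot_iff.2 (trivg_center_Puig_pgroup hP.isPGroup e ▸ hB))
  have hZ := ((Zc_le _).trans (puig_le P)).trans hP.le
  have hH := h.norm_ne_top h0 hZ
  have ho := odd_of_le h.odd (le_inf (Opi_le _ M) (Op'_le_cent_Op p M))
  obtain ⟨a, ha, hV⟩ : ∃ a ∈ M, a •ᶜ A ≤ 𝐍(Zc (puig P)) := by
    obtain ⟨S, hS⟩ := exists_syl 2 (M ⊓ 𝐍(Zc (puig P)))
    have h1 := relIndex_sup_eq (A := Op' p M) (B := M ⊓ 𝐍(Zc (puig P)))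
      (.inr (inf_le_left.trans (Opi_normal _ M).norm))
    rw [factorisation h.dn.s3f h5 (sol_quo (sol_of_odd h.odd) _) hP] at h1
    obtain ⟨g, hg, e⟩ := (hS.hall.trans_of_relIndex inf_le_left fun q _ hq e => by
      rw [h1, show q = 2 from e] at hq
      exact Nat.not_even_iff_odd.2 ho
        (even_iff_two_dvd.2 (hq.trans (relIndex_dvd_card _ _)))).syl.exists_conj_le (A_le h.dn)
          (abelem_isPGroup h.dn.elem)
    exact ⟨g, hg, (e.trans hS.le).trans inf_le_right⟩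
  obtain ⟨N, L, T, W, k, m, hk⟩ := h.kf3 G A M _ _ h.dn.toDSE hH (le_inf hV (conj_le_of_mem ha
    (A_le h.dn))) (abelem_conj.2 h.dn.elem) (by rw [card_conj]; exact h.dn.four) (fun v hv => by
      obtain ⟨c, hc, rfl⟩ := mem_conj_iff_exists.1 hv
      exact inD_conj (inD_of_mem hc) a) hn
  have h1 := le_of_k1f hk ((Op_normal p M).mono (le_inf ((Op_le_syl hP).trans
    ((le_norm_self P).trans (norm_le_norm_center_puig P))) (Op_le p M)) inf_le_right)
    (odd_of_isPGroup (by omega) (Op_isPGroup p M))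
  obtain ⟨g, hg, hgM⟩ := SetLike.not_le_iff_exists.1 hn
  have h3 := hk.normal.conj_eq hg
  have h4 : g •ᶜ B ≤ M := (h3 ▸ conj_mono g (h.ep.le.trans h1)).trans hk.le
  have h6 : Fit M ≤ g •ᶜ M := Fit_le_of_forall fun q _ => by
    by_cases e : q = p
    · subst e
      exact h1.trans (h3 ▸ conj_mono g hk.le)
    · refine le_of_forall_centralizer_le (h.ep.conj g).ab
        ((h.ep.conj g).not_isCyclic le_rfl) (h4.trans (Op_normal q M).norm)
        (coprime_of_isPGroup_ne (h.ep.conj g).isPGroup (Op_isPGroup q M) (Ne.symm e))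
        fun b hb b1 => inf_le_right.trans ?_
      obtain ⟨c, hc, rfl⟩ := mem_conj_iff_exists.1 hb
      rw [cent1_conj]
      exact conj_mono g (h.good c hc (conj_ne_one.1 b1))
  have h7 : Sol (M ⊓ 𝐂(Fit M)) :=
    sol_of_le (sol_of_odd h.odd) (inf_le_inf_left M (cent_anti (Op_le_Fit p M)))
  rcases h.smp.eq_or_char h.dn.coatom (isCoatom_conj_iff.2 h.dn.coatom) (fs_of_sol h7)
    (fs_of_sol (by rw [Fit_conj, cent_conj, ← conj_inf]; exact sol_conj.2 h7))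
    (inf_le_left.trans h6) (fun q _ e e' => e (by rw [Op_conj, e', conj_bot])) with e | ⟨q, hq, e, -⟩
  · exact hgM (norm_M h.dn (conj_eq_self_iff.1 e.symm))
  · haveI := Fact.mk hq
    obtain rfl : p = q := by_contra fun e' => h.ep.ne_bot two_ne_zero (eq_bot_iff.2
      (inf_eq_bot_of_coprime_card (coprime_of_isPGroup_ne (Op_isPGroup p M) (Op_isPGroup q M) e') ▸
        h.ep.le.trans (le_inf le_rfl ((le_inf (Op_le p M) (Op_le_cent_Op e' M)).trans e))))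
    exact hn (h.smp.norm_eq h.dn.coatom
      (puig_normal_sq (by omega) (sq_of_s3f (by omega) h.dn.s3f _) e hP) h0).le

/-- the uniqueness theorem for good noncyclic subgroups -/
theorem uniq (hE : IsEp p 2 E M) (hg : ∀ b ∈ E, b ≠ 1 → 𝐂[b] ≤ M) (hH : H ≠ ⊤) (hEH : E ≤ H) :
    H ≤ M := by
  by_contra hn
  obtain ⟨Y, ⟨hEY, hYM, hY, hex⟩, hmax⟩ := exists_maximal_of_wellFoundedGT
    (fun Y => E ≤ Y ∧ Y ≤ M ∧ IsPGroup p Y ∧ ∃ H, H ≠ ⊤ ∧ Y ≤ H ∧ ¬ H ≤ M)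
    ⟨E, le_rfl, hE.le, hE.isPGroup, H, hH, hEH, hn⟩
  obtain ⟨H, ⟨hH, hYH, hn⟩, hmin⟩ := exists_minimal_of_wellFoundedLT _ hex
  have h0 : Y ≠ ⊥ := fun e => hE.ne_bot two_ne_zero (eq_bot_iff.2 (e ▸ hEY))
  have hsyl : ∀ H, H ≠ ⊤ → Y ≤ H → ¬ H ≤ M → Syl p Y (M ⊓ H) := fun H h1 h2 h3 =>
    syl_of_max (le_inf hYM h2) hY fun U h4 h5 h6 => (hmax ⟨hEY.trans h4, h5.trans inf_le_left, h6,
      H, h1, h5.trans inf_le_right, h3⟩ h4).antisymm h4
  have h1 : 𝐍(Zc (puig Y)) ≤ M := by_contra fun e => e (h.normZ (IsSylowIn.of_syl_norm hYM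
    ((hsyl _ (h.norm_ne_top (fun e => h0 (trivg_center_Puig_pgroup hY e))
      (((Zc_le _).trans (puig_le Y)).trans hYM))
      ((le_norm_self Y).trans (norm_le_norm_center_puig Y)) e).hall.mono
        (le_inf hYM (le_norm_self Y)) (inf_le_inf_left M (norm_le_norm_center_puig Y))).syl))
  have h2 := (norm_le_norm_center_puig Y).trans h1
  exact hn (le_of_min h.kf1 h.dn h.five hH (IsSylowIn.of_syl_norm hYH ((hsyl H hH hYH hn).hall.mono
    (le_inf hYH (le_norm_self Y)) (le_inf (inf_le_right.trans h2) inf_le_left)).syl) hYM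
    (hE.of_le hEY) hg (fun X h3 h5 => by_contra fun e =>
      h5.not_ge (hmin ⟨fun e => h5.not_ge (e ▸ le_top), h3, e⟩ h5.le)) h1)

/-- the uniqueness theorem for subgroups of rank three -/
theorem uniq3 (hF : IsEp p 3 F (Op p M)) (hB : B ≤ F) (hE : IsEp p 3 E M) (hH : H ≠ ⊤)
    (hEH : E ≤ H) : H ≤ M := by
  have h5 := h.five
  have hc : ∀ x : G, x ≠ 1 → x ∈ M → 𝐂[x] ≠ ⊤ := fun x x1 hx e => h.norm_ne_top
    (zpowers_ne_bot.2 x1) (zpowers_le.2 hx) (eq_top_iff.2 (e ▸ cent_zpowers x ▸ cent_le_norm _))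
  have step : ∀ {U W}, IsEp p 2 U M → (∀ b ∈ U, b ≠ 1 → 𝐂[b] ≤ M) → W ≤ M → W ≤ 𝐂(U) →
      ∀ b ∈ W, b ≠ 1 → 𝐂[b] ≤ M := fun hU hg hW hWU b hb b1 =>
    h.uniq hU hg (hc b b1 (hW hb)) (le_cent1_iff.2 (hWU hb))
  obtain ⟨P, hP, hEP⟩ := exists_syl_ge hE.le hE.isPGroup
  obtain ⟨W, hW, hn⟩ := odd_normal_p2Elem_exists hP.isPGroup (odd_of_isPGroup (by omega) hP.isPGroup)
    fun e => hE.not_isCyclic (by norm_num) (isCyclic_of_le' e hEP)
  obtain ⟨U₁, h1⟩ := SE.UH.exists_two (hF.mono (Op_le_syl hP)) hW hn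
  obtain ⟨U₂, h2⟩ := SE.UH.exists_two (hE.of_le hEP) hW hn
  have hFM := hF.le.trans (Op_le p M)
  have h3 := step (h.ep.mono (Op_le p M)) h.good hFM (hF.le_cent.trans (cent_anti hB))
  have h4 := step (h1.mono (inf_le_left.trans hFM)) (fun b hb => h3 b (h1.le hb).1)
    (hW.le.trans hP.le) (le_cent_symm (h1.le.trans inf_le_right))
  exact h.uniq (h2.mono (inf_le_left.trans hE.le)) (step (hW.mono hP.le) h4
    (h2.le.trans (inf_le_left.trans hE.le)) (h2.le.trans inf_le_right)) hH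
    ((h2.le.trans inf_le_left).trans hEH)

end UH

end Cfsg.Agent.R4.E2
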