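import Cfsg.Agent.Lib.SEA.Two
import Cfsg.Agent.Lib.R1.ZStar

/-!
# Permutation groups with a family of elementary abelian 2-subgroups `B a`, normal in the point
stabilizers, whose involutions fix exactly one point
-/

set_option autoImplicit false
set_option linter.unusedSectionVars false

namespace Cfsg.Agent.R4

open Subgroup MulAction Cfsg.Agent.Coprime Cfsg.Agent.OO Cfsg.Agent.SEA
open scoped Pointwise commutatorElement

universe u v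

variable {G : Type u} {Ω : Type v} [Group G] [MulAction G Ω]

/-- the involutions of `B a` fix only `a` -/
structure DP (B : Ω → Subgroup G) : Prop where
  conj : ∀ (g : G) (a : Ω), g •ᶜ B a = B (g • a)
  elem : ∀ a, IsElementaryAbelian 2 (B a)
  fix : ∀ {t : G} {a : Ω}, t ∈ B a → t • a = a
  uniq : ∀ {t : G} {a b : Ω}, t ∈ B a → t ≠ 1 → t • b = b → a = b
  trans : ∀ a b : Ω, ∃ g : G, g • a = b
  four : ∀ a, 2 < ♯(B a)
  odd : ∀ a, ¬ 2 ∣ (𝐂(B a)).relIndex (stabilizer G a)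

/-- `w` lies in some `B c` and maps `a` to `b` -/
def Sw (B : Ω → Subgroup G) (w : G) (a b : Ω) : Prop := (∃ c, w ∈ B c) ∧ w • a = b

variable {B : Ω → Subgroup G} {a b c : Ω} {d g k s t u w x y z : G} {H P X : Subgroup G} {p : ℕ}

theorem fix_of_sq [Finite G] (ho : ¬ 2 ∣ orderOf x) (e : x • x • a = a) : x • a = a := by
  obtain ⟨j, hj⟩ := exists_sqrt ho
  rw [← hj, ← (Commute.refl x).mul_pow]
  exact (stabilizer G a).pow_mem ((mul_smul x x a).trans e) j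

namespace DP

variable (h : DP B)
include h

theorem sq (ht : t ∈ B a) : t * t = 1 := pow_two t ▸ (h.elem a).2 t ht

theorem inv_eq (ht : t ∈ B a) : t⁻¹ = t := BSW.inv_eq_of_mul_self (h.sq ht)

theorem two (a : Ω) : IsPGroup 2 (B a) := abelem_isPGroup (h.elem a)

theorem conj_mem (hs : s ∈ B a) (g : G) : g * s * g⁻¹ ∈ B (g • a) := h.conj g a ▸ conj_mem_conj hs

theorem stab_le (a : Ω) : stabilizer G a ≤ 𝐍(B a) := fun g hg => by
  rw [← conj_eq_self_iff, h.conj, mem_stabilizer_iff.1 hg]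

theorem stab_le' (a : Ω) : stabilizer G a ≤ 𝐍(𝐂(B a)) := (h.stab_le a).trans (norm_le_norm_cent _)

theorem mem_of_fix (ht : t ∈ B a) (e : t • b = b) : t ∈ B b := by
  by_cases t1 : t = 1
  · exact t1 ▸ one_mem _
  · exact h.uniq ht t1 e ▸ ht

theorem fix_of_conj (hs : s ∈ B a) (s1 : s ≠ 1) (e : g * s * g⁻¹ ∈ B b) : g • a = b :=
  h.uniq (h.conj_mem hs g) (BSW.conj_ne_one s1) (h.fix e)

theorem cent_le (hs : s ∈ B a) (s1 : s ≠ 1) : 𝐂[s] ≤ stabilizer G a := fun _ hg =>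
  h.fix_of_conj hs s1 ((mem_cent1_iff_conj.1 hg).symm ▸ hs)

theorem smul_ne (hs : s ∈ B a) (s1 : s ≠ 1) (hab : a ≠ b) : s • b ≠ b :=
  fun e => hab (h.uniq hs s1 e)

theorem exists_mem [Finite G] (a : Ω) : ∃ s ∈ B a, s ≠ 1 := exists_mem_ne_one fun e => by
  simpa [e] using h.four a

theorem card_eq (a b : Ω) : ♯(B a) = ♯(B b) := by
  obtain ⟨g, rfl⟩ := h.trans a b
  rw [← h.conj, card_conj]

theorem cent_smul (hg : g ∈ 𝐍(X)) (e : X ≤ 𝐂(B a)) : X ≤ 𝐂(B (g • a)) := by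
  rw [← h.conj, cent_conj, ← conj_eq_of_mem_norm hg]
  exact conj_mono g e

theorem pow_mul_mem (hs : s ∈ B a) (ht : t ∈ B b) (m : ℕ) : ∃ c, (t * s) ^ m * s ∈ B c := by
  obtain ⟨j, rfl | rfl⟩ := m.even_or_odd'
  · exact ⟨_, R1.pow_conj_right (h.sq ht) (h.sq hs) j ▸ h.conj_mem hs _⟩
  · exact ⟨_, R1.pow_conj_left (h.sq ht) (h.sq hs) j ▸ h.conj_mem ht _⟩

theorem sw_sq (hw : Sw B w a b) : w * w = 1 := let ⟨_, e⟩ := hw.1; h.sq e

theorem sw_symm (hw : Sw B w a b) : Sw B w b a := ⟨hw.1, swap (h.sw_sq hw) hw.2⟩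

theorem sw_conj (hw : Sw B w a b) (hd : d ∈ D G a b) : Sw B (d * w * d⁻¹) a b :=
  ⟨let ⟨_, e⟩ := hw.1; ⟨_, h.conj_mem e d⟩, by
    nth_rw 1 [← hd.1]; rw [conj_smul_smul, hw.2, hd.2]⟩

theorem sw_mul (hw : Sw B w a b) (hu : Sw B u a b) : w * u ∈ D G a b :=
  mul_mem_D (h.sw_sq hw) hw.2 (h.sw_sq hu) hu.2

variable [Finite G]

theorem odd_mul (hab : a ≠ b) (hs : s ∈ B a) (s1 : s ≠ 1) (ht : t ∈ B b) (t1 : t ≠ 1) :
    ¬ 2 ∣ orderOf (t * s) := fun ⟨m, hm⟩ => by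
  have h1 := R1.commute_of_pow_sq (h.sq ht) (h.sq hs) (hm ▸ pow_orderOf_eq_one (t * s))
  have h0 := orderOf_pos (t * s)
  have z1 : (t * s) ^ m ≠ 1 := pow_ne_one_of_lt_orderOf (by omega) (by omega)
  obtain ⟨c, hc⟩ := h.pow_mul_mem hs ht m
  have hz : (t * s) ^ m ∈ B a := (mul_mem_cancel_right hs).1 (h.mem_of_fix hc (by
    rw [mul_smul, h.fix hs]; exact h.cent_le hs s1 (mem_cent1.2 h1.eq)))
  have h3 := h.cent_le hz z1 (mem_cent1.2 (Commute.self_pow (t * s) m).eq)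
  rw [mem_stabilizer_iff, mul_smul, h.fix hs] at h3
  exact hab (h.uniq ht t1 h3).symm

theorem exists_swap (hab : a ≠ b) (hs : s ∈ B a) (s1 : s ≠ 1) (ht : t ∈ B b) (t1 : t ≠ 1) :
    ∃ w, Sw B w a b ∧ w * s * w⁻¹ = t ∧ ∀ H : Subgroup G, s ∈ H → t ∈ H → w ∈ H := by
  obtain ⟨j, hj⟩ := R1.exists_conj_of_odd (h.sq ht) (h.sq hs) (h.odd_mul hab hs s1 ht t1)
  have e2 : (t * s) ^ j * s * s * ((t * s) ^ j * s)⁻¹ = t := by nth_rw 3 [← hj]; group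
  exact ⟨(t * s) ^ j * s, ⟨h.pow_mul_mem hs ht j, h.fix_of_conj hs s1 (e2.symm ▸ ht)⟩, e2,
    fun H h1 h2 => mul_mem (pow_mem (mul_mem h2 h1) j) h1⟩

theorem exists_sw (hab : a ≠ b) : ∃ u, Sw B u a b :=
  let ⟨_, hs, s1⟩ := h.exists_mem a
  let ⟨_, ht, t1⟩ := h.exists_mem b
  (h.exists_swap hab hs s1 ht t1).imp fun _ e => e.1

theorem odd_sw (hab : a ≠ b) (hw : Sw B w a b) (hu : Sw B u a b) : ¬ 2 ∣ orderOf (w * u) := by
  obtain ⟨c, hc⟩ := hw.1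
  obtain ⟨d, hd⟩ := hu.1
  by_cases e : d = c
  · subst e
    by_cases e1 : w * u = 1
    · simp [e1]
    exact (hab ((h.uniq (mul_mem hc hd) e1 (h.sw_mul hw hu).1).symm.trans
      (h.uniq (mul_mem hc hd) e1 (h.sw_mul hw hu).2))).elim
  · exact h.odd_mul e hd (swap_ne_one hab hu.2) hc (swap_ne_one hab hw.2)

/-- an element of odd order inverted by `w` centralizes no involution at another point -/
theorem eq_one_of_inverted (hw : w ∈ B c) (hwa : w • a ≠ a) (hk : ¬ 2 ∣ orderOf k)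
    (e : w * k * w⁻¹ = k⁻¹) (hs : s ∈ B a) (s1 : s ≠ 1) (hc : s * k = k * s) : k = 1 := by
  obtain ⟨v, -, h1, h2⟩ := h.exists_swap (a := a) (b := c) (by rintro rfl; exact hwa (h.fix hw))
    hs s1 hw (by rintro rfl; simp at hwa)
  have h3 : v ∈ 𝐍(𝐂(zpowers k)) := norm_le_norm_cent _ (h2 _
    (cent_le_norm _ (cent_zpowers k ▸ mem_cent1.2 hc))
    (mem_norm_of_conj_le (by rw [conj_zpowers, e, zpowers_inv])))
  have h4 := conj_mem_of_norm h3 (cent_zpowers k ▸ mem_cent1.2 hc)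
  rw [h1, cent_zpowers, mem_cent1_comm, mem_cent1] at h4
  refine odd_sq_eq_one hk ?_
  nth_rw 1 [← inv_inv k, ← e, ← h4]
  group

theorem swap_inj (hab : a ≠ b) (hs : s ∈ B a) (s1 : s ≠ 1) (hw : Sw B w a b) (hu : Sw B u a b)
    (e : w * s * w⁻¹ = u * s * u⁻¹) : w = u := by
  obtain ⟨c, hc⟩ := hw.1
  have w2 := h.sw_sq hw
  have u2 := h.sw_sq hu
  have h3 := h.eq_one_of_inverted hc (hw.2 ▸ hab.symm) (h.odd_sw hab hw hu)
    (by rw [mul_inv_rev, BSW.inv_eq_of_mul_self w2, BSW.inv_eq_of_mul_self u2, ← mul_assoc, w2,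
      one_mul]) hs s1 (by
      rw [BSW.inv_eq_of_mul_self w2, BSW.inv_eq_of_mul_self u2] at e
      calc s * (w * u) = w * (w * s * w) * u := by simp only [← mul_assoc, w2, one_mul]
        _ = w * u * s := by rw [e, mul_assoc w, mul_assoc (u * s), u2, mul_one, mul_assoc])
  rw [eq_inv_of_mul_eq_one_left h3, BSW.inv_eq_of_mul_self u2]

theorem sw_mem (hab : a ≠ b) (hw : Sw B w a b) (h1 : B a ≤ H) (h2 : B b ≤ H) : w ∈ H := by
  obtain ⟨s, hs, s1⟩ := h.exists_mem a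
  have ht : w * s * w⁻¹ ∈ B b := hw.2 ▸ h.conj_mem hs w
  obtain ⟨u, h3, h4, h5⟩ := h.exists_swap hab hs s1 ht (BSW.conj_ne_one s1)
  exact h.swap_inj hab hs s1 h3 hw h4 ▸ h5 H (h1 hs) (h2 ht)

theorem exists_conj (hab : a ≠ b) (hs : s ∈ B a) (s1 : s ≠ 1) (ht : t ∈ B a) (t1 : t ≠ 1) :
    ∃ k ∈ D G a b, k * s * k⁻¹ = t := by
  obtain ⟨u, hu⟩ := h.exists_sw hab
  obtain ⟨w, h1, h3, -⟩ := h.exists_swap hab hs s1 (hu.2 ▸ h.conj_mem ht u) (BSW.conj_ne_one t1)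
  refine ⟨u * w, h.sw_mul hu h1, ?_⟩
  rw [show u * w * s * (u * w)⁻¹ = u * (w * s * w⁻¹) * u⁻¹ by group, h3,
    BSW.inv_eq_of_mul_self (h.sw_sq hu)]
  simp only [← mul_assoc, h.sw_sq hu, one_mul]
  rw [mul_assoc, h.sw_sq hu, mul_one]

theorem relIndex_cent (hab : a ≠ b) (hs : s ∈ B a) (s1 : s ≠ 1) (h1 : D G a b ≤ H)
    (h2 : H ≤ stabilizer G a) : (𝐂[s]).relIndex H = ♯(B a) - 1 := by
  rw [relIndex_centralizer_eq_ncard, ← ncard_sharp]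
  congr 1
  refine Set.ext fun v => ⟨?_, fun hv => ?_⟩
  · rintro ⟨l, hl, rfl⟩
    exact conj_mem_sharp (h.stab_le a (h2 hl)) ⟨hs, s1⟩
  · obtain ⟨k, hk, e⟩ := h.exists_conj hab hs s1 hv.1 hv.2
    exact ⟨k, h1 hk, e.symm⟩

theorem ncard_sw (hab : a ≠ b) : {w : G | Sw B w a b}.ncard = ♯(B a) - 1 := by
  obtain ⟨s, hs, s1⟩ := h.exists_mem a
  rw [h.card_eq a b, ← ncard_sharp]
  refine Set.ncard_congr (fun w _ => w * s * w⁻¹)
    (fun w hw => ⟨hw.2 ▸ h.conj_mem hs w, BSW.conj_ne_one s1⟩)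
    (fun w u hw hu e => h.swap_inj hab hs s1 hw hu e) fun t ht => ?_
  obtain ⟨w, h1, h3, -⟩ := h.exists_swap hab hs s1 ht.1 ht.2
  exact ⟨w, h1, h3⟩

theorem relIndex_sw (hab : a ≠ b) (hu : Sw B u a b) (h1 : B a ≤ H) (h2 : B b ≤ H) :
    (𝐂[u]).relIndex (H ⊓ D G a b) = ♯(B a) - 1 := by
  rw [relIndex_centralizer_eq_ncard, ← h.ncard_sw hab]
  congr 1
  refine Set.ext fun v => ⟨?_, fun hv => ?_⟩
  · rintro ⟨l, hl, rfl⟩
    exact h.sw_conj hu hl.2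
  · obtain ⟨j, hj⟩ := exists_sqrt (h.odd_sw hab hv hu)
    refine ⟨_, pow_mem (mem_inf.2 ⟨mul_mem (h.sw_mem hab hv h1 h2) (h.sw_mem hab hu h1 h2),
      h.sw_mul hv hu⟩) j, ?_⟩
    have u2 := h.sw_sq hu
    have h2 : u * (v * u) * u⁻¹ = (v * u)⁻¹ := by
      rw [mul_inv_rev, BSW.inv_eq_of_mul_self (h.sw_sq hv), BSW.inv_eq_of_mul_self u2, ← mul_assoc,
        mul_assoc, u2, mul_one]
    rw [← inv_pow, ← h2, conj_pow, ← mul_assoc, ← mul_assoc, mul_assoc _ u u, u2, mul_one, hj,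
      mul_inv_cancel_right]

theorem fix_of_odd {N : Subgroup G} (hN : ¬ 2 ∣ ♯N) (hV : H ≤ B a) (h4 : 2 < ♯H)
    (hn : H ≤ 𝐍(N)) : N ≤ stabilizer G a :=
  coprime_abelian_gen_cent1 (ab_of_le (h.elem a).1 hV)
    (ZN.not_isCyclic_of_card (abelem_of_le (h.elem a) hV) h4) hn
    (coprime_of_isPGroup ((h.two a).to_le hV) ((piGrp_compl_singleton Nat.prime_two).2 hN)).symm
    fun _ hs s1 => inf_le_right.trans (h.cent_le (hV hs) s1)

omit h in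
theorem zstar (hz : z ∈ H) (z2 : z * z = 1)
    (e : ∀ g ∈ H, z * (g * z * g⁻¹) = g * z * g⁻¹ * z → g * z * g⁻¹ = z) (hg : g ∈ H) :
    g * z * g⁻¹ * z⁻¹ ∈ Op' 2 H :=
  Op'_eq_map (p := 2) H ▸ mem_map_of_mem _ (R1.zstar H ⟨z, hz⟩ (Subtype.ext z2)
    (fun k e' => Subtype.ext (e k k.2 (congrArg Subtype.val e'))) ⟨g, hg⟩)

/-- a Sylow subgroup of odd order of the two point stabilizer is normalized by a swap -/
theorem sw_of_syl [Fact p.Prime] (p2 : p ≠ 2) (hab : a ≠ b) (hP : Syl p P (D G a b)) :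
    ∃ v ∈ 𝐍(P), Sw B v a b := by
  obtain ⟨u, hu⟩ := h.exists_sw hab
  have u2 := h.sw_sq hu
  have h1 : zpowers u ≤ 𝐍(D G a b) := zpowers_le.2 (swap_norm u2 hu.2)
  have h2 : ∀ g ∈ D G a b, g * u * g⁻¹ * u⁻¹ ∈ Op' 2 (D G a b ⊔ zpowers u) ⊓ D G a b :=
    fun g hg => ⟨zstar (mem_sup_right (mem_zpowers u)) u2 (fun k hk e => by
      obtain ⟨d, hd, _, ⟨i, rfl⟩, rfl⟩ := (mem_sup_norm_left h1).1 hk
      rw [show d * u ^ i * u * (d * u ^ i)⁻¹ = d * u * d⁻¹ by group] at e ⊢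
      have h3 := h.sw_conj hu hd
      have h4 := odd_sq_eq_one (h.odd_sw hab h3 hu) (by
        rw [mul_assoc _ u, ← mul_assoc u, e, mul_assoc _ u u, u2, mul_one, h.sw_sq h3])
      rw [eq_inv_of_mul_eq_one_left h4, BSW.inv_eq_of_mul_self u2]) (mem_sup_left hg),
      mul_mem_D (h.sw_sq (h.sw_conj hu hg)) (h.sw_conj hu hg).2 (by rw [← mul_inv_rev, u2, inv_one])
        ((BSW.inv_eq_of_mul_self u2).symm ▸ hu.2)⟩
  have hn : D G a b ⊔ zpowers u ≤ 𝐍(Op' 2 (D G a b ⊔ zpowers u) ⊓ D G a b) :=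
    le_norm_inf ((NormalIn.refl _).Opi _).norm (sup_le (le_norm_self _) h1)
  have hO := (Op'_piGrp 2 (D G a b ⊔ zpowers u)).inf_left (D G a b)
  have hle : Op' 2 (D G a b ⊔ zpowers u) ⊓ D G a b ≤ D G a b := inf_le_right
  generalize Op' 2 (D G a b ⊔ zpowers u) ⊓ D G a b = O at h2 hn hO hle
  have h5 := hO.sup (piGrp_compl_of_isPGroup hP.isPGroup p2) (.inr (hP.le.trans (le_sup_left.trans hn)))
  have h6 := (piGrp_compl_singleton Nat.prime_two).1 h5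
  obtain ⟨K, hK, h7⟩ := coprime_Hall_exists {p} (A := zpowers u) (H := O ⊔ P)
    (zpowers_le.2 (mem_norm_of_conj_le (by
      rw [conj_sup, conj_eq_of_mem_norm (hn (mem_sup_right (mem_zpowers u)))]
      refine sup_le le_sup_left (conj_le_iff.2 fun y hy => ?_)
      rw [show u * y * u⁻¹ = (y * u * y⁻¹ * u⁻¹)⁻¹ * y by group]
      exact mul_mem (mem_sup_left (inv_mem (h2 y (hP.le hy)))) (mem_sup_right hy))))
    (coprime_of_isPGroup (let ⟨c, hc⟩ := hu.1; (h.two c).to_le (zpowers_le.2 hc)) h5).symm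
    (Feit_Thompson (Nat.not_even_iff_odd.1 fun e => h6 e.two_dvd))
  obtain ⟨o, ho, rfl⟩ := (hP.mono le_sup_right (sup_le hle hP.le)).exists_conj' hK.syl
  refine ⟨o⁻¹ * u * o⁻¹⁻¹, ?_, h.sw_conj hu (inv_mem (sup_le hle hP.le ho))⟩
  have := conj_mem_conj (g := o⁻¹) (h7 (mem_zpowers u))
  rwa [← norm_conj, conj_conj, inv_mul_cancel, conj_eq_of_mem (one_mem P)] at this

end DP

end Cfsg.Agent.R4
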