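import Cfsg.Agent.Lib.R4.DE3a

/-!
# Double transitivity, from a prime acting by scalars
-/

set_option autoImplicit false
set_option linter.unusedSectionVars false

namespace Cfsg.Agent.R4

open Subgroup MulAction Cfsg.Agent.Coprime Cfsg.Agent.OO Cfsg.Agent.SEA
open scoped Pointwise commutatorElement

universe u v

variable {G : Type u} {Ω : Type v} [Group G] [MulAction G Ω]

/-- the `p`-elements act as scalars -/
structure Prim (B : Ω → Subgroup G) (p : ℕ) : Prop extends DP B where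
  p2 : p ≠ 2
  dvd : ∀ a, p ∣ ♯(B a) - 1
  der_le : ∀ {a} {P : Subgroup G}, IsPGroup p P → P ≤ stabilizer G a → der P ≤ 𝐂(B a)
  idx : ∀ {a} {P : Subgroup G}, IsPGroup p P → P ≤ stabilizer G a →
    (𝐂(B a)).relIndex P ∣ ♯(B a) - 1
  semi : ∀ {a} {P : Subgroup G} {s}, IsPGroup p P → P ≤ stabilizer G a → s ∈ B a → s ≠ 1 →
    s ∈ 𝐂(P) → P ≤ 𝐂(B a)

variable {B : Ω → Subgroup G} {a b c : Ω} {d g k s t u v w x y z : G} {H P Q X Y : Subgroup G}
  {p i : ℕ} [Finite G] [hp : Fact p.Prime]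

theorem pow_relIndex_mem (hH : H ≤ 𝐍(X)) (hg : g ∈ H) : g ^ X.relIndex H ∈ X := by
  rw [← coset_eq_one_iff (pow_mem (hH hg) _), coset_pow (hH hg), ← card_quo hH]
  exact orderOf_dvd_iff_pow_eq_one.1 (orderOf_dvd_card (coset_mem_quo X hg))

theorem not_two_dvd (p2 : p ≠ 2) (hP : IsPGroup p P) : ¬ 2 ∣ ♯P :=
  (piGrp_compl_singleton Nat.prime_two).1 (piGrp_compl_of_isPGroup hP p2)

theorem syl_top (p2 : p ≠ 2) (hab : a ≠ b) (hP : Syl p P (D G a b)) (nb : ¬ Big Ω P) :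
    Syl p P ⊤ := .of_syl_norm le_top (syl_of_max (le_inf le_top (le_norm_self P)) hP.isPGroup
  fun U h1 h2 h3 => hP.hall.eq_of_le h1 (fun g hg => by
    have key : ∀ a b : Ω, a ≠ b → P ≤ D G a b → g • a = a := fun a b hab h => by
      have := fun c hc => eq_or_eq_of_not_big nb (h.trans inf_le_left) (h.trans inf_le_right) hab
        (smul_fix_of_norm (a := c) (h2 hg).2 hc)
      refine (this a (h.trans inf_le_left)).elim id fun e => fix_of_sq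
        (fun e => not_two_dvd p2 h3 (e.trans (orderOf_dvd_card hg))) ?_
      rw [e]
      exact (this b (h.trans inf_le_right)).resolve_right fun e' =>
        hab (smul_left_cancel g (e.trans e'.symm))
    exact ⟨key a b hab hP.le, key b a hab.symm (D_comm (G := G) a b ▸ hP.le)⟩) (piGrp_singleton h3))

theorem DP.mul_dvd (h : DP B) (hab : a ≠ b) (hu : Sw B u a b) (h1 : B a ≤ H) (h2 : B b ≤ H)
    (hQ : Syl p Q (H ⊓ D G a b)) (hY : IsPGroup p Y) (h3 : Y ≤ 𝐂[u] ⊓ (H ⊓ D G a b))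
    (hi : IsPiNum {p} i) (hd : i ∣ ♯(B a) - 1) : ♯Y * i ∣ ♯Q := by
  rw [hQ.card_eq_partn]
  refine dvd_partn (card_pos' _).ne' ?_ (isPiNum_mul_iff.2 ⟨piGrp_singleton hY, hi⟩)
  rw [← card_inf_mul_relIndex 𝐂[u] (H ⊓ _), h.relIndex_sw hab hu h1 h2]
  exact mul_dvd_mul (card_dvd_of_le h3) hd

namespace Prim

variable (h : Prim B p)
include h

theorem cent_le_of_not_big (hab : a ≠ b) (hP : Syl p P (D G a b)) (nb : ¬ Big Ω P) :
    P ⊓ 𝐂(B a) ≤ 𝐂(B b) := by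
  have hT := syl_top h.p2 hab hP nb
  have ha := hP.le.trans inf_le_left
  have hb := hP.le.trans inf_le_right
  obtain ⟨s, hs, s1⟩ := h.exists_mem a
  have e1 := (h.smul_ne hs s1 hab).symm
  have h0 : der P ≤ P ⊓ 𝐂(B a) ⊓ 𝐂(B b) :=
    le_inf (le_inf (OO.der_le P) (h.der_le hP.isPGroup ha)) (h.der_le hP.isPGroup hb)
  have h1 : s ∈ 𝐍(P ⊓ 𝐂(B a)) := cent_le_norm _ (le_cent_symm inf_le_right hs)
  have h2 : B b ≤ 𝐂(P ⊓ 𝐂(B a) ⊓ 𝐂(B b)) := le_cent_symm inf_le_right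
  have h3 : B (s • b) ≤ 𝐂(P ⊓ 𝐂(B a) ⊓ 𝐂(B b)) := h.conj s b ▸ conj_le_of_mem
    (le_cent_symm (inf_le_left.trans inf_le_right) hs) h2
  have h4 := le_norm_of_der_le h0 (inf_le_left.trans inf_le_left)
  have h5 : P ⊓ 𝐂(B a) ≤ 𝐍(P ⊓ 𝐂(B a) ⊓ 𝐂(B b)) ⊓ D G b (s • b) := le_inf (inf_le_left.trans h4)
    (le_inf (inf_le_left.trans hb) (smul_fix_of_norm h1 (inf_le_left.trans hb)))
  have h6 := hP.isPGroup.to_le (inf_le_left : P ⊓ 𝐂(B a) ≤ P)
  obtain ⟨Q, hQ, h7⟩ := exists_syl_ge h5 h6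
  have h8 := h.mul_dvd e1 ⟨⟨a, hs⟩, rfl⟩ (h2.trans (cent_le_norm _)) (h3.trans (cent_le_norm _)) hQ
    h6 (le_inf (inf_le_right.trans (cent_le_cent1 hs)) h5) (hP.piGrp.relIndex _)
    (h.card_eq a b ▸ h.idx hP.isPGroup ha)
  rw [inf_comm, card_inf_mul_relIndex] at h8
  have h9 := hT.of_card_le le_top hQ.isPGroup (Nat.le_of_dvd (card_pos' _) h8)
  obtain ⟨g, hg, e⟩ := (hT.mono h4 le_top).exists_conj' (h9.mono (hQ.le.trans inf_le_left) le_top)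
  have h10 : der Q ≤ P ⊓ 𝐂(B a) := by
    rw [e, der, ← conj_commutator]
    exact (conj_le_of_mem_norm hg h0).trans inf_le_left
  obtain ⟨k, hk, rfl⟩ := (hT.mono (le_norm_of_der_le (h0.trans inf_le_left) inf_le_left)
    le_top).exists_conj' (h9.mono (le_norm_of_der_le h10 h7) le_top)
  have h11 : ∀ c : Ω, k •ᶜ P ≤ stabilizer G c → c = k • a ∨ c = k • b := fun c hc =>
    (eq_or_eq_of_not_big nb ha hb hab (c := k⁻¹ • c)
      (conj_stab k⁻¹ c ▸ conj_le_iff_le_inv_conj.1 hc)).imp inv_smul_eq_iff.1 inv_smul_eq_iff.1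
  have h12 := h.cent_smul hk (inf_le_right : P ⊓ 𝐂(B a) ≤ 𝐂(B a))
  rcases h11 b ((hQ.le.trans inf_le_right).trans inf_le_left) with e2 | e2
  · exact e2 ▸ h12
  rcases h11 _ ((hQ.le.trans inf_le_right).trans inf_le_right) with e3 | e3
  · have := h.cent_smul h1 (e3 ▸ h12)
    rwa [swap (h.sq hs) rfl] at this
  · exact (e1 (e2.trans e3.symm)).elim

theorem inv_of (hab : a ≠ b) (hP : Syl p P (D G a b)) (hu : Sw B u a b) (hn : u ∈ 𝐍(P))
    (h0 : P ⊓ 𝐂(B a) ≤ 𝐂(B b)) (hy : y ∈ P) : u * y * u⁻¹ * y ∈ 𝐂(B a) := by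
  have ha := hP.le.trans inf_le_left
  obtain ⟨s, hs, s1⟩ := h.exists_mem a
  have h1 : P ⊓ 𝐂(B a) ≤ P ⊓ 𝐂[u] := fun x hx => ⟨hx.1, mem_cent1_iff_conj.2 (by
    refine h.swap_inj hab hs s1 (h.sw_conj hu (hP.le hx.1)) hu ?_
    nth_rw 1 [← mem_cent_iff_conj.1 hx.2 s hs]
    rw [← mem_cent_iff_conj.1 (h0 hx) (u * s * u⁻¹) (hu.2 ▸ h.conj_mem hs u)]
    group)⟩
  have h2 := h.mul_dvd hab hu le_top le_top (by rwa [top_inf_eq])
    (hP.isPGroup.to_le (inf_le_left : P ⊓ 𝐂[u] ≤ P))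
    (le_inf inf_le_right (le_inf le_top (inf_le_left.trans hP.le))) (hP.piGrp.relIndex _)
    (h.idx hP.isPGroup ha)
  rw [← card_inf_mul_relIndex 𝐂(B a) P, Nat.mul_dvd_mul_iff_right (relIndex_pos _ _),
    inf_comm 𝐂(B a)] at h2
  have h3 := eq_of_le_of_card_ge h1 (Nat.le_of_dvd (card_pos' _) h2)
  have h4 := mul_mem (inv_mem hy) (conj_mem_of_norm hn hy)
  obtain ⟨j, hj⟩ := exists_sqrt
    (fun e => not_two_dvd h.p2 hP.isPGroup (e.trans (orderOf_dvd_card h4)))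
  have h5 : u * (y⁻¹ * (u * y * u⁻¹)) ^ j * u⁻¹ = ((y⁻¹ * (u * y * u⁻¹)) ^ j)⁻¹ := by
    rw [← conj_pow, ← inv_pow, show u * (y⁻¹ * (u * y * u⁻¹)) * u⁻¹ =
      u * y⁻¹ * u⁻¹ * (u * u * y * (u * u)⁻¹) by group, h.sw_sq hu]
    group
  have h6 := pow_mem h4 j
  generalize (y⁻¹ * (u * y * u⁻¹)) ^ j = r at hj h5 h6
  have h7 : u * y * u⁻¹ = y * r * r := by rw [mul_assoc y, hj, mul_inv_cancel_left]
  have h8 : y * r ∈ 𝐂(B a) := (h3.ge ⟨mul_mem hy h6, mem_cent1_comm.1 (mem_cent1_iff_conj.2 (by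
    rw [← conj_mul, h5, h7, mul_inv_cancel_right]))⟩).2
  rw [h7, show y * r * r * y = y * r * (r * (y * r) * r⁻¹) by group]
  exact mul_mem h8 (conj_mem_of_norm (h.stab_le' a (ha h6)) h8)

theorem good_of_inv (hab : a ≠ b) (hP : Syl p P (D G a b)) (hX : X ≤ P)
    (h0 : P ⊓ 𝐂(B a) ≤ 𝐂(B b)) (hg : g ∈ 𝐍(X)) (e : g • a = b) (hc : g • c = c)
    (hXc : X ≤ stabilizer G c) (h1 : X ⊓ 𝐂(B c) ≤ 𝐂(B a)) : X ≤ 𝐂(B a) := fun x hx => by
  obtain ⟨u, hn, hu⟩ := h.sw_of_syl h.p2 hab hP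
  have hk : u * g ∈ stabilizer G a := by rw [mem_stabilizer_iff, mul_smul, e, (h.sw_symm hu).2]
  have hN := (hX.trans (hP.le.trans inf_le_left)).trans (h.stab_le' a)
  have h2 : ∀ x ∈ X, coset 𝐂(B a) (u * g) * coset 𝐂(B a) x * (coset 𝐂(B a) (u * g))⁻¹ =
      (coset 𝐂(B a) (g * x * g⁻¹))⁻¹ := fun x hx => by
    have h3 := conj_mem_of_norm hg hx
    have h4 := h.stab_le' a hk
    rw [← coset_conj h4 (hN hx), eq_inv_iff_mul_eq_one, ← coset_mul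
      (mul_mem (mul_mem h4 (hN hx)) (inv_mem h4)) (hN h3), coset_eq_one]
    rw [show u * g * x * (u * g)⁻¹ = u * (g * x * g⁻¹) * u⁻¹ by group]
    exact h.inv_of hab hP hu hn h0 (hX h3)
  have h3 : ∀ n : ℕ, coset 𝐂(B a) (u * g) ^ n * coset 𝐂(B a) x * (coset 𝐂(B a) (u * g) ^ n)⁻¹ =
      coset 𝐂(B a) (g ^ n * x * (g ^ n)⁻¹) ^ ((-1) ^ n : ℤ) := fun n => by
    induction n with
    | zero => simp
    | succ n ih =>
      have e : ∀ {Γ : Type u} [Group Γ] (κ z : Γ), κ ^ (n + 1) * z * (κ ^ (n + 1))⁻¹ =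
        κ * (κ ^ n * z * (κ ^ n)⁻¹) * κ⁻¹ := fun κ z => by group
      rw [e, e, ih, ← conj_zpow, h2 _ (conj_mem_of_norm (pow_mem hg n) hx), inv_zpow', pow_succ',
        neg_one_mul]
  have h4 : Odd ((𝐂(B a)).relIndex (stabilizer G a) * (𝐂(B c)).relIndex (stabilizer G c)) :=
    (Nat.not_even_iff_odd.1 fun e => h.odd a e.two_dvd).mul
      (Nat.not_even_iff_odd.1 fun e => h.odd c e.two_dvd)
  have h5 := h3 ((𝐂(B a)).relIndex (stabilizer G a) * (𝐂(B c)).relIndex (stabilizer G c))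
  have h6 := Subgroup.pow_mem _ (pow_relIndex_mem (h.stab_le' c) hc)
    ((𝐂(B a)).relIndex (stabilizer G a))
  rw [← pow_mul, mul_comm] at h6
  rw [← coset_pow (h.stab_le' a hk), pow_mul (u * g), coset_eq_one
    (pow_mem (pow_relIndex_mem (h.stab_le' a) hk) _), h4.neg_one_pow] at h5
  have h7 := Subgroup.pow_mem _ hg
    ((𝐂(B a)).relIndex (stabilizer G a) * (𝐂(B c)).relIndex (stabilizer G c))
  generalize g ^ (_ * _) = k at h5 h6 h7
  have h8 : k * x * k⁻¹ * x⁻¹ ∈ 𝐂(B a) := h1 (mem_inf.2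
    ⟨mul_mem (conj_mem_of_norm h7 hx) (inv_mem hx), by
      rw [mul_assoc, mul_assoc, ← mul_assoc x]
      exact mul_mem h6 (conj_mem_of_norm (h.stab_le' c (hXc hx)) (inv_mem h6))⟩)
  rw [← inv_mul_cancel_right (k * x * k⁻¹) x, coset_mul_of_mem' h8 (hN hx), one_mul, inv_one,
    mul_one, zpow_neg_one, eq_inv_iff_mul_eq_one, ← coset_mul (hN hx) (hN hx),
    coset_eq_one_iff (mul_mem (hN hx) (hN hx))] at h5
  obtain ⟨j, hj⟩ := exists_sqrt
    (fun e => not_two_dvd h.p2 hP.isPGroup (e.trans (orderOf_dvd_card (hX hx))))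
  rw [← hj, ← (Commute.refl x).mul_pow]
  exact pow_mem h5 j

section
variable (hX : IsPGroup p X)
  (ih : ∀ Y, X < Y → IsPGroup p Y → Big Ω Y → ∀ b : Ω, Y ≤ stabilizer G b → Y ≤ 𝐂(B b))
include hX ih

omit h in
theorem exists_syl_of_not (hb : X ≤ stabilizer G b) (bad : ¬ X ≤ 𝐂(B b))
    (ha : X ≤ stabilizer G a) (hab : a ≠ b) (hn : ¬ Syl p X (D G b a)) :
    ∃ Y, Syl p Y (𝐍(X) ⊓ stabilizer G b) ∧ Y ≤ D G b a ∧ ¬ Big Ω Y := by
  obtain ⟨Y, hY, h1⟩ := exists_syl_ge (le_inf (le_inf hb ha) (le_norm_self X)) hX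
  have h2 := hY.le.trans inf_le_left
  have h3 : ¬ Big Ω Y := fun e => bad (h1.trans (ih Y (lt_of_le_of_ne h1 fun e => hn
    (.of_syl_norm (le_inf hb ha) (e ▸ hY))) hY.isPGroup e b (h2.trans inf_le_left)))
  have h4 : Y ≤ 𝐍(X) ⊓ stabilizer G b := le_inf (hY.le.trans inf_le_right) (h2.trans inf_le_left)
  exact ⟨Y, .of_syl_norm h4 (hY.mono (le_inf h4 (le_norm_self Y)) fun g hg =>
    ⟨norm_le_of_not_big h3 h2 hab.symm ⟨hg.1.2, hg.2⟩, hg.1.1⟩), h2, h3⟩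

omit h in
theorem exists_smul_of_not (hb : X ≤ stabilizer G b) (bad : ¬ X ≤ 𝐂(B b))
    (ha : X ≤ stabilizer G a) (hab : a ≠ b) (hn : ¬ Syl p X (D G b a)) (hc : X ≤ stabilizer G c)
    (hcb : c ≠ b) (hn' : ¬ Syl p X (D G b c)) : ∃ g ∈ 𝐍(X) ⊓ stabilizer G b, g • a = c := by
  obtain ⟨Y, h1, h2, h3⟩ := exists_syl_of_not hX ih hb bad ha hab hn
  obtain ⟨Z, h4, h5, h6⟩ := exists_syl_of_not hX ih hb bad hc hcb hn'
  obtain ⟨g, hg, rfl⟩ := h1.exists_conj' h4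
  refine ⟨g, hg, (eq_or_eq_of_not_big h6 (h5.trans inf_le_left) (h5.trans inf_le_right) hcb.symm
    (conj_stab g a ▸ conj_mono g (h2.trans inf_le_right))).resolve_left fun e => hab ?_⟩
  exact smul_left_cancel g (e.trans (mem_stabilizer_iff.1 hg.2).symm)

theorem good_of_good (hb : X ≤ stabilizer G b) (ha : X ≤ stabilizer G a) (good : X ≤ 𝐂(B a)) :
    X ≤ 𝐂(B b) := by
  by_contra bad
  obtain ⟨s, hs, s1⟩ := h.exists_mem a
  have hab : a ≠ b := by rintro rfl; exact bad good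
  have hsN := cent_le_norm X (le_cent_symm good hs)
  have e1 := h.smul_ne hs s1 hab
  have h1 : Syl p X (D G b (s • b)) := by
    by_contra e
    obtain ⟨g, hg, e'⟩ := exists_smul_of_not hX ih hb bad ha hab (fun e => by
      obtain ⟨v, hv, e'⟩ := h.sw_of_syl h.p2 hab.symm e
      exact bad ((h.sw_symm e').2 ▸ h.cent_smul hv good)) (smul_fix_of_norm hsN hb) e1 e
    have e2 := h.cent_smul hsN (e' ▸ h.cent_smul hg.1 good)
    exact bad (by rwa [swap (h.sq hs) rfl] at e2)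
  refine h1.not_dvd (Dvd.dvd.trans ?_ (relIndex_dvd_of_le_left _ (good.trans (cent_le_cent1 hs))))
  rw [← top_inf_eq (D G _ _), h.relIndex_sw e1.symm ⟨⟨a, hs⟩, rfl⟩ le_top le_top]
  exact h.dvd b

variable (bad : ∀ b : Ω, X ≤ stabilizer G b → ¬ X ≤ 𝐂(B b))
include bad

theorem eq_of_not_syl (ha : X ≤ stabilizer G a) (hb : X ≤ stabilizer G b)
    (hc : X ≤ stabilizer G c) (hac : a ≠ c) (hbc : b ≠ c) (h1 : ¬ Syl p X (D G c a))
    (h2 : ¬ Syl p X (D G c b)) : a = b := by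
  have k1 : ∀ {a b : Ω} {P : Subgroup G}, a ≠ b → Syl p P (D G a b) → X ≤ P → X ≠ P →
      P ⊓ 𝐂(B a) ≤ 𝐂(B b) := fun hab hP e e' => h.cent_le_of_not_big hab hP fun big =>
    bad _ (e.trans (hP.le.trans inf_le_left)) (e.trans (ih _ (lt_of_le_of_ne e e') hP.isPGroup big _
      (hP.le.trans inf_le_left)))
  have k2 : ∀ {a b : Ω}, a ≠ b → X ≤ D G a b → ¬ Syl p X (D G a b) → X ⊓ 𝐂(B a) ≤ 𝐂(B b) :=
    fun hab e e' => let ⟨_, hP, e1⟩ := exists_syl_ge e hX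
      (inf_le_inf_right _ e1).trans (k1 hab hP e1 fun e2 => e' (e2 ▸ hP))
  by_contra hab
  obtain ⟨g, hg, e⟩ := exists_smul_of_not hX ih hc (bad c hc) ha hac h1 hb hbc h2
  obtain ⟨P, hP, e1⟩ := exists_syl_ge (le_inf ha hb : X ≤ D G a b) hX
  refine bad a ha (h.good_of_inv hab hP e1 ?_ hg.1 e hg.2 hc (k2 hac.symm (le_inf hc ha) h1))
  by_cases e2 : X = P
  · subst e2
    exact (le_inf inf_le_left (k2 hac (le_inf ha hc) (D_comm (G := G) c a ▸ h1))).trans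
      (k2 hbc.symm (le_inf hc hb) h2)
  · exact k1 hab hP e1 e2

theorem eq_of_syl (hb : X ≤ stabilizer G b) (hc : X ≤ stabilizer G c) (hab : a ≠ b) (hac : a ≠ c)
    (e1 : Syl p X (D G a b)) (e2 : Syl p X (D G a c)) : b = c := by
  have h1 : ∀ v ∈ 𝐍(X), ∀ c : Ω, v ∈ B c → X ≤ stabilizer G c → v = 1 :=
    fun v hv c e hc => by_contra fun v1 => bad c hc (h.semi hX hc e v1 (by
      refine mem_cent_iff_conj.2 fun x hx => mul_inv_eq_one.1 (mem_bot.1 ?_)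
      rw [← inf_eq_bot_of_coprime_card (coprime_of_isPGroup_ne hX (h.two c) h.p2)]
      refine mem_inf.2 ⟨mul_mem (conj_mem_of_norm hv hx) (inv_mem hx), ?_⟩
      rw [mul_assoc, mul_assoc, ← mul_assoc x]
      exact mul_mem e (conj_mem_of_norm (h.stab_le c (hc hx)) (inv_mem e))))
  have h2 : ∀ s ∈ 𝐍(X), ∀ t ∈ 𝐍(X), ∀ c : Ω, s ∈ B c → t ∈ B c → s ≠ 1 → t ≠ 1 → s = t :=
    fun s hs t ht c h3 h4 s1 t1 => by_contra fun e' => s1 (h1 s hs c h3 (h.fix_of_odd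
      (H := B c ⊓ 𝐍(X)) (not_two_dvd h.p2 hX) inf_le_left
        (two_lt_card ⟨h3, hs⟩ ⟨h4, ht⟩ s1 t1 e') inf_le_right))
  obtain ⟨z, hz, ⟨d, hd⟩, e3⟩ := h.sw_of_syl h.p2 hab e1
  obtain ⟨w, hw, ⟨d', hd'⟩, e4⟩ := h.sw_of_syl h.p2 hac e2
  have z1 := swap_ne_one hab e3
  have z2 := h.sq hd
  have h5 : ∀ v ∈ 𝐍(X), ∀ c : Ω, v ∈ B c → v ≠ 1 → v * z ∈ Op' 2 𝐍(X) := fun v hv c e v1 => by
    by_cases e' : d = c
    · rw [h2 v hv z hz c e (e' ▸ hd) v1 z1, z2]; exact one_mem _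
    obtain ⟨g, -, e1, e2⟩ := h.exists_swap e' hd z1 e v1
    have := DP.zstar hz z2 (fun k hk e => h2 _ (mul_mem (mul_mem hk hz) (inv_mem hk)) z hz d
      (h.mem_of_fix (h.conj_mem hd k) (h.cent_le hd z1 (mem_cent1.2 e.symm))) hd
      (BSW.conj_ne_one z1) z1) (e2 _ hz hv)
    rwa [e1, h.inv_eq hd] at this
  have hO := not_dvd_Op' (p := 2) 𝐍(X)
  have hn : Op' 2 𝐍(X) ⊴ 𝐍(X) := (NormalIn.refl _).Opi _
  generalize Op' 2 𝐍(X) = O at h5 hO hn
  have h6 := h5 w hw d' hd' (swap_ne_one hac e4)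
  have e5 : (w * z) • b = c := by rw [mul_smul, swap z2 e3, e4]
  have od : ∀ o ∈ O, ¬ 2 ∣ orderOf o := fun o ho e => hO (e.trans (orderOf_dvd_card ho))
  by_contra hbc
  by_cases e6 : Syl p X (D G b c)
  swap
  · have h7 := syl_conj_iff (g := w * z) (p := p) (P := X) (M := D G b c)
    rw [conj_eq_of_mem_norm (hn.le h6), conj_D, e5] at h7
    have h8 := h.eq_of_not_syl hX ih bad hb (smul_fix_of_norm (hn.le h6) hc) hc hbc
      (fun e => hbc (smul_left_cancel _ (e5.trans e.symm))) (D_comm (G := G) b c ▸ e6) (mt h7.1 e6)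
    exact hbc ((fix_of_sq (od _ h6) (by rw [e5, ← h8])).symm.trans e5)
  obtain ⟨t, ht, ⟨d'', hd''⟩, e7⟩ := h.sw_of_syl h.p2 hbc e6
  have h7 : t * w ∈ O := by
    have := mul_mem (h5 t ht d'' hd'' (swap_ne_one hbc e7)) (inv_mem h6)
    rwa [mul_inv_rev, h.inv_eq hd', mul_assoc, mul_inv_cancel_left] at this
  have e8 : t * w * z ∈ stabilizer G b := by
    rw [mem_stabilizer_iff, mul_assoc, mul_smul, e5, swap (h.sq hd'') e7]
  generalize t * w = o at h7 e8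
  have h8 : o * z * (o * z) ∈ O := by
    rw [show o * z * (o * z) = o * (z * o * z⁻¹) * (z * z) by group, z2, mul_one]
    exact mul_mem h7 (hn.conj_mem hz h7)
  obtain ⟨j, hj⟩ : Odd (orderOf (o * z * (o * z))) :=
    Nat.not_even_iff_odd.1 fun e => od _ h8 e.two_dvd
  have h9 : (o * z * (o * z)) ^ j * (o * z) * z ∈ O := by
    rw [mul_assoc, mul_assoc o z z, z2, mul_one]; exact mul_mem (pow_mem h8 j) h7
  obtain ⟨i, hi⟩ := R1.exists_conj_of_odd (a := (o * z * (o * z)) ^ j * (o * z)) (by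
    rw [← pow_orderOf_eq_one (o * z * (o * z)), hj, ← pow_two, ← pow_two, ← pow_mul, ← pow_succ,
      ← pow_mul, ← pow_mul, mul_comm]) z2 (od _ h9)
  have h10 := mul_mem (hn.le h7) hz
  rw [h1 _ (mul_mem (pow_mem (mul_mem h10 h10) j) h10) b (h.mem_of_fix (hi ▸ h.conj_mem hd _)
    (mul_mem (pow_mem (mul_mem e8 e8) j) e8)) hb, one_mul] at h9
  exact z1 (odd_sq_eq_one (od z h9) z2)

end

theorem good (X : Subgroup G) : IsPGroup p X → Big Ω X →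
    ∀ b : Ω, X ≤ stabilizer G b → X ≤ 𝐂(B b) := by
  induction X using WellFoundedGT.induction with
  | ind X ih =>
  intro hX big b hb
  by_contra e
  have bad : ∀ a : Ω, X ≤ stabilizer G a → ¬ X ≤ 𝐂(B a) :=
    fun a ha good => e (h.good_of_good hX ih hb ha good)
  obtain ⟨a, ha, hab, -⟩ := big b b
  obtain ⟨c, hc, hca, hcb⟩ := big a b
  by_cases e1 : Syl p X (D G a b) <;> by_cases e2 : Syl p X (D G a c)
  · exact hcb (h.eq_of_syl hX ih bad hb hc hab hca.symm e1 e2).symm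
  · by_cases e3 : Syl p X (D G b c)
    · exact hca (h.eq_of_syl hX ih bad ha hc hab.symm hcb.symm (D_comm (G := G) a b ▸ e1) e3).symm
    · exact hab (h.eq_of_not_syl hX ih bad ha hb hc hca.symm hcb.symm (D_comm (G := G) a c ▸ e2)
        (D_comm (G := G) b c ▸ e3))
  · by_cases e3 : Syl p X (D G b c)
    · exact hab (h.eq_of_syl hX ih bad ha hb hca hcb (D_comm (G := G) a c ▸ e2)
        (D_comm (G := G) b c ▸ e3))
    · exact hca (h.eq_of_not_syl hX ih bad ha hc hb hab hcb (D_comm (G := G) a b ▸ e1) e3).symm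
  · exact hcb (h.eq_of_not_syl hX ih bad hb hc ha hab.symm hca e1 e2).symm

theorem not_big (hab : a ≠ b) (hP : Syl p P (D G a b)) : ¬ Big Ω P := fun e =>
  let ⟨_, hs, s1⟩ := h.exists_mem a
  hP.not_dvd ((h.relIndex_cent hab hs s1 le_rfl inf_le_left ▸ h.dvd a).trans
    (relIndex_dvd_of_le_left _ ((h.good P hP.isPGroup e a (hP.le.trans inf_le_left)).trans
      (cent_le_cent1 hs))))

theorem two_trans (hab : a ≠ b) (hac : a ≠ c) : ∃ g ∈ stabilizer G a, g • b = c := by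
  obtain ⟨P, hP⟩ := exists_syl p (D G a b)
  obtain ⟨Q, hQ⟩ := exists_syl p (D G a c)
  obtain ⟨g, hg, rfl⟩ := ((syl_top h.p2 hab hP (h.not_big hab hP)).mono (hP.le.trans inf_le_left)
    le_top).exists_conj' ((syl_top h.p2 hac hQ (h.not_big hac hQ)).mono (hQ.le.trans inf_le_left)
      le_top)
  refine ⟨g, hg, (eq_or_eq_of_not_big (h.not_big hac hQ) (hQ.le.trans inf_le_left)
    (hQ.le.trans inf_le_right) hac (conj_stab g b ▸ conj_mono g
      (hP.le.trans inf_le_right))).resolve_left fun e => hab ?_⟩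
  exact smul_left_cancel g ((mem_stabilizer_iff.1 hg).trans e.symm)

end Prim

end Cfsg.Agent.R4
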