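import Cfsg.Agent.Lib.R4.DEw
import Cfsg.Agent.Lib.R4.KFNum
import Cfsg.Agent.Lib.Cls.Count
import Cfsg.Agent.Lib.Coprime.Semidirect

/-!
# `S₃`-free linear groups of odd degree over `F₂` with a primitive prime divisor have odd order
-/

set_option autoImplicit false

namespace Cfsg.Agent.R4

open Subgroup Cfsg.Agent.OO Cfsg.Agent.Coprime Cfsg.Agent.SZ Cfsg.Agent.GW Cfsg.Agent.W4
open scoped commutatorElement Pointwise

universe u

variable {G : Type u} [Group G] [Finite G] {A B E M P T : Subgroup G} {x y z : G} {n r : ℕ}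

theorem real_of_simple (kf1 : KF1.{u}) {L : Subgroup G} (h3 : S3F L) (hk : KY.{u} (♯L + 1))
    (hs : Smp L) (hn : ¬ Ab L) (hx : x ∈ L) (ho : Odd (orderOf x)) (h : ¬ 3 ∣ orderOf x) :
    ∃ g ∈ L, g * x * g⁻¹ = x⁻¹ := by
  have : IsSimpleGroup L := hs.isSimpleGroup (by rintro rfl; exact hn ab_bot)
  obtain ⟨T, hT⟩ := exists_syl 2 (⊤ : Subgroup L)
  have h1 := kf1 L ⊤ T h3 (hk _ (by simp) topEquiv.isSimpleGroup (fun e => hn
    (ab_iff.2 fun a ha b hb => congrArg (fun z : (⊤ : Subgroup L) => ((z : L) : G))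
      (e.1.1 ⟨⟨a, ha⟩, trivial⟩ ⟨⟨b, hb⟩, trivial⟩))) (h3.sub _)) hT
  have h2 : ∀ {W k}, SF ⊤ T W k → ∃ g ∈ L, g * x * g⁻¹ = x⁻¹ := fun h' =>
    let ⟨g, _, _, e⟩ := h'.real ⟨x, hx⟩ trivial (by rwa [← orderOf_coe]) (by rwa [← orderOf_coe])
    ⟨g, g.2, congrArg Subtype.val e⟩
  rcases h1 with ⟨W, k, n, h1⟩ | ⟨k, f, r, c, h1⟩
  exacts [h2 h1.toSF, h2 h1.toSF]

/-- commuting elements of order `r` generate the same subgroup -/
def Uq (E : Subgroup G) (r : ℕ) : Prop :=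
  ∀ y ∈ E, ∀ z ∈ E, orderOf y = r → z ^ r = 1 → y * z = z * y → z ∈ zpowers y

theorem Uq.mem [hr : Fact r.Prime] (h : Uq E r) (hP : P ≤ E) (h1 : IsPGroup r P) (hy : y ∈ P)
    (hz : z ∈ P) (h2 : orderOf y = r) (h3 : z ^ r = 1) : z ∈ zpowers y := by
  obtain ⟨c, hc, e⟩ := cauchy hr.out ((h1.to_le (Zc_le P)).card_eq_or_dvd.resolve_left fun e =>
    Zc_ne_bot (nil_of_isPGroup h1) (ne_bot_of_prime_dvd hr.out (h2 ▸ orderOf_dvd_card hy))
      (card_eq_one.1 e))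
  exact zpowers_le.2 (h y (hP hy) c (hP hc.1) h2 (e ▸ pow_orderOf_eq_one c) (hc.2 y hy))
    (h c (hP hc.1) z (hP hz) e h3 (hc.2 z hz).symm)

theorem odd_aux (kf1 : KF1.{u}) [hr : Fact r.Prime] (r2 : r ≠ 2) (r3 : r ≠ 3) (hx : orderOf x = r)
    (m : ℕ) : ∀ E : Subgroup G, ♯E = m → x ∈ E → S3F E → KY.{u} (♯E + 1) → Uq E r →
      (∀ g ∈ E, g ∈ 𝐍(zpowers x) → Odd (orderOf g)) →
      (∀ T ≤ E, IsPGroup 2 T → x ∈ 𝐍(T) → T = ⊥) → Odd ♯E := by
  induction m using Nat.strong_induction_on with | _ m ih => ?_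
  intro E hm hE h3 hk h1 h2 h4
  have x1 : x ≠ 1 := fun e => hr.out.ne_one (by rw [← hx, e, orderOf_one])
  have ro : Odd r := hr.out.odd_of_ne_two r2
  have hp : IsPGroup r (zpowers x) := abelem_isPGroup (abelem_zpowers (hx ▸ pow_orderOf_eq_one x))
  obtain ⟨N, -, ⟨hN, n1⟩, hmax⟩ := Core.exists_maximal_ge (P := fun N => N ⊴ E ∧ N ≠ E)
    ⟨NormalIn.bot E, fun e => x1 (mem_bot.1 (e ▸ hE))⟩
  by_cases hxN : x ∈ N
  · have h5 := card_lt_of_lt (hN.le.lt_of_ne n1)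
    have h6 := ih _ (hm ▸ h5) N rfl hxN (h3.of_injective _ (inclusion_injective hN.le))
      (hk.mono (by omega)) (fun y hy z hz => h1 y (hN.le hy) z (hN.le hz))
      (fun g hg => h2 g (hN.le hg)) fun T hT => h4 T (hT.trans hN.le)
    obtain ⟨P, hP, h7⟩ := exists_syl_ge (zpowers_le.2 hxN) hp
    refine (h6.mul (odd_of_forall (Q := E ⊓ 𝐍(P)) fun a ha e => eq_one_of_odd_of_sq (h2 a ha.1 ?_) e)).of_dvd_nat
      (hP.frattini hN).card_dvd
    refine mem_norm_of_conj_le ?_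
    rw [conj_zpowers]
    exact zpowers_le.2 (h1.mem (hP.le.trans hN.le) hP.isPGroup (h7 (mem_zpowers x))
      (conj_mem_of_norm ha.2 (h7 (mem_zpowers x))) hx (by rw [conj_pow, ← hx]; simp))
  have h5 : ¬ r ∣ ♯N := fun e => by
    obtain ⟨y, hy, e1⟩ := cauchy hr.out e
    obtain ⟨P, hP, h7⟩ := exists_syl_ge (zpowers_le.2 hE) hp
    obtain ⟨g, hg, h8⟩ := hP.exists_conj_le (zpowers_le.2 (hN.le hy))
      (abelem_isPGroup (abelem_zpowers (e1 ▸ pow_orderOf_eq_one y)))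
    exact hxN (zpowers_le.2 (hN.conj_mem hg hy) (h1.mem hP.le hP.isPGroup
      (h8 (conj_mem_conj (mem_zpowers y))) (h7 (mem_zpowers x)) (by rw [orderOf_conj, e1])
      (hx ▸ pow_orderOf_eq_one x)))
  have hc : (♯(zpowers x)).Coprime ♯N := by
    rw [Nat.card_zpowers, hx]; exact hr.out.coprime_iff_not_dvd.2 h5
  have h6 : Odd ♯N := by
    obtain ⟨T, hT, h7⟩ := exists_invariant_sylow 2 (zpowers_le.2 (hN.norm hE)) hc (Or.inl (sol_of_isPGroup hp))
    exact Nat.not_even_iff_odd.1 fun e => hT.ne_bot e.two_dvd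
      (h4 T (hT.le.trans hN.le) hT.isPGroup (h7 (mem_zpowers x)))
  have hs : Smp (E ⁒ N) := fun X hX => by
    obtain ⟨K, k1, k2, rfl⟩ := exists_quo_eq_normal hN hX
    by_cases e : K = E
    · exact Or.inr (e ▸ rfl)
    · exact Or.inl (hmax K ⟨k2, e⟩ k1 ▸ quo_eq_bot le_rfl)
  have x2 : coset N x ≠ 1 := fun e => hxN ((coset_eq_one_iff (hN.norm hE)).1 e)
  have x3 : orderOf (coset N x) = r := ((Nat.dvd_prime hr.out).1 (hx ▸ orderOf_coset_dvd N x)).resolve_left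
    fun e => x2 (orderOf_eq_one_iff.1 e)
  by_cases ha : Ab (E ⁒ N)
  · have h7 := (hs (zpowers (coset N x)) ⟨zpowers_le.2 (coset_mem_quo N hE), ha.le_cent.trans
      ((cent_anti (zpowers_le.2 (coset_mem_quo N hE))).trans (cent_le_norm _))⟩).resolve_left
      (mt zpowers_eq_bot.1 x2)
    rw [← card_mul_card_quo hN, ← h7, Nat.card_zpowers, x3]
    exact h6.mul ro
  exfalso
  obtain ⟨g, hg, e⟩ := real_of_simple kf1 (h3.of_surjective _ (quoOnto_surjective hN.norm))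
    (hk.mono (Nat.succ_le_succ (Nat.le_of_dvd Nat.card_pos (card_quo_dvd E N)))) hs ha
    (coset_mem_quo N hE) (x3 ▸ ro) (x3 ▸ fun e => r3 ((Nat.prime_dvd_prime_iff_eq Nat.prime_three
      hr.out).1 e).symm)
  obtain ⟨g, hg', g1, rfl⟩ := mem_quo.1 hg
  have hn := zpowers_le.2 (hN.norm hE)
  have h7 : Syl r (zpowers x) (zpowers x ⊔ N) := ⟨le_sup_left, hp, fun e => h5 (e.trans (by
    rw [relIndex_sup_eq' (Or.inl hn)]; exact relIndex_dvd_card _ _))⟩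
  have h8 : g ∈ 𝐍(zpowers x ⊔ N) := zpowers_le.1 (le_norm_sup_of_quo (zpowers_le.2 g1) hn (by
    rw [quo_zpowers g1, quo_zpowers (hN.norm hE), zpowers_le, ← conj_eq_self_iff, conj_zpowers, e,
      zpowers_inv]))
  obtain ⟨f, hf, e1⟩ := h7.exists_conj' (h7.conj_of_norm h8)
  have f1 : f ∈ E := sup_le (zpowers_le.2 hE) hN.le hf
  have h9 := h2 (f⁻¹ * g) (mul_mem (inv_mem f1) hg') (by
    rw [← conj_eq_self_iff, ← conj_conj, e1, conj_conj, inv_mul_cancel, one_conj])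
  have f2 : coset N f ∈ 𝐂[coset N x] := by
    have := coset_mem_quo N hf
    rw [quo_sup_self hn, quo_zpowers (hN.norm hE)] at this
    exact zpowers_le.2 (mem_cent1_self _) this
  have := BSW.mul_self_eq_one_of_odd (h9.of_dvd_nat (orderOf_coset_dvd N _)) (c := coset N x) (by
    rw [coset_mul (inv_mem (hN.norm f1)) g1, coset_inv]
    calc _ = (coset N f)⁻¹ * (coset N g * coset N x * (coset N g)⁻¹) * (coset N f)⁻¹⁻¹ := by group
      _ = _ := by rw [e, ← conj_inv, mem_cent1_iff_conj.1 (inv_mem f2)])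
  exact x2 (eq_one_of_odd_of_sq (x3 ▸ ro) this)

theorem odd_lin (kf1 : KF1.{u}) (hA : IsElementaryAbelian 2 A) (hn : ♯A = 2 ^ n) (ho : Odd n)
    (n3 : 3 ≤ n) (hr : r.Prime) (hz : orderOf (2 : ZMod r) = n) (hE : E ≤ 𝐍(A)) (hf : E ⊓ 𝐂(A) = ⊥)
    (h3 : S3F E) (hk : KY.{u} (♯E + 1)) (hd : r ∣ ♯E) : Odd ♯E := by
  have := Fact.mk hr
  have hz' : ∀ j, r ∣ 2 ^ j - 1 ↔ n ∣ j := fun j => by
    rw [dvd_iff_pow two_pos, ← hz, orderOf_dvd_iff_pow_eq_one, Nat.cast_ofNat]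
  have r2 : r ≠ 2 := by
    rintro rfl
    have := (hz' n).2 dvd_rfl
    have h1 : 2 ∣ 2 ^ n := dvd_pow_self 2 (by omega)
    have h2 := Nat.one_lt_two_pow (n := n) (by omega)
    omega
  have r3 : r ≠ 3 := by
    rintro rfl
    exact absurd (Nat.le_of_dvd two_pos ((hz' 2).1 (by norm_num))) (by omega)
  have two := abelem_isPGroup hA
  have hpow : ∀ B ≤ A, ∃ j ≤ n, ♯B = 2 ^ j := fun B hB =>
    (Nat.dvd_prime_pow Nat.prime_two).1 (hn ▸ card_dvd_of_le hB)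
  have mod : ∀ i j, i ≤ j → 2 ^ j ≡ 2 ^ i [MOD r] → n ∣ j - i := fun i j e h => by
    rw [← hz']
    have h1 := (Nat.modEq_iff_dvd' (Nat.pow_le_pow_right two_pos e)).1 h.symm
    rw [show 2 ^ j - 2 ^ i = 2 ^ i * (2 ^ (j - i) - 1) by
      rw [Nat.mul_sub, ← pow_add, Nat.add_sub_cancel' e, mul_one]] at h1
    exact ((Nat.coprime_primes hr Nat.prime_two).2 r2).pow_right i |>.dvd_of_dvd_mul_left h1
  have fpf : ∀ y ∈ E, y ≠ 1 → y ^ r = 1 → A ⊓ 𝐂[y] = ⊥ := fun y hy y1 e => by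
    have h1 := Cls.card_modEq_card_inf_centralizer (zpowers_le.2 (hE hy))
      (abelem_isPGroup (abelem_zpowers e))
    obtain ⟨j, hj, e1⟩ := hpow _ (inf_le_left : A ⊓ 𝐂(zpowers y) ≤ A)
    rw [hn, e1] at h1
    rcases hj.lt_or_eq with h2 | rfl
    · have := Nat.le_of_dvd (by omega) (mod j n hj h1)
      rw [← cent_zpowers, ← card_eq_one, e1, show j = 0 by omega, pow_zero]
    · have h2 := inf_eq_left.1 (eq_of_le_of_card_ge inf_le_left (hn.trans e1.symm).le)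
      exact absurd (mem_bot.1 (hf ▸ ⟨hy, zpowers_le.1 (le_cent_comm.1 h2)⟩)) y1
  obtain ⟨x, hx, e⟩ := cauchy hr hd
  have x1 : x ≠ 1 := fun e' => hr.ne_one (by rw [← e, e', orderOf_one])
  have xr : x ^ r = 1 := e ▸ pow_orderOf_eq_one x
  have h4 : ∀ T ≤ E, IsPGroup 2 T → x ∈ 𝐍(T) → T = ⊥ := fun T hT h1 h2 => by
    have h5 := Cls.card_modEq_card_inf_centralizer (zpowers_le.2 (show x ∈ 𝐍(A ⊓ 𝐂(T)) from
      zpowers_le.1 (le_norm_inf (zpowers_le.2 (hE hx)) (zpowers_le.2 (norm_le_norm_cent _ h2)))))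
      (abelem_isPGroup (abelem_zpowers xr))
    rw [cent_zpowers, inf_right_comm, fpf x hx x1 xr, bot_inf_eq, card_bot] at h5
    obtain ⟨j, hj, e1⟩ := hpow _ (inf_le_left : A ⊓ 𝐂(T) ≤ A)
    have h6 := mod 0 j (by omega) (e1 ▸ h5)
    have j0 : j ≠ 0 := by
      rintro rfl
      exact inf_cent_ne_bot_of_isPGroup h1 two (hT.trans hE) (fun e => by
        rw [e, card_bot] at hn; exact absurd hn.symm (Nat.one_lt_two_pow (by omega)).ne')
        (card_eq_one.1 e1)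
    have h7 := inf_eq_left.1 (eq_of_le_of_card_ge (inf_le_left : A ⊓ 𝐂(T) ≤ A) (by
      rw [hn, e1]; exact Nat.pow_le_pow_right two_pos (Nat.le_of_dvd (by omega) h6)))
    exact le_bot_iff.1 (hf ▸ le_inf hT (le_cent_comm.1 h7))
  refine odd_aux kf1 r2 r3 e _ E rfl hx h3 hk (fun y hy z hz' e1 e2 e3 => ?_) (fun g hg h1 => ?_) h4
  · have h1 : IsElementaryAbelian r (zpowers y ⊔ zpowers z) := abelem_sup
      (abelem_zpowers (e1 ▸ pow_orderOf_eq_one y)) (abelem_zpowers e2)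
      (zpowers_le.2 (cent_zpowers z ▸ mem_cent1.2 e3))
    have h2 := sup_le (zpowers_le.2 hy) (zpowers_le.2 hz')
    by_cases hc : IsCyclic ↥(zpowers y ⊔ zpowers z)
    · refine (eq_of_le_of_card_ge le_sup_left ?_).ge (mem_sup_right (mem_zpowers z))
      rw [Nat.card_zpowers, e1, ← hc.exponent_eq_card]
      exact Nat.le_of_dvd hr.pos (Monoid.exponent_dvd_of_forall_pow_eq_one fun a =>
        Subtype.ext (h1.2 a a.2))
    · obtain ⟨a, ha, a1, e4⟩ := exists_inf_centralizer_ne_bot h1.1 hc (h2.trans hE)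
        (cop (odd_of_isPGroup r2 (abelem_isPGroup h1)) two) (fun e => by
          rw [e, card_bot] at hn; exact absurd hn.symm (Nat.one_lt_two_pow (by omega)).ne')
      exact absurd (fpf a (h2 ha) a1 (h1.2 a ha)) e4
  refine Nat.not_even_iff_odd.1 fun e1 => ?_
  obtain ⟨t, ht, t1, t2⟩ := R1.exists_invol_mem (H := zpowers g) (Nat.card_zpowers g ▸ e1.two_dvd)
  have tE := zpowers_le.2 hg ht
  have h2 := conj_mem_of_norm (zpowers_le.2 h1 ht) (mem_zpowers x)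
  have h5 : x * (t * x * t⁻¹) = t * x * t⁻¹ * x := (mem_cent1.1 (zpowers_le.2 (mem_cent1_self x) h2)).symm
  by_cases e2 : x * (t * x * t⁻¹) = 1
  · have h6 := ZL.card_le_sq hA (hE tE) (by rw [pow_two, t2]; exact one_mem _)
    have h7 : A ⊓ 𝐂[t] ⊓ x •ᶜ (A ⊓ 𝐂[t]) = ⊥ := by
      rw [eq_bot_iff, ← fpf (x * x) (mul_mem hx hx) (fun e' => x1 (eq_one_of_odd_of_sq
        (e ▸ hr.odd_of_ne_two r2) e')) (by rw [← pow_two, ← pow_mul, mul_comm, pow_mul, xr, one_pow]),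
        conj_inf, ← cent1_conj]
      refine fun a ha => ⟨ha.1.1, mem_cent1_comm.1 ?_⟩
      convert mul_mem (mem_cent1_comm.1 ha.2.2) (mem_cent1_comm.1 ha.1.2) using 1
      calc x * x = x * (t * x * t⁻¹)⁻¹ := by rw [← eq_inv_of_mul_eq_one_left e2]
        _ = x * t * x⁻¹ * t⁻¹ := by group
        _ = _ := by rw [GW.inv_eq t2]
    have h8 := (IsProd.of_norm (A := A ⊓ 𝐂[t]) (B := x •ᶜ (A ⊓ 𝐂[t])) (Or.inl ((inf_le_left.trans
      (abelem_le_cent hA)).trans ((cent_anti (conj_le_of_mem_norm (hE hx) inf_le_left)).trans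
        (cent_le_norm _))))).card
    have h9 := card_le_of_le (sup_le inf_le_left (conj_le_of_mem_norm (hE hx) inf_le_left) :
      A ⊓ 𝐂[t] ⊔ x •ᶜ (A ⊓ 𝐂[t]) ≤ A)
    obtain ⟨j, -, e3⟩ := hpow _ (inf_le_left : A ⊓ 𝐂[t] ≤ A)
    rw [h7, card_bot, mul_one, card_conj, e3, ← pow_add] at h8
    rw [← h8, hn] at h9
    rw [hn, e3, ← pow_mul] at h6
    have := (Nat.pow_le_pow_iff_right one_lt_two).1 h6
    have := (Nat.pow_le_pow_iff_right one_lt_two).1 h9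
    obtain ⟨i, hi⟩ := ho
    omega
  · have h6 : x ∈ zpowers (x * (t * x * t⁻¹)) := by
      refine (eq_of_le_of_card_ge (zpowers_le.2 (mul_mem (mem_zpowers x) h2)) ?_).ge (mem_zpowers x)
      have h7 := orderOf_dvd_card (mul_mem (mem_zpowers x) h2)
      rw [Nat.card_zpowers, e] at h7
      rw [Nat.card_zpowers, Nat.card_zpowers, e, ((Nat.dvd_prime hr).1 h7).resolve_left
        fun e => e2 (orderOf_eq_one_iff.1 e)]
    refine t1 (zpowers_eq_bot.1 (h4 _ (zpowers_le.2 tE) (two_elt t2) (cent_le_norm _ ?_)))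
    rw [cent_zpowers]
    refine zpowers_le.2 (mem_cent1_comm.1 (mem_cent1_iff_conj.2 ?_)) h6
    calc _ = t * x * t⁻¹ * (t * t * x * (t * t)⁻¹) := by group
      _ = _ := by rw [t2, one_mul, inv_one, mul_one, h5]

theorem DSE.oddN (h : DSE A M) (kf1 : KF1.{u}) (hn : ♯A = 2 ^ n) (ho : Odd n) (n3 : 3 ≤ n) :
    Odd ((𝐂(A)).relIndex 𝐍(A)) := by
  obtain ⟨r, hr, hz⟩ := zsig2 ho n3
  let φ := MonoidHom.id (MulAut A)
  let ψ : 𝐍(A) →* A ⋊[φ] MulAut A := SemidirectProduct.inr.comp (conjHom le_rfl)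
  have e : ♯ψ.range = (𝐂(A)).relIndex 𝐍(A) := by
    rw [← index_ker, relIndex]
    congr 1
    ext g
    rw [MonoidHom.mem_ker, mem_subgroupOf, ← mem_ker_conjHom le_rfl, MonoidHom.mem_ker]
    exact map_eq_one_iff _ SemidirectProduct.inr_injective
  have e1 : ψ.range ≤ (⊤ : Subgroup (MulAut A)).map SemidirectProduct.inr := by
    rintro _ ⟨g, rfl⟩; exact mem_map_of_mem _ (mem_top _)
  rw [← e]
  refine odd_lin kf1 (A := (⊤ : Subgroup A).map SemidirectProduct.inl) (abelem_map (abelem_congr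
    ((subgroupOfEquivOfLe le_rfl).symm.trans (MulEquiv.subgroupCongr (subgroupOf_self A))) h.elem) _)
    (by rw [card_map_inl, card_top, hn]) ho n3 hr hz
    (e1.trans ((map_inr_le_normalizer_iff φ).2 fun _ _ _ _ => mem_top _)) ?_
    ((h.s3f.sub _).of_surjective _ ψ.rangeRestrict_surjective) (h.ky.mono ?_) ?_
  · rw [eq_bot_iff]
    rintro _ ⟨⟨g, rfl⟩, hg⟩
    have : conjHom le_rfl g = 1 := MulEquiv.ext fun a =>
      (inl_mem_centralizer_singleton_iff φ).1 (mem_cent1.2 (hg _ (mem_map_of_mem _ (mem_top a))))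
    exact mem_bot.2 (by simp [ψ, this])
  · rw [e]
    exact (Nat.succ_le_succ ((Nat.le_of_dvd Nat.card_pos (relIndex_dvd_card _ _)).trans
      (card_le_of_le h.norm))).trans h.card_lt
  · obtain ⟨a, ha, a1⟩ := h.exists_ne
    rw [e]
    refine Dvd.dvd.trans ?_ (relIndex_dvd_of_le_left _ (cent_le_cent1 ha))
    rw [h.relIndex_cent ha a1, hn, dvd_iff_pow two_pos, ← hz, Nat.cast_ofNat, pow_orderOf_eq_one]

end Cfsg.Agent.R4
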