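import Cfsg.Agent.Lib.R4.DE0
import Cfsg.Agent.Lib.R4.KFDefs

/-!
# A group of odd order is not transitive on the involutions of a Suzuki group
-/

set_option autoImplicit false

namespace Cfsg.Agent.R4

open Subgroup Cfsg.Agent.OO Cfsg.Agent.Coprime Cfsg.Agent.SZ Cfsg.Agent.GW Cfsg.Agent.W4
open scoped commutatorElement Pointwise

universe u

variable {G : Type u} [Group G] [Finite G] {A L M T W Y : Subgroup G} {a g k v w x y : G} {n : ℕ}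

theorem exists_third (h : 2 < ♯W) (v : G) : ∃ w ∈ W, w ≠ 1 ∧ w ≠ v := by
  by_contra! e
  have h1 : (W : Set G) ⊆ {1, v} := fun w hw => by
    by_cases h : w = 1
    · exact Or.inl h
    · exact Or.inr (e w hw h)
  have h2 := (Set.ncard_le_ncard h1).trans (Set.ncard_insert_le _ _)
  rw [Set.ncard_singleton, ← Nat.card_coe_set_eq] at h2
  exact absurd (h.trans_le h2) (by norm_num)

namespace SzF

variable (h : SzF L T W k n)
include h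

theorem W_le : W ≤ T := fun w hw => ((h.mem w).1 hw).1

theorem eq_cent (hv : v ∈ W) (v1 : v ≠ 1) : L ⊓ 𝐂[v] = T :=
  le_antisymm (h.cc v (h.W_le hv) v1) (le_inf h.syl.le (h.cent.trans (cent_le_cent1 hv)))

theorem conj_eq_cent (hg : g ∈ 𝐍(L)) (hv : v ∈ W) (v1 : v ≠ 1) : g •ᶜ T = L ⊓ 𝐂[g * v * g⁻¹] := by
  rw [cent1_conj, ← h.eq_cent hv v1, conj_inf, conj_eq_of_mem_norm hg]

theorem bruhat : ∃ t ∈ L, t ∉ 𝐍(T) ∧ ∀ g ∈ L, g ∉ 𝐍(T) → ∃ x ∈ T, ∃ b ∈ 𝐍(T), g = x * t * b := by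
  obtain ⟨t, ht, -⟩ := h.hyp
  have e : ∀ g : L, g ∈ normalizer (T.subgroupOf L : Set L) ↔ (g : G) ∈ 𝐍(T) := fun g => by
    rw [← subgroupOf_normalizer_eq h.syl.le, mem_subgroupOf]
  refine ⟨t, t.2, fun e' => ht.t_not_mem ((e t).2 e'), fun g hg h1 => ?_⟩
  obtain ⟨x, hx, j, hj, y, hy, e'⟩ := ht.bruhat (g := ⟨g, hg⟩) fun e' => h1 ((e _).1 e')
  exact ⟨x, hx, j * y, mul_mem ((e j).1 hj.1) (le_normalizer hy), by
    rw [← mul_assoc]; exact congrArg Subtype.val e'⟩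

theorem not_ab : ¬ Ab T := fun e => by
  obtain ⟨t, ht, e1⟩ := h.hyp
  obtain ⟨m, -, h1, h2, -⟩ := ht.main fun x hx j hj =>
    Subtype.ext (ab_iff.1 e _ hx _ (ht.K_conj_mem hj hx))
  rw [← card_map_of_injective L.subtype_injective, e1, Nat.card_zpowers] at h2
  rw [Nat.card_congr (subgroupOfEquivOfLe h.syl.le).toEquiv, h.cardT] at h1
  have h3 := h.ord
  rw [h.cardW, h2, ← h1] at h3
  have h4 : 1 < 2 ^ n := Nat.one_lt_two_pow (by have := h.three; omega)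
  generalize 2 ^ n = q at *
  have : q < q ^ 2 := by nlinarith
  omega

theorem eq_one_of_norm (hg : g ∈ L) (h1 : g ∉ 𝐍(T)) (hx : x ∈ T) (h2 : x ∈ 𝐍(g •ᶜ T)) : x = 1 := by
  by_contra e
  rw [norm_conj, mem_conj] at h2
  refine h1 (inv_mem_iff.1 (h.ti g⁻¹ (inv_mem hg) x hx e (h.syl.mem_of_mem_norm
    (mul_mem (mul_mem (inv_mem hg) (h.syl.le hx)) (inv_mem (inv_mem hg))) (by simpa using h2) ?_)))
  rw [← isPGroup_zpowers_iff, ← conj_zpowers, isPGroup_conj]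
  exact h.syl.isPGroup.to_le (zpowers_le.2 hx)

theorem witt (hY : Odd ♯Y) (hn : Y ≤ 𝐍(L))
    (tr : ∀ g ∈ L, ∀ v ∈ W, ∀ w ∈ W, v ≠ 1 → w ≠ 1 → ∃ y ∈ Y, y * v * y⁻¹ = g * w * g⁻¹) :
    False := by
  obtain ⟨t0, ht0, t1, br0⟩ := h.bruhat
  have key : ∀ y ∈ 𝐍(L), ∃ g ∈ L, y •ᶜ T = g •ᶜ T := fun y hy =>
    h.syl.exists_conj' (h.syl.conj_of_norm hy)
  obtain ⟨x, hx, hP⟩ := exists_invariant_conj (A := Y ⊓ 𝐍(T)) (G := T) inf_le_right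
    (cop (odd_of_le hY inf_le_left) h.syl.isPGroup) (Or.inr h.syl.sol) (t0 •ᶜ T) fun a ha => by
      obtain ⟨g, hg, e⟩ := key (a * t0) (mul_mem (hn ha.1) (le_normalizer ht0))
      obtain ⟨x, hx, b, hb, rfl⟩ := br0 g hg fun e' => t1 (by
        rw [conj_eq_of_mem_norm e', conj_eq_self_iff] at e
        exact (mul_mem_cancel_left (H := 𝐍(T)) ha.2).1 e)
      refine ⟨x, hx, ?_⟩
      rw [← conj_eq_map, ← conj_eq_map, conj_conj, conj_conj, e, ← conj_conj _ b,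
        conj_eq_of_mem_norm hb]
  rw [← conj_eq_map, conj_conj] at hP
  have ht : x * t0 ∈ L := mul_mem (h.syl.le hx) ht0
  have t2 : x * t0 ∉ 𝐍(T) := fun e => t1 ((mul_mem_cancel_left (le_normalizer hx)).1 e)
  have br : ∀ g ∈ L, g ∉ 𝐍(T) → ∃ r ∈ T, ∃ b ∈ 𝐍(T), g = r * (x * t0) * b := fun g hg e => by
    obtain ⟨r, hr, b, hb, e'⟩ := br0 g hg e
    exact ⟨r * x⁻¹, mul_mem hr (inv_mem hx), b, hb, by rw [e']; group⟩
  generalize x * t0 = t at *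
  have s1 : ∀ w ∈ W, Y ⊓ 𝐍(T) ≤ 𝐂[w] → w = 1 := fun w hw e => by
    by_contra w1
    obtain ⟨v, hv, v1, e1⟩ := exists_third (W := W) (by have := h.four; omega) w
    obtain ⟨y, hy, e2⟩ := tr 1 (one_mem _) w hw v hv w1 v1
    rw [one_mul, inv_one, mul_one] at e2
    refine e1 (e2.symm.trans (mem_cent1_iff_conj.1 (e ⟨hy, conj_eq_self_iff.1 ?_⟩)))
    rw [h.conj_eq_cent (hn hy) hw w1, e2, h.eq_cent hv v1]
  have s3 : ∀ g ∈ L, g ∉ 𝐍(T) → Y ⊓ 𝐍(T) ≤ 𝐍(g •ᶜ T) → g •ᶜ T = t •ᶜ T := fun g hg e e1 => by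
    obtain ⟨r, hr, b, hb, rfl⟩ := br g hg e
    rw [← conj_conj _ b, conj_eq_of_mem_norm hb] at e1 ⊢
    have h1 : Y ⊓ 𝐍(T) ≤ 𝐂[r] := fun y hy => by
      have := h.eq_one_of_norm ht t2 (mul_mem (inv_mem hr) (conj_mem_of_norm hy.2 hr)) (by
        have h2 := e1 hy
        rw [← conj_conj, norm_conj, mem_conj] at h2
        convert mul_mem h2 (inv_mem (hP hy)) using 1; group)
      rw [mem_cent1_iff_conj, ← inv_mul_eq_one.1 this]
    have h2 := s1 _ (h.sq r hr) (h1.trans fun y hy => mem_cent1_comm.1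
      (mul_mem (mem_cent1_comm.1 hy) (mem_cent1_comm.1 hy)))
    rw [s1 r ((h.mem r).2 ⟨hr, h2⟩) h1, one_mul]
  obtain ⟨w, hw, w1, -⟩ := exists_third (W := W) (by have := h.four; omega) 1
  obtain ⟨y, hy, e⟩ := tr t ht w hw w hw w1 w1
  have e1 : y •ᶜ T = t •ᶜ T := by
    rw [h.conj_eq_cent (hn hy) hw w1, h.conj_eq_cent (le_normalizer ht) hw w1, e]
  have e2 : Y ⊓ 𝐍(T) = y •ᶜ (Y ⊓ 𝐍(T)) := eq_of_le_of_card_ge (by
    rw [conj_inf, conj_eq_of_mem hy, ← norm_conj, e1]; exact le_inf inf_le_left hP)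
    (by rw [card_conj])
  obtain ⟨g, hg, e3⟩ := key (y * y) (hn (mul_mem hy hy))
  have e4 : y ∉ 𝐍(T) := fun e' => t2 (by rw [← conj_eq_self_iff, ← e1, conj_eq_self_iff]; exact e')
  by_cases e5 : g ∈ 𝐍(T)
  · rw [conj_eq_of_mem_norm e5, conj_eq_self_iff] at e3
    exact e4 (mem_of_odd_sq (odd_of_mem hY hy) e3)
  · have := s3 g hg e5 (by
      rw [← e3, ← conj_conj, e1, norm_conj, e2]; exact conj_mono y hP)
    rw [← e3, ← e1, ← conj_conj, conj_inj, conj_eq_self_iff] at this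
    exact e4 this

end SzF

namespace DSE

variable (h : DSE A M)
include h

theorem exists_card : ∃ n, 2 ≤ n ∧ ♯A = 2 ^ n := by
  obtain ⟨n, hn⟩ := h.toSC.two.exists_card_eq
  refine ⟨n, ?_, hn⟩
  have := h.four
  rw [hn] at this
  exact (Nat.pow_le_pow_iff_right (a := 2) (by norm_num)).1 this

theorem relIndex_cent (ha : a ∈ A) (a1 : a ≠ 1) : (𝐂[a]).relIndex 𝐍(A) = ♯A - 1 := by
  rw [relIndex_centralizer_eq_ncard, ← ncard_sharp]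
  congr 1
  refine Set.ext fun v => ⟨?_, fun hv => ?_⟩
  · rintro ⟨l, hl, rfl⟩
    exact conj_mem_sharp hl ⟨ha, a1⟩
  · obtain ⟨g, hg, e⟩ := h.trans ha hv.1 a1 hv.2
    exact ⟨g, hg, e.symm⟩

theorem eight_le : 8 ≤ ♯A := by
  obtain ⟨n, h2, hn⟩ := h.exists_card
  rcases h2.lt_or_eq with h3 | rfl
  · exact hn ▸ Nat.pow_le_pow_right (n := 2) (by norm_num) h3
  exfalso
  have := h.simple
  have : Fact (Nat.Prime 3) := ⟨Nat.prime_three⟩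
  obtain ⟨S, hS, h1⟩ := exists_syl_ge (le_top : A ≤ ⊤) h.toSC.two
  obtain ⟨-, r, -, r3, hr⟩ := h.toSC.exists_q4 h.nab h.s3f hn hS h1
  obtain ⟨a, ha, a1⟩ := h.exists_ne
  obtain ⟨b, hb, b1, ab⟩ := exists_third (W := A) (by omega) a
  obtain ⟨Y, -, -, -, h3⟩ := h.r2
  have h4 : A ≤ 𝐂[a] := h.toSC.ab.le_cent.trans (cent_le_cent1 ha)
  have h5 : (𝐂[b]).relIndex 𝐂[a] = (𝐂[b]).relIndex (O 𝐂[a]) := by
    rw [relIndex_centralizer_eq_ncard, relIndex_centralizer_eq_ncard]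
    congr 1
    refine Set.ext fun v => ⟨?_, fun ⟨g, hg, e⟩ => ⟨g, O_le _ hg, e⟩⟩
    rintro ⟨g, hg, rfl⟩
    have h6 := h.toSC.zstar h4 hb (fun n hn => cent_le_cent1 hb
      (hr.fix n hn.2 a ha a1 (mem_cent1_iff_conj.1 hn.1))) hg
    rw [h.toSC.inv_eq hb] at h6
    obtain ⟨k, hk, e⟩ := exists_pow_conj (h.toSC.sq hb) (conj_sq (h.toSC.sq hb) g) fun e =>
      Nat.not_even_iff_odd.2 (odd_of_mem (odd_O _) h6) (even_iff_two_dvd.2 e)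
    exact ⟨k, zpowers_le.2 h6 hk, e.symm⟩
  have h6 := not_three_dvd h.s3f (h.toSC.sq hb) (odd_O 𝐂[a]) (le_norm_O le_normalizer (h4 hb))
  have h7 : 𝐂[b] ⊓ 𝐂[a] = 𝐂(A) := le_antisymm (fun x hx => four_cent h.elem hn ha hb a1 b1 ab.symm
    (mem_cent1_iff_conj.1 hx.2) (mem_cent1_iff_conj.1 hx.1))
    (le_inf (cent_le_cent1 hb) (cent_le_cent1 ha))
  rw [← h5, ← inf_relIndex_right, h7] at h6
  have h8 := relIndex_mul_relIndex 𝐂(A) 𝐂[a] M (cent_le_cent1 ha) (h.cent a ha a1)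
  rw [← relIndex_mul_relIndex 𝐂(A) 𝐍(A) M (cent_le_norm _) h.norm] at h8
  have h9 : ¬ 3 ∣ (𝐂(A)).relIndex 𝐍(A) := fun e => by
    rcases (Nat.Prime.dvd_mul Nat.prime_three).1 (h8 ▸ e.mul_right _) with e | e
    · exact h6 e
    · exact h3 a (h.A_le ha) (.of_mem ha) a1 e
  refine hr.not_mem (zpowers_le.1 (le_of_coprime_relIndex (zpowers_le.2 hr.norm)
    (norm_le_norm_cent _) ?_))
  obtain ⟨j, hj⟩ := (isPGroup_zpowers_iff.2 r3).exists_card_eq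
  exact hj ▸ ((Nat.prime_three.coprime_iff_not_dvd.2 h9).pow_left j)

theorem card_lt : ♯M + 1 ≤ Nat.card G := by
  have := card_lt_of_lt (lt_top_iff_ne_top.2 h.ne)
  rwa [card_top] at this

theorem normO (kf2 : KF2.{u}) : M ≤ 𝐍(A ⊔ O M) := by
  obtain ⟨T, hT, h1⟩ := exists_syl_ge h.A_le h.toSC.two
  obtain ⟨𝓛, hF⟩ := kf2 G A M T h.s3f (h.ky.mono h.card_lt) hT h1 h.elem
    (h.toSC.scl hT.isPGroup h1 M)
  have hO : M ≤ 𝐍(O M) := le_norm_O le_normalizer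
  have hb := inf_eq_bot_odd h.toSC.two (odd_O M)
  rcases 𝓛.eq_empty_or_nonempty with rfl | ⟨L, hL⟩
  · refine fun g hg => mem_norm_of_conj_le ?_
    rw [conj_sup, conj_eq_of_mem_norm (hO hg)]
    exact sup_le (conj_le_iff.2 fun a ha => by
      rw [sup_comm]; exact hF.a0 a ha (by simp) g hg) le_sup_right
  exfalso
  have mv : ∀ L ∈ 𝓛, ∀ W k, Cp A M L W k → ∀ w ∈ W, w ≠ 1 → ∀ g ∈ 𝐍(A), ∀ L' ∈ 𝓛,
      g •ᶜ (L ⊔ O M) = L' ⊔ O M → g * w * g⁻¹ ∉ 𝐂(L') := fun L hL W k hc w hw w1 g hg L' hL' e e1 => by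
    obtain ⟨v, hv, v1, e2⟩ := exists_third hc.four w
    obtain ⟨j, hj⟩ := hc.cyc w hw v hv w1 v1
    obtain ⟨W', k', hc'⟩ := hF.cp L' hL'
    obtain ⟨l, hl, o, ho, e3⟩ := (mem_sup_norm_right (hc'.le.trans hO)).1
      (e ▸ conj_mem_conj (mem_sup_left (pow_mem hc.kL j)) : g * k ^ j * g⁻¹ ∈ L' ⊔ O M)
    have h2 := conj_mem_of_norm hg (hc.wle hw).1
    have h3 : (g * w * g⁻¹)⁻¹ * (g * v * g⁻¹) ∈ A ⊓ O M := mem_inf.2
      ⟨mul_mem (inv_mem h2) (conj_mem_of_norm hg (hc.wle hv).1), by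
        have h4 := conj_mem_of_norm (hO (hc'.le hl))
          (mul_mem (conj_mem_of_norm' (hO (h.A_le h2)) ho) (inv_mem ho))
        have h5 : g * v * g⁻¹ = l * o * (g * w * g⁻¹) * (l * o)⁻¹ := by rw [e3, ← hj]; group
        have h6 := mem_cent_iff_conj.1 (inv_mem e1) l hl
        rw [h5]
        generalize g * w * g⁻¹ = a at *
        convert h4 using 1
        calc _ = a⁻¹ * l * a⁻¹⁻¹ * (a⁻¹ * o * a * o⁻¹) * l⁻¹ := by group
          _ = _ := by rw [h6]⟩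
    rw [hb, mem_bot, inv_mul_eq_one, mul_left_inj, mul_right_inj] at h3
    exact e2 h3.symm
  have key : ∀ L ∈ 𝓛, A ⊓ 𝐂(L) = ⊥ := fun L hL => by
    obtain ⟨W, k, hc⟩ := hF.cp L hL
    obtain ⟨w, hw, w1, -⟩ := exists_third hc.four 1
    have hw' := hc.wle hw
    have w2 : w ∉ 𝐂(L) := by simpa using mv L hL W k hc w hw w1 1 (one_mem _) L hL (one_conj _)
    have ex : ∀ a ∈ A, a ≠ 1 → ∃ L' ∈ 𝓛, a ∈ L' ⊔ O M ∧ a ∉ 𝐂(L') := fun a ha a1 => by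
      obtain ⟨g, hg, rfl⟩ := h.trans hw'.1 ha w1 a1
      obtain ⟨L', hL', e⟩ := hF.perm g (h.norm hg) L hL
      exact ⟨L', hL', e ▸ conj_mem_conj (mem_sup_left hw'.2), mv L hL W k hc w hw w1 g hg L' hL' e⟩
    rw [eq_bot_iff]
    intro c hc'
    by_contra c1
    obtain ⟨L1, hL1, -, e1⟩ := ex c hc'.1 c1
    obtain ⟨L2, hL2, e2, -⟩ := ex (c * w) (mul_mem hc'.1 hw'.1) fun e =>
      w2 (eq_inv_of_mul_eq_one_right e ▸ inv_mem hc'.2)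
    by_cases e3 : L2 = L
    · have h2 := (hF.comm L hL L1 hL1 fun e => e1 (e ▸ hc'.2)).1
      exact e1 ((mul_mem_cancel_right (h2 ⟨hw'.1, mem_sup_left hw'.2⟩)).1
        (h2 ⟨mul_mem hc'.1 hw'.1, e3 ▸ e2⟩))
    · exact w2 ((mul_mem_cancel_left (H := 𝐂(L)) hc'.2).1
        ((hF.comm L2 hL2 L hL e3).1 ⟨mul_mem hc'.1 hw'.1, e2⟩))
  obtain ⟨W, k, hc⟩ := hF.cp L hL
  have hW : W = A := le_antisymm (hc.wle.trans inf_le_left) (by simpa [key L hL] using hc.sup)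
  subst hW
  have hn : M ≤ 𝐍(L ⊔ O M) := fun g hg => by
    obtain ⟨L', hL', e⟩ := hF.perm g hg L hL
    by_cases e1 : L = L'
    · exact conj_eq_self_iff.1 (e1 ▸ e)
    obtain ⟨a, ha, a1⟩ := h.exists_ne
    exact absurd (mem_bot.1 (key L' hL' ▸
      ⟨ha, (hF.comm L hL L' hL' e1).1 ⟨ha, mem_sup_left (hc.wle ha).2⟩⟩)) a1
  obtain ⟨Z, z1, -, z2, -, -, ⟨T, n, hS, -⟩ | ⟨f, r, c, -, -, e, -⟩⟩ := hc.kind
  · have hZ : M ≤ 𝐍(Z) := (le_inf hO hn).trans z2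
    obtain ⟨Y, hY, ho, tr, -⟩ := h.r2
    refine hS.witt (Y := Y ⁒ Z) (ho.of_dvd_nat (card_quo_dvd Y Z))
      (quo_sup_of_le (hc.le.trans hZ) z1 ▸ quo_le_norm Z (hY.trans hn)) fun g hg v hv w hw v1 w1 => ?_
    obtain ⟨g, hg', g1, rfl⟩ := mem_quo.1 hg
    obtain ⟨v, hv', v2, rfl⟩ := mem_quo.1 hv
    obtain ⟨w, hw', w2, rfl⟩ := mem_quo.1 hw
    have h2 := hc.le hg'
    obtain ⟨y, hy, e⟩ := tr v (h.A_le hv') (.of_mem hv') (by rintro rfl; simp at v1) (g * w * g⁻¹)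
      (mul_mem (mul_mem h2 (h.A_le hw')) (inv_mem h2)) ((InD.of_mem hw').conj g)
      (BSW.conj_ne_one (by rintro rfl; simp at w1))
    exact ⟨_, coset_mem_quo Z hy, by rw [← coset_conj (hZ (hY hy)) v2, e, coset_conj g1 w2]⟩
  · have := h.eight_le
    omega

theorem odd_rank (hO : M ≤ 𝐍(A ⊔ O M)) (hn : ♯A = 2 ^ n) : Odd n := by
  have : Fact (Nat.Prime 3) := ⟨Nat.prime_three⟩
  obtain ⟨Y, -, -, -, h3⟩ := h.r2
  obtain ⟨a, ha, a1⟩ := h.exists_ne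
  obtain ⟨P, hP⟩ := exists_syl 3 𝐂[a]
  have h1 : Syl 3 P M := hall_singleton_iff.1 (hP.hall.trans_of_relIndex (h.cent a ha a1)
    ((isPiNum_compl_singleton Nat.prime_three).2 (h3 a (h.A_le ha) (.of_mem ha) a1)))
  obtain ⟨Q, hQ⟩ := exists_syl 3 𝐍(A)
  obtain ⟨g, hg, h2⟩ := h1.exists_le_conj' (hQ.le.trans h.norm) hQ.isPGroup
  have hn' : M ≤ 𝐍(O M) := le_norm_O le_normalizer
  have hb := inf_eq_bot_odd h.toSC.two (odd_O M)
  obtain ⟨b, hb', o, ho, e⟩ := (mem_sup_norm_right (h.A_le.trans hn')).1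
    (conj_mem_of_norm (hO hg) (mem_sup_left ha))
  have b1 : b ≠ 1 := by
    rintro rfl
    rw [one_mul] at e
    exact BSW.conj_ne_one a1 (e ▸ eq_one_of_odd_of_sq (odd_of_mem (odd_O M) ho)
      (e ▸ conj_sq (h.toSC.sq ha) g))
  have h4 : Q ≤ 𝐂[b] := fun x hx => by
    have h5 := (h2.trans (conj_mono g hP.le)) hx
    rw [← cent1_conj, ← e, mem_cent1_iff_conj] at h5
    have h6 : b⁻¹ * (x * b * x⁻¹) ∈ A ⊓ O M := mem_inf.2
      ⟨mul_mem (inv_mem hb') (conj_mem_of_norm (hQ.le hx) hb'), by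
      convert mul_mem ho (inv_mem (conj_mem_of_norm (hn' (h.norm (hQ.le hx))) ho)) using 1
      rw [eq_comm, mul_inv_eq_iff_eq_mul, eq_comm, mul_assoc, inv_mul_eq_iff_eq_mul, ← h5]
      group⟩
    rw [hb, mem_bot, inv_mul_eq_one] at h6
    exact mem_cent1_iff_conj.2 h6.symm
  by_contra e1
  obtain ⟨j, rfl⟩ := Nat.not_odd_iff_even.1 e1
  refine hQ.not_dvd (Dvd.dvd.trans ?_ (relIndex_dvd_of_le_left _ h4))
  rw [h.relIndex_cent hb' b1, hn, ← two_mul, pow_mul]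
  simpa using Nat.sub_dvd_pow_sub_pow 4 1 j

end DSE

end Cfsg.Agent.R4
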