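import Cfsg.Agent.Lib.R4.Fin45
import Cfsg.Agent.Lib.Coprime.Semidirect

/-!
# Fixed point free operator groups on `S₃`-free groups
-/

set_option autoImplicit false
set_option linter.unusedSectionVars false

namespace Cfsg.Agent.R4

open Subgroup Cfsg.Agent.Coprime Cfsg.Agent.OO Cfsg.Agent.GW Cfsg.Agent.SZ
open scoped Pointwise commutatorElement

universe u v

section

variable {X : Type u} [Group X] [Finite X] {A B L N P T V Y Γ : Subgroup X} {p : ℕ} {w x : X}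

/-- `A` acts fixed point freely on `Γ` and is `p`-nilpotent for the primes dividing `♯Γ` -/
structure Fp (Γ A : Subgroup X) : Prop where
  norm : A ≤ 𝐍(Γ)
  inf : A ⊓ Γ = ⊥
  cent : Γ ⊓ 𝐂(A) = ⊥
  pnil : ∀ (p : ℕ) [Fact p.Prime], p ∣ ♯Γ → PNil p A

namespace Fp

variable (h : Fp Γ A)
include h

theorem mono (hB : B ≤ Γ) (hn : A ≤ 𝐍(B)) : Fp B A :=
  ⟨hn, eq_bot_iff.2 ((inf_le_inf_left _ hB).trans h.inf.le),
    eq_bot_iff.2 ((inf_le_inf_right _ hB).trans h.cent.le),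
    fun p _ e => h.pnil p (e.trans (card_dvd hB))⟩

theorem sub (hB : B ≤ A) (hc : Γ ⊓ 𝐂(B) = ⊥) : Fp Γ B :=
  ⟨hB.trans h.norm, eq_bot_iff.2 ((inf_le_inf_right _ hB).trans h.inf.le), hc,
    fun p _ e => (h.pnil p e).of_le hB⟩

theorem not_dvd [Fact p.Prime] : ¬ p ∣ ♯(Γ ⊓ 𝐂(Op' p A) : Subgroup X) := fun e => by
  obtain ⟨P, hP⟩ := exists_syl p A
  have h1 := ((h.pnil p (e.trans (card_dvd inf_le_left))).sdprod hP).sup_eq
  have h2 : P ≤ 𝐍(Γ ⊓ 𝐂(Op' p A)) :=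
    hP.le.trans (le_norm_inf h.norm (le_norm_cent (Opi_normal _ A).norm))
  have hn := normalIn_sup_left h2
  obtain ⟨S, hS, hle⟩ := exists_syl_ge (le_sup_right (a := Γ ⊓ 𝐂(Op' p A))) hP.isPGroup
  refine inf_cent_ne_bot_of_isPGroup hP.isPGroup (hS.inf_normal hn).isPGroup
    (le_norm_inf (hle.trans (le_norm_self S)) h2) ((hS.inf_normal hn).ne_bot e) (eq_bot_iff.2 ?_)
  rw [← h.cent, ← h1, cent_sup, h1]
  exact fun x hx => ⟨hx.1.2.1, hx.1.2.2, hx.2⟩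

theorem gl_p [Fact p.Prime] (hp : IsPGroup p Γ) (hY : ∀ a ∈ A, ∃ g ∈ Γ, g⁻¹ * a ∈ Y) :
    ∃ g ∈ Γ, ∀ a ∈ A, g⁻¹ * a * g ∈ Y := by
  have h0 : Γ ⊓ 𝐂(Op' p A) = ⊥ := by_contra fun e =>
    h.not_dvd (dvd_card_of_isPGroup (hp.to_le inf_le_left) e)
  have h1 := (Opi_le ({p} : Set ℕ)ᶜ A).trans h.norm
  have h2 := (coprime_of_isPGroup hp (Op'_piGrp p A)).symm
  have h3 := Or.inr (a := Sol (Op' p A)) (sol_of_isPGroup hp)
  have e : ∀ a b : X, a • ((1 : X) : X ⧸ Y) = b • ((1 : X) : X ⧸ Y) ↔ b⁻¹ * a ∈ Y := fun a b => by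
    rw [eq_comm]
    simp [QuotientGroup.eq]
  obtain ⟨g, hg, h4⟩ := glauberman_exists h1 h2 h3 ((1 : X) : X ⧸ Y) fun a ha =>
    (hY a (Opi_le _ A ha)).imp fun g hg => ⟨hg.1, (e a g).2 hg.2⟩
  refine ⟨g, hg, fun a ha => ?_⟩
  obtain ⟨b, hb, h5⟩ := hY a ha
  have h6 : (a * g * a⁻¹ * b * g⁻¹) • g • ((1 : X) : X ⧸ Y) = a • g • ((1 : X) : X ⧸ Y) := by
    rw [smul_smul, inv_mul_cancel_right, mul_smul, ← (e a b).2 h5, smul_smul, inv_mul_cancel_right,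
      mul_smul]
  obtain ⟨c, hc, h7⟩ := glauberman_conj h1 h2 h3
    (mul_mem (mul_mem (conj_mem_of_norm (h.norm ha) hg) hb) (inv_mem hg)) h4 fun k hk => by
      rw [h6, smul_smul k, show k * a = a * (a⁻¹ * k * a) by group, mul_smul,
        h4 _ (conj_mem_of_norm' ((Opi_normal _ A).norm ha) hk)]
  rw [mem_bot.1 (h0.le hc), h6, one_smul, smul_smul] at h7
  rw [mul_assoc]
  first | exact (e _ _).1 h7 | exact (e _ _).1 h7.symm

theorem quo [Fact p.Prime] (hN : N ⊴ Γ) (hn : A ≤ 𝐍(N)) (hp : IsPGroup p N) :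
    Fp (Γ ⁒ N) (A ⁒ N) := by
  refine ⟨quo_le_norm N h.norm, eq_bot_iff.2 fun z hz => ?_, eq_bot_iff.2 fun z hz => ?_,
    fun q _ e => (h.pnil q (e.trans (card_quo_dvd Γ N))).quo N⟩
  · obtain ⟨a, ha, rfl⟩ := (mem_quo_of_le hn).1 hz.1
    rw [mem_bot.1 (h.inf.le ⟨ha, (coset_mem_quo_iff (hn ha) hN.le).1 hz.2⟩), coset_one]
    exact one_mem _
  obtain ⟨x, hx, rfl⟩ := (mem_quo_of_le hN.norm).1 hz.1
  have h1 := (coset_mem_cent_iff (hN.norm hx) hn).1 hz.2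
  obtain ⟨g, hg, h2⟩ := (h.mono hN.le hn).gl_p hp (Y := x •ᶜ A) fun a ha =>
    ⟨_, inv_mem (h1 a ha), by
      rw [inv_inv, commutatorElement_def, inv_mul_cancel_right]; exact conj_mem_conj ha⟩
  have h3 := mul_mem (hN.le hg) hx
  have h4 : g * x ∈ 𝐂(A) := mem_cent_iff.2 fun a ha => by
    have h5 : (g * x)⁻¹ * a * (g * x) * a⁻¹ ∈ A ⊓ Γ := ⟨A.mul_mem (by
      simpa [mul_assoc] using mem_conj.1 (h2 a ha)) (A.inv_mem ha), by
      rw [mul_assoc, mul_assoc, ← mul_assoc a]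
      exact Γ.mul_mem (Γ.inv_mem h3) (conj_mem_of_norm (h.norm ha) h3)⟩
    calc _ = g * x * ((g * x)⁻¹ * a * (g * x) * a⁻¹) * a := by group
      _ = _ := by rw [mem_bot.1 (h.inf.le h5), mul_one]
  exact coset_eq_one ((mul_mem_cancel_left hg).1 (mem_bot.1 (h.cent.le ⟨h3, h4⟩) ▸ one_mem N))

end Fp

theorem Fp.gl_aux (n : ℕ) : ∀ (X : Type u) [Group X] [Finite X] (Γ A Y : Subgroup X), ♯Γ = n →
    Fp Γ A → Sol Γ → (∀ a ∈ A, ∃ g ∈ Γ, g⁻¹ * a ∈ Y) → ∃ g ∈ Γ, ∀ a ∈ A, g⁻¹ * a * g ∈ Y := by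
  induction n using Nat.strong_induction_on with
  | _ n ih =>
  intro X _ _ Γ A Y hn h hs hY
  by_cases h0 : Γ = ⊥
  · refine ⟨1, one_mem _, fun a ha => ?_⟩
    obtain ⟨g, hg, e⟩ := hY a ha
    simpa [mem_bot.1 (h0.le hg)] using e
  obtain ⟨N, h1, h2, h3, p, hp, h4⟩ := exists_norm_abelem hs h0 (sup_le (le_norm_self Γ) h.norm)
  have := Fact.mk hp
  have hΓ := le_sup_left.trans h2
  have hA := le_sup_right.trans h2
  obtain ⟨_, hg0, h5⟩ := ih _ (hn ▸ card_quo_lt h1 h3) _ _ _ ((Y ⊓ 𝐍(N)) ⁒ N) rfl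
    (h.quo ⟨h1, hΓ⟩ hA (abelem_isPGroup h4)) (sol_quo hs N) fun z hz => by
      obtain ⟨a, ha, rfl⟩ := (mem_quo_of_le hA).1 hz
      obtain ⟨g, hg, e⟩ := hY a ha
      exact ⟨_, coset_mem_quo N hg, by
        rw [← coset_inv, ← coset_mul (inv_mem (hΓ hg)) (hA ha)]
        exact coset_mem_quo N (mem_inf.2 ⟨e, mul_mem (inv_mem (hΓ hg)) (hA ha)⟩)⟩
  obtain ⟨g, hg, rfl⟩ := (mem_quo_of_le hΓ).1 hg0
  obtain ⟨m, hm, h6⟩ := (h.mono h1 hA).gl_p (abelem_isPGroup h4) (Y := g •ᶜ Y) fun a ha => by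
    have h6 := h5 _ (coset_mem_quo N ha)
    have h7 := mul_mem (inv_mem (hΓ hg)) (hA ha)
    rw [← coset_inv, ← coset_mul (inv_mem (hΓ hg)) (hA ha), ← coset_mul h7 (hΓ hg)] at h6
    obtain ⟨y, hy, e⟩ := (mem_quo_of_le inf_le_right).1 h6
    have h8 := (coset_eq_iff hy.2 (mul_mem h7 (hΓ hg))).1 e
    refine ⟨_, conj_mem_of_norm (hΓ hg) (conj_mem_of_norm hy.2 h8), mem_conj.2 ?_⟩
    convert (mem_inf.1 hy).1 using 1
    group
  exact ⟨m * g, mul_mem (h1 hm) hg, fun a ha => by simpa [mul_assoc] using mem_conj.1 (h6 a ha)⟩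

namespace Fp

variable (h : Fp Γ A) (hs : Sol Γ)
include h hs

theorem exists_syl (p : ℕ) [Fact p.Prime] : ∃ P, Syl p P Γ ∧ A ≤ 𝐍(P) := by
  obtain ⟨P, hP⟩ := OO.exists_syl p Γ
  obtain ⟨g, hg, e⟩ := gl_aux _ X Γ A 𝐍(P) rfl h hs fun a ha => by
    obtain ⟨g, hg, e⟩ := hP.exists_conj' (hP.conj_of_norm (h.norm ha))
    exact ⟨g, hg, conj_eq_self_iff.1 (by rw [← conj_conj, e, inv_conj_conj])⟩
  exact ⟨_, hP.conj_of_mem hg, fun a ha => norm_conj g P ▸ mem_conj.2 (e a ha)⟩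

theorem eq_one (hw : w ∈ Γ) (e : ∀ a ∈ A, ∃ g ∈ Γ, g * w * g⁻¹ = a * w * a⁻¹) : w = 1 := by
  obtain ⟨g, hg, e⟩ := gl_aux _ X Γ A 𝐂[w] rfl h hs fun a ha => (e a ha).imp fun g hg =>
    ⟨hg.1, mem_cent1_iff_conj.2 (by
      rw [show g⁻¹ * a * w * (g⁻¹ * a)⁻¹ = g⁻¹ * (a * w * a⁻¹) * g by group, ← hg.2]; group)⟩
  by_contra w1
  exact conj_ne_one.2 w1 (mem_bot.1 (h.cent.le ⟨conj_mem_of_norm (le_norm_self Γ hg) hw,
    le_cent1_iff.1 fun a ha => cent1_conj g w ▸ mem_conj.2 (e a ha)⟩))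

end Fp

/-- the stabilizer of a component acts fixed point freely on it -/
theorem Fp.cmp (h : Fp Γ A) (hL : IsMinNormalBy L Γ) (hle : L ≤ Γ) (ha : ¬ Ab L) :
    Fp L (A ⊓ 𝐍(L)) := by
  classical
  refine ⟨inf_le_right, eq_bot_iff.2 ((inf_le_inf inf_le_left hle).trans h.inf.le),
    eq_bot_iff.2 fun x hx => ?_, fun p _ e => (h.pnil p (e.trans (card_dvd hle))).of_le inf_le_left⟩
  have h1 : ∀ a ∈ A, a * x * a⁻¹ = x ∨ a * x * a⁻¹ ∈ 𝐂(L) := fun a ha => by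
    by_cases e : a ∈ 𝐍(L)
    · exact .inl (mem_cent1_iff_conj.1 (le_cent1_iff.2 hx.2 ⟨ha, e⟩))
    have h2 := conj_eq_of_mem_norm (h.norm ha) ▸ hL.conj a
    refine .inr (le_cent_of_inf_eq_bot ((conj_le_of_mem_norm (h.norm ha) hle).trans hL.norm)
      (hle.trans h2.norm) (h2.inf_eq_bot_of_not_le hL.norm fun e' => e (mem_norm_of_conj_le e'))
      (conj_mem_conj hx.1))
  let s : Finset X := (Set.toFinite {y | ∃ a ∈ A, y = a * x * a⁻¹}).toFinset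
  have hs : ∀ y, y ∈ s ↔ ∃ a ∈ A, y = a * x * a⁻¹ := fun y => Set.Finite.mem_toFinset _
  have hc : (s : Set X).Pairwise (Function.onFun Commute id) := fun y hy z hz _ => by
    obtain ⟨a, ha, rfl⟩ := (hs y).1 hy
    obtain ⟨b, hb, rfl⟩ := (hs z).1 hz
    have h2 : a⁻¹ * b * x * (a⁻¹ * b)⁻¹ * x = x * (a⁻¹ * b * x * (a⁻¹ * b)⁻¹) :=
      (h1 _ (mul_mem (inv_mem ha) hb)).elim (fun e => by rw [e]) fun e => (mem_cent_iff.1 e x hx.1).symm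
    change _ * _ = _ * _
    calc _ = a * (x * (a⁻¹ * b * x * (a⁻¹ * b)⁻¹)) * a⁻¹ := by simp [mul_assoc]
      _ = _ := by rw [← h2]; simp [mul_assoc]
  have hx' : x ∈ s := (hs x).2 ⟨1, one_mem _, by simp⟩
  have h2 : s.noncommProd id hc ∈ Γ ⊓ 𝐂(A) := ⟨Γ.noncommProd_mem _ fun y hy => by
      obtain ⟨a, ha, rfl⟩ := (hs y).1 hy
      exact conj_mem_of_norm (h.norm ha) (hle hx.1), le_cent1_iff.1 fun a ha =>
    mem_cent1_iff_conj.2 (by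
      have e : s.val.map (MulAut.conj a) = s.val := (Multiset.Nodup.ext
        (s.nodup.map (MulAut.conj a).injective) s.nodup).2 fun y => by
          rw [Multiset.mem_map]
          constructor
          · rintro ⟨z, hz, rfl⟩
            obtain ⟨b, hb, rfl⟩ := (hs z).1 hz
            exact (hs _).2 ⟨a * b, mul_mem ha hb, by simp [mul_assoc]⟩
          · intro hy
            obtain ⟨b, hb, rfl⟩ := (hs y).1 hy
            exact ⟨_, (hs _).2 ⟨a⁻¹ * b, mul_mem (inv_mem ha) hb, rfl⟩, by simp [mul_assoc]⟩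
      rw [← MulAut.conj_apply, Finset.noncommProd, Multiset.map_noncommProd]
      congr 1
      simpa using e)⟩
  have h3 := Finset.mul_noncommProd_erase s hx' id hc
  rw [mem_bot.1 (h.cent.le h2), mul_eq_one_iff_eq_inv] at h3
  have h4 : id x ∈ 𝐂(L) := h3 ▸ inv_mem ((𝐂(L)).noncommProd_mem _ fun y hy => by
    obtain ⟨y1, hy⟩ := Finset.mem_erase.1 hy
    obtain ⟨a, ha, rfl⟩ := (hs y).1 hy
    exact (h1 a ha).resolve_left y1)
  exact ((hL.eq_bot_or_eq (Zc_le L) (hL.norm.trans (norm_le_norm_Zc L))).resolve_right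
    fun e => ha (Zc_eq_self_iff.1 e)).le ⟨hx.1, h4⟩

/-- the facts needed on a simple `S₃`-free group -/
theorem S3C.facts (s3c : S3C.{u}) (hΓ : Smp Γ) (ha : ¬ Ab Γ) (h3 : S3F Γ) :
    (∀ x ∈ Γ, Odd (orderOf x) → ¬ 3 ∣ orderOf x → ∃ g ∈ Γ, g * x * g⁻¹ = x⁻¹) ∧
    (∀ T, Syl 2 T Γ → ∀ v ∈ T, ∀ w ∈ T, v ≠ 1 → w ≠ 1 → v * v = 1 → w * w = 1 →
      ∃ g ∈ Γ ⊓ 𝐍(T), g * v * g⁻¹ = w) ∧
    ∀ P, Syl 3 P Γ → P ≠ ⊥ → ∃ s : ℕ, s.Prime ∧ s ≠ 3 ∧ s ∣ ♯(Γ ⊓ 𝐍(P) : Subgroup X) := by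
  have := Fact.mk Nat.prime_two
  have := Fact.mk Nat.prime_three
  have := hΓ.isSimpleGroup fun e => ha (e ▸ ab_bot)
  obtain ⟨T, hT⟩ := exists_syl 2 (⊤ : Subgroup Γ)
  refine ⟨fun x hx ho e => ?_, fun T hT v hv w hw v1 w1 v2 w2 => ?_, fun P hP h0 => ?_⟩
  · obtain ⟨W, k, hf⟩ := s3c.sf ha h3 hT
    obtain ⟨g, -, -, e⟩ := hf.real ⟨x, hx⟩ trivial (by rwa [← Subgroup.orderOf_coe])
      (by rwa [← Subgroup.orderOf_coe])
    exact ⟨g, g.2, congrArg Subtype.val e⟩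
  · obtain ⟨W, k, hf⟩ := s3c.sf ha h3 (Wal.syl_subgroupOf hT)
    obtain ⟨j, e⟩ := hf.cyc ⟨v, hT.le hv⟩ ((hf.mem _).2 ⟨hv, Subtype.ext v2⟩) ⟨w, hT.le hw⟩
      ((hf.mem _).2 ⟨hw, Subtype.ext w2⟩) (fun e => v1 (congrArg Subtype.val e))
      fun e => w1 (congrArg Subtype.val e)
    have h1 := pow_mem hf.k_norm j
    rw [← subgroupOf_normalizer_eq hT.le] at h1
    exact ⟨_, ⟨(k ^ j).2, h1⟩, congrArg Subtype.val e⟩
  have h1 := Wal.syl_subgroupOf hP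
  have h2 : P.subgroupOf Γ ≠ ⊥ := fun e => h0 (by
    rwa [subgroupOf_eq_bot, disjoint_iff, inf_eq_left.2 hP.le] at e)
  obtain ⟨W, k, n, hf⟩ | ⟨k, f, r, c, hf⟩ := s3c.kf ha h3 hT
  · exact absurd (h1.dvd_card_iff.1 (dvd_card_of_isPGroup h1.isPGroup h2)) hf.not_three
  obtain ⟨y, hy, y1⟩ := exists_mem_ne_one (Zc_ne_bot h1.nil h2)
  obtain ⟨U, hU, yU⟩ := hf.toLF.exists_uni trivial y1 (h1.piGrp.piElt hy.1)
  have h4 : P.subgroupOf Γ ≤ U := (le_inf le_top (le_cent1_iff.2 hy.2)).trans (hU.cent y yU y1).le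
  obtain rfl := le_antisymm h4 (h1.le_of_norm le_top (abelem_isPGroup hU.elem)
    (.inl (h4.trans (le_norm_self U))))
  have h5 := hU.card_norm
  have h6 := (hf.toLF.three rfl).2
  have h7 : 3 ^ 3 ≤ 3 ^ (2 * f + 1) := Nat.pow_le_pow_right (by omega) (by have := hf.one; omega)
  obtain ⟨s, hs, h8⟩ := Nat.exists_prime_and_dvd (n := r) (by omega)
  rw [top_inf_eq, ← subgroupOf_normalizer_eq hP.le, ← inf_subgroupOf_left,
    Core.card_subgroupOf_of_le inf_le_left, show 3 ^ (2 * f + 1) - 1 = 2 * r by omega,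
    mul_left_comm, Nat.mul_right_inj two_ne_zero] at h5
  exact ⟨s, hs, fun e => hf.toLF.not_dvd_r (e ▸ h8), h5 ▸ h8.mul_left _⟩

theorem Fp.sol_aux (s3c : S3C.{u}) (n : ℕ) : ∀ (X : Type u) [Group X] [Finite X] (Γ A : Subgroup X),
    ♯Γ + ♯A = n → Fp Γ A → S3F Γ → Sol Γ := by
  induction n using Nat.strong_induction_on with
  | _ n ih =>
  intro X _ _ Γ A hn h h3
  have := Fact.mk Nat.prime_two
  have := Fact.mk Nat.prime_three
  by_contra hs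
  have h1 : ∀ B C : Subgroup X, B < Γ → C ≤ A → Fp B C → Sol B := fun B C e e' hB =>
    ih _ (hn ▸ add_lt_add_of_lt_of_le (card_lt e) (card_le e')) X B C rfl hB
      (h3.of_injective _ (inclusion_injective e.le))
  have h2 : ∀ (p : ℕ) [Fact p.Prime] (V : Subgroup X), V ≤ Γ → A ≤ 𝐍(V) → IsPGroup p V → V ≠ ⊥ →
      Fp (Γ ⊓ 𝐍(V)) A ∧ Sol (Γ ⊓ 𝐍(V) : Subgroup X) := fun p _ V e1 e2 e3 e4 => by
    have h4 := h.mono inf_le_left (le_norm_inf h.norm (le_norm_norm e2))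
    refine ⟨h4, h1 _ A (inf_lt_left.2 fun e => hs ?_) le_rfl h4⟩
    exact sol_of_quo e (sol_of_isPGroup (e3.to_le inf_le_left)) (ih _
      (hn ▸ add_lt_add_of_lt_of_le (card_quo_lt e1 e4) (card_quo_le A V)) _ _ _ rfl
      (h.quo ⟨e1, e⟩ e2 e3) (h3.of_surjective _ (quoOnto_surjective e)))
  have h4 : ∀ (p : ℕ) [Fact p.Prime] (V : Subgroup X), V ≤ Γ → A ≤ 𝐍(V) → IsPGroup p V → V ≠ ⊥ →
      ∃ P, Syl p P Γ ∧ A ≤ 𝐍(P) ∧ P ≠ ⊥ := fun p _ V e1 e2 e3 e4 => by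
    obtain ⟨P, hle, hm⟩ := Finite.exists_le_maximal (p := fun P : Subgroup X =>
      P ≤ Γ ∧ A ≤ 𝐍(P) ∧ IsPGroup p P) ⟨e1, e2, e3⟩
    have h5 : P ≠ ⊥ := fun e => e4 (eq_bot_iff.2 (hle.trans e.le))
    obtain ⟨h6, h7⟩ := h2 p P hm.1.1 hm.1.2.1 hm.1.2.2 h5
    obtain ⟨Q, hQ, h8⟩ := h6.exists_syl h7 p
    have h9 := hQ.le_of_normal ⟨le_inf hm.1.1 (le_norm_self P), inf_le_right⟩ hm.1.2.2
    obtain rfl := le_antisymm h9 (hm.2 ⟨hQ.le.trans inf_le_left, h8, hQ.isPGroup⟩ h9)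
    exact ⟨P, hQ.of_syl_norm hm.1.1, h8, h5⟩
  have h5 : ∀ (p : ℕ) [Fact p.Prime] (P : Subgroup X), Syl p P Γ → A ≤ 𝐍(P) → P ≠ ⊥ →
      ∀ (s : ℕ) [Fact s.Prime], s ∣ ♯(Γ ⊓ 𝐍(P) : Subgroup X) →
      ∃ Q, Syl s Q Γ ∧ A ≤ 𝐍(Q) ∧ Q ≠ ⊥ := fun p _ P e1 e2 e3 s _ e4 => by
    obtain ⟨h6, h7⟩ := h2 p P e1.le e2 e1.isPGroup e3
    obtain ⟨Q, hQ, h8⟩ := h6.exists_syl h7 s
    exact h4 s Q (hQ.le.trans inf_le_left) h8 hQ.isPGroup (hQ.ne_bot e4)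
  have h0 : Γ ≠ ⊥ := fun e => hs (e ▸ sol_bot)
  obtain ⟨L, hL, hle⟩ := exists_minNormalBy h0 (le_norm_self Γ)
  have hL' : ¬ Sol L := fun e => by
    obtain ⟨p, hp, e⟩ := hL.exists_abelem e
    have := Fact.mk hp
    have h6 := (h2 p _ (Op_le p Γ) (le_norm_Op p h.norm) (Op_isPGroup p Γ) fun e' =>
      hL.ne_bot (eq_bot_iff.2 ((le_Op ⟨hle, hL.norm⟩ (abelem_isPGroup e)).trans e'.le))).2
    exact hs (inf_eq_left.2 (Op_normal p Γ).norm ▸ h6)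
  obtain rfl : L = Γ := by_contra fun e =>
    hL' (h1 L _ (hle.lt_of_ne e) inf_le_left (h.cmp hL hle fun e => hL' (sol_of_ab e)))
  obtain ⟨f1, f2, f3⟩ := s3c.facts (fun N hN => hL.eq_bot_or_eq hN.le hN.norm)
    (fun e => hs (sol_of_ab e)) h3
  have e2 : 2 ∣ ♯L := by_contra fun e => hs (sol_of_odd (Nat.not_even_iff_odd.1 fun e' => e e'.two_dvd))
  have h6 : ∀ T, Syl 2 T L → A ≤ 𝐍(T) → False := fun T hT hA => by
    obtain ⟨h6, h7⟩ := h2 2 T hT.le hA hT.isPGroup (hT.ne_bot e2)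
    obtain ⟨w, hw, e⟩ := cauchy Nat.prime_two (hT.dvd_card_iff.2 e2)
    have w1 : w ≠ 1 := fun e' => by simp [e'] at e
    have w2 : w * w = 1 := by rw [← sq, ← e, pow_orderOf_eq_one]
    exact w1 (h6.eq_one h7 ⟨hT.le hw, le_norm_self T hw⟩ fun a ha => f2 T hT w hw _
      (conj_mem_of_norm (hA ha) hw) w1 (conj_ne_one.2 w1) w2 (by rw [conj_mul, w2]; simp))
  have h7 : ∀ (p : ℕ) [Fact p.Prime] (P : Subgroup X), p ≠ 3 → Syl p P L → A ≤ 𝐍(P) → P ≠ ⊥ →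
      False := fun p hp P p3 hP hA e => by
    by_cases p2 : p = 2
    · exact h6 P (p2 ▸ hP) hA
    obtain ⟨x, hx, e1⟩ := cauchy hp.out (dvd_card_of_isPGroup (hP.isPGroup.to_le (Zc_le P))
      (Zc_ne_bot hP.nil e))
    have ho : Odd (orderOf x) := e1 ▸ hp.out.odd_of_ne_two p2
    obtain ⟨g, hg, e2⟩ := f1 x (hP.le hx.1) ho fun e' =>
      p3 ((Nat.prime_dvd_prime_iff_eq Nat.prime_three hp.out).1 (e1 ▸ e')).symm
    have h8 := le_cent1_iff.2 hx.2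
    obtain ⟨c, hc, e3⟩ := ((hP.conj_of_mem hg).mono (le_inf (hP.conj_of_mem hg).le (by
      rw [← cent1_inv, ← e2, cent1_conj]; exact conj_mono g h8)) inf_le_left).exists_conj'
      (hP.mono (le_inf hP.le h8) inf_le_left)
    have h9 : c * g ∈ L ⊓ 𝐍(P) := ⟨L.mul_mem hc.1 hg, conj_eq_self_iff.1 (by rw [← conj_conj, ← e3])⟩
    have h10 : c * g * x * (c * g)⁻¹ = x⁻¹ := by
      have h11 : c * x⁻¹ * c⁻¹ = x⁻¹ := mem_cent1_iff_conj.1 ((cent1_inv x).ge hc.2)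
      calc _ = c * (g * x * g⁻¹) * c⁻¹ := by group
        _ = _ := by rw [e2, h11]
    obtain ⟨T, hT, hA', -⟩ := h5 p P hP hA e 2 (Dvd.dvd.trans (by_contra fun e4 => by
      have h11 := mem_cent1_iff_conj.1 (mem_of_odd_sq (H := 𝐂[x]) (n := c * g)
        (Nat.not_even_iff_odd.1 fun e' => e4 e'.two_dvd) (mem_cent1_iff_conj.2 (by
          calc _ = c * g * (c * g * x * (c * g)⁻¹) * (c * g)⁻¹ := by group
            _ = _ := by rw [h10, ← conj_inv, h10, inv_inv])))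
      refine ho.not_two_dvd_nat ?_
      rw [e1, (Nat.prime_dvd_prime_iff_eq hp.out Nat.prime_two).1 (e1 ▸ orderOf_dvd_of_pow_eq_one
        (by rw [sq, mul_eq_one_iff_eq_inv, ← h10, h11]))]) (orderOf_dvd_card h9))
    exact h6 T hT hA'
  have h8 : ∀ B, B < L → A ≤ 𝐍(B) → B = ⊥ := fun B e1 e2 => by_contra fun e3 => by
    obtain ⟨V, e4, e5, e6, p, hp, e7⟩ := exists_norm_abelem (h1 B A e1 le_rfl (h.mono e1.le e2)) e3 e2
    have := Fact.mk hp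
    obtain ⟨P, hP, hA, e8⟩ := h4 p V (e4.trans e1.le) e5 (abelem_isPGroup e7) e6
    by_cases p3 : p = 3
    · subst p3
      obtain ⟨s, hs, s3, e9⟩ := f3 P hP e8
      have := Fact.mk hs
      obtain ⟨Q, hQ, hA', e10⟩ := h5 3 P hP hA e8 s e9
      exact h7 s Q s3 hQ hA' e10
    exact h7 p P p3 hP hA e8
  by_cases hc : (♯A).Coprime ♯L
  · obtain ⟨T, hT, hA⟩ := exists_invariant_sylow 2 h.norm hc (.inl (sol_of_odd
      (Nat.coprime_two_right.1 (hc.coprime_dvd_right e2))))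
    exact h6 T hT hA
  obtain ⟨p, hp, e3, e4⟩ := Nat.Prime.not_coprime_iff_dvd.1 hc
  have := Fact.mk hp
  have h9 : Op' p A ≤ A := Opi_le _ A
  exact hs (ih _ (hn ▸ Nat.add_lt_add_left (card_lt (h9.lt_of_ne fun e =>
    not_dvd_Op' (p := p) A (by rwa [e]))) _) X L _ rfl (h.sub h9
      (h8 _ (inf_lt_left.2 fun e => h.not_dvd (p := p) (by rwa [inf_eq_left.2 e]))
        (le_norm_inf h.norm (le_norm_cent (Opi_normal _ A).norm)))) h3)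

end

theorem fin41 (s3c : S3C.{max u v}) {G : Type u} {A : Type v} [Group G] [Finite G]
    [Group A] [Finite A] (φ : A →* MulAut G) (hfpf : ∀ g : G, (∀ a : A, φ a g = g) → g = 1)
    (hS3 : ¬ Cfsg.Involves (Equiv.Perm (Fin 3)) G)
    (hHall : ∃ H : Subgroup A, Cfsg.IsPiHall {r : ℕ | r.Prime ∧ r ∣ Nat.card G} H ∧ Group.IsNilpotent H)
    (hcomp : ∃ K : Subgroup A, K.Normal ∧ (∀ r : ℕ, r.Prime → r ∣ Nat.card K → ¬ r ∣ Nat.card G) ∧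
      ∀ r : ℕ, r.Prime → r ∣ K.index → r ∣ Nat.card G) :
    Group.IsSolvable G := by
  obtain ⟨H, ⟨-, h1⟩, h2⟩ := hHall
  obtain ⟨K, hK, h3, h4⟩ := hcomp
  have h5 : K ⊔ H = ⊤ := index_eq_one.1 (Nat.eq_one_iff_not_exists_prime_dvd.2 fun r hr e =>
    h1 r hr ⟨hr, h4 r hr (e.trans (index_dvd_of_le le_sup_left))⟩ (e.trans (index_dvd_of_le le_sup_right)))
  have h6 : ∀ B : Subgroup A, B ≤ 𝐍(K) := fun B => le_top.trans (normalIn_top.2 hK).norm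
  let e := topEquiv.symm.trans ((⊤ : Subgroup G).equivMapOfInjective
    (SemidirectProduct.inl : G →* G ⋊[φ] A) SemidirectProduct.inl_injective)
  have := Fp.sol_aux s3c _ (G ⋊[φ] A) ((⊤ : Subgroup G).map SemidirectProduct.inl)
    ((⊤ : Subgroup A).map SemidirectProduct.inr) rfl ⟨(map_inr_le_normalizer_iff φ).2 fun _ _ _ _ => trivial,
      eq_bot_iff.2 (by
        rintro _ ⟨⟨a, -, rfl⟩, g, -, e⟩
        rw [show a = 1 from (congrArg SemidirectProduct.right e).symm, map_one]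
        exact one_mem _),
      eq_bot_iff.2 (by
        rintro _ ⟨⟨g, -, rfl⟩, e⟩
        rw [hfpf g ((mem_fixedSub_top φ).1 ((inl_mem_centralizer_iff φ).1 e)), map_one]
        exact one_mem _), fun p hp e => by
      rw [card_map_inl, card_top] at e
      have h7 := (Opi_normal ({p} : Set ℕ)ᶜ H).norm
      refine PNil.map (pnil_of_relIndex (K := K ⊔ Op' p H) ⟨le_top, h5 ▸ sup_le
        (le_sup_left.trans (le_norm_self _)) (le_norm_sup (h6 H) h7)⟩ (PiGrp.sup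
        ((piGrp_compl_singleton hp.out).2 fun e' => h3 p hp.out e' e) (Op'_piGrp p H) (.inr (h6 _)))
        ((pnil_iff_relIndex.1 (pnil_of_nil p h2)).of_dvd ?_)) _
      have h8 : K ⊔ Op' p H ⊔ H = ⊤ := by
        rw [sup_assoc, show Op' p H ⊔ H = H from sup_eq_right.2 (Opi_le _ H), h5]
      rw [← h8, relIndex_sup_eq' (.inr (le_norm_sup (h6 H) h7))]
      exact relIndex_dvd_of_le_left _ le_sup_right⟩
    ((s3f_iff.2 hS3).of_surjective e.toMonoidHom e.surjective)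
  exact Group.isSolvable_of_isSolvable_injective (f := e.toMonoidHom) e.injective

end Cfsg.Agent.R4
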