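import Cfsg.Agent.Lib.R4.Hyp
import Cfsg.Agent.Lib.Core.TwoF
import Cfsg.Agent.Lib.Core.Stable

/-!
# Control of fusion by the normalizer of a strongly closed subgroup with a strongly closed central series
-/

set_option autoImplicit false

namespace Cfsg.Agent.R4

open Subgroup Cfsg.Agent.OO Cfsg.Agent.Coprime
open scoped commutatorElement Pointwise

universe u

variable {G : Type u} [Group G] {H T M Q X Y A : Subgroup G} {g k : G} {p : ℕ}

/-- `g` acts on `X` like an element of `M` -/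
def Acts (M X : Subgroup G) (g : G) : Prop := ∃ n ∈ M, ∀ x ∈ X, g * x * g⁻¹ = n * x * n⁻¹

/-- `M` controls the `H`-fusion of the subgroups of `T` -/
def Ctl (H T M : Subgroup G) : Prop := ∀ X ≤ T, ∀ h ∈ H, h •ᶜ X ≤ T → Acts M X h

/-- `Q` is strongly closed in `T` with respect to `H` -/
def SCl (H T Q : Subgroup G) : Prop := ∀ a ∈ Q, ∀ h ∈ H, h * a * h⁻¹ ∈ T → h * a * h⁻¹ ∈ Q

theorem Acts.of_mem (h : g ∈ M) : Acts M X g := ⟨g, h, fun _ _ => rfl⟩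

theorem Acts.of_cent (h : g ∈ 𝐂(X)) : Acts M X g :=
  ⟨1, one_mem _, fun x hx => by rw [mem_cent_iff_conj.1 h x hx]; simp⟩

theorem Acts.mono (h : Acts M Y g) (hX : X ≤ Y) : Acts M X g :=
  let ⟨n, hn, e⟩ := h; ⟨n, hn, fun x hx => e x (hX hx)⟩

theorem Acts.le {M' : Subgroup G} (h : Acts M X g) (hM : M ≤ M') : Acts M' X g :=
  let ⟨n, hn, e⟩ := h; ⟨n, hM hn, e⟩

theorem Acts.mul (h1 : Acts M X g) (h2 : Acts M (g •ᶜ X) k) : Acts M X (k * g) := by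
  obtain ⟨n, hn, e⟩ := h1
  obtain ⟨m, hm, e'⟩ := h2
  refine ⟨m * n, mul_mem hm hn, fun x hx => ?_⟩
  have := e' _ (conj_mem_conj hx)
  rw [show k * g * x * (k * g)⁻¹ = k * (g * x * g⁻¹) * k⁻¹ by group, this, e x hx]
  group

theorem Acts.inv (h : Acts M X g) : Acts M (g •ᶜ X) g⁻¹ := by
  obtain ⟨n, hn, e⟩ := h
  refine ⟨n⁻¹, inv_mem hn, fun y hy => ?_⟩
  obtain ⟨x, hx, rfl⟩ := mem_conj_iff_exists.1 hy
  nth_rewrite 2 [e x hx]
  group

/-- `g = n c` with `n ∈ M` and `c` centralizing `X` -/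
theorem Acts.exists_mul (h : Acts M X g) : ∃ n ∈ M, ∃ c ∈ 𝐂(X), g = n * c := by
  obtain ⟨n, hn, e⟩ := h
  refine ⟨n, hn, n⁻¹ * g, mem_cent_iff_conj.2 fun x hx => ?_, by group⟩
  rw [show n⁻¹ * g * x * (n⁻¹ * g)⁻¹ = n⁻¹ * (g * x * g⁻¹) * n by group, e x hx]
  group

theorem Acts.conj_eq (h : Acts M X g) : ∃ n ∈ M, g •ᶜ X = n •ᶜ X := by
  obtain ⟨n, hn, c, hc, rfl⟩ := h.exists_mul
  exact ⟨n, hn, by rw [← conj_conj, conj_eq_of_mem_cent hc]⟩

theorem Ctl.le {M' : Subgroup G} (h : Ctl H T M) (hM : M ≤ M') : Ctl H T M' :=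
  fun X hX g hg e => (h X hX g hg e).le hM

/-- control of the fusion of elements -/
theorem Ctl.elt (h : Ctl H T M) {x : G} (hx : x ∈ T) (hg : g ∈ H) (e : g * x * g⁻¹ ∈ T) :
    ∃ n ∈ M, g * x * g⁻¹ = n * x * n⁻¹ := by
  obtain ⟨n, hn, e'⟩ := h (zpowers x) (zpowers_le.2 hx) g hg (by rw [conj_zpowers]; exact zpowers_le.2 e)
  exact ⟨n, hn, e' x (mem_zpowers x)⟩

/-- a subgroup normalized by a group controlling fusion is strongly closed -/
theorem Ctl.scl (h : Ctl H T M) (hQ : Q ≤ T) (hM : M ≤ 𝐍(Q)) : SCl H T Q := fun a ha g hg e => by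
  obtain ⟨n, hn, e'⟩ := h.elt (hQ ha) hg e
  exact e' ▸ conj_mem_of_norm (hM hn) ha

theorem SC.scl (h : SC A) (hT : IsPGroup 2 T) (hA : A ≤ T) (H : Subgroup G) : SCl H T A :=
  fun a ha g _ e => h.cl T hT hA a ha g e

variable [Finite G]

theorem SCl.norm_inf (h : SCl H T Q) (hY : Y ≤ T) : H ⊓ 𝐍(Y) ≤ 𝐍(Y ⊓ Q) := fun _ hg =>
  mem_norm_of_conj_mem fun x hx =>
    ⟨conj_mem_of_norm hg.2 hx.1, h x hx.2 _ hg.1 (hY (conj_mem_of_norm hg.2 hx.1))⟩

theorem SCl.mem_norm (h : SCl H T Q) (hY : Y ≤ T) (hQ : Q ≤ Y) (hg : g ∈ H ⊓ 𝐍(Y)) : g ∈ 𝐍(Q) := by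
  have := h.norm_inf hY hg
  rwa [inf_eq_right.2 hQ] at this

variable [Fact p.Prime]

/-- an extremal conjugate -/
theorem exists_extremal (hT : Syl p T H) (hX : X ≤ T) :
    ∃ g ∈ H, g •ᶜ X ≤ T ∧ Syl p (T ⊓ 𝐍(g •ᶜ X)) (H ⊓ 𝐍(g •ᶜ X)) := by
  obtain ⟨P, hP, h1⟩ := exists_syl_ge (le_inf (hX.trans hT.le) le_normalizer : X ≤ H ⊓ 𝐍(X))
    (hT.isPGroup.to_le hX)
  obtain ⟨g, hg, h2⟩ := hT.exists_conj_le (hP.le.trans inf_le_left) hP.isPGroup
  have h3 := hP.conj g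
  rw [conj_inf, conj_eq_of_mem hg, ← norm_conj] at h3
  refine ⟨g, hg, (conj_mono g h1).trans h2, ?_⟩
  rwa [h3.eq_of_le (le_inf h2 (h3.le.trans inf_le_right)) (inf_le_inf_right _ hT.le)
    (hT.isPGroup.to_le inf_le_left)]

/-- reduction of control of fusion to normalizers of extremal subgroups -/
theorem ctl_of_local (hT : Syl p T H)
    (h : ∀ Y ≤ T, Syl p (T ⊓ 𝐍(Y)) (H ⊓ 𝐍(Y)) →
      (∀ X, Y < X → X ≤ T → ∀ g ∈ H, g •ᶜ X ≤ T → Acts M X g) → ∀ g ∈ H ⊓ 𝐍(Y), Acts M Y g) :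
    Ctl H T M := by
  intro X
  induction' hn : ♯T - ♯X using Nat.strong_induction_on with n ih generalizing X
  intro hX k hk hkX
  have ih' : ∀ Z W : Subgroup G, ♯Z = ♯X → Z < W → W ≤ T → ∀ g ∈ H, g •ᶜ W ≤ T → Acts M W g :=
    fun Z W e h1 h2 => by
      have h3 := card_lt_of_lt h1
      have h4 := card_le_of_le h2
      exact ih _ (by omega) W rfl h2
  obtain ⟨g, hg, h1, h2⟩ := exists_extremal hT hX
  have loc := h _ h1 h2 fun W => ih' _ W (card_conj _ _)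
  have key : ∀ a ∈ H, a •ᶜ X ≤ T → ∃ b ∈ H, b •ᶜ a •ᶜ X = g •ᶜ X ∧ Acts M (a •ᶜ X) b := by
    intro a ha h3
    rcases h3.lt_or_eq with h4 | h4
    · have e : (g * a⁻¹) •ᶜ a •ᶜ X = g •ᶜ X := by rw [conj_conj, inv_mul_cancel_right]
      have ha' := mul_mem hg (inv_mem ha)
      obtain ⟨m, hm, h5⟩ := h2.exists_conj_le (Q := (g * a⁻¹) •ᶜ (T ⊓ 𝐍(a •ᶜ X))) (by
        rw [conj_inf, ← norm_conj, e]
        exact inf_le_inf_right _ (conj_le_of_mem ha' hT.le))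
        (isPGroup_conj.2 (hT.isPGroup.to_le inf_le_left))
      rw [conj_conj] at h5
      refine ⟨_, mul_mem hm.1 ha', by rw [← conj_conj, e, conj_eq_of_mem_norm hm.2], ?_⟩
      have h6 := PGrp.lt_inf_normalizer hT.isPGroup h4
      exact (ih' _ _ (card_conj _ _) h6 inf_le_left _ (mul_mem hm.1 ha')
        (h5.trans inf_le_left)).mono h6.le
    · refine ⟨1, one_mem _, ?_, .of_mem (one_mem _)⟩
      rw [conj_conj, one_mul, h4]
      exact (eq_of_le_of_card_ge h1 (by rw [← h4, card_conj, card_conj])).symm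
  obtain ⟨b, hb, e1, a1⟩ := key 1 (one_mem _) (by simpa using hX)
  obtain ⟨c, hc, e2, a2⟩ := key k hk hkX
  rw [conj_conj, mul_one] at e1
  have a3 := loc (c * k * b⁻¹) ⟨H.mul_mem (mul_mem hc hk) (H.inv_mem hb), conj_eq_self_iff.1 (by
    rw [← e1, conj_conj, inv_mul_cancel_right, ← conj_conj, e2, e1])⟩
  have a4 := (show Acts M X b by simpa using a1).mul (e1 ▸ a3)
  have a5 := a4.mul (k := c⁻¹) (by
    rw [inv_mul_cancel_right, ← conj_conj]; exact a2.inv)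
  simpa [mul_assoc] using a5

/-- the chain lemma -/
theorem fus (hT : Syl p T H) (c : ℕ → Subgroup G) (k : ℕ) (h0 : c 0 = ⊥) (hQ : c k ≤ T)
    (hs : ∀ i ≤ k, SCl H T (c i)) (hc : ∀ i < k, ⁅c (i + 1), c k⁆ ≤ c i) :
    Ctl H T (H ⊓ 𝐍(c k)) := by
  refine ctl_of_local hT fun Y hY hS ih g hg => ?_
  by_cases hle : c k ≤ Y
  · exact .of_mem ⟨hg.1, (hs k le_rfl).mem_norm hY hle hg⟩
  have hTQ : T ≤ 𝐍(c k) := fun t ht => (hs k le_rfl).mem_norm le_rfl hQ ⟨hT.le ht, le_normalizer ht⟩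
  set N := H ⊓ 𝐍(Y) with hN
  set d : ℕ → Subgroup G := fun i => if i ≤ k then Y ⊓ c i else Y with hd
  have hdn : ∀ i, N ≤ 𝐍(d i) := fun i => by
    by_cases e : i ≤ k
    · simp only [hd, if_pos e]; exact (hs i e).norm_inf hY
    · simp only [hd, if_neg e]; exact inf_le_right
  have hdY : ∀ i, d i ≤ Y := fun i => by
    by_cases e : i ≤ k
    · simp only [hd, if_pos e]; exact inf_le_left
    · simp only [hd, if_neg e]; exact le_rfl
  set K := N ⊓ ⨅ i : Fin (k + 1), Core.relCentralizer (d (i + 1)) (d i) with hK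
  have hKN : K ⊴ N := ⟨inf_le_left, le_norm_inf le_normalizer
    (le_norm_iInf fun i => Core.le_normalizer_relCentralizer (hdn _) (hdn _))⟩
  have h1 : c k ⊓ 𝐍(Y) ≤ K := fun x hx => by
    have hxN : x ∈ N := ⟨hT.le (hQ hx.1), hx.2⟩
    refine ⟨hxN, mem_iInf.2 fun i => ⟨hdn _ hxN, fun b hb => ?_⟩⟩
    have h2 : ⁅b, x⁆ ∈ Y := commutator_le_of_le_normalizer inf_le_right
      (commutator_mem_commutator (hdY _ hb) hx)
    have hi : (i : ℕ) ≤ k := Nat.lt_succ_iff.1 i.2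
    simp only [hd, if_pos hi]
    refine ⟨h2, ?_⟩
    rcases hi.lt_or_eq with h3 | h3
    · simp only [hd, if_pos (Nat.succ_le_of_lt h3)] at hb
      exact hc i h3 (commutator_mem_commutator hb.2 hx.1)
    · rw [h3, commutatorElement_def]
      exact (c k).mul_mem (conj_mem_of_norm (hTQ (hY (hdY _ hb))) hx.1) ((c k).inv_mem hx.1)
  have h2 : ∀ x ∈ K, (orderOf x).Coprime p → x ∈ 𝐂(Y) := fun x hx ho => by
    have h3 : ∀ i ≤ k + 1, zpowers x ≤ 𝐂(d i) := fun i => by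
      induction' i with i ih
      · intro _; simp [hd, h0]
      intro hi
      refine le_centralizer_of_commutator_le (N := d i) (commutator_le.2 fun b hb y hy => ?_)
        (ih (by omega)) (coprime_card_of_isPGroup (by rwa [Nat.card_zpowers])
          (hT.isPGroup.to_le ((hdY i).trans hY)))
      exact (mem_iInf.1 (zpowers_le.2 hx hy).2 ⟨i, by omega⟩).2 b hb
    have := h3 (k + 1) le_rfl (mem_zpowers x)
    simpa [hd] using this
  have h3 := hS.inf_normal hKN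
  set T₀ := T ⊓ 𝐍(Y) ⊓ K with hT₀
  obtain ⟨a, ha, n, hn, rfl⟩ := (h3.frattini hKN).mem_iff.1 hg
  obtain ⟨u, hu, v, hv, rfl⟩ := h3.toTransfer.exists_mul_of_coprime_mem
    (hKN.1.trans (inf_le_right.trans (norm_le_norm_cent Y))) h2 ha
  have h4 : Y < Y ⊔ T₀ := lt_of_le_of_ne le_sup_left fun e => by
    have h5 : Y < Y ⊔ c k := lt_of_le_of_ne le_sup_left fun e => hle (e ▸ le_sup_right)
    have h6 := PGrp.lt_inf_normalizer (hT.isPGroup.to_le (sup_le hY hQ)) h5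
    refine h6.not_ge fun x hx => ?_
    obtain ⟨y, hy, z, hz, rfl⟩ := (IsProd.of_norm (Or.inl (hY.trans hTQ))).mem_iff.1 hx.1
    have h7 : z ∈ 𝐍(Y) := (mul_mem_cancel_left (le_normalizer hy)).1 hx.2
    exact mul_mem hy (e ▸ (le_sup_right : T₀ ≤ Y ⊔ T₀) ⟨⟨hQ hz, h7⟩, h1 ⟨hz, h7⟩⟩)
  have h5 : Y ⊔ T₀ ≤ T := sup_le hY (inf_le_left.trans inf_le_left)
  have a1 := (ih _ h4 h5 n hn.1.1 ((conj_eq_of_mem_norm (mem_norm_sup hn.1.2 hn.2)).le.trans h5)).mono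
    h4.le
  have a2 := a1.mul (k := v) (by rw [conj_eq_of_mem_norm hn.1.2]; exact .of_cent hv)
  rw [mul_assoc]
  exact a2.mul (.of_mem ⟨hT.le hu.1.1, hTQ hu.1.1⟩)

/-- the normalizer of a strongly closed abelian subgroup controls fusion -/
theorem fus_ab (hT : Syl p T H) (hQ : Q ≤ T) (hs : SCl H T Q) (ha : Ab Q) : Ctl H T (H ⊓ 𝐍(Q)) :=
  fus hT (fun i => if i = 0 then ⊥ else Q) 1 rfl hQ (fun i _ => by
    by_cases e : i = 0
    · simp only [if_pos e]; intro a ha g _ _; rw [mem_bot.1 ha]; simp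
    · simp only [if_neg e]; exact hs) fun i hi => by
    obtain rfl : i = 0 := by omega
    exact (PGrp.isMulCommutative_iff_commutator_eq_bot.1 ha).le

/-- `N(A)` controls fusion -/
theorem SC.ctl (h : SC A) (hT : Syl 2 T H) (hA : A ≤ T) : Ctl H T (H ⊓ 𝐍(A)) :=
  fus_ab hT hA (h.scl hT.isPGroup hA H) h.elem.1

end Cfsg.Agent.R4
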