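import Cfsg.Agent.Lib.R4.KF2b

/-!
# The action of a strongly closed subgroup on a component of `H / O(H)`
-/

set_option autoImplicit false
set_option linter.unusedSectionVars false

namespace Cfsg.Agent.R4

open Subgroup Cfsg.Agent.OO Cfsg.Agent.Coprime Cfsg.Agent.SZ Cfsg.Agent.GW Cfsg.Agent.W4
  Cfsg.Agent.Wal
open scoped commutatorElement Pointwise

universe u

variable {G : Type u} [Group G] [Finite G] {A H L N T W Y : Subgroup G} {a g k w x : G}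

theorem SCl.quo (h : SCl H T A) (hT : Syl 2 T H) (hA : A ≤ T) (hN : N ⊴ H) :
    SCl (H ⁒ N) (T ⁒ N) (A ⁒ N) := by
  have := Fact.mk Nat.prime_two
  intro a ha' g hg' e
  obtain ⟨a, ha, h1, rfl⟩ := mem_quo.1 ha'
  obtain ⟨g, hg, h2, rfl⟩ := mem_quo.1 hg'
  have hTN := hT.le.trans hN.norm
  have h3 := mul_mem (mul_mem h2 h1) (inv_mem h2)
  rw [← coset_conj h2 h1, ← quo_sup_self hTN, coset_mem_quo_iff h3 le_sup_right] at e
  obtain ⟨y, hy, h4⟩ := (hT.mono le_sup_left (sup_le hT.le hN.le)).exists_conj_le (zpowers_le.2 e)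
    (isPGroup_zpowers_iff.2 ((hT.piGrp.piElt (hA ha)).conj g))
  obtain ⟨t, ht, n, hn, rfl⟩ := (mem_sup_norm_right hTN).1 hy
  have h5 := h a ha (t * n * g) (H.mul_mem (H.mul_mem (hT.le ht) (hN.le hn)) hg) (by
    simpa [mul_assoc] using h4 (conj_mem_conj (mem_zpowers _)))
  have h6 := coset_mem_quo N (h _ h5 t⁻¹ (H.inv_mem (hT.le ht))
    (T.mul_mem (T.mul_mem (T.inv_mem ht) (hA h5)) (T.inv_mem (T.inv_mem ht))))
  rwa [show t⁻¹ * (t * n * g * a * (t * n * g)⁻¹) * t⁻¹⁻¹ = n * (g * a * g⁻¹) * n⁻¹ by group,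
    coset_conj (le_normalizer hn) h3, coset_eq_one hn, one_mul, inv_one, mul_one, coset_conj h2 h1] at h6

theorem mem_norm_preZ {K : Subgroup (Coset N)} (hg : g ∈ 𝐍(N) ⊓ 𝐍(quoPre N K)) :
    g ∈ 𝐍(quoPre N (Zc K)) := by
  rw [← quoPre_norm] at hg
  exact ((quoPre_norm (Zc K)).le (quoPre_mono (norm_le_norm_Zc K) hg)).2

theorem preZ_normal (K : Subgroup (Coset N)) : quoPre N (Zc K) ⊴ quoPre N K :=
  quoPre_normal_iff.2 (Zc_normal K)

theorem coset_cent_iff {K : Subgroup (Coset N)} (hK : der K = K) (hg : g ∈ 𝐍(N) ⊓ 𝐍(quoPre N K)) :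
    coset (quoPre N (Zc K)) g ∈ 𝐂(quoPre N K ⁒ quoPre N (Zc K)) ↔ coset N g ∈ 𝐂(K) := by
  rw [coset_mem_cent_iff (mem_norm_preZ hg) (preZ_normal K).norm]
  refine ⟨fun e => CM_Zc_le hK ⟨norm_le_norm_Zc K (mem_quoPre.1 ((quoPre_norm K).ge hg)).2,
    fun b hb => ?_⟩, fun e b hb => le_quoPre _ ?_⟩
  · obtain ⟨b, h1, rfl⟩ := exists_coset N b
    exact coset_commutator hg.1 h1 ▸ (mem_quoPre.1 (e b (mem_quoPre.2 ⟨h1, hb⟩))).2
  · rw [← quo_quoPre K, coset_mem_cent_iff hg.1 (quoPre_le_norm K)] at e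
    exact e b hb

/-- the hypotheses of `KF2` -/
structure K2H (A H T : Subgroup G) : Prop where
  kf1 : KF1.{u}
  s3f : S3F G
  ky : KY.{u} (♯H + 1)
  syl : Syl 2 T H
  le : A ≤ T
  elem : IsElementaryAbelian 2 A
  scl : SCl H T A

/-- the complement `W` of the centralizer of the component `K` in `A` -/
structure Pre (A H T : Subgroup G) (K : Subgroup (Coset (O H))) (W : Subgroup G) (k : G) : Prop where
  kk : KK (quoPre (O H) K ⁒ quoPre (O H) (Zc K)) ((T ⊓ quoPre (O H) K) ⁒ quoPre (O H) (Zc K))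
    (W ⁒ quoPre (O H) (Zc K)) (coset (quoPre (O H) (Zc K)) k)
  wle : W ≤ A ⊓ quoPre (O H) K
  inf : quoPre (O H) (Zc K) ⊓ W = ⊥
  sup : A ≤ W ⊔ A ⊓ quoPre (O H) 𝐂(K)
  kmem : k ∈ quoPre (O H) K
  kW : k ∈ 𝐍(W)

namespace K2H

variable (h : K2H A H T)
include h

theorem leH : A ≤ H := h.le.trans h.syl.le

theorem leN : A ≤ 𝐍(O H) := h.leH.trans (O_norm H)

theorem sq (ha : a ∈ A) : a * a = 1 := by rw [← pow_two, h.elem.2 a ha]

theorem two : IsPGroup 2 A := h.syl.isPGroup.to_le h.le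

theorem b2 : B2 (H ⁒ O H) (T ⁒ O H) (A ⁒ O H) :=
  ⟨O_quo H, h.syl.quo (O_norm H), quo_mono _ h.le, abelem_quo h.elem _,
    h.scl.quo h.syl h.le (Opi_normal _ H), fun _ hK =>
      (cmp_kk h.kf1 (s3f_coset h.s3f _) (h.ky.mono (Nat.succ_le_succ (card_quo_le _ _))) hK
        (syl_inf_of_subnormal (h.syl.quo (O_norm H)) hK.1)).imp fun _ e => e.imp fun _ e => e.sf⟩

variable {K : Subgroup (Coset (O H))} (hK : Cmp (H ⁒ O H) K)
include hK

omit h in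
theorem pre_le : quoPre (O H) K ≤ H := quoPre_le_of_le (Opi_normal _ H) hK.le

theorem syl_pre : Syl 2 (T ⊓ quoPre (O H) K) (quoPre (O H) K) := by
  have := Fact.mk Nat.prime_two
  refine (hall_of_quo_of_compl (normalIn_quoPre K) (Op'_piGrp 2 H) inf_le_right
    (h.syl.piGrp.of_le inf_le_left) ?_).syl
  rw [inf_quoPre_quo, quo_quoPre]
  exact (syl_inf_of_subnormal h.b2.syl hK.1).hall

theorem norm_pre : A ≤ 𝐍(O H) ⊓ 𝐍(quoPre (O H) K) :=
  le_inf h.leN (le_norm_quoPre h.leN (h.b2.le_norm hK))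

omit hK in
theorem mem_W {Z : Subgroup G} {V : Subgroup (Coset Z)} {k : Coset Z}
    (hF : SF (quoPre (O H) K ⁒ Z) ((T ⊓ quoPre (O H) K) ⁒ Z) V k) (hZ : Z ⊴ quoPre (O H) K)
    (ha : a ∈ A ⊓ quoPre (O H) K) : coset Z a ∈ V :=
  (hF.mem _).2 ⟨coset_mem_quo _ ⟨h.le ha.1, ha.2⟩, by
    rw [← coset_mul (hZ.norm ha.2) (hZ.norm ha.2), h.sq ha.1, coset_one]⟩

theorem split {V : Subgroup (Coset (quoPre (O H) (Zc K)))} {k : Coset (quoPre (O H) (Zc K))}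
    (hF : SF (quoPre (O H) K ⁒ _) ((T ⊓ quoPre (O H) K) ⁒ _) V k) (ha : a ∈ A) :
    ∃ w ∈ V, w⁻¹ * coset _ a ∈ 𝐂(quoPre (O H) K ⁒ quoPre (O H) (Zc K)) :=
  have h1 := h.norm_pre hK ha
  hF.inv_split (coset_mem_norm _ h1.2) (coset_mem_norm _ (mem_norm_inf (le_norm_self T (h.le ha)) h1.2))
    (by rw [← coset_mul (mem_norm_preZ h1) (mem_norm_preZ h1), h.sq ha, coset_one])

theorem exists_pre (hm : ¬ A ⁒ O H ≤ 𝐂(K)) : ∃ W k, Pre A H T K W k := by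
  have hb := h.b2
  have hZ := preZ_normal K
  have hN := quoPre_le_norm K
  have hO : O H ≤ quoPre (O H) (Zc K) := le_quoPre _
  obtain ⟨V, k, hk⟩ := exists_kk h.kf1 (s3f_coset h.s3f _) h.ky
    (Nat.lt_succ_of_le ((card_quo_le _ _).trans (card_le (pre_le hK))))
    (smp_quo hZ fun M hM e => (Core.le_centralizer_or_eq_of_isQuasisimple hK.2
      (quo_quoPre K ▸ (hM.quo (O H)).le) (quo_quoPre K ▸ (hM.quo (O H)).norm)).imp
        (fun e' => (quo_le_iff_le_quoPre (hM.le.trans hN)).1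
          (le_inf (quo_quoPre K ▸ (hM.quo (O H)).le) e'))
        fun e' => (quo_le_quo_iff hN (hO.trans e)).1 (by rw [e', quo_quoPre]))
    (fun e => hK.not_ab (ab_of_le (Zc_ab K) (by
      have := quo_mono (O H) ((ab_quo_iff hZ.norm).1 e)
      rwa [quo_der hN, quo_quoPre, quo_quoPre, hK.der_eq] at this)))
    ((h.syl_pre hK).quo hZ.norm)
  have hF := hk.sf
  obtain ⟨k0, h0, -, rfl⟩ := mem_quo.1 hF.k_mem
  have h1 : coset (O H) k0 ∈ 𝐍(T ⁒ O H ⊓ K) := by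
    have := coset_mem_norm (O H) (zpowers_le.1 (le_norm_sup_of_quo (zpowers_le.2 (hZ.norm h0))
      (inf_le_right.trans hZ.norm) (by rw [quo_zpowers (hZ.norm h0), zpowers_le]; exact hF.k_norm)))
    rwa [quo_sup (inf_le_right.trans hN) (quoPre_le_norm _), inf_quoPre_quo, quo_quoPre,
      sup_eq_left.2 (hb.Zc_normal' hK).le] at this
  obtain ⟨k1, h2, e1⟩ := exists_norm_lift (O_norm H) (odd_O H) h.leH h.two (pre_le hK h0)
    (hb.normA hK ⟨(mem_quoPre.1 h0).2, h1⟩)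
  have h3 : k1 ∈ quoPre (O H) K := mem_quoPre.2 ⟨O_norm H h2.1, e1 ▸ (mem_quoPre.1 h0).2⟩
  obtain ⟨k, ⟨h4, h5⟩, -, h6, e2⟩ := exists_piElt_coset_eq (H := quoPre (O H) K ⊓ 𝐍(A))
    (((coset_eq_iff (hZ.norm h3) (hZ.norm h0)).2 (hO ((coset_eq_iff (hN h3) (hN h0)).1 e1))) ▸
      coset_mem_quo _ ⟨h3, h2.2⟩) ((isPiNum_compl_singleton Nat.prime_two).2 hF.odd_k.not_two_dvd_nat)
  rw [← e2] at hk hF
  have hco : (♯A).Coprime ♯(zpowers k) := (piGrp_singleton h.two).coprime (piGrp_zpowers.2 h6)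
  have hC : A ⊓ 𝐂(zpowers k) = A ⊓ quoPre (O H) 𝐂(K) := by
    refine le_antisymm (fun a ha => ⟨ha.1, mem_quoPre.2 ⟨h.leN ha.1, ?g1⟩⟩) fun a ha => mem_inf.2 ⟨ha.1, ?g2⟩
    case g1 =>
      obtain ⟨w, hw, e⟩ := h.split hK hF ha.1
      have h7 := mem_norm_preZ (h.norm_pre hK ha.1)
      have h8 := mem_cent_iff.1 e _ hF.k_mem
      rw [mul_assoc, ← coset_mul h7 (hZ.norm h4), ← mem_cent_iff.1 ha.2 k (mem_zpowers k),
        coset_mul (hZ.norm h4) h7, ← mul_assoc, ← mul_assoc, mul_left_inj] at h8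
      rw [hF.fpf (inv_mem hw) h8, one_mul] at e
      exact (coset_cent_iff hK.der_eq (h.norm_pre hK ha.1)).1 e
    case g2 =>
      rw [cent_zpowers, mem_cent1, ← commutatorElement_eq_one_iff_mul_comm]
      refine mem_bot.1 ((inf_eq_bot_odd h.two (odd_O H)).le ⟨?_, ?_⟩)
      · simpa [commutatorElement_def, mul_assoc] using
          A.mul_mem ha.1 (conj_mem_of_norm h5 (A.inv_mem ha.1))
      · exact (mem_quoPre_cent hN).1 (by rw [quo_quoPre]; exact ha.2) |>.2 k h4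
  have hW : ⁅A, zpowers k⁆ ≤ A ⊓ quoPre (O H) K := le_inf (commutator_le_left' (zpowers_le.2 h5))
    (commutator_le_of_norm ((h.norm_pre hK).trans inf_le_right) (zpowers_le.2 h4))
  have h7 : quoPre (O H) (Zc K) ⊓ ⁅A, zpowers k⁆ = ⊥ := eq_bot_iff.2 fun w hw =>
    (coprime_abel_cent_TI (zpowers_le.2 h5) hco h.elem.1).le
      ⟨hw.2, (hC.ge ⟨(hW hw.2).1, quoPre_mono (Zc_le_cent K) hw.1⟩).2⟩
  have h8 := coprime_cent_prod (zpowers_le.2 h5) hco (.inl (sol_of_ab h.elem.1))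
  have h9 := zpowers_le.1 (le_norm_commutator_right A (zpowers k))
  refine ⟨_, k, ?_, hW, h7, hC ▸ h8.ge, h4, h9⟩
  rwa [hF.eq_W (V := ⁅A, zpowers k⁆ ⁒ _) (fun w hw' => by
    obtain ⟨w, hw, -, rfl⟩ := mem_quo.1 hw'
    exact h.mem_W hF hZ (hW hw)) (quo_ne_bot ((hW.trans inf_le_right).trans hZ.norm) fun e => hm ?_)
    (coset_mem_norm _ h9)]
  rw [inf_eq_right.2 e] at h7
  rw [h7, hC, bot_sup_eq] at h8
  exact (quo_le_iff_le_quoPre h.leN).2 (h8.ge.trans inf_le_right)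

end K2H

end Cfsg.Agent.R4
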