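import Cfsg.Agent.Lib.CIT.SzA
import Cfsg.Agent.Lib.BSW.Main
import Cfsg.Agent.Lib.R4.Hyp

/-!
# Elements of odd order of the Suzuki groups are real
-/

set_option autoImplicit false
set_option linter.unusedSectionVars false

namespace Cfsg.Agent.R4

open Subgroup Cfsg.Agent.Coprime Cfsg.Agent.OO Matrix BSW.SzM CIT
open scoped Pointwise

universe u

section

variable {F : Type} [Field F] (M : Matrix (Fin 4) (Fin 4) F)

/-- second coefficient of the characteristic polynomial -/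
def e2 : F := M 0 0 * M 1 1 - M 0 1 * M 1 0 + (M 0 0 * M 2 2 - M 0 2 * M 2 0) +
  (M 0 0 * M 3 3 - M 0 3 * M 3 0) + (M 1 1 * M 2 2 - M 1 2 * M 2 1) +
  (M 1 1 * M 3 3 - M 1 3 * M 3 1) + (M 2 2 * M 3 3 - M 2 3 * M 3 2)

/-- a principal minor -/
def m3 (i j k : Fin 4) : F := M i i * M j j * M k k - M i i * M j k * M k j - M i j * M j i * M k k +
  M i j * M j k * M k i + M i k * M j i * M k j - M i k * M j j * M k i

/-- third coefficient of the characteristic polynomial -/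
def e3 : F := m3 M 0 1 2 + m3 M 0 1 3 + m3 M 0 2 3 + m3 M 1 2 3

theorem det4 : M.det = M 0 0 * m3 M 1 2 3 -
    M 0 1 * (M 1 0 * (M 2 2 * M 3 3 - M 2 3 * M 3 2) - M 1 2 * (M 2 0 * M 3 3 - M 2 3 * M 3 0) +
      M 1 3 * (M 2 0 * M 3 2 - M 2 2 * M 3 0)) +
    M 0 2 * (M 1 0 * (M 2 1 * M 3 3 - M 2 3 * M 3 1) - M 1 1 * (M 2 0 * M 3 3 - M 2 3 * M 3 0) +
      M 1 3 * (M 2 0 * M 3 1 - M 2 1 * M 3 0)) -
    M 0 3 * (M 1 0 * (M 2 1 * M 3 2 - M 2 2 * M 3 1) - M 1 1 * (M 2 0 * M 3 2 - M 2 2 * M 3 0) +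
      M 1 2 * (M 2 0 * M 3 1 - M 2 1 * M 3 0)) := by
  simp [det_succ_row_zero, Fin.sum_univ_succ, Fin.succAbove, m3]
  ring

theorem tr4 : M.trace = M 0 0 + M 1 1 + M 2 2 + M 3 3 := by
  simp [Matrix.trace, Fin.sum_univ_four]

set_option maxHeartbeats 1000000 in
theorem ch4 : M ^ 4 = M.trace • M ^ 3 - e2 M • M ^ 2 + e3 M • M - M.det • 1 := by
  rw [det4, tr4]
  ext i j
  fin_cases i <;> fin_cases j <;>
    simp [pow_succ, Matrix.mul_apply, Fin.sum_univ_four, e2, e3, m3] <;> ring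

theorem tr2 : (M ^ 2).trace = M.trace ^ 2 - 2 * e2 M := by
  simp [pow_succ, Matrix.mul_apply, Fin.sum_univ_four, tr4, e2]
  ring

theorem tr3 : (M ^ 3).trace = M.trace ^ 3 - 3 * M.trace * e2 M + 3 * e3 M := by
  simp [pow_succ, Matrix.mul_apply, Fin.sum_univ_four, tr4, e2, e3, m3]
  ring

variable {M} in
theorem tr_pow {N : Matrix (Fin 4) (Fin 4) F} (h1 : M.trace = N.trace) (h2 : e2 M = e2 N)
    (h3 : e3 M = e3 N) (h4 : M.det = N.det) (n : ℕ) : (M ^ n).trace = (N ^ n).trace := by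
  induction n using Nat.strong_induction_on with
  | _ n ih =>
  match n, ih with
  | 0, _ => simp
  | 1, _ => simpa using h1
  | 2, _ => rw [tr2, tr2, h1, h2]
  | 3, _ => rw [tr3, tr3, h1, h2, h3]
  | n + 4, ih =>
    have k : ∀ X : Matrix (Fin 4) (Fin 4) F, (X ^ (n + 4)).trace = X.trace * (X ^ (n + 3)).trace -
        e2 X * (X ^ (n + 2)).trace + e3 X * (X ^ (n + 1)).trace - X.det * (X ^ n).trace := fun X => by
      rw [pow_add, ch4]
      simp [mul_add, mul_sub, ← pow_add, ← pow_succ]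
    rw [k, k, h1, h2, h3, h4, ih _ (by omega), ih (n + 2) (by omega), ih (n + 1) (by omega),
      ih n (by omega)]

variable [CharP F 2] {θ : F ≃+* F}

/-- the shape of the characteristic polynomial of an element of a Suzuki group -/
def Chi (θ : F ≃+* F) (M : Matrix (Fin 4) (Fin 4) F) : Prop :=
  e2 M = θ M.trace ∧ e3 M = M.trace ∧ M.det = 1

theorem chi1 (hθ : ∀ x, θ (θ x) = x ^ 2) (x y : F) {κ : F} (h : κ ≠ 0) :
    Chi θ (Sm θ x y * Dm θ κ) := by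
  have h' : θ κ ≠ 0 := by simpa using h
  refine ⟨?_, ?_, ?_⟩
  · simp [tr4, e2, Sm, Dm, Matrix.mul_apply, Fin.sum_univ_four, hθ]
    field_simp
    linear_combination (norm := (ring_nf; reduce_mod_char!))
  · simp [tr4, e3, m3, Sm, Dm, Matrix.mul_apply, Fin.sum_univ_four]
    field_simp
  · simp [det4, m3, Sm, Dm]
    field_simp

theorem chi2 (hθ : ∀ x, θ (θ x) = x ^ 2) (x y : F) {κ : F} (h : κ ≠ 0) :
    Chi θ (Wm * Sm θ x y * Dm θ κ) := by
  have h' : θ κ ≠ 0 := by simpa using h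
  refine ⟨?_, ?_, ?_⟩
  · simp [tr4, e2, Sm, Dm, Wm, Matrix.mul_apply, Fin.sum_univ_four, hθ]
    field_simp
    linear_combination (norm := (ring_nf; reduce_mod_char!))
  · simp [tr4, e3, m3, Sm, Dm, Wm, Matrix.mul_apply, Fin.sum_univ_four]
    field_simp
    linear_combination (norm := (ring_nf; reduce_mod_char!))
  · simp [det4, m3, Sm, Dm, Wm]
    field_simp

theorem Chi.pow4 {M : Matrix (Fin 4) (Fin 4) F} (h : Chi θ M) (h0 : M.trace = 0) : M ^ 4 = 1 := by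
  rw [ch4, h.1, h.2.1, h.2.2, h0]
  ext i j
  simp [CharTwo.neg_eq]

theorem Chi.tr_pow {M N : Matrix (Fin 4) (Fin 4) F} (h : Chi θ M) (h' : Chi θ N)
    (e : M.trace = N.trace) (n : ℕ) : (M ^ n).trace = (N ^ n).trace :=
  R4.tr_pow e (by rw [h.1, h'.1, e]) (by rw [h.2.1, h'.2.1, e]) (by rw [h.2.2, h'.2.2]) n

variable {H : Type u} [Group H] {ρ : H →* Matrix (Fin 4) (Fin 4) F} {s : F → F → H} {d : F → H}
  {w : H}

theorem chi_conj (h : SzD θ ρ s d w) (g : H) : ∃ c : H, Chi θ (ρ (c * g * c⁻¹)) := by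
  obtain ⟨x, y, x', y', κ, h0, rfl | rfl⟩ := h.br g
  · exact ⟨1, by simpa [h.ρs, h.ρd _ h0] using chi1 h.sq x y h0⟩
  · refine ⟨(s x y)⁻¹, ?_⟩
    rw [show (s x y)⁻¹ * (s x y * w * s x' y' * d κ) * (s x y)⁻¹⁻¹ = w * (s x' y' * (d κ * s x y)) by
      group, h.d_s h0, ← mul_assoc (s x' y'), h.s_mul, ← mul_assoc, map_mul, map_mul, h.ρs, h.ρw,
      h.ρd _ h0]
    exact chi2 h.sq _ _ h0

theorem tr_conj (c g : H) : (ρ (c * g * c⁻¹)).trace = (ρ g).trace := by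
  rw [map_mul, trace_mul_comm, ← map_mul, inv_mul_cancel_left]

theorem pow4_of_tr (h : SzD θ ρ s d w) {g : H} (h0 : (ρ g).trace = 0) : g ^ 4 = 1 := by
  obtain ⟨c, hc⟩ := chi_conj h g
  have := hc.pow4 (by rw [tr_conj, h0])
  rw [← map_pow, ← ρ.map_one, h.inj.eq_iff, conj_pow] at this
  simpa using this

theorem tr_pow_eq (h : SzD θ ρ s d w) {g g' : H} (e : (ρ g).trace = (ρ g').trace) (n : ℕ) :
    (ρ (g ^ n)).trace = (ρ (g' ^ n)).trace := by
  obtain ⟨c, hc⟩ := chi_conj h g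
  obtain ⟨c', hc'⟩ := chi_conj h g'
  have := hc.tr_pow hc' (by rw [tr_conj, tr_conj, e]) n
  rwa [← map_pow, ← map_pow, conj_pow, conj_pow, tr_conj, tr_conj] at this

theorem exists_real (h : SzD θ ρ s d w) {x : H} {p : ℕ} (hp : Odd p) (x1 : x ≠ 1) (hx : x ^ p = 1) :
    ∃ γ : H, γ ≠ 1 ∧ γ ^ p = 1 ∧ w * γ * w⁻¹ = γ⁻¹ := by
  have t1 : (ρ 1).trace = 0 := by
    rw [map_one, tr4]; simp [CharTwo.add_self_eq_zero]
  have e : (ρ x).trace = (ρ (w * s 0 (θ.symm (ρ x).trace))).trace := by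
    rw [map_mul, tr4 (_ * _)]
    simp [h.ρw, h.ρs, Wm, Sm, CharTwo.add_self_eq_zero]
  refine ⟨(w * s 0 (θ.symm (ρ x).trace)) ^ 4, fun e1 => x1 ?_, ?_, ?_⟩
  · have := pow4_of_tr h ((tr_pow_eq h e 4).trans (by rw [e1, t1]))
    rw [← pow_mul] at this
    exact orderOf_eq_one_iff.1 (Nat.eq_one_of_dvd_coprimes
      ((Nat.coprime_two_left.2 hp).pow_left 4) (orderOf_dvd_of_pow_eq_one this)
      (orderOf_dvd_of_pow_eq_one hx))
  · rw [← pow_mul, mul_comm, pow_mul]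
    exact pow4_of_tr h ((tr_pow_eq h e p).symm.trans (by rw [hx, t1]))
  · rw [← conj_pow, ← inv_pow, _root_.mul_inv_rev, BSW.inv_eq_of_mul_self h.w_w,
      BSW.inv_eq_of_mul_self (h.z_z _), ← mul_assoc, h.w_w, one_mul]

end

/-- elements of odd order of a Suzuki group are inverted by involutions -/
theorem IsSz.real {H : Type u} [Group H] [Finite H] (h : IsSz H) {x : H} (hx : Odd (orderOf x)) :
    ∃ g : H, g * g = 1 ∧ g * x * g⁻¹ = x⁻¹ := by
  by_cases x1 : x = 1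
  · exact ⟨1, by simp, by simp [x1]⟩
  obtain ⟨-, S, t, m, hm, hC, -, -, ⟨e⟩⟩ := h
  obtain ⟨θ, ρ, s, d, w, h⟩ := exists_szd hm e
  obtain ⟨p, hp, hd⟩ := Nat.exists_prime_and_dvd (orderOf_eq_one_iff.not.2 x1)
  have := Fact.mk hp
  have o0 := (orderOf_pos x).ne'
  have ho : orderOf (x ^ (orderOf x / p)) = p := orderOf_pow_orderOf_div o0 hd
  have x1' : x ^ (orderOf x / p) ≠ 1 := fun e => hp.one_lt.ne' (by rw [← ho, e, orderOf_one])
  have hpo : Odd p := hx.of_dvd_nat hd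
  have xp : (x ^ (orderOf x / p)) ^ p = 1 := by
    rw [← pow_mul, Nat.div_mul_cancel hd, pow_orderOf_eq_one]
  obtain ⟨γ, γ1, γp, hγ⟩ := exists_real h hpo x1' xp
  have γ2 : γ * γ ≠ 1 := fun e => γ1 (orderOf_eq_one_iff.1 (Nat.eq_one_of_dvd_coprimes
    (Nat.coprime_two_left.2 hpo) (orderOf_dvd_of_pow_eq_one (by rw [pow_two, e]))
    (orderOf_dvd_of_pow_eq_one γp)))
  have w1 : w ≠ 1 := fun e => γ2 (by rw [e, one_mul, inv_one, mul_one] at hγ; nth_rw 2 [hγ]; simp)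
  have pg : ∀ y : H, y ^ p = 1 → IsPGroup p (zpowers y) := fun y hy =>
    isPGroup_zpowers_iff.2 ((isPiNum_singleton_pow hp 1).of_dvd
      (by simpa using orderOf_dvd_of_pow_eq_one hy))
  obtain ⟨P, hP, hγP⟩ := exists_syl_ge (le_top (a := zpowers γ)) (pg γ γp)
  obtain ⟨g, -, hg⟩ := hP.exists_conj_le le_top (pg _ xp)
  have hγP := hγP (mem_zpowers γ)
  obtain ⟨⟨z, hz⟩, z1⟩ := ne_bot_iff_exists_ne_one.1 (Zc_ne_bot hP.nil fun e => γ1 (by simpa [e] using hγP))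
  have z1 : z ≠ 1 := fun e => z1 (Subtype.ext e)
  obtain ⟨-, hz⟩ := mem_Zc.1 hz
  have cc := fun f hf f1 => hC.cent_cc w1 h.w_w hγ γ2 (f := f) hf f1
  have hy := (cc z (mem_centralizer_singleton_iff.2 (hz γ hγP).symm) z1 _).1
    (hz _ (hg (conj_mem_conj (mem_zpowers _))))
  have hx := (cc _ hy (BSW.conj_ne_one x1') (g * x * g⁻¹)).1 (by
    rw [← conj_pow]; exact (Commute.refl _).pow_right _)
  have := hC.inv_cent' w1 h.w_w hγ γ2 hx
  refine ⟨g⁻¹ * w * g, by rw [show g⁻¹ * w * g * (g⁻¹ * w * g) = g⁻¹ * (w * w) * g by group, h.w_w]; group, ?_⟩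
  calc _ = g⁻¹ * (w * (g * x * g⁻¹) * w⁻¹) * g := by group
    _ = _ := by rw [this]; group

end Cfsg.Agent.R4
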