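import Cfsg.Agent.Lib.R4.KFSz1
import Cfsg.Agent.Lib.R4.KFDefs
import Cfsg.Agent.Lib.Wal.K1

/-!
# The facts on the Suzuki groups
-/

set_option autoImplicit false
set_option linter.unusedSectionVars false

namespace Cfsg.Agent.R4

open Subgroup Cfsg.Agent.Coprime Cfsg.Agent.OO Cfsg.Agent.BSW Cfsg.Agent.GW
open scoped Pointwise commutatorElement

universe u

section

variable {H : Type u} [Group H] [Finite H] {S : Subgroup H} {t : H}

theorem IsSz.hypC (h : IsSz H) (hS : Syl 2 S ⊤) : ∃ (t : H) (n : ℕ), Odd n ∧ 3 ≤ n ∧ HypC S t ∧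
    ♯S = (2 ^ n) ^ 2 ∧ ♯(Kt S t) + 1 = 2 ^ n := by
  obtain ⟨-, S0, t, m, hm, hC, h1, h2, -⟩ := h
  have := Fact.mk Nat.prime_two
  have h3 := hC.card_eq
  have h4 : Syl 2 S0 ⊤ := ⟨le_top, IsPGroup.of_card (n := (2 * m + 1) * 2) (by rw [h1, pow_mul]), by
    rw [relIndex_top_right, show S0.index = ♯(Kt S0 t) * (1 + ♯S0) from
      Nat.eq_of_mul_eq_mul_left (Nat.card_pos (α := S0)) (by rw [card_mul_index, h3]; ring)]
    refine (Odd.mul ?_ ?_).not_two_dvd_nat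
    · exact Nat.not_even_iff_odd.1 (Nat.even_add_one.1 (h2 ▸ (even_two.pow_of_ne_zero (by omega))))
    · exact odd_one.add_even (h1 ▸ (even_two.pow_of_ne_zero (by omega)).pow_of_ne_zero two_ne_zero)⟩
  obtain ⟨g, -, rfl⟩ := h4.exists_conj' hS
  have h5 := CIT.hypC_conj hC g
  refine ⟨_, 2 * m + 1, odd_two_mul_add_one m, by omega, h5, by rw [card_conj, h1], ?_⟩
  have h6 := h5.card_eq
  rw [h3, card_conj, mul_assoc, mul_assoc, Nat.mul_left_inj (mul_ne_zero Nat.card_pos.ne' (by omega))] at h6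
  rw [← h6, h2]

variable {F : Type} [Field F] {a k v : F → H} {θ : F ≃+* F} {b : F}
  (co : Coord S t θ b a k v) (hC : HypC S t)
include co hC

theorem co_sq {x : H} (hx : x ∈ S) : x * x * (x * x) = 1 := by
  obtain ⟨c, d, rfl⟩ := co.v_surj x hx
  rw [co.sq hC, co.fr.a_sq]

theorem co_comm {x y : H} (hx : x ∈ S) (hy : y ∈ S) : ⁅x, y⁆ * ⁅x, y⁆ = 1 := by
  have h1 := hC.conj_eq (mul_mem (mul_mem hy hx) (mul_mem hy hx)) (co_sq co hC (mul_mem hy hx)) hx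
  have := co_sq_inj co hC (inv_mem (mul_mem hx hy)) (inv_mem (mul_mem hy hx)) (by
    rw [← _root_.mul_inv_rev, ← _root_.mul_inv_rev, ← h1]; group)
  rw [← this, commutatorElement_def]; group

theorem co_max {B : Subgroup H} (h1 : S ≤ B) (h2 : ¬ B ≤ 𝐍(S)) : B = ⊤ := by
  have fr := co.fr
  obtain ⟨g, hg, hg'⟩ := SetLike.not_le_iff_exists.1 h2
  obtain ⟨x, hx, j, hj, y, hy, rfl⟩ := hC.bruhat hg'
  obtain ⟨c, c0, rfl⟩ := fr.k_surj j hj
  have h3 : t * k c ∈ B := by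
    rwa [B.mul_mem_cancel_right (h1 hy), mul_assoc, B.mul_mem_cancel_left (h1 hx)] at hg
  have h4 : ∀ d, d ≠ 0 → t * a d * t ∈ B → t * k (d ^ 2) ∈ B := fun d d0 e => by
    have hr : rho k (v 1) d⁻¹ ∈ B := h1 (hC.K_conj_mem (fr.k_mem _) (co.v_mem 1))
    rwa [(fr.rel1 hC co.str).t_a d0, B.mul_mem_cancel_right (inv_mem hr), mul_assoc,
      B.mul_mem_cancel_left hr] at e
  have ht : t ∈ B := by
    have := h4 1 one_ne_zero (by
      rw [← mul_inv_cancel₀ c0, ← fr.k_conj c c0]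
      convert mul_mem (mul_mem h3 (h1 (fr.a_mem c⁻¹))) h3 using 1
      nth_rw 2 [hC.t_mul hj]
      group)
    rwa [one_pow, fr.k_one hC, mul_one] at this
  have hK : ∀ j ∈ Kt S t, j ∈ B := fun j hj => by
    obtain ⟨i, hi, rfl⟩ := hC.exists_sqrt hj
    obtain ⟨d, d0, rfl⟩ := fr.k_surj i hi
    rw [← fr.k_mul hC d0 d0, ← pow_two, ← B.mul_mem_cancel_left ht]
    exact h4 d d0 (mul_mem (mul_mem ht (h1 (fr.a_mem d))) ht)
  refine eq_top_iff.2 fun g _ => ?_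
  by_cases hg : g ∈ 𝐍(S)
  · obtain ⟨j, hj, y, hy, rfl⟩ := hC.decomp hg
    exact mul_mem (hK j hj) (h1 hy)
  · obtain ⟨x, hx, j, hj, y, hy, rfl⟩ := hC.bruhat hg
    exact mul_mem (mul_mem (mul_mem (h1 hx) ht) (hK j hj)) (h1 hy)

theorem co_gen : ∃ x ∈ Kt S t, zpowers x = Kt S t ∧ ∀ c, c ≠ 0 → ∃ j : ℕ, x ^ j = k c := by
  have fr := co.fr
  have := fr.finite
  obtain ⟨x, hx⟩ : IsCyclic Fˣ := inferInstance
  have h3 : ∀ j : ℕ, k x ^ j = k (x ^ j) := fun j => by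
    induction j with
    | zero => simp [fr.k_one hC]
    | succ j ih => rw [pow_succ, ih, pow_succ, fr.k_mul hC (by simp) x.ne_zero]
  have h4 : ∀ c, c ≠ 0 → ∃ j : ℕ, k x ^ j = k c := fun c c0 => by
    obtain ⟨j, hj⟩ := mem_powers_iff_mem_zpowers.2 (hx (Units.mk0 c c0))
    exact ⟨j, by rw [h3, ← Units.val_pow_eq_pow_val, show x ^ j = _ from hj]; rfl⟩
  refine ⟨k x, fr.k_mem x, le_antisymm (zpowers_le.2 (fr.k_mem x)) fun j hj => ?_, h4⟩
  obtain ⟨c, c0, rfl⟩ := fr.k_surj j hj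
  obtain ⟨j, e⟩ := h4 c c0
  exact e ▸ pow_mem (mem_zpowers _) j

end

variable {G : Type u} [Group G] [Finite G] {L T : Subgroup G}

omit [Finite G] in
theorem smp_of_simple (h : IsSimpleGroup L) : Smp L := fun _ hN =>
  (h.eq_bot_or_eq_top_of_normal _ hN.subgroupOf).imp
    (fun e => eq_bot_iff.2 fun x hx =>
      mem_bot.2 (congrArg Subtype.val (mem_bot.1 (e.le (x := ⟨x, hN.le hx⟩) hx))))
    fun e => le_antisymm hN.le (subgroupOf_eq_top.1 e)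

/-- a 2-element normalizing `L` is conjugate under `L` to an element normalizing `T` -/
theorem exists_conj_norm (hT : Syl 2 T L) {x : G} (hx : x ∈ 𝐍(L)) (h2 : PiElt {2} x) :
    ∃ g ∈ L, g * x * g⁻¹ ∈ 𝐍(T) := by
  have := Fact.mk Nat.prime_two
  have hn := normalIn_sup_left (zpowers_le.2 hx)
  obtain ⟨P, hP, hle⟩ := exists_syl_ge (le_sup_right (a := L)) (isPGroup_zpowers_iff.2 h2)
  obtain ⟨g, hg, rfl⟩ := (hP.inf_normal hn).exists_conj' hT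
  exact ⟨g, hg, norm_conj g _ ▸ conj_mem_conj
    (le_norm_inf (le_norm_self P) (hP.le.trans hn.norm) (hle (mem_zpowers x)))⟩

theorem kf1_sz (h : IsSz L) (hT : Syl 2 T L) : ∃ W k n, SzF L T W k n := by
  have := Fact.mk Nat.prime_two
  have hle := hT.le
  obtain ⟨t, n, hn, h3, hC, c1, c2⟩ := h.hypC (Wal.syl_subgroupOf hT)
  obtain ⟨m, hm, a, k, fr, r, hr, e⟩ := hC.exists_frame
  have hF : Nat.card (GaloisField 2 m) = 2 ^ n := by
    rw [← c2, fr.card_K, Nat.sub_add_cancel Nat.card_pos]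
  obtain ⟨θ, b, v, co⟩ := fr.exists_coord hC (isPGroup_subgroupOf hT.isPGroup L) (hF ▸ c1) hr e
  obtain ⟨x, hx, hK, hx'⟩ := co_gen co hC
  have hN : ∀ y : L, y ∈ 𝐍(T.subgroupOf L) ↔ (y : G) ∈ 𝐍(T) := fun y => by
    rw [← subgroupOf_normalizer_eq hle]; rfl
  have cm : ∀ z ∈ T, z * z = 1 → ∀ y ∈ T, y * z = z * y := fun z hz z2 y hy =>
    congrArg Subtype.val (hC.comm (z := ⟨z, hle hz⟩) (h := ⟨y, hle hy⟩) hz (Subtype.ext z2) hy)
  let W : Subgroup G :=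
    { carrier := {w | w ∈ T ∧ w * w = 1}
      one_mem' := ⟨one_mem _, mul_one _⟩
      mul_mem' := fun {y z} hy hz => ⟨mul_mem hy.1 hz.1, by
        rw [mul_assoc, ← mul_assoc z, ← cm z hz.1 hz.2 y hy.1, mul_assoc, hz.2, mul_one, hy.2]⟩
      inv_mem' := fun {y} hy => ⟨inv_mem hy.1, by rw [← _root_.mul_inv_rev, hy.2, inv_one]⟩ }
  have ha : ∀ c, (a c : G) ∈ W := fun c => ⟨fr.a_mem c, congrArg Subtype.val (fr.a_sq c)⟩
  have ha' : ∀ w ∈ W, ∃ c, (a c : G) = w := fun w hw =>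
    (fr.a_surj ⟨w, hle hw.1⟩ hw.1 (Subtype.ext hw.2)).imp fun _ e => congrArg Subtype.val e
  have cW : ♯W = 2 ^ n := hF ▸ (Nat.card_congr (Equiv.ofBijective (fun c => (⟨a c, ha c⟩ : W))
    ⟨fun _ _ e => fr.a_inj (Subtype.ext (congrArg Subtype.val e :)),
      fun w => (ha' w w.2).imp fun _ e => Subtype.ext e⟩)).symm
  have c3 : ♯T = (2 ^ n) ^ 2 := Core.card_subgroupOf_of_le hle ▸ c1
  have c4 : ♯L = (2 ^ n) ^ 2 * ((2 ^ n) ^ 2 + 1) * (2 ^ n - 1) := by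
    rw [hC.card_eq, c1, ← c2, Nat.add_sub_cancel]; ring
  have cen : 𝐍(L) ⊓ 𝐂(W) ≤ T ⊔ 𝐂(L) := fun y hy => by
    obtain ⟨s, hs, e⟩ := aut_fix co hC (L.normalizerMonoidHom ⟨y, hy.1⟩) fun c =>
      Subtype.ext (mem_cent_iff_conj.1 hy.2 _ (ha c))
    rw [← mul_inv_cancel_left (s : G) y]
    refine mul_mem_sup hs (mem_cent_iff_conj.2 fun z hz => ?_)
    have h1 : y * z * y⁻¹ = s * z * (s : G)⁻¹ := (congrArg Subtype.val (e ⟨z, hz⟩) :)
    calc _ = (s : G)⁻¹ * (y * z * y⁻¹) * s := by group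
      _ = z := by rw [h1]; group
  have two : ∀ y ∈ 𝐍(L), PiElt {2} y → y ∈ 𝐍(T) → y ∈ 𝐂(W) := fun y hy y2 hy' => by
    obtain ⟨j, hj⟩ := isPGroup_zpowers_iff.2 y2 ⟨y, mem_zpowers y⟩
    refine mem_cent_iff_conj.2 fun w hw => ?_
    obtain ⟨c, rfl⟩ := ha' w hw
    exact congrArg Subtype.val (aut_two co hC hn hF (L.normalizerMonoidHom ⟨y, hy⟩)
      (fun z => (mem_norm_iff.1 hy' z).symm) (j := j) (by
        rw [← map_pow, show (⟨y, hy⟩ : 𝐍(L)) ^ 2 ^ j = 1 from Subtype.ext (congrArg Subtype.val hj :),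
          map_one]) c)
  have h8 : 2 ^ 3 ≤ 2 ^ n := Nat.pow_le_pow_right two_pos h3
  refine ⟨W, x, n, ⟨smp_of_simple h.1, fun hA => hC.t_not_mem (le_normalizer (hC.mem_of_comm
      (fr.a_mem 1) (fr.a_ne_one one_ne_zero) (fr.a_sq 1)
        (Subtype.ext (ab_iff.1 hA _ t.2 _ (a 1).2)))), hT, fun _ => Iff.rfl,
      fun y hy => mem_cent_iff.2 fun w hw => (cm w hw.1 hw.2 y hy).symm,
      fun y hy => ⟨mul_mem hy hy, congrArg Subtype.val (co_sq co hC (x := ⟨y, hle hy⟩) hy)⟩,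
      commutator_le.2 fun y hy z hz => ⟨der_le T (commutator_mem_commutator hy hz),
        congrArg Subtype.val (co_comm co hC (x := ⟨y, hle hy⟩) (y := ⟨z, hle hz⟩) hy hz)⟩,
      by omega, x.2, (hN x).1 hx.1, ?_, fun p hp q hq p1 q1 => ?_, le_antisymm (fun y hy => ?_)
        (le_inf (sup_le hle (zpowers_le.2 x.2)) (sup_le le_normalizer (zpowers_le.2 ((hN x).1 hx.1)))),
      fun y hy y2 => ?_, fun y hy ho _ => ?_⟩, hn, h3, cW, c3, c4, ?_,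
      fun y hy y1 g hg => hC.cc ⟨y, hle hy⟩ hy (fun e => y1 (congrArg Subtype.val e)) ⟨g, hg.1⟩
        (Subtype.ext (mem_cent1.1 hg.2)),
      fun g hg y hy y1 e => (hN ⟨g, hg⟩).1 (hC.ti (x := ⟨y, hle hy⟩) hy
        (fun e => y1 (congrArg Subtype.val e)) e),
      fun y hy z hz e => ⟨mul_mem (inv_mem hy) hz, congrArg Subtype.val
        (co_sq_inj co hC (x := ⟨y, hle hy⟩) (y := ⟨z, hle hz⟩) hy hz (Subtype.ext e))⟩,
      fun B h1 h2 => or_iff_not_imp_left.2 fun h4 => le_antisymm h2 (subgroupOf_eq_top.1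
        (co_max co hC (fun y hy => h1 hy) fun e => h4 fun y hy => (hN ⟨y, h2 hy⟩).1 (e hy))),
      cen, zsig4 hn (by omega), t, hC, by rw [← hK, MonoidHom.map_zpowers]; rfl⟩
  · rw [Subgroup.orderOf_coe, ← Nat.card_zpowers, hK, c2, cW]
  · obtain ⟨c, rfl⟩ := ha' p hp
    obtain ⟨d, rfl⟩ := ha' q hq
    have c0 : c ≠ 0 := fun e => p1 (by rw [e, fr.a_zero]; rfl)
    have d0 : d ≠ 0 := fun e => q1 (by rw [e, fr.a_zero]; rfl)
    obtain ⟨j, hj⟩ := hx' _ (div_ne_zero d0 c0)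
    have := fr.k_conj _ (div_ne_zero d0 c0) c
    rw [← hj, div_mul_cancel₀ _ c0] at this
    exact ⟨j, congrArg Subtype.val this⟩
  · obtain ⟨z, hz, j, hj, e⟩ := hC.decomp' ((hN ⟨y, hy.1⟩).2 hy.2)
    obtain ⟨i, rfl⟩ := hK.ge hj
    rw [show y = z * x ^ i from congrArg Subtype.val e]
    exact mul_mem_sup hz ⟨i, rfl⟩
  · obtain ⟨g, hg, h4⟩ := exists_conj_norm hT hy y2
    have h5 : g * y * g⁻¹ ∈ 𝐍(L) :=
      mul_mem (mul_mem (le_normalizer hg) hy) (inv_mem (le_normalizer hg))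
    have h6 := sup_le_sup_right hle _ (cen ⟨h5, two _ h5 (y2.conj g) h4⟩)
    rwa [mul_mem_cancel_right (inv_mem (mem_sup_left hg)), mul_mem_cancel_left (mem_sup_left hg)] at h6
  · obtain ⟨g, g2, e⟩ := h.real (x := ⟨y, hy⟩) (by rwa [← Subgroup.orderOf_coe])
    exact ⟨g, g.2, congrArg Subtype.val g2, congrArg Subtype.val e⟩
  · obtain ⟨j, rfl⟩ := hn
    have h4 : 2 ^ (2 * j + 1) % 3 = 2 := by rw [pow_succ, pow_mul, Nat.mul_mod, Nat.pow_mod]; simp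
    obtain ⟨i, hi⟩ : ∃ i, 2 ^ (2 * j + 1) = 3 * i + 2 := ⟨2 ^ (2 * j + 1) / 3, by omega⟩
    rw [c4, hi, Nat.Prime.dvd_mul Nat.prime_three, Nat.Prime.dvd_mul Nat.prime_three,
      show (3 * i + 2) ^ 2 = 3 * (3 * i * i + 4 * i + 1) + 1 by ring]
    omega

end Cfsg.Agent.R4
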