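import Cfsg.Agent.Lib.R4.KFReal
import Cfsg.Agent.Lib.R4.KFNum
import Cfsg.Agent.Lib.CIT.Half

/-!
# Automorphisms of the Suzuki groups
-/

set_option autoImplicit false
set_option linter.unusedSectionVars false

namespace Cfsg.Agent.R4

open Subgroup Cfsg.Agent.Coprime Cfsg.Agent.OO Cfsg.Agent.BSW
open scoped Pointwise

universe u

variable {H : Type u} [Group H] [Finite H] {S : Subgroup H} {t : H} {F : Type} [Field F]
  {a k v : F → H} {θ : F ≃+* F} {b : F}

omit [Finite H] in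
theorem norm_aut (α : MulAut H) (h : ∀ y, α y ∈ S ↔ y ∈ S) {y : H} (hy : y ∈ 𝐍(S)) : α y ∈ 𝐍(S) :=
  mem_norm_iff.2 fun x => by
    obtain ⟨x, rfl⟩ := α.surjective x
    rw [h, ← map_inv, ← map_mul, ← map_mul, h]
    exact mem_norm_iff.1 hy x

variable (co : Coord S t θ b a k v) (hC : HypC S t)
include co hC

theorem co_sq_inj {x y : H} (hx : x ∈ S) (hy : y ∈ S) (e : x * x = y * y) :
    x⁻¹ * y * (x⁻¹ * y) = 1 := by
  obtain ⟨c, d, rfl⟩ := co.v_surj x hx
  obtain ⟨c', d', rfl⟩ := co.v_surj y hy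
  rw [co.sq hC, co.sq hC] at e
  obtain rfl := co.norm_inj _ _ (co.fr.a_inj e)
  rw [show (v c * a d)⁻¹ * (v c * a d') = (a d)⁻¹ * a d' by group, co.fr.a_inv, ← co.fr.a_add,
    co.fr.a_sq]

theorem aut_S (α : MulAut H) (h : α (a 1) = a 1) (y : H) : α y ∈ S ↔ y ∈ S := by
  have k := hC.cent _ (co.fr.a_mem 1) (co.fr.a_ne_one one_ne_zero) (co.fr.a_sq 1)
  rw [← k, ← k, ← α.injective.eq_iff (a := y * _), map_mul, map_mul, h]

theorem aut_fix_aux (β : MulAut H) (h : ∀ c, β (a c) = a c) {j : H} (hj : j ∈ Kt S t)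
    (ht : β t = t * j) (g : H) : β g = g := by
  have fr := co.fr
  have hS := aut_S co hC β (h 1)
  obtain ⟨c, c0, rfl⟩ := fr.k_surj j hj
  have e1 := congrArg β co.str
  have e2 := (fr.rel1 hC co.str).t_a c0
  have hr : rho k (v 1) c⁻¹ ∈ S := hC.K_conj_mem (fr.k_mem _) (co.v_mem 1)
  simp only [map_mul, map_inv, h, ht] at e1
  rw [show t * k c * a 1 * (t * k c) = t * a c * t by
    nth_rw 2 [hC.t_mul hj]
    rw [show a c = a (c * 1) by rw [mul_one], ← fr.k_conj c c0]; group, e2, ← mul_assoc] at e1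
  obtain ⟨e3, e4, -⟩ := hC.bruhat_unique hr (fr.k_mem _) (inv_mem hr) ((hS _).2 (co.v_mem 1)) hj
    (inv_mem ((hS _).2 (co.v_mem 1))) e1
  obtain rfl : c = 1 := mul_left_cancel₀ c0 (by
    rw [← pow_two, mul_one]; exact fr.k_inj (pow_ne_zero 2 c0) c0 e4)
  rw [fr.k_one hC, mul_one] at ht
  rw [inv_one, (fr.rel1 hC co.str).rho_one] at e3
  have hK : ∀ j ∈ Kt S t, β j = j := fun j hj => by
    obtain ⟨c, c0, rfl⟩ := fr.k_surj j hj
    refine (fr.k_eq hC c0 ⟨norm_aut β hS hj.1, ?_⟩ ?_).symm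
    · simpa [ht] using norm_aut β hS hj.2
    · simpa [h] using congrArg β (fr.k_conj c c0 1)
  have h1 : ∀ y ∈ S, β y = y := fun y hy => by
    obtain ⟨x, d, rfl⟩ := co.v_surj y hy
    by_cases x0 : x = 0
    · rw [x0, co.v_zero, one_mul, h]
    · rw [← co.rho_eq x0, rho]
      simp only [map_mul, map_inv, h, hK _ (fr.k_mem _), ← e3]
  by_cases hg : g ∈ 𝐍(S)
  · obtain ⟨j, hj, y, hy, rfl⟩ := hC.decomp hg
    rw [map_mul, hK j hj, h1 y hy]
  · obtain ⟨x, hx, j, hj, y, hy, rfl⟩ := hC.bruhat hg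
    simp only [map_mul, hK j hj, h1 y hy, h1 x hx, ht]

/-- automorphisms centralizing the involutions of a Sylow 2-subgroup are inner -/
theorem aut_fix (α : MulAut H) (h : ∀ c, α (a c) = a c) : ∃ s ∈ S, ∀ g, α g = s * g * s⁻¹ := by
  have hS := aut_S co hC α⁻¹ (by rw [MulAut.inv_apply, MulEquiv.symm_apply_eq, h])
  obtain ⟨x, hx, j, hj, e⟩ := hC.exists_inv_form (u := α t)
    (fun e => hC.t_not_mem (by simpa using norm_aut α⁻¹ hS e)) (by rw [← map_mul, hC.t2, map_one])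
  refine ⟨x, hx, fun g => ?_⟩
  have := aut_fix_aux co hC (MulAut.conj x⁻¹ * α) (fun c => by
    simpa [h] using hC.conj_eq (co.fr.a_mem c) (co.fr.a_sq c) (inv_mem hx)) hj
    (by simp [e, mul_assoc]) g
  simp only [MulAut.mul_apply, MulAut.conj_apply, inv_inv] at this
  nth_rw 2 [← this]
  group

/-- automorphisms of 2-power order normalizing a Sylow 2-subgroup centralize its involutions -/
theorem aut_two {n : ℕ} (hn : Odd n) (hF : Nat.card F = 2 ^ n) (α : MulAut H)
    (hS : ∀ y, α y ∈ S ↔ y ∈ S) {j : ℕ} (hα : α ^ 2 ^ j = 1) (c : F) : α (a c) = a c := by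
  classical
  have fr := co.fr
  have := fr.finite
  have := Fintype.ofFinite F
  have := Fact.mk Nat.prime_two
  choose τ hτ using fun c => fr.a_surj (α (a c)) ((hS _).2 (fr.a_mem c))
    (by rw [← map_mul, fr.a_sq, map_one])
  have add : ∀ c d, τ (c + d) = τ c + τ d := fun c d => fr.a_inj (by
    rw [fr.a_add, hτ, hτ, hτ, fr.a_add, map_mul])
  have inj : Function.Injective τ := fun c d e => fr.a_inj (α.injective (by rw [← hτ, ← hτ, e]))
  have t0 : τ 0 = 0 := by simpa using add 0 0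
  set τ' := Equiv.ofBijective τ (Finite.injective_iff_bijective.1 inj)
  have pw : ∀ i c, a ((τ' ^ i) c) = (α ^ i) (a c) := fun i => by
    induction i with
    | zero => simp
    | succ i ih => intro c; rw [pow_succ', pow_succ', Equiv.Perm.mul_apply, MulAut.mul_apply, ← ih, ← hτ]; rfl
  have h1 : τ' ^ 2 ^ j = 1 := Equiv.ext fun c => fr.a_inj (by rw [pw, hα]; rfl)
  obtain ⟨c0, h2, c00⟩ := Equiv.Perm.exists_fixed_point_of_prime' (p := 2) (a := 0)
    (by rw [← Nat.card_eq_fintype_card, hF]; exact dvd_pow_self 2 hn.pos.ne') h1 t0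
  replace h2 : τ c0 = c0 := h2
  have mul : ∀ c d, τ (c * d) = τ (c0 * c) / c0 * τ d := fun c d => by
    by_cases h0 : c = 0
    · simp [h0, t0]
    obtain ⟨j, hj, y, hy, e⟩ := hC.decomp (norm_aut α hS (fr.k_mem c).1)
    obtain ⟨l, l0, rfl⟩ := fr.k_surj j hj
    have k : ∀ d, τ (c * d) = l * τ d := fun d => fr.a_inj (by
      rw [hτ, ← fr.k_conj c h0, ← fr.k_conj l l0, map_mul, map_mul, map_inv, ← hτ, e]
      nth_rw 2 [← hC.conj_eq (fr.a_mem (τ d)) (fr.a_sq _) hy]
      group)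
    rw [k, mul_comm c0, k, h2, mul_div_cancel_right₀ _ c00]
  let σ : F →+* F :=
    { toFun c := τ (c0 * c) / c0
      map_one' := by rw [mul_one, h2, div_self c00]
      map_mul' c d := by rw [mul_left_comm, mul, mul_div_assoc (τ (c0 * c) / c0)]
      map_zero' := by simp [t0]
      map_add' c d := by rw [mul_add, add, add_div] }
  set σ' := RingEquiv.ofBijective σ (Finite.injective_iff_bijective.1 σ.injective)
  have pw' : ∀ i c, c0 * (σ' ^ i) c = (τ' ^ i) (c0 * c) := fun i => by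
    induction i with
    | zero => simp
    | succ i ih =>
      intro c
      rw [pow_succ', pow_succ', Equiv.Perm.mul_apply, ← ih]
      exact mul_div_cancel₀ _ c00
  have h3 : σ' ^ 2 ^ j = 1 := RingEquiv.ext fun c => mul_left_cancel₀ c00 (by rw [pw', h1]; rfl)
  have h4 := JR.FRa.gal_card (zpowers σ')
  rw [Nat.card_zpowers, ← Nat.card_eq_fintype_card, hF] at h4
  obtain ⟨i, -, hi⟩ := (Nat.dvd_prime_pow Nat.prime_two).1 (orderOf_dvd_of_pow_eq_one h3)
  obtain rfl : i = 0 := by_contra fun i0 => by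
    have := congrArg (Nat.factorization · 2) h4
    simp only [hi, Nat.factorization_pow, Finsupp.smul_apply, Nat.Prime.factorization_self Nat.prime_two,
      smul_eq_mul, mul_one] at this
    exact hn.not_two_dvd_nat (this ▸ (dvd_pow_self 2 i0).mul_right _)
  have h5 := pw' 1 (c / c0)
  rw [orderOf_eq_one_iff.1 hi, one_pow, pow_one, mul_div_cancel₀ _ c00] at h5
  rw [← hτ, show τ c = τ' c from rfl, ← h5]
  exact congrArg a (mul_div_cancel₀ _ c00)

end Cfsg.Agent.R4
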