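import Cfsg.Agent.Lib.R4.RK2e

/-!
# Package RK2: one strongly closed four-group
-/

set_option autoImplicit false

namespace Cfsg.Agent.R4

open Subgroup Cfsg.Agent.OO Cfsg.Agent.Coprime Cfsg.Agent.Sig Cfsg.Agent.GW Cfsg.Agent.SZ
  Cfsg.Agent.W3
open scoped commutatorElement Pointwise MatrixGroups

universe u

variable {G : Type u} [Group G] [Finite G] {M N P Q R S U X Y : Subgroup G} {p q : ℕ}
  {t s ρ a b d g w y z : G}

theorem pair_S4 (t1 : t ≠ 1) (s1 : s ≠ 1) (h : t ≠ s) (t2 : t * t = 1) (s2 : s * s = 1)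
    (hc : Commute t s) : Pair (S4 t s) t s :=
  ⟨t_mem_S4 t s, s_mem_S4 t s, t1, s1, h, t2, s2, hc, fun e => by
    have := e.trans (card_sup_dvd (.inl (le_norm_of_le_cent (by
      rw [cent_zpowers, zpowers_le]; exact mem_cent1.2 hc))))
    rw [Nat.card_zpowers, Nat.card_zpowers, orderOf_eq_two t2 t1, orderOf_eq_two s2 s1] at this
    exact absurd this (by decide)⟩

theorem gl2_eq {F : Type} [Field F] (h2 : (2 : F) ≠ 0) {x y : GL (Fin 2) F} (x2 : x * x = 1)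
    (y2 : y * y = 1) (hx : Matrix.GeneralLinearGroup.det x = 1)
    (hy : Matrix.GeneralLinearGroup.det y = 1) (x1 : x ≠ 1) (y1 : y ≠ 1) : x = y := by
  have k : ∀ x : GL (Fin 2) F, x * x = 1 → Matrix.GeneralLinearGroup.det x = 1 → x ≠ 1 → x.1 = -1 :=
    fun x x2 hx x1 => SL.coe_eq_neg (x := ⟨x.1, congrArg Units.val hx⟩)
      (Lin.SL2.mem_center_of_sq_eq_one h2 ((sq _).trans (Subtype.ext (congrArg Units.val x2)))) fun e => x1 (Units.ext (congrArg Subtype.val e))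
  exact Units.ext ((k x x2 hx x1).trans (k y y2 hy y1).symm)

theorem transfer_eq_pow_index {A : Type*} [CommGroup A] (ϕ : S →* A) {c : A} (z2 : z * z = 1)
    (hc : c * c = 1) (h : ∀ (g : G) (hg : g⁻¹ * z * g ∈ S), ϕ ⟨_, hg⟩ = c) :
    MonoidHom.transfer ϕ z = c ^ S.index := by
  classical
  have := Fintype.ofFinite (Quotient (MulAction.orbitRel (zpowers z) (G ⧸ S)))
  rw [MonoidHom.transfer_eq_prod_quotient_orbitRel_zpowers_quot, index_eq_sum_minimalPeriod S z,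
    ← Finset.prod_pow_eq_pow_sum]
  refine Finset.prod_congr rfl fun q _ => ?_
  suffices ∀ (m : ℕ) (h1 : q.out.out⁻¹ * z ^ m * q.out.out ∈ S), ϕ ⟨_, h1⟩ = c ^ m from this _ _
  intro m h1
  obtain ⟨k, rfl | rfl⟩ := Nat.even_or_odd' m
  · rw [pow_mul c, sq, hc, one_pow, ← map_one ϕ]
    congr 1
    exact Subtype.ext (by simp [pow_mul, sq, z2])
  · rw [pow_succ c, pow_mul c, sq, hc, one_pow, one_mul, ← h q.out.out (by
      simpa [pow_succ, pow_mul, z2] using h1)]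
    congr 1
    exact Subtype.ext (by simp [pow_succ, pow_mul, z2])

/-- `s` inverts `O_p(C(t)) ≠ 1` -/
structure RP (t s ρ : G) (p : ℕ) : Prop extends RK t s ρ where
  p2 : p ≠ 2
  ne : Op p 𝐂[t] ≠ ⊥
  inv : Op p 𝐂[t] ⊓ 𝐂[s] = ⊥

theorem RK.exists_rp (h : RK t s ρ) (h0 : ⁅O 𝐂[t], zpowers s⁆ ⊓ Y ≠ ⊥) :
    ∃ p : ℕ, p.Prime ∧ RP t s ρ p ∧ Op p 𝐂[t] ⊓ Y ≠ ⊥ := by
  obtain ⟨x, hx, hp⟩ := exists_prime_order_mem h0
  have := Fact.mk hp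
  have h1 := h.inf_eq_bot_of_dvd (orderOf_dvd_card hx.1)
  have h2 : Op (orderOf x) 𝐂[t] ⊓ Y ≠ ⊥ := fun e => hp.one_lt.ne' (orderOf_eq_one_iff.2 (mem_bot.1
    (e ▸ ⟨Op_le_of_normal _ (Opi_normal _ _) (le_Op_of_le_Fit (abelem_isPGroup (abelem_zpowers
    (pow_orderOf_eq_one x))) (zpowers_le.2 (h.K_le_Fit hx.1)) (mem_zpowers x)), hx.2⟩)))
  exact ⟨_, hp, ⟨h, h1.1, fun e => h2 (by rw [e, bot_inf_eq]), h1.2⟩, h2⟩

namespace RP

variable [hp : Fact p.Prime] (h : RP t s ρ p)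
include h

omit hp in
theorem exists_rp' (ha : a ∈ S4 t s) (a1 : a ≠ 1) :
    ∃ g b σ, a = g * t * g⁻¹ ∧ RP a b σ p ∧ S4 a b = S4 t s := by
  obtain ⟨g, -, rfl, b, σ, h1, h2, rfl⟩ := h.exists_rk' ha a1
  exact ⟨g, _, σ, rfl, ⟨h1, h.p2, by rw [cent1_conj, Op_conj]; exact mt conj_eq_bot_iff.1 h.ne, by
    rw [cent1_conj, cent1_conj, Op_conj, ← conj_inf, h.inv, conj_bot]⟩, h2⟩

omit hp [Finite G] in
theorem inv' (ha : a ∈ S4 t s) (a1 : a ≠ 1) (a2 : a ≠ t) : Op p 𝐂[t] ⊓ 𝐂[a] = ⊥ :=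
  eq_bot_iff.2 (h.inv ▸ le_inf inf_le_left (((inf_le_inf_right _ (Op_le _ _)).trans
    (cent_inf_le h.pair ha a1 a2)).trans (cent_le_cent1 (s_mem_S4 t s))))

theorem odd : Odd ♯(Op p 𝐂[t]) := odd_of_isPGroup h.p2 (Op_isPGroup p _)

omit hp [Finite G] in
theorem norm : 𝐂(S4 t s) ≤ 𝐍(Op p 𝐂[t]) := h.cent_le.trans (Op_normal p _).norm

theorem comm (hQ : Q ≤ Op p 𝐂[t]) (hn : s ∈ 𝐍(Q)) : ⁅Q, zpowers s⁆ = Q :=
  commutator_eq_of_inf_eq_bot h.pair.s_sq hn (odd_of_le h.odd hQ)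
    (eq_bot_iff.2 (h.inv ▸ inf_le_inf_right _ hQ))

omit hp [Finite G] in
theorem s_norm : s ∈ 𝐍(Op p 𝐂[t]) := h.norm (h.pair.ab.le_cent (s_mem_S4 t s))

theorem cent_le' (hy : y ∈ Op p 𝐂[t]) (y1 : y ≠ 1) : 𝐂[y] ≤ 𝐂[t] :=
  h.norm_le_of_K (commutator_mono (le_O (Op_normal p _) h.odd) le_rfl
    ((h.comm le_rfl h.s_norm).ge hy)) y1

omit hp in
theorem ab : Ab (Op p 𝐂[t]) := ab_of_inf_eq_bot h.pair.s_sq h.s_norm h.inv

omit hp in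
theorem nc : ¬ IsCyclic (Op p 𝐂[t]) := h.not_isCyclic h.norm h.ne h.inv

theorem eq_of_cent (hy : y ∈ Op p 𝐂[t]) (y1 : y ≠ 1) (hg : g * t * g⁻¹ ∈ 𝐂[y]) :
    g * t * g⁻¹ = t := by
  obtain ⟨T, t1, -, t3⟩ := (h.st h.pair.le_cent).exists_syl
  obtain ⟨c, hc, e⟩ := t1.exists_conj_le (zpowers_le.2 (h.cent_le' hy y1 hg))
    (isPGroup_zp (conj_sq h.pair.t_sq g))
  have h1 := h.mem_of_cent (t_mem_S4 t s) (mem_top (c * g)) (t3 (by
    convert e (conj_mem_conj (mem_zpowers _)) using 1; group))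
  by_cases h2 : c * g * t * (c * g)⁻¹ = t
  · calc _ = c⁻¹ * (c * g * t * (c * g)⁻¹) * c⁻¹⁻¹ := by group
      _ = t := by rw [h2]; exact mem_cent1_iff_conj.1 (inv_mem hc)
  refine absurd (mem_bot.1 (h.inv' h1 (conj_ne_one.2 h.pair.t_ne) h2 ▸
    mem_inf.2 ⟨(Op_normal p _).conj_mem hc hy, ?_⟩)) (conj_ne_one.2 y1)
  rw [show c * g * t * (c * g)⁻¹ = c * (g * t * g⁻¹) * c⁻¹ by group, cent1_conj]
  exact conj_mem_conj (mem_cent1_comm.1 hg)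

theorem syl (hP : Syl p P 𝐂[t]) : Syl p P ⊤ := by
  refine IsSylowIn.of_syl_norm le_top (hP.mono (le_inf le_top (le_norm_self P)) fun g hg => ?_)
  obtain ⟨y, hy, y1⟩ := exists_mem_ne_one h.ne
  refine mem_cent1_iff_conj.2 (h.eq_of_cent hy y1 (mem_cent1_comm.1 ?_))
  rw [cent1_conj]
  exact conj_mono g hP.le ((conj_eq_of_mem_norm hg.2).ge (Op_le_syl hP hy))

theorem eq_of_pgroup (hR : IsPGroup p R) (ha : a ∈ S4 t s) (a1 : a ≠ 1) (hb : b ∈ S4 t s) (b1 : b ≠ 1)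
    (h1 : Op p 𝐂[a] ⊓ R ≠ ⊥) (h2 : Op p 𝐂[b] ⊓ R ≠ ⊥) : a = b := by
  obtain ⟨P, hP⟩ := exists_syl p 𝐂[t]
  obtain ⟨g, -, e⟩ := (h.syl hP).exists_le_conj' le_top hR
  have k : ∀ a ∈ S4 t s, a ≠ 1 → Op p 𝐂[a] ⊓ R ≠ ⊥ → g * t * g⁻¹ = a := fun a ha a1 h1 => by
    obtain ⟨c, b, σ, e1, e2, -⟩ := h.exists_rp' ha a1
    obtain ⟨y, hy, y1⟩ := exists_mem_ne_one h1
    have e3 : g * t * g⁻¹ = g * c⁻¹ * a * (g * c⁻¹)⁻¹ := by rw [e1]; group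
    rw [e3]
    exact e2.eq_of_cent hy.1 y1 (e3 ▸ mem_cent1_comm.1 (cent1_conj g t ▸ conj_mono g hP.le (e hy.2)))
  exact (k a ha a1 h1).symm.trans (k b hb b1 h2)

theorem eq_of_odd (hY : Odd ♯Y) (h3 : S4 t s ≤ 𝐍(Y)) (ha : a ∈ S4 t s) (a1 : a ≠ 1)
    (hb : b ∈ S4 t s) (b1 : b ≠ 1) (h1 : Op p 𝐂[a] ⊓ Y ≠ ⊥) (h2 : Op p 𝐂[b] ⊓ Y ≠ ⊥) : a = b := by
  have h4 := h.pair.coprime hY
  have k := fun a (ha : a ∈ S4 t s) => coprime_Hall_subset (π := {p}) h3 h4 (sol_of_odd hY)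
    inf_le_right ((Op_piGrp p 𝐂[a]).of_le inf_le_left) (le_norm_inf ((h.le_cent ha).trans
      (Op_normal p _).norm) h3)
  obtain ⟨K, k1, k2, k3⟩ := k a ha
  obtain ⟨L, l1, l2, l3⟩ := k b hb
  obtain ⟨x, hx, rfl⟩ := coprime_Hall_trans h3 h4 (sol_of_odd hY) k1 k2 l1 l2
  refine h.eq_of_pgroup k1.syl.isPGroup ha a1 hb b1 (fun e => h1 (eq_bot_iff.2 (e ▸ le_inf inf_le_left k3)))
    fun e => h2 ?_
  rw [← (Op_normal p _).conj_eq (cent_le_cent1 hb hx.2), ← conj_inf, conj_eq_bot_iff] at e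
  exact eq_bot_iff.2 (e ▸ le_inf inf_le_left l3)

theorem di (hw : w ∈ 𝐂(S4 t s)) (w1 : w ≠ 1) : IsCyclic ↥(Op p 𝐂[t] ⊓ 𝐂[w]) ∨
    Op p 𝐂[s] ⊓ 𝐂[w] = ⊥ := by
  have hA : S4 t s ≤ 𝐂[w] := le_cent1_iff.2 hw
  have k : ∀ a ∈ S4 t s, ∀ b ∈ S4 t s, b ∈ 𝐍(Op p 𝐂[a] ⊓ 𝐂[w]) := fun a ha b hb =>
    mem_norm_inf ((Op_normal p _).norm (h.le_cent ha hb)) (le_normalizer (hA hb))
  have h1 := h.comm inf_le_left (k t (t_mem_S4 t s) s (s_mem_S4 t s))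
  rcases (h.st hA).unf_or with e | ⟨σ, e⟩
  · by_contra! h0
    obtain ⟨-, b, τ, -, e2, e3⟩ := h.exists_rp' (s_mem_S4 t s) h.pair.s_ne
    have hb : b ∈ S4 t s := e3 ▸ s_mem_S4 s b
    have h2 := e2.comm inf_le_left (k s (s_mem_S4 t s) b hb)
    have h3 := (h.st hA).comm_le e
    exact h.pair.ne (h.eq_of_odd (odd_O _) (hA.trans (O_norm _)) (t_mem_S4 t s) h.pair.t_ne (s_mem_S4 t s) h.pair.s_ne
      (fun e => h0.1 (by
        refine isCyclic_of_le' (B := ⊥) inferInstance (e ▸ le_inf inf_le_left (h1.ge.trans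
          ((commutator_mono inf_le_right le_sup_right).trans h3)))))
      fun e => h0.2 (eq_bot_iff.2 (e ▸ le_inf inf_le_left (h2.ge.trans
        ((commutator_mono inf_le_right (zpowers_le.2 hb)).trans h3)))))
  · refine .inl ((h.st hA).isCyclic h.ky (card_lt (lt_top_iff_ne_top.2 fun e => ?_))
      (le_inf inf_le_right (inf_le_left.trans (Op_le _ _))) (odd_of_le h.odd inf_le_left) h1
      (by_contra fun h0 => ?_))
    · have := h.simple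
      exact w1 (mem_bot.1 ((h.smp _ ⟨le_top, le_norm_of_le_cent (e.ge.trans
        (cent_zpowers w).ge)⟩).resolve_right (fun e' => h.cent_ne_top (top_le_iff.1 (e'.ge.trans
          (zpowers_le.2 (h.cent_le hw))))) ▸ mem_zpowers w))
    have h2 : Op p 𝐂[t] ⊓ O 𝐂[w] ≠ ⊥ := fun e => h0 (eq_bot_iff.2 (e ▸ le_inf
      (inf_le_right.trans inf_le_left) inf_le_left))
    refine h.pair.ne (h.eq_of_odd (odd_O _) (hA.trans (O_norm _)) (t_mem_S4 t s) h.pair.t_ne (s_mem_S4 t s) h.pair.s_ne h2 ?_)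
    rw [← e.ρt, cent1_conj, Op_conj, ← conj_eq_of_mem_norm (O_norm _ e.ρ_mem), ← conj_inf]
    exact mt conj_eq_bot_iff.1 h2

omit [Finite G] hp in
theorem mul_facts (hw : w ∈ 𝐂(S4 t s)) (w2 : w * w = 1) (hA : w ∉ S4 t s) (ha : a ∈ S4 t s) :
    w * a ∈ 𝐂(S4 t s) ∧ w * a * (w * a) = 1 ∧ w * a ∉ S4 t s :=
  ⟨mul_mem hw (h.pair.ab.le_cent ha), by
    rw [(show Commute a w from mem_cent_iff.1 hw a ha).mul_mul_mul_comm, w2, sq_of_mem h.pair ha,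
      one_mul], fun e => hA ((mul_mem_cancel_right ha).1 e)⟩

theorem inf_ne_bot (hw : w ∈ 𝐂(S4 t s)) (w2 : w * w = 1) (hA : w ∉ S4 t s) :
    Op p 𝐂[t] ⊓ 𝐂[w] ≠ ⊥ := fun h0 => by
  have hp := h.pair
  have k : ∀ a ∈ S4 t s, a ≠ 1 → a ≠ t → Op p 𝐂[s] ⊓ 𝐂[w * a] = ⊥ := fun a ha a1 a2 => by
    obtain ⟨k1, -, k3⟩ := h.mul_facts hw w2 hA ha
    refine (h.di k1 fun e => k3 (e ▸ one_mem _)).resolve_left ?_
    refine fun e => h.nc (isCyclic_of_le' e (le_inf le_rfl fun x hx =>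
      mem_cent1_comm.1 (mem_cent1_iff_conj.2 ?_)))
    rw [show w * a * x * (w * a)⁻¹ = w * (a * x * a⁻¹) * w⁻¹ by group, conj_eq_inv (sq_of_mem hp ha)
      (h.norm (hp.ab.le_cent ha)) (h.inv' ha a1 a2) hx, conj_eq_inv w2 (h.norm hw) h0 (inv_mem hx),
      inv_inv]
  obtain ⟨-, b, τ, -, e2, e3⟩ := h.exists_rp' (s_mem_S4 t s) hp.s_ne
  obtain ⟨k1, k2, k3⟩ := h.mul_facts hw w2 hA (s_mem_S4 t s)
  refine e2.ne (eq_bot_iff.2 ((pair_S4 (t := w * s) (fun e => k3 (e ▸ one_mem _)) hp.t_ne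
    (fun e => k3 (by rw [e]; exact t_mem_S4 t s)) k2 hp.t_sq (mem_cent_iff.1 k1 t (t_mem_S4 t s)).symm).le_of_forall
      (S4_le.2 ⟨e2.norm (e3 ▸ k1), e2.norm (e3 ▸ hp.ab.le_cent (t_mem_S4 t s))⟩) e2.odd
      (k s (s_mem_S4 t s) hp.s_ne hp.ne.symm).le (e2.inv' (e3 ▸ t_mem_S4 t s) hp.t_ne hp.ne).le ?_))
  rw [mul_assoc, ← hp.comm.eq]
  exact (k _ hp.mul.s_mem hp.mul_ne_one hp.mul.ne.symm).le

theorem isCyclic' (hw : w ∈ 𝐂(S4 t s)) (w2 : w * w = 1) (hA : w ∉ S4 t s) :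
    IsCyclic ↥(Op p 𝐂[t] ⊓ 𝐂[w]) := by
  obtain ⟨-, b, τ, -, e2, e3⟩ := h.exists_rp' (s_mem_S4 t s) h.pair.s_ne
  exact (h.di hw fun e => hA (e ▸ one_mem _)).resolve_right (e2.inf_ne_bot (e3 ▸ hw) w2 (e3 ▸ hA))

theorem isEp (hw : w ∈ 𝐂(S4 t s)) (w2 : w * w = 1) (hA : w ∉ S4 t s) :
    IsEp p 2 (Ohm p (Op p 𝐂[t])) (Op p 𝐂[t]) := by
  obtain ⟨k1, k2, k3⟩ := h.mul_facts hw w2 hA (s_mem_S4 t s)
  have h1 : IsDprod (Op p 𝐂[t] ⊓ 𝐂[w]) (Op p 𝐂[t] ⊓ 𝐂[w * s]) (Op p 𝐂[t]) :=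
    ⟨le_antisymm (sup_le inf_le_left inf_le_left) ((pair_S4 (t := w) (fun e => hA (e ▸ one_mem _))
      h.pair.s_ne (fun e => hA (by rw [e]; exact s_mem_S4 t s)) w2 h.pair.s_sq
      (mem_cent_iff.1 hw s (s_mem_S4 t s)).symm).le_of_forall (S4_le.2 ⟨h.norm hw, h.s_norm⟩) h.odd
      le_sup_left (h.inv.le.trans bot_le) le_sup_right),
    le_cent_mono h.ab.le_cent inf_le_left inf_le_left, eq_bot_iff.2 (h.inv ▸ fun x hx => ⟨hx.1.1,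
      mem_cent1_comm.1 ((mul_mem_cancel_left (mem_cent1_comm.1 hx.1.2)).1 (mem_cent1_comm.1 hx.2.2))⟩)⟩
  have h2 := h1.rp_eq (p := p)
  have h3 := rp_le_one_of_isCyclic (p := p) (h.isCyclic' hw w2 hA)
  have h4 := rp_le_one_of_isCyclic (p := p) (h.isCyclic' k1 k2 k3)
  have h5 := mt (isCyclic_iff_rp_of_ab (Op_isPGroup p _) h.ab).2 h.nc
  exact (show rp p (Op p 𝐂[t]) = 2 by omega) ▸ isEp_Ohm_of_ab h.ab

theorem inD (z2 : z * z = 1) : InD (S4 t s) z := by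
  by_contra hz
  obtain ⟨S, s1, -, s3⟩ := h.exists_syl
  have k : ∀ g, g⁻¹ * z * g ∉ S4 t s := fun g e => hz ⟨g⁻¹, by simpa using e⟩
  have k2 : ∀ g, g⁻¹ * z * g * (g⁻¹ * z * g) = 1 := fun g => by simpa using conj_sq z2 g⁻¹
  obtain ⟨c, -, hc⟩ := s1.exists_conj_le le_top (isPGroup_zp z2)
  have hE := h.isEp (w := c⁻¹⁻¹ * z * c⁻¹) (s3 (by simpa using hc (conj_mem_conj (mem_zpowers z))))
    (k2 _) (k _)
  obtain ⟨Ω, hΩ⟩ : ∃ Ω, Ω = Ohm p (Op p 𝐂[t]) := ⟨_, rfl⟩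
  have hN : 𝐂(S4 t s) ≤ 𝐍(Ω) := hΩ ▸ le_norm_Ohm p h.norm
  rw [← hΩ] at hE
  obtain ⟨e⟩ := PGrp.nonempty_mulAut_mulEquiv_GL (E := Ω) hE.ab
    (fun x => Subtype.ext (hE.abelem.2 x x.2)) hE.card
  let φ := (e.toMonoidHom.comp Ω.normalizerMonoidHom).comp (inclusion hN)
  have k3 : ∀ x, φ x = 1 → Ω ≤ 𝐂[(x : G)] := fun x hx => le_cent1_iff.2 (by
    have : inclusion hN x ∈ Ω.normalizerMonoidHom.ker := by simpa [φ] using hx
    rwa [normalizerMonoidHom_ker] at this)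
  have k4 : ∀ x : 𝐂(S4 t s), (x : G) * x = 1 → (x : G) ∉ S4 t s → φ x ≠ 1 := fun x x2 hx e =>
    hE.not_isCyclic le_rfl (isCyclic_of_le' (h.isCyclic' x.2 x2 hx) (le_inf hE.le (k3 x e)))
  have hs := h.pair.ab.le_cent (s_mem_S4 t s)
  have h2 : (2 : ZMod p) ≠ 0 := fun e => h.p2 ((Nat.prime_dvd_prime_iff_eq hp.out Nat.prime_two).1
    ((ZMod.natCast_eq_zero_iff 2 p).1 e))
  have k5 : ∀ x : 𝐂(S4 t s), (x : G) * x = 1 → φ x * φ x = 1 := fun x x2 => by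
    rw [← map_mul, show x * x = 1 from Subtype.ext x2, map_one]
  have k6 : ∀ x : 𝐂(S4 t s), (x : G) * x = 1 → (x : G) ∉ S4 t s →
      Matrix.GeneralLinearGroup.det (φ x) = -1 := fun x x2 hx => by
    refine (Units.ext_iff.2 ((mul_self_eq_one_iff.1 (by
      rw [← Units.val_mul, ← map_mul, k5 x x2, map_one, Units.val_one])).resolve_left fun e => ?_))
    obtain ⟨k1, k2, k3'⟩ := h.mul_facts x.2 x2 hx (s_mem_S4 t s)
    refine k4 (x * ⟨s, hs⟩) k2 k3' ?_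
    rw [map_mul, gl2_eq h2 (k5 x x2) (k5 ⟨s, hs⟩ h.pair.s_sq) (Units.ext e) ?_ (k4 x x2 hx)
      fun e => ?_, k5 ⟨s, hs⟩ h.pair.s_sq]
    · obtain ⟨y, hy, e⟩ := der_eq_map 𝐂(S4 t s) ▸ h.der (s_mem_S4 t s)
      rw [show (⟨s, hs⟩ : 𝐂(S4 t s)) = y from Subtype.ext e.symm]
      exact Abelianization.commutator_subset_ker (Matrix.GeneralLinearGroup.det.comp φ) hy
    · exact hE.not_isCyclic le_rfl (isCyclic_of_le' (B := ⊥) inferInstance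
        (h.inv ▸ le_inf hE.le (k3 _ e)))
  have h3 := transfer_eq_pow_index ((Matrix.GeneralLinearGroup.det.comp φ).comp (inclusion s3)) z2
    (c := -1) (by simp) fun g hg => k6 _ (k2 g) (k g)
  have h4 : z ∈ commutator G := (GW.Smp.perfect h.smp fun e => h.cent_ne_top (top_le_iff.1
    (e.le_cent.trans (cent_le_cent1 (mem_top t))))).ge (mem_top z)
  rw [MonoidHom.mem_ker.1 (Abelianization.commutator_subset_ker _ h4),
    Odd.neg_one_pow (by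
      rw [← Nat.not_even_iff_odd, even_iff_two_dvd, ← relIndex_top_right]; exact s1.not_dvd)] at h3
  exact h2 (by simpa [one_add_one_eq_two] using
    (eq_neg_iff_add_eq_zero.1 (congrArg Units.val h3)))

end RP

theorem RK.np (h : RK t s ρ) : NP (S4 t s) := fun Y hY hA ⟨r, hr, r1, r2⟩ =>
  coprime_abelian_gen_cent1 h.pair.ab (h.pair.isEp.not_isCyclic le_rfl) hA
    (h.pair.coprime hY) fun a ha a1 => by
  obtain ⟨-, -, -, b, σ, k1, k2, -⟩ := h.exists_rk' ha a1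
  rw [← k2] at hA r1 r2 ⊢
  by_contra e
  have hb := mem_norm_inf (hA (s_mem_S4 a b)) (le_normalizer (k1.pair.le_cent (s_mem_S4 a b)))
  obtain ⟨p, hp, k3, k4⟩ := k1.exists_rp (Y := Y) fun e' => e (cent_S4 a b ▸ le_inf inf_le_right (by
    rw [← cent_zpowers b, ← OO.commutator_eq_bot_iff, eq_bot_iff, ← e']
    refine le_inf ((commutator_mono (inf_le_right.trans k1.H_le) le_rfl).trans ?_)
      ((commutator_le_left' (zpowers_le.2 hb)).trans inf_le_left)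
    exact (commutator_sup_cent_left (cent_anti le_sup_right) (k1.cent_le.trans (O_norm _))).le))
  have := Fact.mk hp
  have h1 := mem_cent1_iff_conj.2 (k3.eq_of_odd hY hA (conj_mem_of_norm r1 (t_mem_S4 a b))
    (conj_ne_one.2 a1) (t_mem_S4 a b) a1 (by
      rw [cent1_conj, Op_conj, ← conj_eq_of_mem_norm hr, ← conj_inf]
      exact mt conj_eq_bot_iff.1 k4) k4)
  exact r2 (cent_S4 a b ▸ ⟨h1, k1.mem_cent_of_norm (mem_top r) r1 h1⟩)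

/-- package RK2 -/
theorem rk2 : RK2.{u} := fun G _ _ A h hA h4 hB hD => or_iff_not_imp_left.2 fun h2 => by
  obtain ⟨t, s, ρ, rfl, h1⟩ := exists_rk h hA h4 hB hD h2
  obtain ⟨p, hp, h3, -⟩ := h1.exists_rp (Y := ⊤) (by rw [inf_top_eq]; exact h1.K_ne)
  have := Fact.mk hp
  exact ⟨fun z z2 => h3.inD z2, h1.np⟩

end Cfsg.Agent.R4
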