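import Cfsg.Agent.Lib.R4.Hyp
import Cfsg.Agent.Lib.SZ.Main

/-!
# Package SEA2
-/

set_option autoImplicit false

namespace Cfsg.Agent.R4

universe u

theorem sea2 : SEA2.{u} := fun _ _ _ _ hG h3 hM hc h4 => ⟨hG, (SZ.hyp_of_se hM hc h4).sz h3 hG⟩

end Cfsg.Agent.R4
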