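import Cfsg.Agent.Lib.R4.U34
import Cfsg.Agent.Lib.R4.DE0
import Cfsg.Agent.Lib.R4.RK2f
import Cfsg.Agent.Lib.R4.SEA2
import Cfsg.Agent.Lib.R4.Y1
import Cfsg.Agent.Lib.R4.KFL3

/-!
# Assembly of the classification of the simple `S₃`-free groups
-/

set_option autoImplicit false
set_option linter.unusedSectionVars false

namespace Cfsg.Agent.R4

open Subgroup Cfsg.Agent.OO Cfsg.Agent.Coprime Cfsg.Agent.SZ Cfsg.Agent.W4 Cfsg.Agent.GW
open scoped commutatorElement Pointwise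

universe u

section

variable {G : Type u} [Group G] [Finite G] {A B M : Subgroup G}

theorem SC.exists_min (h : SC A) (hA : A ≠ ⊥) : ∃ B ≤ A, MinSC B := by
  obtain ⟨B, hB, hm⟩ := (wellFounded_lt (α := Subgroup G)).has_min
    {B | B ≤ A ∧ SC B ∧ B ≠ ⊥} ⟨A, le_rfl, h, hA⟩
  refine ⟨B, hB.1, hB.2.1, hB.2.2, fun C hC hle => ?_⟩
  by_contra! hc
  exact hm C ⟨hle.trans hB.1, hC, hc.1⟩ (lt_of_le_of_ne hle hc.2)

theorem SC.card_cases (hG : MC G) (h : SC A) (hA : A ≠ ⊥) : ♯A = 4 ∨ 8 ≤ ♯A := by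
  have := hG.simple
  obtain ⟨n, hn⟩ := h.two.exists_card_eq
  rcases n with _ | _ | _ | n
  · exact (hA (card_eq_one.1 (by simpa using hn))).elim
  · obtain ⟨a, ha, a1⟩ := (A.bot_or_exists_ne_one).resolve_left hA
    refine (h.not_le_cent hG.nab ha a1 fun g hg => ?_).elim
    obtain ⟨y, -, hy⟩ := (Nat.card_eq_two_iff' (1 : A)).1 (by simpa using hn)
    have e1 := hy ⟨a, ha⟩ (by simpa using a1)
    have e2 := hy ⟨g * a * g⁻¹, (mem_normalizer_iff.1 hg a).1 ha⟩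
      (by simpa [Subtype.ext_iff, conj_eq_one_iff] using a1)
    have e3 : g * a * g⁻¹ = a := congrArg Subtype.val (e2.trans e1.symm)
    exact mem_centralizer_singleton_iff.2 (mul_inv_eq_iff_eq_mul.1 e3)
  · exact .inl hn
  · exact .inr (by rw [hn, show n + 1 + 1 + 1 = 3 + n by ring, pow_add]; have := Nat.two_pow_pos n; omega)

theorem DSE.sz (de1 : DE1.{u}) (de2 : DE2.{u}) (de3 : DE3.{u}) (h : DSE A M) : IsSz G := by
  obtain ⟨M', hM', hle⟩ := (eq_top_or_exists_le_coatom M).resolve_left h.ne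
  have h' : DSE A M' := { h with
    ne := hM'.1
    norm := h.norm.trans hle
    cent := fun a ha a1 => (h.cent a ha a1).trans hle }
  obtain ⟨n, hn⟩ := de1 G A M' h' hM'
  have h1 := de2 G A M' n hn
  have h2 := de3 G A M' n hn h1
  have h3 : ∀ s ∈ M', s * s = 1 → s ∈ A := fun s hs e =>
    h.toSC.mem (S := A ⊔ zpowers s)
      (h.toSC.two.to_sup_of_normal_left' (two_elt e) (zpowers_le_of_mem (h1 hs))) le_sup_left
      (mem_sup_right (mem_zpowers s)) (h2 s e)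
  refine sea2 G M' h.simple h.s3f ⟨h'.ne, ?_, fun g hg e => hg ?_⟩
    (fun s hs t ht e e' => h.toSC.comm (h3 s hs e) (h3 t ht e')) ?_
  · refine .trans ?_ (card_dvd h'.A_le)
    obtain ⟨k, hk⟩ := h.toSC.two.exists_card_eq
    have := h.four
    rcases k with _ | k
    · omega
    · exact ⟨2 ^ k, by rw [hk]; ring⟩
  · obtain ⟨x, hx⟩ := exists_prime_orderOf_dvd_card' 2 e
    have x2 : x * x = 1 := by rw [← pow_two, ← hx, pow_orderOf_eq_one]
    have x1 : x ≠ 1 := fun e => by simp [e] at hx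
    have y2 : g⁻¹ * x * g * (g⁻¹ * x * g) = 1 := by
      have := congrArg Subtype.val x2
      simp only [coe_mul, coe_one] at this
      rw [show g⁻¹ * x * g * (g⁻¹ * x * g) = g⁻¹ * (x * x) * g by group, this]; group
    refine h'.mem (d := g⁻¹ * x * g) ?_ (h2 _ y2) (fun e => x1 ?_) (by simpa [mul_assoc] using x.2.1)
    · simpa using mem_pointwise_smul_iff_inv_smul_mem.1 (mem_inf.1 x.2).2
    · have := (conj_eq_one_iff (g := g⁻¹) (t := x)).1 (by simpa using e)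
      exact Subtype.ext this
  · obtain ⟨a, ha, a1⟩ := h.exists_ne
    have : ∃ b ∈ A, b ≠ 1 ∧ b ≠ a := by
      by_contra! hc
      have h5 : (A : Set G) ⊆ {1, a} := fun b hb => by
        by_cases e : b = 1
        · simp [e]
        · simp [hc b hb e]
      have h6 := (Set.ncard_le_ncard h5).trans (Set.ncard_insert_le _ _)
      have := h.four
      rw [Set.ncard_singleton, ← Nat.card_coe_set_eq] at h6
      exact absurd (this.trans h6) (by norm_num)
    obtain ⟨b, hb, b1, e⟩ := this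
    exact ⟨a, h'.A_le ha, b, h'.A_le hb, a1, b1, e.symm, h.toSC.sq ha, h.toSC.sq hb⟩

theorem MC.dse_or (kf2 : KF2.{u}) (ex : EX.{u}) (ex2 : EX2.{u}) (h : MC G) :
    (∃ A M : Subgroup G, DSE A M) ∨ R1.Ab2 G := by
  obtain ⟨A₀, h0, h1⟩ := y1_of kf1 G h
  obtain ⟨A, -, hA⟩ := h1.exists_min h0
  rcases hA.toSC.card_cases h hA.ne with h4 | h8
  swap
  · exact (ex G A h hA h8).imp_left fun e => ⟨A, e⟩
  by_cases hB : ∀ B : Subgroup G, SC B → B ≤ 𝐂(A) → A ⊓ B = ⊥ → B = ⊥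
  · by_cases hM : ∃ M, DSE A M
    · exact .inl ⟨A, hM⟩
    · exact .inr ((rk2 G A h hA.toSC h4 hB (not_exists.1 hM)).elim id
        fun e => u34 kf2 G A h hA.toSC h4 e.1 e.2)
  push Not at hB
  obtain ⟨B₀, hB0, h2, h3, h5⟩ := hB
  obtain ⟨B, hle, hB⟩ := hB0.exists_min h5
  rcases hB.toSC.card_cases h hB.ne with h6 | h8
  · exact .inl (ex2 G A B h hA.toSC hB.toSC h4 h6
      (le_bot_iff.1 (h3 ▸ inf_le_inf_left A hle)) (hle.trans h2))
  · exact (ex G B h hB h8).imp_left fun e => ⟨B, e⟩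

end

theorem s3c_of (kf2 : KF2.{u}) (ex : EX.{u}) (ex2 : EX2.{u}) (de1 : DE1.{u}) (de2 : DE2.{u})
    (de3 : DE3.{u}) (ab : AB.{u}) : S3C.{u} := by
  suffices h : ∀ n, KY.{u} n from fun X _ _ => h (Nat.card X + 1) X (Nat.lt_succ_self _)
  intro n
  induction n with
  | zero => exact fun _ _ _ h => absurd h (Nat.not_lt_zero _)
  | succ n ih =>
    intro X _ _ hX h1 h2 h3
    rcases MC.dse_or kf2 ex ex2 ⟨h1, h2, h3, ih.mono (Nat.lt_succ_iff.1 hX)⟩ with ⟨A, M, h⟩ | h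
    · exact .inl (h.sz de1 de2 de3)
    · exact .inr (ab X h1 h2 h3 h)

end Cfsg.Agent.R4
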