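import Cfsg.Agent.Lib.R4.Fus
import Cfsg.Agent.Lib.R4.Stab
import Cfsg.Agent.Lib.Wal.K1

/-!
# Package RK2, part a: strongly closed four-groups in the center of a Sylow 2-subgroup
-/

set_option autoImplicit false

namespace Cfsg.Agent.R4

open Subgroup Cfsg.Agent.OO Cfsg.Agent.Coprime Cfsg.Agent.GW Cfsg.Agent.SZ
open scoped commutatorElement Pointwise

universe u

variable {G : Type u} [Group G] {X Y E T N L P Q D : Subgroup G} {t s ρ a g x : G} {n p : ℕ}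

/-- `{1, t, s, t s}` is strongly closed and central in every 2-subgroup of `X` containing it -/
structure St (X : Subgroup G) (t s : G) : Prop where
  pair : Pair (S4 t s) t s
  le : S4 t s ≤ X
  s3f : S3F G
  cz : ∀ T ≤ X, IsPGroup 2 T → S4 t s ≤ T → T ≤ 𝐂(S4 t s)
  cl : ∀ T ≤ X, IsPGroup 2 T → S4 t s ≤ T → SCl X T (S4 t s)

/-- the involutions of the four-group are fused by `ρ ∈ X` -/
structure Fu (X : Subgroup G) (t s ρ : G) : Prop extends St X t s where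
  ρ_mem : ρ ∈ X
  ρt : ρ * t * ρ⁻¹ = s
  ρs : ρ * s * ρ⁻¹ = t * s

theorem sq_of_mem (h : Pair X t s) (ha : a ∈ S4 t s) : a * a = 1 := by
  rcases h.mem_S4.1 ha with rfl | rfl | rfl | rfl
  exacts [one_mul 1, h.t_sq, h.s_sq, h.mul_sq]

theorem isPGroup_zp (h : a * a = 1) : IsPGroup 2 (zpowers a) :=
  abelem_isPGroup (abelem_zpowers (by rw [sq, h]))

theorem S4_rot (h : Pair X t s) : S4 s (t * s) = S4 t s := by
  rw [h.comm.eq, S4_mul, S4_comm]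

namespace St

variable (h : St X t s)
include h

theorem mono (h1 : S4 t s ≤ Y) (hY : Y ≤ X) : St Y t s :=
  ⟨h.pair, h1, h.s3f, fun T hT => h.cz T (hT.trans hY),
    fun T hT h2 h3 a ha g hg => h.cl T (hT.trans hY) h2 h3 a ha g (hY hg)⟩

theorem of_eq {t' s' : G} (hp : Pair Y t' s') (e : S4 t' s' = S4 t s) : St X t' s' :=
  ⟨⟨t_mem_S4 _ _, s_mem_S4 _ _, hp.t_ne, hp.s_ne, hp.ne, hp.t_sq, hp.s_sq, hp.comm,
    e ▸ h.pair.not_dvd⟩, e ▸ h.le, h.s3f, e ▸ h.cz, e ▸ h.cl⟩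

theorem symm : St X s t := h.of_eq h.pair.symm (S4_comm s t)

theorem mul : St X t (t * s) := h.of_eq h.pair.mul (S4_mul t s)

theorem t_mem : t ∈ X := h.le (t_mem_S4 t s)

theorem s_mem : s ∈ X := h.le (s_mem_S4 t s)

theorem le_cent (ha : a ∈ S4 t s) : S4 t s ≤ 𝐂[a] := h.pair.ab.le_cent.trans (cent_le_cent1 ha)

theorem cent (ha : a ∈ S4 t s) : St (X ⊓ 𝐂[a]) t s := h.mono (le_inf h.le (h.le_cent ha)) inf_le_left

variable [Finite G]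

theorem two : IsPGroup 2 (S4 t s) := h.pair.isEp.isPGroup

theorem exists_syl : ∃ T, Syl 2 T X ∧ S4 t s ≤ T ∧ T ≤ 𝐂(S4 t s) :=
  let ⟨T, h1, h2⟩ := exists_syl_ge h.le h.two; ⟨T, h1, h2, h.cz T h1.le h1.isPGroup h2⟩

theorem mem_of_cent (ha : a ∈ S4 t s) (hg : g ∈ X) (e : g * a * g⁻¹ ∈ 𝐂(S4 t s)) :
    g * a * g⁻¹ ∈ S4 t s :=
  h.cl (S4 t s ⊔ zpowers (g * a * g⁻¹)) (sup_le h.le (zpowers_le.2
    (X.mul_mem (X.mul_mem hg (h.le ha)) (X.inv_mem hg)))) (isPGroup_sup h.two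
      (isPGroup_zp (conj_sq (sq_of_mem h.pair ha) g)) (.inr (zpowers_le.2 (cent_le_norm _ e))))
    le_sup_left a ha g hg (mem_sup_right (mem_zpowers _))

theorem fus (ha : a ∈ S4 t s) (hg : g ∈ X) (e : g * a * g⁻¹ ∈ S4 t s) :
    ∃ n ∈ X ⊓ 𝐍(S4 t s), g * a * g⁻¹ = n * a * n⁻¹ :=
  let ⟨T, h1, h2, _⟩ := h.exists_syl
  (fus_ab h1 h2 (h.cl T h1.le h1.isPGroup h2) h.pair.ab).elt (h2 ha) hg (h2 e)

theorem mem_cent_of_norm (hg : g ∈ X) (hn : g ∈ 𝐍(S4 t s)) (hc : g ∈ 𝐂[t]) : g ∈ 𝐂[s] := by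
  refine mem_of_constt_mem (π := {2}) (cent_le_cent1 (s_mem_S4 t s) (h.cz
    (S4 t s ⊔ zpowers (constt {2} g)) (sup_le h.le (zpowers_le.2 (constt_mem _ hg)))
    (isPGroup_sup h.two (isPGroup_zpowers_iff.2 (piElt_constt _ _)) (.inr (zpowers_le.2
      (constt_mem _ hn)))) le_sup_left (mem_sup_right (mem_zpowers _)))) ?_
  have h := h.pair
  obtain ⟨y, hy⟩ : ∃ y, y = constt ({2} : Set ℕ)ᶜ g := ⟨_, rfl⟩
  have h1 : Odd (orderOf y) := Nat.odd_iff.2 (by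
    have := (isPiNum_compl_singleton Nat.prime_two).1 (hy ▸ piElt_constt _ g : PiElt _ y); omega)
  have h2 := mem_cent1_iff_conj.1 (hy ▸ constt_mem ({2} : Set ℕ)ᶜ hc)
  rw [← hy]
  rcases h.mem_S4.1 (conj_mem_of_norm (hy ▸ constt_mem ({2} : Set ℕ)ᶜ hn) (s_mem_S4 t s)) with
    e | e | e | e
  · exact absurd e (conj_ne_one.2 h.s_ne)
  · exact absurd (by simpa using h2.trans e.symm) h.ne
  · exact mem_cent1_iff_conj.2 e
  · have : y ^ 2 ∈ 𝐂[s] := mem_cent1_iff_conj.2 (by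
      rw [pow_two, show y * y * s * (y * y)⁻¹ = y * (y * s * y⁻¹) * y⁻¹ by group, e, ← conj_mul, h2,
        e, ← mul_assoc, h.t_sq, one_mul])
    exact zpowers_le.2 this (mem_zpowers_pow_iff.2 (Nat.coprime_two_left.2 h1))

theorem unf_or : X ⊓ 𝐍(S4 t s) ≤ 𝐂(S4 t s) ∨ ∃ ρ, Fu X t s ρ := by
  refine or_iff_not_imp_left.2 fun hc => ?_
  obtain ⟨g, ⟨hg, hn⟩, hc⟩ := SetLike.not_le_iff_exists.1 hc
  rw [cent_S4] at hc
  have c1 : g * t * g⁻¹ ≠ t := fun e => hc ⟨mem_cent1_iff_conj.2 e,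
    h.mem_cent_of_norm hg hn (mem_cent1_iff_conj.2 e)⟩
  have c2 : g * s * g⁻¹ ≠ s := fun e => hc ⟨h.symm.mem_cent_of_norm hg (S4_comm t s ▸ hn)
    (mem_cent1_iff_conj.2 e), mem_cent1_iff_conj.2 e⟩
  have c3 : g * t * g⁻¹ * (g * s * g⁻¹) ≠ t * s := fun e => c1 (mem_cent1_iff_conj.1
    (h.mul.symm.mem_cent_of_norm hg (by rwa [S4_comm, S4_mul])
      (mem_cent1_iff_conj.2 (conj_mul.symm.trans e))))
  have hp := h.pair
  have c4 : g * t * g⁻¹ ≠ g * s * g⁻¹ := fun e => hp.ne (by simpa using e)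
  have k1 := (hp.mem_S4.1 (conj_mem_of_norm hn (t_mem_S4 t s))).resolve_left (conj_ne_one.2 hp.t_ne)
  have k2 := (hp.mem_S4.1 (conj_mem_of_norm hn (s_mem_S4 t s))).resolve_left (conj_ne_one.2 hp.s_ne)
  rcases k1.resolve_left c1 with e1 | e1 <;> rcases k2 with e2 | e2 | e2
  · exact absurd (by rw [e1, e2, hp.comm.eq]) c3
  · exact absurd e2 c2
  · exact ⟨g, h, hg, e1, e2⟩
  · refine ⟨g⁻¹, h, inv_mem hg, ?_, ?_⟩
    · rw [← e2]; group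
    · have : g * (t * s) * g⁻¹ = s := by
        rw [← conj_mul, e1, e2, hp.comm.eq, mul_assoc, hp.t_sq, mul_one]
      nth_rewrite 1 [← this]
      group
  · exact absurd e2 c2
  · exact absurd (e1.trans e2.symm) c4

/-- the `Z*` theorem -/
theorem comm_le (hu : X ⊓ 𝐍(S4 t s) ≤ 𝐂(S4 t s)) : ⁅X, S4 t s⁆ ≤ O X := by
  refine commutator_le.2 fun g hg x hx => ?_
  have h2 := sq_of_mem h.pair hx
  have := R1.zstar X ⟨x, h.le hx⟩ (Subtype.ext h2) (fun ⟨g, hK⟩ hg => Subtype.ext ?_) ⟨g, hg⟩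
  · rw [O, Op'_eq_map]; exact ⟨_, this, rfl⟩
  have h3 : g * x * g⁻¹ ∈ X ⊓ 𝐂[x] := ⟨X.mul_mem (X.mul_mem hK (h.le hx)) (X.inv_mem hK),
    mem_cent1.2 (congrArg Subtype.val hg).symm⟩
  obtain ⟨T, hT, h4, h5⟩ := (h.cent hx).exists_syl
  obtain ⟨c, hc, e⟩ := hT.exists_conj_le (zpowers_le.2 h3) (isPGroup_zp (conj_sq h2 g))
  obtain ⟨n, hn, e'⟩ := h.fus hx (mul_mem hc.1 hK) (h.mem_of_cent hx (mul_mem hc.1 hK) (h5 (by
    convert e (conj_mem_conj (mem_zpowers _)) using 1; group)))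
  rw [mem_cent_iff_conj.1 (hu hn) x hx] at e'
  change g * x * g⁻¹ = x
  calc _ = c⁻¹ * (c * g * x * (c * g)⁻¹) * c⁻¹⁻¹ := by group
    _ = x := by rw [e']; exact mem_cent1_iff_conj.1 (inv_mem hc.2)

theorem quo_cent (hN : N ⊴ X) (ho : Odd ♯N) :
    (X ⊓ 𝐂(S4 t s)) ⁒ N = X ⁒ N ⊓ 𝐂(S4 (coset N t) (coset N s)) := by
  rw [quo_inf_cent hN.le (h.le.trans hN.norm) (h.pair.coprime ho) (.inr (sol_of_ab h.pair.ab)),
    S4_quo (hN.norm h.t_mem) (hN.norm h.s_mem)]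

theorem le_sup (hu : X ⊓ 𝐍(S4 t s) ≤ 𝐂(S4 t s)) : X ≤ O X ⊔ X ⊓ 𝐂(S4 t s) := by
  have hO : O X ⊴ X := Opi_normal _ X
  rw [sup_comm, ← quo_le_quo_iff_le_sup hO.norm (inf_le_left.trans hO.norm), h.quo_cent hO (odd_O X),
    ← S4_quo (hO.norm h.t_mem) (hO.norm h.s_mem)]
  exact le_inf le_rfl (quo_le_cent_of_commutator_le (h.comm_le hu))

theorem quo (hN : N ⊴ X) (ho : Odd ♯N) : St (X ⁒ N) (coset N t) (coset N s) := by
  have e := S4_quo (hN.norm h.t_mem) (hN.norm h.s_mem)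
  have k : ∀ T' ≤ X ⁒ N, IsPGroup 2 T' → S4 (coset N t) (coset N s) ≤ T' →
      ∃ T K, Syl 2 T K ∧ S4 t s ≤ T ∧ N ≤ K ∧ K ≤ X ∧ T ⁒ N = T' ∧ K ⁒ N = T' := fun T' h1 h2 h3 => by
    obtain ⟨K, k1, k2, rfl⟩ := exists_quo_eq hN h1
    obtain ⟨T, k3, k4⟩ := exists_syl_ge ((quo_le_quo_iff (h.le.trans hN.norm) k1).1 (e ▸ h3)) h.two
    exact ⟨T, K, k3, k4, k1, k2, (k3.quo (k2.trans hN.norm)).eq_self h2, rfl⟩
  refine ⟨e ▸ h.pair.quo (h.le.trans hN.norm) ho, e ▸ quo_mono N h.le,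
    (h.s3f.sub _).of_surjective _ (cosetHom_surjective N), fun T' h1 h2 h3 => ?_,
    fun T' h1 h2 h3 a' ha' g' hg' h4 => ?_⟩
  · obtain ⟨T, K, k1, k2, -, k4, rfl, -⟩ := k T' h1 h2 h3
    exact e ▸ quo_le_cent N (h.cz T (k1.le.trans k4) k1.isPGroup k2)
  obtain ⟨T, K, k1, k2, k3, k4, k5, rfl⟩ := k T' h1 h2 h3
  obtain ⟨a, ha, rfl⟩ := (mem_quo_of_le (h.le.trans hN.norm)).1 (e ▸ ha')
  obtain ⟨g, hg, rfl⟩ := (mem_quo_of_le hN.norm).1 hg'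
  have h5 : g * a * g⁻¹ ∈ X := X.mul_mem (X.mul_mem hg (h.le ha)) (X.inv_mem hg)
  rw [← coset_conj (hN.norm hg) (hN.norm (h.le ha))] at h4 ⊢
  rw [coset_mem_quo_iff (hN.norm h5) k3] at h4
  obtain ⟨c, hc, h6⟩ := k1.exists_conj_le (zpowers_le.2 h4)
    (isPGroup_zp (conj_sq (sq_of_mem h.pair ha) g))
  have h7 := h.cl T (k1.le.trans k4) k1.isPGroup k2 a ha (c * g) (mul_mem (k4 hc) hg) (by
    convert h6 (conj_mem_conj (mem_zpowers _)) using 1; group)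
  have h8 : coset N c ∈ 𝐂(S4 t s ⁒ N) := quo_le_cent N (h.cz T (k1.le.trans k4) k1.isPGroup k2)
    (k5.ge (coset_mem_quo N hc))
  have h9 := conj_mem_of_norm' (cent_le_norm _ h8) (coset_mem_quo N h7)
  rw [← coset_inv, ← coset_mul (inv_mem (hN.norm (k4 hc))) (hN.norm (h.le h7)), ← coset_mul
    (mul_mem (inv_mem (hN.norm (k4 hc))) (hN.norm (h.le h7))) (hN.norm (k4 hc)), e] at h9
  convert h9 using 2
  group

end St

namespace Fu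

variable (h : Fu X t s ρ)
include h

theorem ρts : ρ * (t * s) * ρ⁻¹ = t := by
  rw [← conj_mul, h.ρt, h.ρs, ← mul_assoc, ← h.pair.comm.eq, mul_assoc, h.pair.s_sq, mul_one]

theorem rot : Fu X s (t * s) ρ :=
  ⟨h.of_eq (h.pair.comm.eq ▸ h.pair.symm.mul) (S4_rot h.pair), h.ρ_mem, h.ρs, by
    rw [h.ρts, ← mul_assoc, ← h.pair.comm.eq, mul_assoc, h.pair.s_sq, mul_one]⟩

theorem mono' (h1 : S4 t s ≤ Y) (h2 : ρ ∈ Y) (hY : Y ≤ X) : Fu Y t s ρ :=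
  ⟨h.mono h1 hY, h2, h.ρt, h.ρs⟩

theorem v4 (h8 : ¬ 8 ∣ ♯X) : V4 X t s ρ :=
  ⟨h.t_mem, h.ρ_mem, h.pair.t_ne, h.pair.t_sq, h.pair.comm, h.ρt, h.ρs, h8⟩

theorem exists_conj (ha : a ∈ S4 t s) (h1 : a ≠ 1) : ∃ g ∈ zpowers ρ, g * t * g⁻¹ = a := by
  rcases h.pair.mem_S4.1 ha with rfl | rfl | rfl | rfl
  exacts [absurd rfl h1, ⟨1, one_mem _, by simp⟩, ⟨ρ, mem_zpowers ρ, h.ρt⟩,
    ⟨ρ⁻¹, inv_mem (mem_zpowers ρ), by nth_rewrite 1 [← h.ρts]; group⟩]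

theorem ne_conj (ha : a ∈ S4 t s) (h1 : a ≠ 1) : ρ * a * ρ⁻¹ ≠ a := by
  rcases h.pair.mem_S4.1 ha with rfl | rfl | rfl | rfl
  · exact absurd rfl h1
  · exact h.ρt ▸ h.pair.ne.symm
  · exact h.ρs ▸ fun e => h.pair.t_ne (by simpa using e)
  · rw [h.ρts]; exact h.pair.mul.ne

theorem not_le_cent (ha : a ∈ S4 t s) (h1 : a ≠ 1) : ¬ X ≤ 𝐂[a] := fun e =>
  h.ne_conj ha h1 (mem_cent1_iff_conj.1 (e h.ρ_mem))

theorem le_of_mem (hN : ρ ∈ 𝐍(N)) (ha : a ∈ S4 t s) (h1 : a ≠ 1) (h2 : a ∈ N) : S4 t s ≤ N := by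
  obtain ⟨g, hg, rfl⟩ := h.exists_conj ha h1
  have h2 : t ∈ N := (mem_norm_iff.1 (zpowers_le.2 hN hg) t).2 h2
  exact S4_le.2 ⟨h2, h.ρt ▸ conj_mem_of_norm hN h2⟩

theorem le_of_inf (hN : ρ ∈ 𝐍(N)) (h0 : N ⊓ S4 t s ≠ ⊥) : S4 t s ≤ N :=
  let ⟨_, ha, h1⟩ := (bot_or_exists_ne_one _).resolve_left h0; h.le_of_mem hN ha.2 h1 ha.1

theorem le_comm (hN : ρ ∈ 𝐍(N)) (hc : ⁅t, ρ⁆ ∈ N) : S4 t s ≤ N :=
  h.le_of_mem hN h.pair.mul.s_mem h.pair.mul_ne_one (by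
    rwa [commutatorElement_def, inv_eq h.pair.t_sq, mul_assoc t, mul_assoc t, h.ρt] at hc)

theorem le_der : S4 t s ≤ der X :=
  h.le_comm ((der_normal X).norm h.ρ_mem) (commutator_mem_commutator h.t_mem h.ρ_mem)

theorem three_dvd {k : ℕ} (hk : ρ ^ k ∈ 𝐂[t]) : 3 ∣ k := by
  have h3 : ρ ^ 3 ∈ 𝐂[t] := mem_cent1_iff_conj.2 (by
    rw [show ρ ^ 3 * t * (ρ ^ 3)⁻¹ = ρ * (ρ * (ρ * t * ρ⁻¹) * ρ⁻¹) * ρ⁻¹ by
      simp only [pow_succ, pow_zero]; group, h.ρt, h.ρs, h.ρts])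
  by_contra e
  have := mul_mem (zpow_mem h3 (Nat.gcdA 3 k)) (zpow_mem hk (Nat.gcdB 3 k))
  rw [← zpow_natCast, ← zpow_natCast, ← zpow_mul, ← zpow_mul, ← zpow_add, ← Nat.gcd_eq_gcd_ab,
    (Nat.Prime.coprime_iff_not_dvd Nat.prime_three).2 e, Nat.cast_one, zpow_one] at this
  exact h.ne_conj (t_mem_S4 t s) h.pair.t_ne (mem_cent1_iff_conj.1 this)

variable [Finite G]

theorem mem_norm : ρ ∈ 𝐍(S4 t s) :=
  mem_norm_of_conj_le (by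
    rw [conj_S4, h.ρt, h.ρs]
    exact S4_le.2 ⟨s_mem_S4 _ _, mul_mem (t_mem_S4 _ _) (s_mem_S4 _ _)⟩)

theorem not_unf : ¬ X ⊓ 𝐍(S4 t s) ≤ 𝐂(S4 t s) := fun e => h.ne_conj (t_mem_S4 t s) h.pair.t_ne
  (mem_cent_iff_conj.1 (e ⟨h.ρ_mem, h.mem_norm⟩) t (t_mem_S4 t s))

theorem norm_le : X ⊓ 𝐍(S4 t s) ≤ X ⊓ 𝐂(S4 t s) ⊔ zpowers ρ := by
  intro g hg
  obtain ⟨y, hy, e⟩ := h.exists_conj (conj_mem_of_norm hg.2 (t_mem_S4 t s))
    (conj_ne_one.2 h.pair.t_ne)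
  have h1 : y⁻¹ * g ∈ X ⊓ 𝐍(S4 t s) :=
    mul_mem (inv_mem (zpowers_le.2 (show ρ ∈ X ⊓ _ from ⟨h.ρ_mem, h.mem_norm⟩) hy)) hg
  have h2 : y⁻¹ * g ∈ 𝐂[t] := mem_cent1_iff_conj.2 (by
    rw [show y⁻¹ * g * t * (y⁻¹ * g)⁻¹ = y⁻¹ * (g * t * g⁻¹) * y by group, ← e]; group)
  exact (mul_mem_cancel_left (inv_mem (mem_sup_right hy))).1
    (mem_sup_left ⟨h1.1, cent_S4 t s ▸ ⟨h2, h.mem_cent_of_norm h1.1 h1.2 h2⟩⟩)

theorem quo' (hN : N ⊴ X) (ho : Odd ♯N) : Fu (X ⁒ N) (coset N t) (coset N s) (coset N ρ) :=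
  ⟨h.quo hN ho, coset_mem_quo N h.ρ_mem, by
    rw [← coset_conj (hN.norm h.ρ_mem) (hN.norm h.t_mem), h.ρt], by
    rw [← coset_conj (hN.norm h.ρ_mem) (hN.norm h.s_mem), h.ρs,
      coset_mul (hN.norm h.t_mem) (hN.norm h.s_mem)]⟩

end Fu

variable [Finite G]

/-- a subgroup normalized by the four-group contains it or is centralized by it modulo its core -/
theorem St.le_or (h : St X t s) (hE : E ≤ X) (hn : S4 t s ≤ 𝐍(E)) :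
    S4 t s ≤ E ∨ ⁅E, S4 t s⁆ ≤ O E := by
  have h1 := normalIn_sup_left hn
  rcases (h.mono le_sup_right (sup_le hE h.le)).unf_or with e | ⟨ρ, e⟩
  · refine .inr (le_O ⟨commutator_le_left' hn, le_norm_commutator_left _ _⟩ (odd_of_le (odd_O _)
      ((commutator_mono le_sup_left le_rfl).trans
        ((h.mono le_sup_right (sup_le hE h.le)).comm_le e))))
  · refine .inl (e.le_der.trans ((der_mono le_rfl).trans ?_))
    rw [← ab_quo_iff h1.norm, quo_self_sup hn]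
    exact ab_quo h.pair.ab E

end Cfsg.Agent.R4
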