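import Cfsg.Agent.Lib.R4.RK2a

/-!
# Package RK2, part b: proper sections containing the four-group
-/

set_option autoImplicit false

namespace Cfsg.Agent.R4

open Subgroup Cfsg.Agent.OO Cfsg.Agent.Coprime Cfsg.Agent.GW Cfsg.Agent.SZ
open scoped commutatorElement Pointwise

universe u

variable {G : Type u} [Group G] [Finite G] {X Y E T N L P Q D U V : Subgroup G} {t s ρ a g x : G}
  {n p : ℕ}

/-- involutions of `E` generating a 2-group commute -/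
def IC (E : Subgroup G) : Prop := ∀ i ∈ E, ∀ j ∈ E, i * i = 1 → j * j = 1 →
  ∀ k : ℕ, (i * j) ^ 2 ^ k = 1 → i * j = j * i

omit [Finite G] in
theorem IC.mono (h : IC E) (hY : Y ≤ E) : IC Y := fun i hi j hj => h i (hY hi) j (hY hj)

omit [Finite G] in
theorem ic_of_ab (h : Ab E) : IC E := fun i hi j hj _ _ _ _ => ab_iff.1 h i hi j hj

omit [Finite G] in
theorem IC.conj (h : IC E) (g : G) : IC (g •ᶜ E) := fun i' hi' j' hj' i2 j2 k hk => by
  obtain ⟨i, hi, rfl⟩ := mem_conj_iff_exists.1 hi'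
  obtain ⟨j, hj, rfl⟩ := mem_conj_iff_exists.1 hj'
  rw [conj_mul] at i2 j2 hk ⊢
  rw [conj_mul, h i hi j hj (by simpa using i2) (by simpa using j2) k
    (by simpa [conj_pow] using hk)]

omit [Finite G] in
theorem IC.sup (h1 : IC U) (h2 : IC V) (hc : V ≤ 𝐂(U)) (h0 : U ⊓ V = ⊥) : IC (U ⊔ V) := by
  have k : ∀ a ∈ U, ∀ b ∈ V, a * b = 1 → a = 1 ∧ b = 1 := fun a ha b hb e => by
    have : a = 1 := mem_bot.1 (h0 ▸ (⟨ha, eq_inv_of_mul_eq_one_left e ▸ V.inv_mem hb⟩ : a ∈ U ⊓ V))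
    exact ⟨this, by simpa [this] using e⟩
  have c : ∀ {a b}, a ∈ U → b ∈ V → Commute a b := fun ha hb => mem_cent_iff.1 (hc hb) _ ha
  intro i hi j hj i2 j2 m hm
  obtain ⟨a, ha, b, hb, rfl⟩ := (IsDprod.of_sup hc h0).mem_iff.1 hi
  obtain ⟨a', ha', b', hb', rfl⟩ := (IsDprod.of_sup hc h0).mem_iff.1 hj
  rw [(c ha hb).symm.mul_mul_mul_comm] at i2
  rw [(c ha' hb').symm.mul_mul_mul_comm] at j2
  rw [(c ha' hb).symm.mul_mul_mul_comm, (c (mul_mem ha ha') (mul_mem hb hb')).mul_pow] at hm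
  obtain ⟨e1, e2⟩ := k _ (mul_mem ha ha) _ (mul_mem hb hb) i2
  obtain ⟨e3, e4⟩ := k _ (mul_mem ha' ha') _ (mul_mem hb' hb') j2
  obtain ⟨e5, e6⟩ := k _ (pow_mem (mul_mem ha ha') _) _ (pow_mem (mul_mem hb hb') _) hm
  rw [(c ha' hb).symm.mul_mul_mul_comm, (c ha hb').symm.mul_mul_mul_comm, h1 a ha a' ha' e1 e3 m e5,
    h2 b hb b' hb' e2 e4 m e6]

omit [Finite G] in
theorem ic_of_top (h : IC (⊤ : Subgroup E)) : IC E := fun i hi j hj i2 j2 k hk =>
  congrArg Subtype.val (h ⟨i, hi⟩ (mem_top _) ⟨j, hj⟩ (mem_top _) (Subtype.ext i2) (Subtype.ext j2) k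
    (Subtype.ext hk))

theorem IsSz.ic (h : IsSz G) : IC (⊤ : Subgroup G) ∧ ¬ 3 ∣ Nat.card G := by
  obtain ⟨-, S, t, m, -, hC, h1, h2, -⟩ := h
  refine ⟨fun i _ j _ i2 j2 k => ?_, ?_⟩
  · induction k with
    | zero => exact fun e => by rw [← inv_eq i2, ← eq_inv_of_mul_eq_one_right (by simpa using e)]
    | succ k ih =>
      intro e
      by_cases e' : (i * j) ^ 2 ^ k = 1
      · exact ih e'
      by_cases i1 : i = 1
      · simp [i1]
      have c1 := R1.commute_of_pow_sq i2 j2 (by rwa [← pow_succ'])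
      have c2 : Commute ((i * j) ^ 2 ^ k) i := by
        have := (Commute.pow_self (i * j) (2 ^ k)).mul_right c1
        rwa [mul_assoc, j2, mul_one] at this
      obtain ⟨z, hz, z1, z2⟩ := hC.ex
      obtain ⟨g, hg⟩ := hC.exists_conj_of_ne_top hC.norm_ne_top hz z1 z2 e'
        (by rw [← pow_add, ← two_mul, ← pow_succ', e])
      have k : ∀ x, Commute ((i * j) ^ 2 ^ k) x → g⁻¹ * x * g ∈ S := fun x hx =>
        (hC.cent z hz z1 z2 _).1 (by
          rw [hg] at hx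
          calc _ = g⁻¹ * (x * (g * z * g⁻¹)) * g := by group
            _ = _ := by rw [← hx.eq]; group)
      have := (hC.cent _ (k i c2) (conj_ne_one'.2 i1) (by simpa using conj_sq i2 g⁻¹) _).2 (k j c1)
      calc _ = g * (g⁻¹ * i * g * (g⁻¹ * j * g)) * g⁻¹ := by group
        _ = _ := by rw [← this]; group
  · have h3 : 2 ^ (2 * m + 1) % 3 = 2 := by
      rw [pow_succ, pow_mul, Nat.mul_mod, Nat.pow_mod]; simp
    rw [hC.card_eq, h1]
    generalize 2 ^ (2 * m + 1) = q at h2 h3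
    obtain ⟨c, rfl⟩ : ∃ c, q = 3 * c + 2 := ⟨q / 3, by omega⟩
    rw [show ♯(BSW.Kt S t) = 3 * c + 1 by omega, Nat.dvd_iff_mod_eq_zero]
    simp [Nat.mul_mod, Nat.add_mod, Nat.pow_mod]

/-- the facts needed about known simple groups -/
theorem kfact (ky : KY.{u} n) (h3 : S3F G) (hn : ♯L < n) (hs : Smp L) (ha : ¬ Ab L) :
    IC L ∧ (3 ∣ ♯L → Good L ∧ ¬ 8 ∣ ♯L) := by
  have := hs.isSimpleGroup fun e => ha (e ▸ ab_bot)
  rcases ky L hn this ha (h3.sub L) with h | ⟨f, hf, ⟨e⟩⟩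
  · exact ⟨ic_of_top h.ic.1, fun e => absurd e h.ic.2⟩
  have := Fintype.ofFinite (GaloisField 3 (2 * f + 1))
  have h1 : Fintype.card (GaloisField 3 (2 * f + 1)) = 3 ^ (2 * f + 1) := by
    rw [← Nat.card_eq_fintype_card, GaloisField.card _ _ (by omega)]
  have h2 : 3 ^ (2 * f + 1) % 8 = 3 := by
    rw [pow_succ, pow_mul, Nat.mul_mod, Nat.pow_mod]; simp
  have h8 := (Wal.psl_facts (by
    rw [h1]; exact le_trans (by norm_num) (Nat.pow_le_pow_right three_pos (show 2 ≤ _ by omega)))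
    (.inl (h1 ▸ h2)) e).2.2
  refine ⟨ic_of_top fun i _ j _ i2 j2 k hk => ?_, fun _ => ⟨good_of_equiv (by
    rw [h1]; exact Odd.pow (by decide)) e hs ha, h8⟩⟩
  obtain ⟨-, t, s, ρ, hv⟩ := exists_v4 ha (by rwa [card_top])
  have h4 : j ∈ zpowers (i * j) ⊔ zpowers i := by
    simpa [← mul_assoc, i2] using mul_mem (mem_sup_right (mem_zpowers i))
      (mem_sup_left (mem_zpowers (i * j)) : _ ∈ zpowers (i * j) ⊔ zpowers i)
  refine ab_iff.1 (hv.pair.ab_of_two _ le_top (isPGroup_sup (IsPGroup.of_card_dvd_pow (n := k)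
    (by rw [Nat.card_zpowers]; exact orderOf_dvd_of_pow_eq_one hk)) (isPGroup_zp i2) (.inr
      (zpowers_le.2 (mem_norm_of_conj_le ?_))))) i (mem_sup_right (mem_zpowers i)) j h4
  rw [conj_zpowers, zpowers_le, show i * (i * j) * i⁻¹ = (i * j)⁻¹ by
    rw [← mul_assoc, i2, mul_inv_rev, inv_eq j2, one_mul]]
  exact inv_mem (mem_zpowers _)

/-- a minimal normal subgroup of a known group -/
theorem ic_of_min (ky : KY.{u} n) (h3 : S3F G) (hn : ♯Y < n) (h : IsMinNormalBy Y X) (hle : Y ≤ X) :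
    IC Y := by
  induction Y using Core.subgroup_induction_lt generalizing X with
  | h Y ih =>
  obtain ⟨V, hV, hVY⟩ := exists_minNormalBy h.ne_bot (le_norm_self Y)
  rcases hVY.lt_or_eq with e | rfl
  · have h1 := ih V e ((card_le hVY).trans_lt hn) hV hVY
    obtain ⟨U, ⟨k1, k2⟩, k3⟩ := Set.exists_max_image {U | U ⊴ Y ∧ IC U} (fun U => ♯U) (Set.toFinite _)
      ⟨⊥, .bot Y, ic_of_ab ab_bot⟩
    refine k2.mono ((h.eq_of_ne_bot (Core.invClosure_le hVY h.norm) (Core.le_normalizer_invClosure V X)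
      fun e => hV.ne_bot (eq_bot_iff.2 (e ▸ Core.le_invClosure V X))).ge.trans
        (Core.invClosure_le_of_forall fun l hl => ?_))
    have h2 : IsMinNormalBy (l •ᶜ V) Y := conj_eq_of_mem_norm (h.norm hl) ▸ hV.conj l
    have h4 : l •ᶜ V ≤ Y := conj_le_of_mem_norm (h.norm hl) hVY
    refine (h2.inf_eq_bot_or_le k1.norm).elim (fun e => ?_) id
    exact le_sup_right.trans (eq_of_le_of_card_le le_sup_left (k3 _ ⟨k1.sup ⟨h4, h2.norm⟩, k2.sup
      (h1.conj l) (le_cent_of_inf_eq_bot (h4.trans k1.norm) (k1.le.trans h2.norm) e)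
        (inf_comm U _ ▸ e)⟩)).ge
  by_cases ha : Ab V
  · exact ic_of_ab ha
  · exact (kfact ky h3 hn (fun N hN => hV.eq_bot_or_eq hN.le hN.norm) ha).1

/-- `L` is a normal subgroup `L₂(3 ^ f)` with Sylow 2-subgroup the four-group -/
structure Rd (X L : Subgroup G) (t s ρ : G) : Prop where
  normal : L ⊴ X
  good : Good L
  v4 : V4 L t s ρ

namespace St

variable (h : St X t s)
include h

theorem red (ky : KY.{u} n) (hn : ♯X < n) (hO : O X = ⊥) :
    X ≤ 𝐍(S4 t s) ∨ ∃ L ρ, Rd X L t s ρ := by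
  obtain ⟨D, hD⟩ : ∃ D, D = Core.invClosure (S4 t s) X := ⟨_, rfl⟩
  have h1 : D ⊴ X := hD ▸ ⟨Core.invClosure_le h.le le_normalizer, Core.le_normalizer_invClosure _ _⟩
  have h2 := h.mono (hD ▸ Core.le_invClosure _ X : S4 t s ≤ D) h1.le
  have k0 : ∀ E, E ⊴ D → O E = ⊥ := fun E hE => eq_bot_iff.2
    (((Opi_le_of_normal _ hE).trans (Opi_le_of_normal _ h1)).trans hO.le)
  have k1 : ∀ E, E ⊴ D → S4 t s ≤ E → E = D := fun E hE e => le_antisymm hE.le (hD.le.trans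
    (Core.invClosure_le_of_forall fun l hl => by
      obtain ⟨T, t1, -, t3⟩ := h2.exists_syl
      obtain ⟨d, hd, t4⟩ := t1.exists_conj_le (conj_le_of_mem_norm (h1.norm hl) h2.le)
        (isPGroup_conj.2 h.two)
      rw [conj_conj] at t4
      rw [← conj_eq_map, ← conj_le_conj_iff (g := d), conj_conj, hE.conj_eq hd]
      exact conj_le_iff.2 fun a ha => e (h.mem_of_cent ha (mul_mem (h1.le hd) hl)
        (t3 (t4 (conj_mem_conj ha))))))
  have k2 : ∀ E, E ⊴ D → E = D ∨ E ≤ Zc D := fun E hE =>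
    (h2.le_or hE.le (h2.le.trans hE.norm)).imp (k1 E hE) fun e => le_inf hE.le (le_cent_symm
      ((k1 _ hE.cent (le_inf h2.le (commutator_eq_bot_iff'.1 (eq_bot_iff.2 (k0 E hE ▸ e))))).ge.trans
        inf_le_right))
  rcases h2.unf_or with e | ⟨ρ, e⟩
  · exact .inl (k1 _ ⟨h2.le, le_norm_of_le_cent (OO.commutator_eq_bot_iff.1
      (eq_bot_iff.2 (k0 D (.refl D) ▸ h2.comm_le e)))⟩ le_rfl ▸ h1.norm)
  have hp := h.pair
  have k3 : ∀ a ∈ S4 t s, a ≠ 1 → a ∉ Zc D := fun a ha a1 e' =>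
    e.not_le_cent ha a1 (le_cent1_iff.2 e'.2)
  have k4 := k1 _ (der_normal D) e.le_der
  have hZ := Zc_normal D
  have k5 : 3 ∣ ♯(D ⁒ Zc D) := e.three_dvd (cent_le_cent1 h2.t_mem
    ((coset_eq_one_iff (hZ.norm (pow_mem e.ρ_mem _))).1 (by
      rw [coset_pow (hZ.norm e.ρ_mem)]
      exact orderOf_dvd_iff_pow_eq_one.1 (orderOf_dvd_card (coset_mem_quo _ e.ρ_mem)))).2)
  have k6 := ((kfact ky ((h.s3f.sub _).of_surjective _ (cosetHom_surjective (Zc D)))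
    (((card_quo_le D _).trans (card_le h1.le)).trans_lt hn) (fun E hE => by
      obtain ⟨E, e1, e2, rfl⟩ := exists_quo_eq_normal hZ hE
      exact (k2 E e2).symm.imp quo_eq_bot fun e => by rw [e]) fun e => by
      rw [ab_quo_iff hZ.norm, k4] at e
      exact k3 t (t_mem_S4 t s) hp.t_ne (e h2.t_mem)).2 k5).2
  have ht := hZ.norm h2.t_mem
  have hs := hZ.norm h2.s_mem
  have k7 : Pair (D ⁒ Zc D) (coset _ t) (coset _ s) := ⟨coset_mem_quo _ h2.t_mem,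
    coset_mem_quo _ h2.s_mem, mt (coset_eq_one_iff ht).1 (k3 t (t_mem_S4 t s) hp.t_ne),
    mt (coset_eq_one_iff hs).1 (k3 s (s_mem_S4 t s) hp.s_ne), mt (coset_eq_iff ht hs).1
      (by rw [inv_eq hp.t_sq]; exact k3 _ hp.mul.s_mem hp.mul_ne_one), coset_sq ht hp.t_sq,
    coset_sq hs hp.s_sq, mem_cent1.1 (coset_mem_cent1 hs (mem_cent1.2 hp.comm)), k6⟩
  obtain ⟨T, t1, t2, t3⟩ := h2.exists_syl
  have k8 : T ≤ S4 t s ⊔ Zc D := by
    rw [← quo_le_quo_iff_le_sup (t1.le.trans hZ.norm) (h2.le.trans hZ.norm), S4_quo ht hs]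
    exact k7.syl.le_of_norm (quo_mono _ t1.le) (isPGroup_quo t1.isPGroup _)
      (.inr (S4_quo ht hs ▸ quo_le_norm _ (le_norm_of_le_cent t3)))
  have k9 : Zc D = ⊥ := by
    by_contra h0
    obtain ⟨z, hz, z1⟩ := exists_prime_order_mem h0
    refine z1.one_lt.ne' (orderOf_eq_one_iff.2 ?_)
    by_cases z2 : orderOf z = 2
    · exact eq_one_of_mem_Zc (ab_of_le (ab_sup hp.ab (Zc_ab D) (h2.le.trans (le_cent_Zc D))) k8) hz
        (k4.ge hz.1) (z2 ▸ (Nat.Prime.coprime_iff_not_dvd Nat.prime_two).2 t1.not_dvd)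
    · exact zpowers_eq_bot.1 (eq_bot_iff.2 (k0 D (.refl D) ▸ le_O (normalIn_of_le_Zc (zpowers_le.2 hz))
        (by rw [Nat.card_zpowers]; exact z1.odd_of_ne_two z2)))
  obtain ⟨k10, k11⟩ := (kfact ky h.s3f ((card_le h1.le).trans_lt hn) (fun E hE => (k2 E hE).symm.imp_left
    fun e => eq_bot_iff.2 (k9 ▸ e)) fun e' => e.not_le_cent (t_mem_S4 t s) hp.t_ne
      (e'.le_cent.trans (cent_le_cent1 h2.t_mem))).2 (k5.trans (card_quo_dvd _ _))
  exact .inr ⟨D, ρ, h1, k10, e.v4 k11⟩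

theorem quoO : St (X ⁒ O X) (coset (O X) t) (coset (O X) s) := h.quo (Opi_normal _ X) (odd_O X)

theorem red_quo (ky : KY.{u} n) (hn : ♯X < n) :
    X ⁒ O X ≤ 𝐍(S4 (coset (O X) t) (coset (O X) s)) ∨
      ∃ L ρ, Rd (X ⁒ O X) L (coset (O X) t) (coset (O X) s) ρ :=
  h.quoO.red ky ((card_quo_le _ _).trans_lt hn) (O_quo X)

theorem le_cent_of_red [Fact p.Prime] (h2 : p ≠ 2)
    (hr : X ≤ 𝐍(S4 t s) ∨ ∃ L ρ, Rd X L t s ρ) (hP : P ≤ X) (hp : IsPGroup p P)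
    (hc : X ⊓ 𝐂[t] ≤ 𝐍(P)) : P ≤ 𝐂[t] := by
  have hS := (h.cent (t_mem_S4 t s)).le.trans hc
  have h := h.pair
  have ho := odd_of_isPGroup h2 hp
  have ht : zpowers t ≤ 𝐍(P) := zpowers_le.2 (hS (t_mem_S4 t s))
  have h1 := commutator_le_left' ht
  rw [← cent_zpowers, le_cent_comm]
  refine coprime_commGG1P ht (coprime_zp ho h.t_sq) (.inl (sol_of_odd ho))
    (OO.commutator_eq_bot_iff.2 ?_)
  rw [cent_zpowers]
  obtain e | ⟨L, ρ, e⟩ := hr
  · refine le_trans (le_inf h1 ((commutator_mono le_rfl le_sup_left).trans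
      (commutator_le_right' (hP.trans e)))) (inf_le_right.trans h.le_cent)
  have hv := e.v4.pair
  refine (le_inf h1 ((commutator_mono le_rfl (zpowers_le.2 hv.t_mem)).trans
    (commutator_le_right' (hP.trans e.normal.norm)))).trans ?_
  by_cases h0 : P ⊓ L = ⊥
  · exact h0.le.trans bot_le
  have ho' := odd_of_le ho (inf_le_left : P ⊓ L ≤ P)
  have h3 : L ⊓ 𝐂[t] ≤ 𝐍(P ⊓ L) := le_norm_inf ((inf_le_inf_right _ e.normal.le).trans hc)
    (le_norm_of_le inf_le_left)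
  obtain ⟨a, ha, a1, h4⟩ := e.good.exists_le_cent hv inf_le_right
    (nil_of_isPGroup (hp.to_le inf_le_left)) ho' h0 (hv.cent.le.trans h3)
  obtain ⟨g, hg, rfl⟩ := e.v4.exists_conj_of_mem ha a1
  have h5 := eq_of_le_of_card_le (le_inf inf_le_left ((le_inf inf_le_left h3).trans (e.good.norm_le
    (hv.le ha) a1 (conj_sq h.t_sq g) (le_inf inf_le_right h4) ho' h0)))
      (card_inf_cent_conj (zpowers_le.2 e.v4.ρ_mem hg) t).le
  exact ((le_inf inf_le_right h4).trans h5.ge).trans inf_le_right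

theorem commutator_le_O [Fact p.Prime] (h2 : p ≠ 2) (ky : KY.{u} n) (hn : ♯X < n) (hP : P ≤ X)
    (hp : IsPGroup p P) (hc : X ⊓ 𝐂[t] ≤ 𝐍(P)) : ⁅P, zpowers t⁆ ≤ O X := by
  rw [← quo_le_cent_iff (hP.trans (O_norm X)) (zpowers_le.2 (O_norm X h.t_mem)),
    quo_zpowers (O_norm X h.t_mem), cent_zpowers]
  refine h.quoO.le_cent_of_red h2 (h.red_quo ky hn) (quo_mono _ hP) (isPGroup_quo hp _) ?_
  rw [← quo_cent1_of_odd (O_norm X) (odd_O X) h.t_mem h.pair.t_sq]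
  exact quo_le_norm _ hc

theorem le_Op [Fact p.Prime] (h2 : p ≠ 2) (ky : KY.{u} n) (hn : ♯X < n) (hP : P ≤ X)
    (hp : IsPGroup p P) (hc : X ⊓ 𝐂[t] ≤ 𝐍(P)) (hY : Y ≤ P) (ht : t ∈ 𝐍(Y))
    (hYt : ⁅Y, zpowers t⁆ = Y) : Y ≤ Op p X := by
  have h1 : Y ≤ O X :=
    hYt.ge.trans ((commutator_mono hY le_rfl).trans (h.commutator_le_O h2 ky hn hP hp hc))
  refine (Sig.le_Op_of_commutator (Q := P ⊓ O X) Nat.prime_two (by
    rw [Nat.card_zpowers, orderOf_eq_two h.pair.t_sq h.pair.t_ne]) (sol_of_odd (odd_O X))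
    (odd_O X).not_two_dvd_nat (zpowers_le.2 (O_norm X h.t_mem)) inf_le_right (hp.to_le inf_le_left)
    (le_inf hY h1) (zpowers_le.2 ht) hYt (fun e _ => absurd e h2)
    ?_).trans (Op_le_of_normal p (Opi_normal _ X))
  rw [cent_zpowers]
  exact le_norm_inf ((inf_le_inf_right _ (Opi_le _ _)).trans hc) (le_norm_of_le inf_le_left)

theorem isCyclic_quo (hr : X ⁒ O X ≤ 𝐍(S4 (coset (O X) t) (coset (O X) s)) ∨
      ∃ L ρ, Rd (X ⁒ O X) L (coset (O X) t) (coset (O X) s) ρ) (hQ : Q ≤ X ⊓ 𝐂[t])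
    (ho : Odd ♯Q) (hc : ⁅Q, zpowers s⁆ = Q) : IsCyclic (Q ⁒ O X : Subgroup _) := by
  have h1 := (hQ.trans inf_le_left).trans (O_norm X)
  have h2 := quo_commutator h1 (zpowers_le.2 (O_norm X h.s_mem))
  have h3 := quo_mono (O X) hQ
  have h4 := h.quoO.pair
  rw [hc, quo_zpowers (O_norm X h.s_mem)] at h2
  rw [quo_cent1_of_odd (O_norm X) (odd_O X) h.t_mem h.pair.t_sq] at h3
  obtain e | ⟨L, ρ, e⟩ := hr
  · have : _ ≤ S4 _ _ := h2.le.trans ((commutator_mono le_rfl le_sup_right).trans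
      (commutator_le_right' ((h3.trans inf_le_left).trans e)))
    rw [← inf_eq_left.2 this, inf_eq_bot_of_coprime_card (h4.coprime (odd_quo ho _))]
    infer_instance
  · exact e.good.cyc _ e.v4.t_mem h4.t_ne h4.t_sq _ (le_inf (h2.le.trans ((commutator_mono le_rfl
      (zpowers_le.2 e.v4.pair.s_mem)).trans (commutator_le_right'
        ((h3.trans inf_le_left).trans e.normal.norm)))) (h3.trans inf_le_right)) (odd_quo ho _)

theorem isCyclic (ky : KY.{u} n) (hn : ♯X < n) (hQ : Q ≤ X ⊓ 𝐂[t])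
    (ho : Odd ♯Q) (hc : ⁅Q, zpowers s⁆ = Q) (h0 : O X ⊓ Q = ⊥) : IsCyclic Q := by
  have := h.isCyclic_quo (h.red_quo ky hn) hQ ho hc
  have h1 := (hQ.trans inf_le_left).trans (O_norm X)
  exact isCyclic_of_injective (quoOnto h1) ((MonoidHom.ker_eq_bot_iff _).1 (by
    rw [ker_quoOnto, ← inf_subgroupOf_right, h0, bot_subgroupOf]))

end St

theorem Rd.not_mem_der (h : Rd X L t s ρ) : t ∉ der (X ⊓ 𝐂(S4 t s)) := fun e => by
  have h1 : ⁅X ⊓ 𝐂(S4 t s), zpowers ρ⁆ ≤ S4 t s := by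
    refine le_trans (le_inf ((commutator_mono le_rfl (zpowers_le.2 h.v4.ρ_mem)).trans
      (commutator_le_right' (inf_le_left.trans h.normal.norm))) ((commutator_mono inf_le_right
        le_rfl).trans (commutator_le_left' (zpowers_le.2 (norm_le_norm_cent _ h.v4.mem_norm))))) ?_
    rw [cent_S4, ← inf_assoc]
    exact h.good.cent_le h.v4.pair
  have h2 : ⁅⁅X ⊓ 𝐂(S4 t s), zpowers ρ⁆, X ⊓ 𝐂(S4 t s)⁆ = ⊥ :=
    commutator_eq_bot_iff'.2 (inf_le_right.trans (cent_anti h1))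
  have h3 := OO.commutator_eq_bot_iff.1 (three_subgroup h2 (by rwa [commutator_comm (zpowers ρ)])) e
  rw [cent_zpowers, mem_cent1_comm, mem_cent1_iff_conj, h.v4.ρt] at h3
  exact h.v4.pair.ne h3.symm

/-- if `t ∈ C_X(A)'` then `A O(X)` is normal in `X` -/
theorem St.le_norm (h : St X t s) (ky : KY.{u} n) (hn : ♯X < n) (hd : t ∈ der (X ⊓ 𝐂(S4 t s))) :
    X ≤ 𝐍(S4 t s ⊔ O X) := by
  have hO : O X ⊴ X := Opi_normal _ X
  obtain e | ⟨L, ρ, e⟩ := h.red_quo ky hn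
  · rw [← S4_quo (hO.norm h.t_mem) (hO.norm h.s_mem)] at e
    exact le_norm_sup_of_quo hO.norm (h.le.trans hO.norm) e
  · refine absurd ?_ e.not_mem_der
    rw [← h.quo_cent hO (odd_O X), ← quo_der (inf_le_left.trans hO.norm)]
    exact coset_mem_quo _ hd

end Cfsg.Agent.R4
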