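import Cfsg.Agent.Lib.R4.RK2c
import Cfsg.Agent.Lib.W3.Main

/-!
# Package RK2, part d: the centralizer of an involution of the four-group is a maximal subgroup
-/

set_option autoImplicit false

namespace Cfsg.Agent.R4

open Subgroup Cfsg.Agent.OO Cfsg.Agent.Coprime Cfsg.Agent.Sig Cfsg.Agent.GW Cfsg.Agent.SZ
  Cfsg.Agent.W3
open scoped commutatorElement Pointwise

universe u

variable {G : Type u} [Group G] [Finite G] {M N P U X Y : Subgroup G} {p q : ℕ} {t s ρ a g : G}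

/-- an involution centralizes every 3-subgroup which it normalizes -/
theorem le_cent_three (h : S3F G) (ha : a * a = 1) (hP : IsPGroup 3 P) (hn : a ∈ 𝐍(P)) :
    P ≤ 𝐂[a] := fun x hx => by
  have : Fact (Nat.Prime 3) := ⟨Nat.prime_three⟩
  have h1 : x⁻¹ * (a * x * a⁻¹) ∈ P := mul_mem (inv_mem hx) (conj_mem_of_norm hn hx)
  obtain ⟨k, hk⟩ := Core.exists_orderOf_eq_pow_of_mem hP h1
  rcases k with _ | k
  · rw [pow_zero, orderOf_eq_one_iff, inv_mul_eq_one] at hk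
    exact mem_cent1_comm.1 (mem_cent1_iff_conj.2 hk.symm)
  · refine absurd (hk ▸ dvd_pow_self 3 k.succ_ne_zero) (h.not_dvd (g := a) ?_)
    calc _ = a * x⁻¹ * a⁻¹ * (a * a) * x * (a * a)⁻¹ := by group
      _ = _ := by rw [ha]; group

namespace RK

variable (h : RK t s ρ)
include h

omit [Finite G] in
theorem smp : Smp (⊤ : Subgroup G) := @smp_top _ _ h.simple

omit [Finite G] in
theorem st (hX : S4 t s ≤ X) : St X t s := h.mono hX le_top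

omit [Finite G] in
theorem of_fu {t' s' ρ' : G} (h' : Fu ⊤ t' s' ρ') (e : S4 t' s' = S4 t s) : RK t' s' ρ' :=
  ⟨h', h.simple, h.ky, e ▸ h.mn, e ▸ h.der, e ▸ h.unf⟩

omit [Finite G] in
theorem rot' : RK s (t * s) ρ := h.of_fu h.rot (S4_rot h.pair)

omit [Finite G] in
theorem conj (hg : g ∈ 𝐍(S4 t s)) : RK (g * t * g⁻¹) (g * s * g⁻¹) (g * ρ * g⁻¹) :=
  have e : S4 (g * t * g⁻¹) (g * s * g⁻¹) = S4 t s := by rw [← conj_S4, conj_eq_of_mem_norm hg]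
  h.of_fu ⟨h.of_eq (h.pair.conj g) e, mem_top _, by rw [← h.ρt]; group,
    by rw [conj_mul (a := t) (b := g) (c := s), ← h.ρs]; group⟩ e

omit [Finite G] in
theorem cent_ne_top : 𝐂[t] ≠ ⊤ := fun e => h.not_le_cent (t_mem_S4 t s) h.pair.t_ne e.ge

omit [Finite G] in
theorem cent_le : 𝐂(S4 t s) ≤ 𝐂[t] := cent_le_cent1 (t_mem_S4 t s)

theorem le_sup' (hM : M ≠ ⊤) (hc : 𝐂[t] ≤ M) : M ≤ O M ⊔ 𝐂(S4 t s) :=
  ((h.st (h.pair.le_cent.trans hc)).le_sup (h.unf M hM t (t_mem_S4 t s) h.pair.t_ne hc)).trans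
    (sup_le_sup_left inf_le_right _)

theorem ρ_not_mem (hM : M ≠ ⊤) (hc : 𝐂[t] ≤ M) : ρ ∉ M := fun e =>
  (h.mono' (h.pair.le_cent.trans hc) e le_top).not_unf (h.unf M hM t (t_mem_S4 t s) h.pair.t_ne hc)

theorem le_Op' [Fact p.Prime] (h2 : p ≠ 2) (hM : 𝐂[t] ≤ M) (hX : X ≠ ⊤) (hS : S4 t s ≤ X)
    (hY : Y ≤ Op p M) (hYX : Y ≤ X) (ht : t ∈ 𝐍(Y)) (hc : ⁅Y, zpowers t⁆ = Y) : Y ≤ Op p X :=
  (h.st hS).le_Op h2 h.ky (card_lt hX.lt_top) inf_le_right ((Op_isPGroup p M).to_le inf_le_left)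
    (le_norm_inf ((inf_le_right.trans hM).trans (Op_normal p M).norm) (le_norm_of_le inf_le_left))
    (le_inf hY hYX) ht hc

variable (hn : ¬ IsCoatom 𝐂[t])
include hn

theorem odd_cent (hM : IsCoatom M) (hc : 𝐂[t] ≤ M) : Odd ♯(M ⊓ 𝐂(O M)) := by
  have h1 := (Opi_normal _ M : O M ⊴ M).cent
  have h2 := h.cent_le.trans hc
  have h3 := h.mn _ (h1.inf_right h2) (by_contra fun e => by
    obtain ⟨a, ha, a1⟩ := exists_mem_ne_one e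
    have h3 : M ≤ 𝐂[a] := (h.le_sup' hM.1 hc).trans (sup_le (le_cent1_iff.2 ha.1.1.2)
      (cent_le_cent1 ha.2))
    obtain ⟨g, -, rfl⟩ := h.exists_conj ha.2 a1
    exact hn (eq_of_le_of_card_le hc ((card_le h3).trans (by rw [cent1_conj, card_conj])) ▸ hM))
  obtain ⟨T, t1, -, t3⟩ := (h.st (h.pair.le_cent.trans hc)).exists_syl
  rw [← Nat.not_even_iff_odd, even_iff_two_dvd] at h3 ⊢
  exact fun e => h3 (((t1.normal_inf h1).dvd_card_iff.2 e).trans (card_dvd (inf_le_inf_left _ t3)))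

theorem fs' (hM : IsCoatom M) (hc : 𝐂[t] ≤ M) : FS M :=
  fs_of_sol_cent (sol_of_odd (h.odd_cent hn hM hc))

theorem Op_two (hM : IsCoatom M) (hc : 𝐂[t] ≤ M) : Op 2 M = ⊥ :=
  (Op_piGrp 2 M).eq_bot ((odd_iff.1 (h.odd_cent hn hM hc)).of_le
    (le_inf (Op_le 2 M) (le_cent_symm (Op'_le_cent_Op 2 M))))

theorem ne_two (hM : IsCoatom M) (hc : 𝐂[t] ≤ M) (h0 : Op p M ≠ ⊥) : p ≠ 2 :=
  fun e => h0 (e ▸ h.Op_two hn hM hc)

theorem eq_of_char [Fact p.Prime] (hM : IsCoatom M) (hc : 𝐂[t] ≤ M) (hp : Core.IsCharIn p M)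
    (h0 : M ⊓ N ≠ ⊥) (ha : Arr M N) (hc' : ∀ N', IsCoatom N' → M ⊓ N ≤ N' → Core.IsCharIn p N')
    (hN : IsCoatom N) : N = M := by
  have ht := hc (mem_cent1_self t)
  refine eq_of_char_sq h.smp (h.ne_two hn hM hc fun e => ?_) (sq_of_s3f ?_ h.s3f ⊤) hM inf_le_left h0
    (arr_mono ha le_rfl) hc' hN inf_le_right
  · rw [Core.IsCharIn, show pCoreOf p M = ⊥ from e] at hp
    exact h.pair.t_ne (mem_bot.1 (hp ⟨ht, by simp⟩))
  · rintro rfl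
    exact not_mem_of_odd (odd_of_isPGroup (by decide) (Op_isPGroup 3 M)) h.pair.t_ne h.pair.t_sq
      (hp ⟨ht, le_cent1_iff.1 (le_cent_three h.s3f h.pair.t_sq (Op_isPGroup 3 M)
        ((Op_normal 3 M).norm ht))⟩)

theorem odd_Op [Fact p.Prime] (hM : IsCoatom M) (hc : 𝐂[t] ≤ M) : Odd ♯(Op p M) := by
  by_cases e : p = 2
  · rw [e, h.Op_two hn hM hc, card_bot]; exact odd_one
  · exact odd_of_isPGroup e (Op_isPGroup p M)

theorem opt_of_pi (hM : IsCoatom M) (hc : 𝐂[t] ≤ M) (hπ : ∀ N, IsCoatom N → 𝐂[t] ≤ N → Arr M N →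
    ∀ q : ℕ, q.Prime → Op q N ≠ ⊥ → Op q M ≠ ⊥) : GW.Opt t M := by
  refine ⟨hM, hc, fun N hN hc' ha => ?_⟩
  obtain e | ⟨p, hp, h1, -⟩ := h.smp.eq_or_char hM hN (h.fs' hn hM hc) (h.fs' hn hN hc') ha
    (hπ N hN hc' ha)
  · exact e.symm
  have := Fact.mk hp
  refine h.eq_of_char hn hM hc h1 (fun e => h.pair.t_ne (mem_bot.1 (e ▸ le_inf hc hc'
    (mem_cent1_self t)))) ha (fun N' h2 h3 => ?_) hN
  have h4 := (le_inf hc hc').trans h3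
  exact isCharIn_of_pi (h.fs' hn h2 h4) (hπ N' h2 h4 (arr_mono ha h3)) h1

theorem exists_opt : ∃ M, GW.Opt t M := by
  by_cases h2 : ∃ (M : Subgroup G) (q : ℕ), IsCoatom M ∧ 𝐂[t] ≤ M ∧ q.Prime ∧ Op q M ≠ ⊥ ∧
      Op q M ⊓ 𝐂[t] = ⊥
  · obtain ⟨M, q, hM, hc, hq, h3, h4⟩ := h2
    have := Fact.mk hq
    refine ⟨M, h.opt_of_pi hn hM hc fun N hN hc' ha r hr h5 h6 => h5 ?_⟩
    have := Fact.mk hr
    have h7 := (Op_normal q M).Zc.norm (hc (mem_cent1_self t))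
    have h8 := h.le_Op' (h.ne_two hn hM hc h3) hc hN.1 (h.pair.le_cent.trans hc') (Zc_le _) (ha.Zc_Op_le q) h7
      (commutator_eq_of_inf_eq_bot h.pair.t_sq h7 (odd_of_le (h.odd_Op hn hM hc) (Zc_le _))
        (eq_bot_iff.2 (h4 ▸ inf_le_inf_right _ (Zc_le _))))
    rw [← Op_inf_eq_bot ha (h.fs' hn hM hc) h6, eq_comm, inf_eq_left]
    exact ((Op_le_cent_Op (fun e : r = q => h3 (e ▸ h6)) N).trans (cent_anti h8)).trans
      (h.smp.cent_Zc_le hM h3)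
  · obtain ⟨M, hM, hc⟩ := (eq_top_or_exists_le_coatom _).resolve_left h.cent_ne_top
    refine ⟨M, h.opt_of_pi hn hM hc fun N hN hc' ha r hr h5 h6 => h2 ⟨N, r, hN, hc', hr, h5, ?_⟩⟩
    have := Fact.mk hr
    exact eq_bot_iff.2 (Op_inf_eq_bot ha (h.fs' hn hM hc) h6 ▸ inf_le_inf_left _ hc)

theorem exists_minY (hM : IsCoatom M) (hc : 𝐂[t] ≤ M) : ∃ p Y, p.Prime ∧ GW.MinY t M p Y := by
  obtain ⟨p, hp, h0⟩ : ∃ p : ℕ, p.Prime ∧ ⁅Op p M, zpowers t⁆ ≠ ⊥ := by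
    by_contra! h2
    have h3 := (le_inf (zpowers_le.2 (hc (mem_cent1_self t))) (le_cent_Fit_of_forall fun p hp =>
      commutator_eq_bot_iff'.1 (h2 p hp.out))).trans (h.fs' hn hM hc)
    exact h.pair.t_ne (mem_bot.1 (h.Op_two hn hM hc ▸ le_Op_of_le_Fit (abelem_isPGroup (abelem_zpowers
      (by rw [_root_.sq, h.pair.t_sq]))) h3 (mem_zpowers t)))
  have := Fact.mk hp
  have hR : 𝐂[t] ≤ 𝐍(zpowers t) := le_norm_of_le_cent (cent_zpowers t).ge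
  obtain ⟨Y, k1, ⟨k2, k4⟩, k5⟩ := Core.exists_minimal_le
    (P := fun Y => 𝐂[t] ≤ 𝐍(Y) ∧ ⁅Y, zpowers t⁆ ≠ ⊥) ⟨hc.trans (Op_normal p M).norm, h0⟩
  have hYp : IsPGroup p Y := (Op_isPGroup p M).to_le k1
  have ho := odd_of_le (h.odd_Op hn hM hc) k1
  have ht := zpowers_le.2 (k2 (mem_cent1_self t))
  have k7 : ⁅Y, zpowers t⁆ = Y := k5 _ ⟨le_norm_commutator k2 hR, by
    rwa [coprime_commGid ht (coprime_zp ho h.pair.t_sq) (.inl (sol_of_odd ho))]⟩ (commutator_le_left' ht)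
  have k8 : Y ≠ ⊥ := fun e => k4 (by rw [e, commutator_bot_left])
  refine ⟨p, Y, hp, k1, k2, k8, k7, le_of_forall_isPGroup fun q hq Q hQ hQq => ?_⟩
  refine (le_inf (le_Op_of_le_Fit hQq (hQ.trans inf_le_left)) (hQ.trans inf_le_right)).trans ?_
  by_cases e : q = p
  · subst e
    have h1 := commutator_lt_of_isPGroup ((Op_isPGroup q M).to_le inf_le_left) hYp
      (inf_le_right.trans k2) k8
    rw [← commutator_eq_bot_iff', ← k7, commutator_comm Y]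
    refine three_subgroup (by_contra fun e => h1.ne (k5 _ ⟨le_norm_commutator k2 (le_norm_inf
      (hc.trans (Op_normal q M).norm) (le_norm_self _)), e⟩ h1.le)) ?_
    rw [OO.commutator_eq_bot_iff (B := zpowers t).2 (cent_zpowers t ▸ inf_le_right), commutator_bot_left]
  · exact inf_le_left.trans ((Op_le_cent_Op e M).trans (cent_anti k1))

variable [Fact p.Prime] (hM : GW.Opt t M) (hY : GW.MinY t M p Y)
include hM hY

omit hn in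
theorem norm_Y_le : 𝐍(Y) ≤ M := by
  obtain ⟨N, hN, h1⟩ := h.smp.exists_coatom hY.ne_bot
    fun e => hM.coatom.1 (top_le_iff.1 (e ▸ hY.le.trans (Op_le p M)))
  rwa [hM.eq N hN (hY.norm.trans h1) (arr_of_le (hY.le.trans (Op_le_Fit p M))
    ((le_norm_self Y).trans h1) (inf_le_right.trans ((cent_le_norm Y).trans h1)))] at h1

theorem ne_two' : p ≠ 2 := h.ne_two hn hM.coatom hM.le fun e => hY.ne_bot (eq_bot_iff.2 (e ▸ hY.le))

theorem eq_of_arr (hN : IsCoatom N) (hS : S4 t s ≤ N) (hYN : Y ≤ N) (ha : Arr M N) : N = M := by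
  have hs := h.fs' hn hM.coatom hM.le
  have k := fun N (hN : IsCoatom N) hS hYN ha => fs_of_le_Op' (h.le_Op' (h.ne_two' hn hM hY) hM.le
    hN.1 hS hY.le hYN (hY.norm (mem_cent1_self t)) hY.comm)
    ((cent_le_norm Y).trans (h.norm_Y_le hM hY)) hs ha fun e => hY.ne_bot (eq_bot_iff.2 (e ▸ hY.le))
  obtain e | ⟨q, hq, h1, -⟩ := h.smp.eq_or_char hM.coatom hN hs (k N hN hS hYN ha).1 ha
    (k N hN hS hYN ha).2
  · exact e.symm
  have := Fact.mk hq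
  have h2 := le_inf (hY.le.trans (Op_le p M)) hYN
  refine h.eq_of_char hn hM.coatom hM.le h1 (fun e => hY.ne_bot (eq_bot_iff.2 (e ▸ h2))) ha
    (fun N' h3 h4 => ?_) hN
  have h5 := k N' h3 ((le_inf (h.pair.le_cent.trans hM.le) hS).trans h4) (h2.trans h4)
    (arr_mono ha h4)
  exact isCharIn_of_pi h5.1 h5.2 h1

theorem norm_le_conj (hg : g ∈ 𝐍(S4 t s)) (hU : U = ⁅Y ⊓ 𝐂[g * t * g⁻¹], zpowers t⁆) (h0 : U ≠ ⊥) :
    U ≤ Y ⊓ 𝐂[g * t * g⁻¹] ∧ ⁅U, zpowers t⁆ = U ∧ S4 t s ≤ 𝐍(U) ∧ 𝐍(U) ≤ g •ᶜ M := by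
  have hp := h.pair
  have h1 := hM.conj g
  have h2 := hY.conj g
  have h3 : S4 (g * t * g⁻¹) (g * s * g⁻¹) = S4 t s := by rw [← conj_S4, conj_eq_of_mem_norm hg]
  have h4 : S4 t s ≤ 𝐂[g * t * g⁻¹] := h3 ▸ (h.conj hg).pair.le_cent
  have h5 : S4 t s ≤ 𝐍(Y ⊓ 𝐂[g * t * g⁻¹]) := le_norm_inf (hp.le_cent.trans hY.norm) (le_norm_of_le h4)
  have h6 := zpowers_le.2 (h5 (t_mem_S4 t s))
  have h7 : U ≤ Y ⊓ 𝐂[g * t * g⁻¹] := hU ▸ commutator_le_left' h6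
  have ho := odd_of_le (h.odd_Op hn hM.coatom hM.le) (inf_le_left.trans hY.le : Y ⊓ 𝐂[g * t * g⁻¹] ≤ _)
  have h8 : ⁅U, zpowers t⁆ = U := hU ▸ coprime_commGid h6 (coprime_zp ho hp.t_sq) (.inl (sol_of_odd ho))
  have h9 : S4 t s ≤ 𝐍(U) := hU ▸ le_norm_commutator h5 (le_norm_of_ab hp.ab le_sup_left)
  have h10 := (h.le_Op' (h.ne_two' hn hM hY) hM.le h1.coatom.1 (h4.trans h1.le) (h7.trans (inf_le_left.trans hY.le))
    (h7.trans (inf_le_right.trans h1.le)) (h9 (t_mem_S4 t s)) h8).trans (Op_le_Fit p _)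
  obtain ⟨N, hN, h11⟩ := h.smp.exists_coatom h0 fun e => h1.coatom.1 (top_le_iff.1
    (e ▸ h10.trans (Fit_le _)))
  refine ⟨h7, h8, h9, ?_⟩
  rwa [(h.conj hg).eq_of_arr (by rwa [cent1_conj, isCoatom_conj_iff]) h1 h2 hN (h3 ▸ h9.trans h11)
    ((le_norm_of_le_cent (le_cent_symm ((le_inf h10 (h7.trans inf_le_right)).trans h2.cent))).trans h11)
    (arr_of_le h10 ((le_norm_self U).trans h11) (inf_le_right.trans ((cent_le_norm U).trans h11)))]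
    at h11

end RK

/-- Local analysis, part I -/
theorem RK.isCoatom (h : RK t s ρ) : IsCoatom 𝐂[t] := by
  by_contra hn
  obtain ⟨M, hM⟩ := h.exists_opt hn
  obtain ⟨p, Y, hp, hY⟩ := h.exists_minY hn hM.coatom hM.le
  have := Fact.mk hp
  have hp := h.pair
  have hS := hp.le_cent.trans hM.le
  have hYF := hY.le.trans (Op_le_Fit p M)
  have hB : ρ •ᶜ M ≠ M := fun e => h.ρ_not_mem hM.coatom.1 hM.le ((h.smp.norm_eq hM.coatom (.refl M)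
    fun e => hp.t_ne (mem_bot.1 (e ▸ hS (t_mem_S4 t s)))).le (conj_eq_self_iff.1 e))
  have e1 := h.ρt
  have e2 : ρ⁻¹ * t * ρ⁻¹⁻¹ = t * s := by nth_rewrite 1 [← h.ρts]; group
  have k1 := fun g hg h0 => h.norm_le_conj hn hM hY (g := g) hg rfl h0
  have k2 : ∀ g ∈ 𝐍(S4 t s), ⁅Y ⊓ 𝐂[g * t * g⁻¹], zpowers t⁆ ≠ ⊥ → Arr M (g •ᶜ M) := fun g hg h0 =>
    arr_of_le ((k1 g hg h0).1.trans (inf_le_left.trans hYF)) ((le_norm_self _).trans (k1 g hg h0).2.2.2)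
      (inf_le_right.trans ((cent_le_norm _).trans (k1 g hg h0).2.2.2))
  have k3 : ∀ a, ⁅Y ⊓ 𝐂[a], zpowers t⁆ = ⊥ → Y ⊓ 𝐂[a] ≤ Y ⊓ 𝐂[t] := fun a e =>
    le_inf inf_le_left (cent_zpowers t ▸ OO.commutator_eq_bot_iff.1 e)
  have k4 := fun X => hp.le_of_forall (Y := X) (hp.le_cent.trans hY.norm)
    (odd_of_le (h.odd_Op hn hM.coatom hM.le) hY.le)
  have k5 : ∀ g ∈ 𝐍(S4 t s), ⁅Y ⊓ 𝐂[g * t * g⁻¹], zpowers t⁆ ≠ ⊥ → Y ⊓ 𝐂[t] ≤ g •ᶜ M ∧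
      Y ⊓ 𝐂[g * t * g⁻¹] ≤ g •ᶜ M ∧ (Y ≤ g •ᶜ M → g •ᶜ M = M) := fun g hg h0 =>
    ⟨((inf_le_inf_right _ hYF).trans hY.cent).trans ((cent_anti ((k1 g hg h0).1.trans inf_le_left)).trans
      ((cent_le_norm _).trans (k1 g hg h0).2.2.2)), inf_le_right.trans (hM.conj g).le, fun e =>
      h.eq_of_arr hn hM hY (hM.conj g).coatom ((k1 g hg h0).2.2.1.trans (k1 g hg h0).2.2.2) e
        (k2 g hg h0)⟩
  have hρ := h.mem_norm
  by_cases c1 : ⁅Y ⊓ 𝐂[ρ * t * ρ⁻¹], zpowers t⁆ = ⊥ <;>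
    by_cases c2 : ⁅Y ⊓ 𝐂[ρ⁻¹ * t * ρ⁻¹⁻¹], zpowers t⁆ = ⊥
  · refine hY.ne_bot (hY.comm.symm.trans (OO.commutator_eq_bot_iff.2 ?_))
    rw [cent_zpowers]
    exact k4 _ inf_le_right ((e1 ▸ k3 _ c1).trans inf_le_right) ((e2 ▸ k3 _ c2).trans inf_le_right)
  · obtain ⟨a1, a2, a3⟩ := k5 _ (inv_mem hρ) c2
    exact hB (conj_eq_iff_eq_inv_conj.2 (a3 (k4 _ a1 ((e1 ▸ k3 _ c1).trans a1) (e2 ▸ a2))).symm)
  · obtain ⟨a1, a2, a3⟩ := k5 _ hρ c1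
    exact hB (a3 (k4 _ a1 (e1 ▸ a2) ((e2 ▸ k3 _ c2).trans a1)))
  have a1 := k2 _ hρ c1
  have a2 := arr_conj (k2 _ (inv_mem hρ) c2) ρ
  obtain ⟨a3, a4, a5, a6⟩ := k1 _ hρ c1
  rw [conj_inv_conj] at a2
  have hM' := hM.conj ρ
  have hs := h.fs' hn hM.coatom hM.le
  have hs' := (h.conj hρ).fs' (by rwa [cent1_conj, isCoatom_conj_iff]) hM'.coatom hM'.le
  have hπ : ∀ q : ℕ, q.Prime → Op q (ρ •ᶜ M) ≠ ⊥ → Op q M ≠ ⊥ := fun q _ e e' =>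
    e (by rw [Op_conj, e', conj_bot])
  obtain e | ⟨q, hq, h1, h2⟩ := h.smp.eq_or_char hM.coatom hM'.coatom hs hs' a1 hπ
  · exact hB e.symm
  have := Fact.mk hq
  have h3 := le_inf (a3.trans (inf_le_left.trans (hYF.trans (Fit_le M)))) ((le_norm_self _).trans a6)
  refine hB (h.eq_of_char hn hM.coatom hM.le h1 (fun e => c1 (eq_bot_iff.2 (e ▸ h3))) a1
    (fun N h4 h5 => ?_) hM'.coatom)
  have h6 := fs_of_le_Op' (h.le_Op' (h.ne_two' hn hM hY) hM.le h4.1 ((le_inf hS (a5.trans a6)).trans h5)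
    (a3.trans (inf_le_left.trans hY.le)) (h3.trans h5) (a5 (t_mem_S4 t s)) a4)
    ((cent_le_norm _).trans a6) hs' (arr_mono a2 ((inf_comm _ _).le.trans h5))
    fun e => (hY.conj ρ).ne_bot (eq_bot_iff.2 (e ▸ (hY.conj ρ).le))
  exact isCharIn_of_pi h6.1 h6.2 h2

end Cfsg.Agent.R4
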