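import Cfsg.Agent.Lib.R4.RK2d

/-!
# Package RK2, part e: the structure of `O(C(t))`
-/

set_option autoImplicit false

namespace Cfsg.Agent.R4

open Subgroup Cfsg.Agent.OO Cfsg.Agent.Coprime Cfsg.Agent.Sig Cfsg.Agent.GW Cfsg.Agent.SZ
  Cfsg.Agent.W3
open scoped commutatorElement Pointwise

universe u

variable {G : Type u} [Group G] [Finite G] {M N P Q R U X Y : Subgroup G} {p q : ℕ}
  {t s ρ a b d g w y z : G}

theorem Op_inf_eq_bot_of_le [Fact q.Prime] (h : Arr M N) (hM : M ⊓ 𝐂(Fit M) ≤ N) (h0 : Op q M = ⊥) :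
    Op q N ⊓ M = ⊥ := by
  have hc : (♯(Fit M)).Coprime ♯(Op q N ⊓ M) := by
    refine (coprime_of_isPGroup ((Op_isPGroup q N).to_le inf_le_left)
      ((piGrp_compl_singleton Fact.out).2 ?_)).symm
    rw [← (syl_Op_Fit q M).eq_bot_iff, h0]
  have hn : Op q N ⊓ M ≤ 𝐍(Fit M) := inf_le_right.trans (Fit_normal M).norm
  have h1 : Fit M ⊓ N ≤ 𝐂(Op q N ⊓ M) := by
    refine le_cent_of_coprime (le_norm_inf (inf_le_right.trans (Op_normal q N).norm)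
      (le_norm_of_le (inf_le_left.trans (Fit_le M)))) (le_norm_inf hn
      (le_norm_of_le (inf_le_left.trans (Op_le q N)))) (coprime_card_mono hc inf_le_left le_rfl)
  have h2 := coprime_nil_faithful_cent_stab hn hc (Fit_nil M) (le_inf inf_le_left
    ((le_inf inf_le_left ((inf_le_inf_left _ (cent_anti (le_inf inf_le_left h1))).trans h)).trans h1))
  exact eq_bot_iff.2 (h0 ▸ (le_Op ⟨le_inf inf_le_right h2, le_norm_inf (hM.trans (Op_normal q N).norm)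
    (le_norm_of_le inf_le_left)⟩ ((Op_isPGroup q N).to_le inf_le_left)).trans
      (Op_le_of_normal q (Fit_normal M).cent))

theorem Op_two_O (N : Subgroup G) : Op 2 (O N) = ⊥ :=
  (Op_piGrp 2 _).eq_bot ((odd_iff.1 (odd_O N)).of_le (Op_le _ _))

theorem O_le_cent (ht : t ∈ N) (h2 : t * t = 1)
    (h : ∀ q : ℕ, q.Prime → q ≠ 2 → Op q N ≤ 𝐂[t]) : O N ≤ 𝐂[t] := by
  have h1 : zpowers t ≤ 𝐂(Fit (O N)) := le_cent_Fit_of_forall fun q hq => by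
    by_cases e : q = 2
    · subst e; rw [Op_two_O, cent_bot]; exact le_top
    · exact zpowers_le.2 (le_cent1_iff.1 ((Op_le_of_normal q (Opi_normal _ N)).trans (h q hq.out e)))
  have h3 := zpowers_le.2 (O_norm N ht)
  rw [← cent_zpowers, le_cent_comm]
  refine coprime_commGG1P h3 (coprime_zp (odd_O N) h2) (.inl (sol_of_odd (odd_O N)))
    (commutator_eq_bot_iff'.2 (h1.trans (cent_anti (le_trans (le_inf (commutator_le_left' h3)
      ((commutator_mono le_rfl h1).trans (commutator_le_right' (le_norm_cent (Fit_normal _).norm))))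
        (cent_sub_Fitting (sol_of_odd (odd_O N)))))))

omit [Finite G] in
theorem cent_inf_le (h : Pair X t s) (ha : a ∈ S4 t s) (a1 : a ≠ 1) (a2 : a ≠ t) :
    𝐂[t] ⊓ 𝐂[a] ≤ 𝐂(S4 t s) := by
  rcases h.mem_S4.1 ha with rfl | rfl | rfl | rfl
  exacts [absurd rfl a1, absurd rfl a2, (cent_S4 t a).ge, S4_mul t s ▸ (cent_S4 t _).ge]

namespace RK

variable (h : RK t s ρ)
include h

theorem exists_rk' (ha : a ∈ S4 t s) (a1 : a ≠ 1) :
    ∃ g ∈ 𝐍(S4 t s), a = g * t * g⁻¹ ∧ ∃ b σ, RK a b σ ∧ S4 a b = S4 t s ∧ b = g * s * g⁻¹ := by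
  obtain ⟨g, hg, rfl⟩ := h.exists_conj ha a1
  have h1 := zpowers_le.2 h.mem_norm hg
  exact ⟨g, h1, rfl, _, _, h.conj h1, by rw [← conj_S4, conj_eq_of_mem_norm h1], rfl⟩

theorem norm_eq (hQ : Q ⊴ 𝐂[t]) (h0 : Q ≠ ⊥) : 𝐍(Q) = 𝐂[t] := h.smp.norm_eq h.isCoatom hQ h0

theorem H_le : 𝐂[t] ≤ O 𝐂[t] ⊔ 𝐂(S4 t s) := h.le_sup' h.cent_ne_top le_rfl

theorem le_U (hQ : Q ≤ 𝐂[t]) (ho : Odd ♯Q) (hn : 𝐂(S4 t s) ≤ 𝐍(Q)) : Q ≤ O 𝐂[t] :=
  le_sup_left.trans (le_O ⟨sup_le hQ (Opi_le _ _), h.H_le.trans (sup_le (le_norm_of_le le_sup_right)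
    (le_norm_sup hn (h.cent_le.trans (O_norm _))))⟩
    ((ho.mul (odd_O _)).of_dvd_nat (card_sup_dvd (.inl (hQ.trans (O_norm _))))))

omit [Finite G] in
theorem Op_two_ne : Op 2 𝐂[t] ≠ ⊥ := fun e => h.pair.t_ne (mem_bot.1 (e ▸ le_Op
  ⟨zpowers_le.2 (mem_cent1_self t), le_norm_of_le_cent (cent_zpowers t).ge⟩ (isPGroup_zp h.pair.t_sq)
  (mem_zpowers t)))

theorem cent_O (hA : S4 t s ≤ N) (ha : Arr 𝐂[t] N) (hF : 𝐂[t] ⊓ 𝐂(Fit 𝐂[t]) ≤ N)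
    (hq : ∀ (q : ℕ) [Fact q.Prime], q ≠ 2 → ∀ a ∈ S4 t s, a ≠ 1 → a ≠ t →
      Op q N ⊓ 𝐂[a] ⊓ 𝐂[t] = ⊥ → Op q N ⊓ 𝐂[a] ≤ Op q 𝐂[a]) : O N ≤ 𝐂[t] := by
  refine O_le_cent (hA (t_mem_S4 t s)) h.pair.t_sq fun q hq' q2 => ?_
  have := Fact.mk hq'
  by_cases h0 : Op q 𝐂[t] = ⊥
  · have h1 := Op_inf_eq_bot_of_le ha hF h0
    have k : ∀ a ∈ S4 t s, a ≠ 1 → a ≠ t → Op q N ⊓ 𝐂[a] ≤ 𝐂[t] := fun a ha a1 a2 => by
      refine (hq q q2 a ha a1 a2 (eq_bot_iff.2 (h1 ▸ inf_le_inf_right _ inf_le_left))).trans ?_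
      obtain ⟨g, -, rfl⟩ := h.exists_conj ha a1
      rw [cent1_conj, Op_conj, h0, conj_bot]
      exact bot_le
    exact h.pair.le_of_forall (hA.trans (Op_normal q N).norm) (odd_of_isPGroup q2 (Op_isPGroup q N))
      inf_le_right (k s (s_mem_S4 t s) h.pair.s_ne h.pair.ne.symm)
      (k _ h.pair.mul.s_mem h.pair.mul_ne_one h.pair.mul.ne.symm)
  · exact h.smp.Op_le_of_arr h.isCoatom ha q2.symm h0 h.Op_two_ne

theorem le_or_fu (hA : S4 t s ≤ N) (hO : O N ≤ 𝐂[t]) :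
    N ≤ 𝐂[t] ∨ S4 t s ≤ 𝐂(O N) :=
  (h.st hA).unf_or.imp (fun e => ((h.st hA).le_sup e).trans (sup_le hO (inf_le_right.trans h.cent_le)))
    fun ⟨_, e⟩ => e.le_of_mem (norm_le_norm_cent _ (O_norm N e.ρ_mem)) (t_mem_S4 t s) h.pair.t_ne
      (le_cent1_iff.1 hO)

theorem le_Op_of_norm [Fact q.Prime] (q2 : q ≠ 2) (ha : a ∈ S4 t s) (a1 : a ≠ 1) (a2 : a ≠ t)
    (hR : R ≤ 𝐂[t]) (hq : IsPGroup q R) (hn : 𝐂(S4 t s) ≤ 𝐍(R)) (h0 : R ⊓ 𝐂[a] = ⊥) :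
    R ≤ Op q 𝐂[t] :=
  (le_Op_of_inv (odd_O _) a1 (sq_of_mem h.pair ha) (O_norm _ (h.pair.le_cent ha))
    (h.le_U hR (odd_of_isPGroup q2 hq) hn) hq (hn (h.pair.ab.le_cent ha)) h0
    (((inf_le_inf_right _ (Opi_le _ _)).trans (cent_inf_le h.pair ha a1 a2)).trans hn)).trans
    (Op_le_of_normal q (Opi_normal _ _))

/-- `s` centralizes or inverts `O_p(C(t))` -/
theorem dich [hp : Fact p.Prime] (p2 : p ≠ 2) : Op p 𝐂[t] ⊓ 𝐂[s] = ⊥ ∨ Op p 𝐂[t] ≤ 𝐂[s] := by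
  by_contra! e
  obtain ⟨h0, h1⟩ := e
  have hP := Op_isPGroup p 𝐂[t]
  have h2 : 𝐂(S4 t s) ≤ 𝐍(Op p 𝐂[t] ⊓ 𝐂[s]) := le_norm_inf (h.cent_le.trans (Op_normal p _).norm)
    (le_norm_of_le (cent_le_cent1 (s_mem_S4 t s)))
  have h3 : ¬ 𝐍(Op p 𝐂[t] ⊓ 𝐂[s]) ≤ 𝐂[t] := fun e => h1 (by
    have h3 : ρ •ᶜ (Op p 𝐂[t] ⊓ 𝐂[s]) ≤ 𝐂(S4 t s) := by
      rw [← conj_eq_of_mem_norm h.mem_norm, cent_conj, cent_S4]
      exact conj_mono ρ (inf_le_inf_right _ (Op_le _ _))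
    rw [← cent_zpowers s, le_cent_comm]
    refine thompson_AxB (isPGroup_conj.2 (hP.to_le inf_le_left)) (by
      rw [Nat.card_zpowers, orderOf_eq_two h.pair.s_sq h.pair.s_ne]
      exact (Nat.coprime_primes Nat.prime_two hp.out).2 p2.symm) (h3.trans (cent_anti le_sup_right)) hP
      ((h3.trans h.cent_le).trans (Op_normal p _).norm)
      (zpowers_le.2 ((Op_normal p _).norm (h.pair.le_cent (s_mem_S4 t s)))) (inf_le_right.trans ?_)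
    rw [cent_conj, cent_zpowers]
    exact (conj_mono ρ ((cent_le_norm _).trans e)).trans (by rw [← cent1_conj, h.ρt]))
  obtain ⟨N, hN, h4⟩ := h.smp.exists_coatom h0 fun e => h.cent_ne_top
    (top_le_iff.1 (e ▸ inf_le_left.trans (Op_le _ _)))
  have h5 := h2.trans h4
  have hA := h.pair.ab.le_cent.trans h5
  have h6 := inf_le_left.trans (Op_le_Fit p 𝐂[t]) (a := Op p 𝐂[t] ⊓ 𝐂[s])
  have h7 := (h.le_or_fu hA (h.cent_O hA (arr_of_le h6 ((le_norm_self _).trans h4)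
    (inf_le_right.trans ((cent_le_norm _).trans h4))) (inf_le_right.trans ((cent_anti h6).trans
      ((cent_le_norm _).trans h4))) fun q _ q2 a ha a1 a2 e => by
    obtain ⟨g, -, -, b, σ, k1, k2, -⟩ := h.exists_rk' ha a1
    exact k1.le_Op_of_norm q2 (k2 ▸ t_mem_S4 t s) h.pair.t_ne a2.symm inf_le_right
      ((Op_isPGroup q N).to_le inf_le_left) (k2 ▸ le_norm_inf (h5.trans (Op_normal q N).norm)
        (le_norm_of_le (cent_le_cent1 ha))) e)).resolve_left fun e => h3 (h4.trans e)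
  have h8 : N ≤ 𝐍(S4 t s) := ((h.st hA).le_norm h.ky (card_lt hN.1.lt_top) (by
    rw [inf_eq_right.2 h5]; exact h.der (t_mem_S4 t s))).trans (IsSylowIn.norm_le_norm_of_normal
      (p := 2) ⟨le_sup_left, h.two, by
        rw [relIndex_sup_eq' (.inl (hA.trans (O_norm N)))]
        exact fun e => (odd_O N).not_two_dvd_nat (e.trans (relIndex_dvd_card _ _))⟩
      (sup_le (le_norm_self _) (le_norm_of_le_cent (le_cent_symm h7))))
  refine (PGrp.lt_inf_normalizer hP (lt_of_le_of_ne inf_le_left fun e => h1 (e ▸ inf_le_right))).not_ge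
    (le_inf inf_le_left (le_trans ?_ (cent_le_cent1 (s_mem_S4 t s))))
  exact (inf_le_inf (Op_le _ _) (h4.trans h8)).trans
    (h.unf _ h.cent_ne_top t (t_mem_S4 t s) h.pair.t_ne le_rfl)

theorem K_normal : ⁅O 𝐂[t], zpowers s⁆ ⊴ 𝐂[t] :=
  ⟨(commutator_le_left' (zpowers_le.2 (O_norm _ (h.pair.le_cent (s_mem_S4 t s))))).trans (Opi_le _ _),
    h.H_le.trans (sup_le (le_norm_commutator_left _ _) (le_norm_commutator (h.cent_le.trans (O_norm _))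
      (le_norm_of_le_cent (cent_anti le_sup_right))))⟩

theorem K_le : ⁅O 𝐂[t], zpowers s⁆ ≤ O 𝐂[t] :=
  commutator_le_left' (zpowers_le.2 (O_norm _ (h.pair.le_cent (s_mem_S4 t s))))

theorem K_ne : ⁅O 𝐂[t], zpowers s⁆ ≠ ⊥ := fun e => by
  have h1 : 𝐂[t] ≤ 𝐍(S4 t s) := h.H_le.trans (le_norm_of_le_cent (sup_le (cent_S4 t s ▸ le_inf
    (Opi_le _ _) (cent_zpowers s ▸ OO.commutator_eq_bot_iff.1 e)) le_rfl))
  exact h.ρ_not_mem (h.smp.norm_ne_top (fun e => h.pair.t_ne (mem_bot.1 (e ▸ t_mem_S4 t s)))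
    fun e => h.cent_ne_top (top_le_iff.1 (e ▸ h.pair.le_cent))) h1 h.mem_norm

theorem K_comm : ⁅⁅O 𝐂[t], zpowers s⁆, zpowers s⁆ = ⁅O 𝐂[t], zpowers s⁆ :=
  coprime_commGid (zpowers_le.2 (O_norm _ (h.pair.le_cent (s_mem_S4 t s))))
    (coprime_zp (odd_O _) h.pair.s_sq) (.inl (sol_of_odd (odd_O _)))

theorem K_le_Fit : ⁅O 𝐂[t], zpowers s⁆ ≤ Fit (O 𝐂[t]) := by
  refine (le_inf h.K_le (le_cent_Fit_of_forall fun p hp => ?_)).trans
    (cent_sub_Fitting (sol_of_odd (odd_O _)))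
  by_cases p2 : p = 2
  · subst p2; rw [Op_two_O, cent_bot]; exact le_top
  have h1 := (Opi_le _ _).trans (Op_normal p 𝐂[t]).norm (a := O 𝐂[t])
  refine le_trans ?_ (cent_anti (Op_le_of_normal p (Opi_normal _ _)))
  rcases h.dich p2 with e | e
  · exact commutator_le_cent h.pair.s_sq h1 ((Op_normal p _).norm (h.pair.le_cent (s_mem_S4 t s))) e
  · exact (commutator_mono le_rfl (zpowers_le.2 (le_cent1_iff.1 e))).trans
      (commutator_le_right' (le_norm_cent h1))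

theorem inf_eq_bot_of_dvd [hp : Fact p.Prime] (hd : p ∣ ♯⁅O 𝐂[t], zpowers s⁆) :
    p ≠ 2 ∧ Op p 𝐂[t] ⊓ 𝐂[s] = ⊥ := by
  have p2 : p ≠ 2 := fun e => (odd_of_le (odd_O _) h.K_le).not_two_dvd_nat (e ▸ hd)
  refine ⟨p2, (h.dich p2).resolve_right fun e => ?_⟩
  obtain ⟨K, hK⟩ : ∃ K, K = ⁅O 𝐂[t], zpowers s⁆ := ⟨_, rfl⟩
  have h1 := h.K_normal
  have h2 := h.K_comm
  have h3 := dprod_Op_of_nil p (nil_of_le (Fit_nil _) h.K_le_Fit)
  rw [← hK] at h1 h2 h3 hd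
  have h4 := zpowers_le.2 ((h1.Opi ({p} : Set ℕ)ᶜ).norm (h.pair.le_cent (s_mem_S4 t s)))
  refine (piGrp_compl_singleton hp.out).1 (Op'_piGrp p K) (hd.trans (card_dvd (h2.ge.trans ?_)))
  nth_rewrite 1 [← h3.sup_eq]
  rw [sup_comm, commutator_sup_cent_left (cent_zpowers s ▸ (Op_le_of_normal p h1).trans e)
    (le_norm_of_le_cent h3.symm.le_cent)]
  exact commutator_le_left' h4

theorem K_inf : ⁅O 𝐂[t], zpowers s⁆ ⊓ 𝐂[s] = ⊥ := by
  by_contra e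
  obtain ⟨x, hx, hp⟩ := exists_prime_order_mem e
  have := Fact.mk hp
  have h1 := le_Op_of_le_Fit (abelem_isPGroup (abelem_zpowers (pow_orderOf_eq_one x)))
    (zpowers_le.2 (h.K_le_Fit hx.1)) (mem_zpowers x)
  have h2 : x = 1 := mem_bot.1 ((h.inf_eq_bot_of_dvd (orderOf_dvd_card hx.1)).2 ▸
    ⟨Op_le_of_normal _ (Opi_normal _ _) h1, hx.2⟩)
  exact hp.one_lt.ne' (by rw [h2, orderOf_one])

theorem not_isCyclic (hQ : 𝐂(S4 t s) ≤ 𝐍(Q)) (h0 : Q ≠ ⊥) (h1 : Q ⊓ 𝐂[s] = ⊥) : ¬ IsCyclic Q :=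
  fun e => h0 (by
    rwa [inf_eq_left.2 (le_cent1_iff.2 (Pf.B4.der_norm_le_cent e (der_mono hQ (h.der (s_mem_S4 t s)))))]
      at h1)

theorem le_Op_of_K [Fact q.Prime] (q2 : q ≠ 2) (ha : a ∈ S4 t s) (hR : R ≤ 𝐂[t]) (hq : IsPGroup q R)
    (hn : a ∈ 𝐍(R)) (h0 : R ⊓ 𝐂[a] = ⊥) : R ≤ Op q 𝐂[t] := by
  refine (le_Op_of_le_Fit hq (le_trans ?_ h.K_le_Fit)).trans (Op_le_of_normal q (Opi_normal _ _))
  rw [← commutator_eq_of_inf_eq_bot (sq_of_mem h.pair ha) hn (odd_of_isPGroup q2 hq) h0]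
  refine (commutator_mono (hR.trans h.H_le) (zpowers_le.2 ha)).trans ?_
  rw [commutator_sup_cent_left le_rfl (h.cent_le.trans (O_norm _)), commutator_comm, S4, sup_comm,
    commutator_sup_cent_left (zpowers_le.2 (le_cent1_iff.1 (Opi_le _ _)))
      (le_norm_of_ab h.pair.ab le_sup_right |> le_sup_left.trans), commutator_comm]

theorem norm_le_of_K (hy : y ∈ ⁅O 𝐂[t], zpowers s⁆) (y1 : y ≠ 1) : 𝐂[y] ≤ 𝐂[t] := by
  have h1 := h.K_normal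
  have hs := h.pair.le_cent (s_mem_S4 t s)
  have h6 := zpowers_le.2 (Fit_le_of_normal (Opi_normal _ _) (h.K_le_Fit hy))
  obtain ⟨N, hN, h4⟩ := h.smp.exists_coatom (mt zpowers_eq_bot.1 y1) fun e => h.cent_ne_top
    (top_le_iff.1 (e ▸ zpowers_le.2 (h1.le hy)))
  have h5 : 𝐂[y] ≤ N := (cent_zpowers y).ge.trans ((cent_le_norm _).trans h4)
  have hA : S4 t s ≤ N := S4_le.2 ⟨h5 (mem_cent1_comm.1 (h1.le hy)), h4 (mem_norm_of_conj_le (by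
    rw [conj_zpowers, conj_eq_inv h.pair.s_sq (h1.norm hs) h.K_inf hy, zpowers_inv]))⟩
  refine h5.trans ((h.le_or_fu hA (h.cent_O hA (arr_of_le h6 ((le_norm_self _).trans h4)
    (inf_le_right.trans ((cent_le_norm _).trans h4))) (inf_le_right.trans ((cent_anti h6).trans
      ((cent_le_norm _).trans h4))) fun q _ q2 a ha a1 _ e => ?_)).resolve_right fun e => ?_)
  · obtain ⟨g, -, -, b, σ, k1, k2, -⟩ := h.exists_rk' ha a1
    exact k1.le_Op_of_K q2 (k2 ▸ t_mem_S4 t s) inf_le_right ((Op_isPGroup q N).to_le inf_le_left)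
      (mem_norm_inf ((Op_normal q N).norm (hA (t_mem_S4 t s)))
        (le_normalizer (h.le_cent ha (t_mem_S4 t s)))) e
  · exact h.not_isCyclic (h.cent_le.trans h1.norm) h.K_ne h.K_inf ((h.st hA).isCyclic h.ky
      (card_lt hN.1.lt_top) (le_inf (((ab_of_inf_eq_bot h.pair.s_sq (h1.norm hs) h.K_inf).le_cent.trans
        (cent_le_cent1 hy)).trans h5) h1.le) (odd_of_le (odd_O _) h.K_le) h.K_comm (eq_bot_iff.2
          (h.K_inf ▸ le_inf inf_le_right (inf_le_left.trans (le_cent1_iff.2 (e (s_mem_S4 t s)))))))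

end RK

end Cfsg.Agent.R4
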