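import Cfsg.Agent.Lib.R4.KFDefs
import Cfsg.Agent.Lib.Wal.K2
import Cfsg.Agent.Lib.Core.Zipper

/-!
# Package Y1, part a: subgroups generated by two conjugates of an elementary abelian 2-subgroup
-/

set_option autoImplicit false

namespace Cfsg.Agent.R4

open Subgroup Cfsg.Agent.OO Cfsg.Agent.Coprime Cfsg.Agent.SZ Cfsg.Agent.GW
open scoped commutatorElement Pointwise

universe u

section Defs

variable {G : Type u} [Group G]

/-- the facts on the known simple groups that are needed -/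
structure YF (K : Subgroup G) : Prop where
  comm : ∀ T ≤ K, IsPGroup 2 T → ∀ s ∈ T, ∀ t ∈ T, s * s = 1 → t * t = 1 → s * t = t * s
  inner : ∀ a ∈ 𝐍(K), a * a = 1 → ∃ k ∈ K, k⁻¹ * a ∈ 𝐂(K)
  alt : (∀ A ≤ K, IsElementaryAbelian 2 A → A ≠ ⊥ → ∃ F ≤ K, Odd (♯F) ∧ A ≤ 𝐍(F) ∧ ¬ A ≤ 𝐂(F)) ∨
    ((∀ t ∈ K, t ≠ 1 → t * t = 1 → IsPGroup 2 ↥(K ⊓ 𝐂[t])) ∧ ∃ n p : ℕ, p.Prime ∧ p ≠ 2 ∧ p ∣ ♯K ∧
      (∀ k, 0 < k → k < 4 * n → ¬ p ∣ 2 ^ k - 1) ∧ ∀ A ≤ K, IsElementaryAbelian 2 A → ♯A ≤ 2 ^ n)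

/-- the subgroup generated by the `π`-elements -/
def gen (π : Set ℕ) (L : Subgroup G) : Subgroup G := closure {y | y ∈ L ∧ PiElt π y}

/-- `π`-elements act trivially on 2-sections of order at most `a ^ 4 / 4` -/
def Gd (π : Set ℕ) (a : ℕ) : Prop := 2 ∉ π ∧ (a = 2 ∨ ∃ p : ℕ, p.Prime ∧ π = {p} ∧
  ∀ k, 0 < k → 4 * 2 ^ k ≤ a ^ 4 → ¬ p ∣ 2 ^ k - 1)

/-- the witness modulo `K` -/
structure Wit (K A B : Subgroup G) (π : Set ℕ) (x : G) : Prop where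
  mem : x ∈ gen π (A ⊔ x •ᶜ A)
  comm : ⁅B, A ⊔ x •ᶜ A⁆ ≤ K
  nt : ¬ IsPGroup 2 ((A ⊔ x •ᶜ A) ⁒ K : Subgroup _)

/-- `A` centralizes the subgroups of odd order that it normalizes -/
def Sg (X A : Subgroup G) : Prop := ∀ F ≤ X, Odd (♯F) → A ≤ 𝐍(F) → A ≤ 𝐂(F)

/-- a quasisimple subgroup which behaves like a component moved by `A` -/
structure Gk (X A K : Subgroup G) : Prop where
  le : K ≤ X
  qs : IsQuasisimple K
  odd : Odd ♯(Zc K)
  perm : ∀ b ∈ A, b ∈ 𝐍(K) ∨ b •ᶜ K ≤ 𝐂(K)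
  nc : ¬ A ≤ 𝐂(K)

end Defs

/-- all simple subgroups of order less than `n` of `S₃`-free groups have the known properties -/
def KH (n : ℕ) : Prop := ∀ (G : Type u) [Group G] [Finite G], S3F G → ∀ K : Subgroup G, ♯K < n →
  Smp K → ¬ Ab K → YF K

variable {G : Type u} [Group G] {A B H K L M X Y : Subgroup G} {π : Set ℕ} {a n : ℕ} {x y : G}

theorem gen_le_iff : gen π L ≤ H ↔ ∀ y ∈ L, PiElt π y → y ∈ H :=
  (closure_le _).trans ⟨fun h y h1 h2 => h ⟨h1, h2⟩, fun h y hy => h y hy.1 hy.2⟩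

theorem gen_le : gen π L ≤ L := gen_le_iff.2 fun _ h _ => h

theorem mem_gen (h1 : y ∈ L) (h2 : PiElt π y) : y ∈ gen π L := subset_closure ⟨h1, h2⟩

variable [Finite G]

theorem gen_normal : gen π L ⊴ L :=
  ⟨gen_le, le_norm_closure fun _ ha _ hx => ⟨L.mul_mem (L.mul_mem ha hx.1) (L.inv_mem ha), hx.2.conj _⟩⟩

theorem gen_quo : gen π (L ⁒ K) ≤ gen π L ⁒ K := gen_le_iff.2 fun z hz h => by
  obtain ⟨x, h1, -, h2, rfl⟩ := exists_piElt_coset_eq hz h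
  exact coset_mem_quo K (mem_gen h1 h2)

theorem Gd.coprime (h : Gd π a) (hy : PiElt π y) : (orderOf y).Coprime 2 :=
  (Nat.coprime_two_right.2 (Nat.not_even_iff_odd.1 fun e => h.1 (hy 2 Nat.prime_two e.two_dvd)))

theorem Gd.cop (h : Gd π a) (hy : PiElt π y) (hY : IsPGroup 2 Y) : (♯(zpowers y)).Coprime ♯Y :=
  coprime_card_of_isPGroup (by rw [Nat.card_zpowers]; exact h.coprime hy) hY

/-- small sections are centralized -/
theorem Gd.sec (h : Gd π a) (h3 : S3F G) (hA : IsPGroup 2 A) {Y₁ Y₂ : Subgroup G}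
    (h1 : A ⊔ x •ᶜ A ≤ 𝐍(Y₁)) (h2 : A ⊔ x •ᶜ A ≤ 𝐍(Y₂)) (h4 : Y₂ ≤ 𝐍(Y₁)) (hY : IsPGroup 2 Y₂)
    (h5 : 4 * Y₁.relIndex Y₂ ≤ a ^ 4) (hy : y ∈ A ⊔ x •ᶜ A) (hp : PiElt π y) :
    ⁅Y₂, zpowers y⁆ ≤ Y₁ := by
  rcases h.2 with rfl | ⟨p, hp', rfl, h6⟩
  · refine Core.zpowers_commutator_le (fun g => Core.commutator_le_of_relIndex_le_four (g := g) hA
      (isPGroup_conj.2 hA) (fun e => ?_) h1 h2 h4 (by omega)) hy (h.coprime hp)
    obtain ⟨d, t, e1, -, e2⟩ := Core.exists_inverted_of_involves e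
    exact (h3.sub _).not_dvd e2 e1.symm.dvd
  have := Fact.mk hp'
  have hz := zpowers_le.2 hy
  rw [← quo_le_cent_iff h4 (hz.trans h1), ← relIndex_eq_one]
  obtain ⟨j, hj⟩ := (isPGroup_quo hY Y₁).exists_card_eq
  obtain ⟨k, -, hk⟩ := (Nat.dvd_prime_pow Nat.prime_two).1
    (hj ▸ relIndex_dvd_card 𝐂(zpowers y ⁒ Y₁) (Y₂ ⁒ Y₁))
  have h7 := Coprime.relIndex_centralizer_modEq_one
    (isPGroup_quo (isPGroup_zpowers_iff.2 hp) Y₁) (quo_le_norm Y₁ (hz.trans h2)) (by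
      rw [hj]
      exact fun e => h.1 ((Nat.prime_dvd_prime_iff_eq hp' Nat.prime_two).1 (hp'.dvd_of_dvd_pow e)).symm)
  have h8 := Nat.le_of_dvd (card_pos' _) (relIndex_dvd_card 𝐂(zpowers y ⁒ Y₁) (Y₂ ⁒ Y₁))
  rw [card_quo h4] at h8
  rw [hk] at h7 h8 ⊢
  rcases k.eq_zero_or_pos with rfl | h9
  · rfl
  exact absurd ((Nat.modEq_iff_dvd' Nat.one_le_two_pow).1 h7.symm) (h6 k h9 (by omega))

/-- lifting a witness -/
theorem Wit.lift (hK : K ⊴ M) (hA : A ≤ H) (hH : H ≤ M) {B' : Subgroup (Coset K)} {z : Coset K}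
    (h : Wit ⊥ (A ⁒ K) B' π z) (hz : z ∈ H ⁒ K) : ∃ x ∈ H, Wit K A (A ⊓ quoPre K B') π x := by
  have hn := hH.trans hK.2
  have e : ∀ x ∈ H, coset K x = z → (A ⊔ x •ᶜ A) ⁒ K = A ⁒ K ⊔ z •ᶜ (A ⁒ K) := fun x hx e => by
    rw [quo_sup (hA.trans hn) ((conj_le_of_mem hx hA).trans hn), quo_conj (hn hx), e]
  obtain ⟨x₀, hx₀⟩ := (mem_quo_of_le hn).1 hz
  obtain ⟨L, -, ⟨x, hx, rfl⟩, hmin⟩ := Core.exists_minimal_le (P := fun L : Subgroup G =>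
    ∃ x, (x ∈ H ∧ coset K x = z) ∧ L = A ⊔ x •ᶜ A) ⟨x₀, hx₀, rfl⟩
  have hL : A ⊔ x •ᶜ A ≤ H := sup_le hA (conj_le_of_mem hx.1 hA)
  obtain ⟨y, hy, e1⟩ := (mem_quo_of_le (gen_le.trans (hL.trans hn))).1 (gen_quo (e x hx.1 hx.2 ▸ h.mem))
  have hyH := hL (gen_le hy)
  have e2 := hmin _ ⟨y, ⟨hyH, e1⟩, rfl⟩ (sup_le le_sup_left (conj_le_of_mem (gen_le hy) le_sup_left))
  rw [← e2] at hy hL
  refine ⟨y, hyH, hy, ?_, fun hc => h.nt ?_⟩
  · rw [← quo_le_cent_iff (inf_le_left.trans (hA.trans hn)) (hL.trans hn), e y hyH e1,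
      inf_quoPre_quo]
    exact inf_le_right.trans (commutator_eq_bot_iff.1 (eq_bot_iff.2 h.comm))
  · exact isPGroup_quo (e y hyH e1 ▸ hc) ⊥

theorem eq_one_of_odd (h : Odd (orderOf x)) (h2 : x * x = 1) : x = 1 :=
  orderOf_eq_one_iff.1 (Nat.eq_one_of_dvd_coprimes (Nat.coprime_two_right.2 h) dvd_rfl
    (orderOf_dvd_of_pow_eq_one (by rw [pow_two, h2])))

/-- passing to a diagonal subgroup -/
theorem Gk.step (hA : IsElementaryAbelian 2 A) (hX : A ≤ X) (hs : Sg X A) (h : Gk X A K) {a : G}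
    (ha : a ∈ A) (hn : a ∉ 𝐍(K)) : ∃ D, Gk X A D ∧ A ⊓ 𝐍(K) < A ⊓ 𝐍(D) := by
  have hc := (h.perm a ha).resolve_left hn
  have cm : ∀ b ∈ A, a * b = b * a := ab_iff.1 hA.1 a ha
  have a2 : a * a = 1 := by rw [← pow_two, hA.2 a ha]
  have ai : a⁻¹ = a := inv_eq_of_mul_eq_one_right a2
  have c1 : ∀ l ∈ K, a * l * a⁻¹ ∈ 𝐂(K) := fun l hl => hc (conj_mem_conj hl)
  let φ : K →* G := MonoidHom.mk' (fun l => l * (a * l * a⁻¹)) fun l m => by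
    rw [Subgroup.coe_mul, mul_assoc (l : G) (a * l * a⁻¹), ← mul_assoc (a * l * a⁻¹),
      ← mem_cent_iff.1 (c1 l l.2) m m.2]
    group
  have hφ : ∀ l : K, φ l = l * (a * l * a⁻¹) := fun _ => rfl
  have ker : ∀ l : K, φ l = 1 → (l : G) ∈ 𝐂(K) := fun l e => by
    rw [eq_inv_of_mul_eq_one_left ((hφ l).symm.trans e)]
    exact inv_mem (c1 l l.2)
  have nab : ¬ K ≤ 𝐂(K) := Core.not_le_centralizer_of_isQuasisimple h.qs
  have : Nontrivial φ.range := (nontrivial_iff_ne_bot _).2 fun e =>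
    nab fun l hl => ker ⟨l, hl⟩ (mem_bot.1 (e ▸ ⟨_, rfl⟩))
  have qs : IsQuasisimple φ.range := Core.isQuasisimple_of_surjective h.qs φ.rangeRestrict_surjective
  have cj : ∀ b ∈ A, ∀ hb : b ∈ 𝐍(K), ∀ l : K,
      φ ⟨b * l * b⁻¹, conj_mem_of_norm hb l.2⟩ = b * φ l * b⁻¹ := fun b hb _ l => by
    rw [hφ, hφ]
    calc b * l * b⁻¹ * (a * (b * l * b⁻¹) * a⁻¹) = b * l * b⁻¹ * (a * b) * l * (a * b)⁻¹ := by group
      _ = _ := by rw [cm b hb]; group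
  have n1 : ∀ b ∈ A, b ∈ 𝐍(K) → b ∈ 𝐍(φ.range) := fun b hb hb' => mem_norm_of_conj_mem (by
    rintro _ ⟨l, rfl⟩
    exact ⟨_, cj b hb hb' l⟩)
  have n2 : a ∈ 𝐍(φ.range) := mem_norm_of_conj_mem (by
    rintro _ ⟨l, rfl⟩
    refine ⟨l, ?_⟩
    rw [hφ]
    calc (l : G) * (a * l * a⁻¹) = a * l * a⁻¹ * ((a * a) * l * (a * a)⁻¹) := by
          rw [a2, mem_cent_iff.1 (c1 l l.2) l l.2]; group
      _ = _ := by group)
  have hD : φ.range ≤ K ⊔ a •ᶜ K := by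
    rintro _ ⟨l, rfl⟩
    exact mul_mem_sup l.2 (conj_mem_conj l.2)
  have n3 : ∀ b ∈ A, b ∉ 𝐍(K) → a * b ∉ 𝐍(K) → b •ᶜ φ.range ≤ 𝐂(φ.range) := fun b hb h1 h2 => by
    have k1 := (h.perm b hb).resolve_left h1
    have k2 := (h.perm _ (mul_mem ha hb)).resolve_left h2
    refine le_cent_mono (A := b •ᶜ (K ⊔ a •ᶜ K)) ?_ (conj_mono b hD) hD
    rw [conj_sup, conj_conj, ← cm b hb]
    refine le_cent_sup (sup_le k1 k2) (sup_le ?_ ?_)
    · have := conj_le_cent_conj (g := a).2 k2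
      rwa [conj_conj, ← mul_assoc, a2, one_mul] at this
    · exact conj_conj a b K ▸ conj_le_cent_conj.2 k1
  refine ⟨φ.range, ⟨hD.trans (sup_le h.le (conj_le_of_mem (hX ha) h.le)), qs,
    odd_of_forall fun d hd d2 => ?_, fun b hb => ?_, fun e => ?_⟩,
    lt_of_le_of_ne (fun b hb => ⟨hb.1, n1 b hb.1 hb.2⟩) fun e => hn (e.ge ⟨ha, n2⟩).2⟩
  · obtain ⟨⟨l, rfl⟩, h2⟩ := hd
    rcases Core.le_center_or_eq_top_of_isQuasisimple h.qs
      ((center φ.range).comap φ.rangeRestrict) with e | e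
    · have h3 : l ∈ center K := e (mem_center_iff.2 fun m => Subtype.ext (mem_cent_iff.1 h2 m m.2))
      have h4 := odd_of_mem h.odd (x := (l : G)) ⟨l.2, mem_cent_iff.2 fun m hm =>
        congrArg Subtype.val (mem_center_iff.1 h3 ⟨m, hm⟩)⟩
      rw [orderOf_coe] at h4
      exact eq_one_of_odd (h4.of_dvd_nat (orderOf_map_dvd φ l)) d2
    · refine absurd (ab_iff.2 ?_) (Core.not_isMulCommutative_of_isQuasisimple qs)
      rintro _ ⟨l, rfl⟩ m hm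
      exact (congrArg Subtype.val (mem_center_iff.1 (e.ge (mem_top l)) ⟨m, hm⟩)).symm
  · by_cases h1 : b ∈ 𝐍(K)
    · exact .inl (n1 b hb h1)
    by_cases h2 : a * b ∈ 𝐍(K)
    · exact .inl ((mul_mem_cancel_left n2).1 (n1 _ (mul_mem ha hb) h2))
    · exact .inr (n3 b hb h1 h2)
  have k1 : K ≤ 𝐂(A ⊓ 𝐍(K)) := Core.le_centralizer_of_commutator_le_centralizer
    (Core.commutator_eq_of_isQuasisimple h.qs) (commutator_le.2 fun l hl b hb => by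
      have := ker (⟨l, hl⟩ * ⟨b * (⟨l, hl⟩⁻¹ : K) * b⁻¹, conj_mem_of_norm hb.2 (⟨l, hl⟩⁻¹ : K).2⟩) (by
        rw [map_mul, cj b hb.1 hb.2, mem_cent_iff_conj.1 (e hb.1) _ ⟨_, rfl⟩, ← map_mul,
          mul_inv_cancel, map_one])
      simpa [commutatorElement_def, mul_assoc] using this)
  have k2 : pResidualOf 2 K ≤ Zc K := Core.pResidualOf_le_of_forall fun l hl ho => by
    have o1 : PiElt {2}ᶜ l := piGrp_zpowers.1 (odd_iff.1 (by
      rw [Nat.card_zpowers]; exact Nat.coprime_two_right.1 ho))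
    have cc : l * (a * l * a⁻¹)⁻¹ = (a * l * a⁻¹)⁻¹ * l := mem_cent_iff.1 (inv_mem (c1 l hl)) l hl
    set f := l * (a * l * a⁻¹)⁻¹ with hf
    have o2 : PiElt {2}ᶜ f := o1.mul_of_commute (o1.conj a).inv cc
    have i1 : a * f * a⁻¹ = f⁻¹ := by
      calc _ = a * l * a⁻¹ * ((a * a) * l⁻¹ * (a * a)⁻¹) := by rw [hf]; group
        _ = _ := by rw [a2, hf]; group
    have i2 : a ∈ 𝐍(zpowers f) := by rw [← conj_eq_self_iff, conj_zpowers, i1, zpowers_inv]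
    have i3 : ∀ b ∈ A, b ∈ 𝐍(K) → b ∈ 𝐍(zpowers f) := fun b hb hb' => cent_le_norm _ (by
      have h1 : l ∈ 𝐂[b] := cent_le_cent1 (⟨hb, hb'⟩ : b ∈ A ⊓ 𝐍(K)) (k1 hl)
      have h2 : a ∈ 𝐂[b] := mem_cent1.2 (cm b hb)
      rw [cent_zpowers, mem_cent1_comm]
      exact mul_mem h1 (inv_mem (mul_mem (mul_mem h2 h1) (inv_mem h2))))
    have i4 := hs (zpowers f) (zpowers_le.2 (X.mul_mem (h.le hl) (X.inv_mem (X.mul_mem (X.mul_mem
      (hX ha) (h.le hl)) (X.inv_mem (hX ha)))))) (odd_iff.2 (piGrp_zpowers.2 o2)) (fun b hb => by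
        by_cases h1 : b ∈ 𝐍(K)
        · exact i3 b hb h1
        by_cases h2 : a * b ∈ 𝐍(K)
        · exact (mul_mem_cancel_left i2).1 (i3 _ (mul_mem ha hb) h2)
        · exact absurd ((conj_eq_of_mem_cent (e hb)).ge.trans (n3 b hb h1 h2))
            (Core.not_le_centralizer_of_isQuasisimple qs)) ha
    have i5 : f = 1 := eq_one_of_odd (Nat.card_zpowers f ▸ odd_iff.2 (piGrp_zpowers.2 o2)) (by
        rw [mul_eq_one_iff_eq_inv, ← i1, mem_cent_iff_conj.1 i4 f (mem_zpowers f)])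
    exact ⟨hl, mul_inv_eq_one.1 i5 ▸ c1 l hl⟩
  obtain ⟨P, hP⟩ := exists_syl 2 K
  refine Core.not_isSolvable_of_isQuasisimple h.qs ?_
  rw [← Core.pResidualOf_sup_of_isSylowIn hP, sup_comm]
  exact sol_sup (hP.le.trans (Core.le_normalizer_pResidualOf K)) (sol_of_isPGroup hP.isPGroup)
    (sol_of_odd (odd_of_le h.odd k2))

theorem exists_not_two (hA : A ≤ X) (h : ¬ A ≤ Op 2 X) : ∃ x ∈ X, ¬ IsPGroup 2 ↥(A ⊔ x •ᶜ A) := by
  by_contra! e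
  refine h ((map_subgroupOf_eq_of_le hA).ge.trans (map_mono
    (Core.le_pCore_iff_forall_sup_map_conj.2 fun x => ?_)))
  rw [← conj_eq_map, ← subgroupOf_conj x.2, ← subgroupOf_sup hA (conj_le_of_mem x.2 hA)]
  exact isPGroup_subgroupOf (e x x.2) X

theorem isPGroup_quo_bot : IsPGroup 2 (L ⁒ ⊥ : Subgroup _) ↔ IsPGroup 2 L :=
  ⟨isPGroup_of_quo (NormalIn.bot L).2 IsPGroup.of_bot, fun h => isPGroup_quo h _⟩

omit [Finite G] in
theorem elem_sq (hA : IsElementaryAbelian 2 A) (hx : x ∈ A) : x * x = 1 := by rw [← pow_two, hA.2 x hx]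

theorem exists_invol (h : IsPGroup 2 X) (h0 : X ≠ ⊥) : ∃ t ∈ X, t ≠ 1 ∧ t * t = 1 := by
  by_contra! e
  obtain ⟨k, hk⟩ := h.exists_card_eq
  have := odd_of_forall (Q := X) fun a ha h2 => by_contra fun h1 => e a ha h1 h2
  rcases k with _ | k
  · exact h0 (card_eq_one_iff.1 hk)
  · rw [hk, pow_succ] at this
    exact absurd (Nat.odd_mul.1 this).2 (by decide)

/-- the key lemma when `O₂(X) = 1` -/
theorem lk0 (hK : KH.{u} n) (m : ℕ) : ∀ (G : Type u) [Group G] [Finite G] (X A : Subgroup G), S3F G →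
    ♯X = m → m < n → Op 2 X = ⊥ → A ≤ X → IsElementaryAbelian 2 A → A ≠ ⊥ →
    ∃ B π, ∃ x ∈ X, B < A ∧ Gd π (B.relIndex A) ∧ Wit ⊥ A B π x := by
  induction' m using Nat.strong_induction_on with m ih
  intro G _ _ X A h3 hm hn hO hX hA h0
  have hA2 := Core.isPGroup_of_elemAb hA
  by_cases hs : ¬ Sg X A
  · simp only [Sg, not_forall] at hs
    obtain ⟨F, hF, ho, h1, h2⟩ := hs
    have h4 := mt (le_of_forall_hyperplane (H := 𝐂(A)) hA.1 hA.2 h0 h1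
      (coprime_card_of_isPGroup (Nat.coprime_two_right.2 ho) hA2).symm) fun e => h2 (le_cent_symm e)
    push Not at h4
    obtain ⟨B, hB, hi, h4⟩ := h4
    have h5 : A ≤ 𝐂(B) := le_cent_symm (hB.trans (Ab.le_cent hA.1))
    obtain ⟨x, k1, k2, -, k3⟩ := Core.exists_two_conj_core (F := F ⊓ 𝐂(B)) (A := A) (syl_bot (p := 2)
      (odd_of_le ho inf_le_left).not_two_dvd_nat) hA2 (NormalIn.bot _).2 (NormalIn.bot _).2
      (le_norm_inf h1 (le_norm_of_le h5)) fun e => h4 (commutator_eq_bot_iff.1 (eq_bot_iff.2 e))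
    refine ⟨B, {2}ᶜ, x, hF (k2 k1).1, lt_of_le_of_ne hB fun e => ?_, ⟨by simp, .inl hi⟩,
      Core.pResidualOf_le_of_forall (fun g hg ho => mem_gen hg (piGrp_zpowers.1 (odd_iff.1 ?_))) k1,
      (commutator_eq_bot_iff'.2 (sup_le h5 (conj_le_of_mem (k2 k1).2 h5))).le,
      fun e => k3 (isPGroup_quo_bot.1 e)⟩
    · rw [e, relIndex_self] at hi; omega
    · rw [Nat.card_zpowers]; exact Nat.coprime_two_right.1 ho
  rw [not_not] at hs
  have hF : Odd ♯(Fit X) := Nat.not_even_iff_odd.1 fun e => by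
    have := (syl_Op_Fit 2 X).not_dvd
    rw [hO, relIndex_bot_left] at this
    exact this e.two_dvd
  obtain ⟨K₀, k0, k1⟩ : ∃ K, Wal.Cmp X K ∧ ¬ A ≤ 𝐂(K) := by
    by_contra! e
    obtain ⟨a, ha, a1⟩ := exists_mem_ne_one h0
    exact a1 (eq_one_of_odd (odd_of_mem hF (Wal.mem_Fit (hX ha) (hs _ (Fit_le X) hF
      (le_norm_Fit (le_norm_of_le hX)) ha) fun K h => e K h ha)) (elem_sq hA ha))
  obtain ⟨_, -, ⟨K, hG, rfl⟩, hmax⟩ := Core.exists_maximal_ge (P := fun N : Subgroup G =>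
    ∃ K, Gk X A K ∧ N = A ⊓ 𝐍(K)) ⟨K₀, ⟨k0.le, k0.2, odd_of_le hF (((Core.subnormalIn_of_le_normalizer
      (Zc_normal K₀).1 (Zc_normal K₀).2).trans k0.1).le_fittingOf (nil_of_ab (Zc_ab K₀))),
      fun b hb => (em' (b •ᶜ K₀ = K₀)).symm.imp conj_eq_self_iff.1 ((k0.conj (hX hb)).cent k0), k1⟩, rfl⟩
  have hN : A ≤ 𝐍(K) := fun a ha => by_contra fun e => by
    obtain ⟨D, d1, d2⟩ := hG.step hA hX hs ha e
    exact d2.ne' (hmax _ ⟨D, d1, rfl⟩ d2.le)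
  have hC : (K ⊔ A) ⊓ 𝐂(K) ⊴ K ⊔ A := normalIn_inf_cent (sup_le le_normalizer hN)
  set C := (K ⊔ A) ⊓ 𝐂(K) with hCd
  have kN : K ≤ 𝐍(C) := le_sup_left.trans hC.2
  have aN : A ≤ 𝐍(C) := le_sup_right.trans hC.2
  have pf := Core.commutator_eq_of_isQuasisimple hG.qs
  have e0 : ∀ N ≤ K ⁒ C, (K ⊓ quoPre C N) ⁒ C = N := fun N h => by
    rw [inf_quoPre_quo, inf_eq_right.2 h]
  have smp : Smp (K ⁒ C) := fun N h => (Core.le_centralizer_or_eq_of_isQuasisimple hG.qs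
    (inf_le_left : K ⊓ quoPre C N ≤ K) (le_norm_inf le_normalizer (le_norm_quoPre kN h.2))).imp
    (fun e => e0 N h.1 ▸ quo_eq_bot (le_inf (inf_le_left.trans le_sup_left) e))
    fun e => by rw [← e0 N h.1, e]
  have h3' := s3f_coset h3 C
  have hc : ♯(K ⁒ C) ≤ m := (card_quo_le K C).trans (hm ▸ card_le hG.le)
  have yf := hK _ h3' _ (hc.trans_lt hn) smp fun e => Core.not_le_centralizer_of_isQuasisimple hG.qs
    (pf.ge.trans (((ab_quo_iff kN).1 e).trans inf_le_right))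
  have hA' := abelem_quo hA C
  have hA2' := isPGroup_quo hA2 C
  have c1 : quoPre C 𝐂(K ⁒ C) ≤ 𝐂(K) := le_cent_symm (Core.le_centralizer_of_commutator_le_centralizer
    pf (((quo_le_cent_iff kN (quoPre_le_norm _)).1 (by
      rw [quo_quoPre]; exact le_cent_symm le_rfl)).trans inf_le_right))
  have aK : A ⁒ C ≤ K ⁒ C := fun z hz => by
    obtain ⟨w, hw, e⟩ := yf.inner z (quo_le_norm C hN hz) (elem_sq hA' hz)
    obtain ⟨a, ha, rfl⟩ := (mem_quo_of_le aN).1 hz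
    obtain ⟨k, hk, rfl⟩ := (mem_quo_of_le kN).1 hw
    rw [← coset_inv, ← coset_mul (inv_mem (kN hk)) (aN ha)] at e
    exact (coset_eq_iff (kN hk) (aN ha)).2 ⟨mul_mem_sup (inv_mem hk) ha,
      c1 (mem_quoPre.2 ⟨mul_mem (inv_mem (kN hk)) (aN ha), e⟩)⟩ ▸ hw
  have a0 : A ⁒ C ≠ ⊥ := quo_ne_bot aN fun e => hG.nc (e.trans inf_le_right)
  rcases yf.alt with h | ⟨cit, r, p, hp, p2, pd, hz, hb⟩
  · obtain ⟨F, f1, f2, f3, f4⟩ := h _ aK hA' a0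
    refine absurd (e0 F f1 ▸ quo_le_cent C (hs (K ⊓ quoPre C F) (inf_le_left.trans hG.le) ?_
      (le_norm_inf hN (le_norm_quoPre aN f3)))) f4
    rw [← card_inf_mul_card_quo (inf_le_left.trans kN), e0 F f1]
    exact (odd_of_le hG.odd (le_inf (inf_le_right.trans inf_le_left)
      (inf_le_left.trans inf_le_right))).mul f2
  have hO' : Op 2 (K ⁒ C) = ⊥ := (smp _ (Op_normal 2 _)).resolve_right fun e => by
    obtain ⟨k, hk⟩ := (e ▸ Op_isPGroup 2 (K ⁒ C)).exists_card_eq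
    exact p2 ((Nat.prime_dvd_prime_iff_eq hp Nat.prime_two).1 (hp.dvd_of_dvd_pow (hk ▸ pd)))
  obtain ⟨y, hy, nt⟩ := exists_not_two aK fun e => a0 (eq_bot_iff.2 (hO' ▸ e))
  have hL : A ⁒ C ⊔ y •ᶜ (A ⁒ C) ≤ K ⁒ C := sup_le aK (conj_le_of_mem hy aK)
  obtain ⟨π, z, hz, gd, wt⟩ : ∃ π, ∃ z ∈ K ⁒ C, Gd π ♯(A ⁒ C) ∧ Wit ⊥ (A ⁒ C) ⊥ π z := by
    rcases hL.lt_or_eq with e | e
    · set L := A ⁒ C ⊔ y •ᶜ (A ⁒ C) with hLd
      have o1 : Op 2 L = ⊥ := by_contra fun e' => by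
        obtain ⟨t, t0, t1, t2⟩ := exists_invol (Op_isPGroup 2 L) e'
        have k : ∀ E ≤ L, IsElementaryAbelian 2 E → E ≤ 𝐂[t] := fun E h1 h2 s hs => mem_cent1.2
          (yf.comm (E ⊔ Op 2 L) ((sup_le h1 (Op_le 2 L)).trans hL) (IsPGroup.to_sup_of_normal_right'
            (Core.isPGroup_of_elemAb h2) (Op_isPGroup 2 L) (h1.trans (Op_normal 2 L).2)) s
            (mem_sup_left hs) t (mem_sup_right t0) (elem_sq h2 hs) t2)
        exact nt ((cit t (hL (Op_le 2 L t0)) t1 t2).to_le (le_inf hL (sup_le (k _ le_sup_left hA')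
          (k _ le_sup_right (PGrp.isElementaryAbelian_map hA' _)))))
      obtain ⟨B, π, z, z1, b1, b2, b3⟩ := ih _ ((card_lt e).trans_le hc) _ L _ h3' rfl
        (((card_lt e).trans_le hc).trans hn) o1 le_sup_left hA' a0
      obtain rfl : B = ⊥ := by_contra fun e' => by
        obtain ⟨t, t0, t1⟩ := exists_mem_ne_one e'
        exact b3.nt (isPGroup_quo ((cit t (aK (b1.le t0)) t1 (elem_sq hA' (b1.le t0))).to_le (le_inf
          (sup_le aK (conj_le_of_mem (hL z1) aK)) ((commutator_eq_bot_iff'.1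
            (eq_bot_iff.2 b3.comm)).trans (cent_le_cent1 t0)))) _)
      exact ⟨π, z, hL z1, relIndex_bot_left (A ⁒ C) ▸ b2, b3⟩
    refine ⟨{p}, y, hy, ⟨fun e => p2 (Set.mem_singleton_iff.1 e).symm, .inr ⟨p, hp, rfl,
      fun k k0 k1 => hz k k0 ?_⟩⟩, ?_, by simp, fun e => nt (isPGroup_quo_bot.1 e)⟩
    · have := k1.trans (Nat.pow_le_pow_left (hb _ aK hA') 4)
      rw [← pow_mul, show 4 = 2 ^ 2 from rfl, ← pow_add, Nat.pow_le_pow_iff_right one_lt_two] at this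
      omega
    · rw [e, (smp _ gen_normal).resolve_left fun e' => ?_]
      · exact hy
      obtain ⟨g, g1, g2⟩ := cauchy hp pd
      have := mem_gen (π := {p}) g1 (by rw [PiElt, g2]; exact (isPiNum_prime hp).2 rfl)
      rw [e', mem_bot] at this
      rw [this, orderOf_one] at g2
      exact hp.one_lt.ne g2
  obtain ⟨x, hx, w⟩ := wt.lift hC le_sup_right le_rfl (quo_mono C le_sup_left hz)
  rw [quoPre_bot] at w
  refine ⟨A ⊓ C, π, x, sup_le hG.le hX hx, lt_of_le_of_ne inf_le_left fun e =>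
    hG.nc (e.ge.trans (inf_le_right.trans inf_le_right)), by rwa [inf_relIndex_left, ← card_quo aN],
    w.mem, (OO.commutator_eq_bot_iff.2 (le_cent_mono (le_cent_sup (inf_le_right.trans inf_le_right)
      (inf_le_left.trans (Ab.le_cent hA.1))) le_rfl (sup_le le_sup_right
        (conj_le_of_mem hx le_sup_right)))).le, fun e => w.nt (isPGroup_quo (isPGroup_quo_bot.1 e) _)⟩

/-- the key lemma -/
theorem lk (hK : KH.{u} n) (h3 : S3F G) (hM : ♯M < n) (hN : K ⊴ M) (hO : Op 2 (M ⁒ K) = ⊥) (hA : A ≤ M)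
    (h1 : der A ≤ K) (h2 : ∀ a ∈ A, a ^ 2 ∈ K) (h0 : ¬ A ≤ K) :
    ∃ B π, A ⊓ K ≤ B ∧ B < A ∧ Gd π (B.relIndex A) ∧ ∀ H, A ≤ H → H ≤ M →
      (∀ m ∈ M, (∀ b ∈ B, ⁅m, b⁆ ∈ K) → m ∈ H ⊔ K) → ∃ x ∈ H, Wit K A B π x := by
  have aN := hA.trans hN.2
  obtain ⟨B, π, z, hz, b1, b2, b3⟩ := lk0 hK _ _ (M ⁒ K) (A ⁒ K) (s3f_coset h3 K) rfl
    ((card_quo_le M K).trans_lt hM) hO (quo_mono K hA) ((abelem_quo_iff aN).2 ⟨h1, h2⟩)
    (quo_ne_bot aN h0)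
  have e : (A ⊓ quoPre K B) ⁒ K = B := by rw [inf_quoPre_quo, inf_eq_right.2 b1.le]
  refine ⟨A ⊓ quoPre K B, π, inf_le_inf_left _ (le_quoPre B), lt_of_le_of_ne inf_le_left fun e' =>
    b1.ne (by rw [← e, e']), by
      rwa [inf_relIndex_left, ← relIndex_quo (normalIn_quoPre B) aN, quo_quoPre],
    fun H k1 k2 k3 => b3.lift hN k1 k2 ?_⟩
  obtain ⟨m, hm, rfl⟩ := (mem_quo_of_le hN.2).1 hz
  rw [← quo_sup_self (k2.trans hN.2)]
  refine coset_mem_quo K (k3 m hm ((coset_mem_cent_iff (hN.2 hm) (inf_le_left.trans aN)).1 ?_))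
  rw [e]
  exact commutator_eq_bot_iff'.1 (eq_bot_iff.2 b3.comm) (gen_le b3.mem)

end Cfsg.Agent.R4
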