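import Cfsg.Agent.Lib.R4.Y1a
import Cfsg.Agent.Lib.Core.S4Free

/-!
# Package Y1, part b: pairs of 2-constrained subgroups with a common Sylow 2-subgroup
-/

set_option autoImplicit false

namespace Cfsg.Agent.R4

open Subgroup Cfsg.Agent.OO Cfsg.Agent.Coprime Cfsg.Agent.SZ Cfsg.Agent.GW Cfsg.Agent.Core
open scoped commutatorElement Pointwise

universe u

variable {G : Type u} [Group G] {A B H K L M P Q S T V X Y Z : Subgroup G} {π : Set ℕ} {a n : ℕ}
  {x y : G}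

/-- `O₂(M) O(M)` -/
abbrev QO (M : Subgroup G) : Subgroup G := Op 2 M ⊔ O M

/-- `M / O(M)` has characteristic 2 and `O_{2',2}(M) = O(M) O₂(M)` -/
structure CR (M : Subgroup G) : Prop where
  cent : M ⊓ 𝐂(Op 2 M) ≤ QO M
  quo : Op 2 (M ⁒ QO M) = ⊥

theorem noOff_conj (h : NoOffender M V) (g : G) : NoOffender (g •ᶜ M) (g •ᶜ V) := fun A h1 h2 h3 h4 => by
  obtain ⟨A, rfl⟩ : ∃ B, A = g •ᶜ B := ⟨g⁻¹ •ᶜ A, by rw [conj_conj, mul_inv_cancel]; simp⟩
  rw [cent_conj, cent_conj, relIndex_conj, relIndex_conj]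
  rw [← conj_commutator, cent_conj, conj_le_conj_iff] at h3
  refine h A (conj_le_conj_iff.1 h1) (isPGroup_conj.1 h2) h3 fun a ha => ?_
  have := h4 _ (conj_mem_conj ha)
  rwa [cent_conj, conj_pow, conj_mem_conj_iff] at this

theorem comm_gen_le (hL : L ≤ 𝐍(Q)) (h : ∀ y ∈ L, PiElt π y → ⁅B, zpowers y⁆ ≤ Q) : ⁅B, gen π L⁆ ≤ Q :=
  commutator_le.2 fun b hb _ hg => ((gen_le_iff (H := relCentralizer B Q)).2 (fun y hy hp =>
    ⟨hL hy, fun _ hc => h y hy hp (commutator_mem_commutator hc (mem_zpowers y))⟩) hg).2 b hb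

variable [Finite G]

theorem QO_normal (M : Subgroup G) : QO M ⊴ M := (Op_normal 2 M).sup (Opi_normal _ M)

theorem inf_QO (hT : IsPGroup 2 T) (h : Op 2 M ≤ T) : QO M ⊓ T = Op 2 M := by
  rw [sup_inf_of_le_left (.inl ((Op_le 2 M).trans (O_norm M))) h, OO.inf_eq_bot_of_coprime_card
    (coprime_card_of_isPGroup (Nat.coprime_two_right.2 (odd_O M)) hT), sup_bot_eq]

theorem le_Op_of_le_QO (hA : A ≤ M) (h2 : IsPGroup 2 A) (h : A ≤ QO M) : A ≤ Op 2 M :=
  (le_inf h le_sup_left).trans (inf_QO (IsPGroup.to_sup_of_normal_right' h2 (Op_isPGroup 2 M)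
    (hA.trans (Op_normal 2 M).2)) le_sup_right).le

theorem two_mul_le (hX : IsPGroup 2 X) (hA : IsPGroup 2 A) (h : H.relIndex X < B.relIndex A ^ 2) :
    2 * H.relIndex X ≤ B.relIndex A ^ 2 := by
  obtain ⟨i, hi⟩ := hX.exists_card_eq
  obtain ⟨j, hj⟩ := hA.exists_card_eq
  obtain ⟨k, -, hk⟩ := (Nat.dvd_prime_pow Nat.prime_two).1 (hi ▸ relIndex_dvd_card H X)
  obtain ⟨l, -, hl⟩ := (Nat.dvd_prime_pow Nat.prime_two).1 (hj ▸ relIndex_dvd_card B A)
  rw [hk, hl, ← pow_mul, Nat.pow_lt_pow_iff_right one_lt_two] at h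
  rw [hk, hl, ← pow_mul, ← pow_succ']
  exact Nat.pow_le_pow_right two_pos h

theorem two_le_relIndex (h : B < A) : 2 ≤ B.relIndex A :=
  (Nat.two_le_iff _).2 ⟨(relIndex_pos B A).ne', fun e => h.not_ge (relIndex_eq_one.1 e)⟩

theorem Wit.not_le (h : Wit K A B π x) (hP : IsPGroup 2 P) (hn : P ≤ 𝐍(K)) :
    ¬ A ⊔ x •ᶜ A ≤ P ⊔ K := fun e =>
  h.nt ((isPGroup_quo hP K).to_le (quo_sup_self hn ▸ quo_mono K e))

theorem sup_conj_le (hn : A ≤ 𝐍(K)) (hx : x ∈ K) : A ⊔ x •ᶜ A ≤ A ⊔ K :=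
  sup_le le_sup_left (conj_le_of_mem (mem_sup_right hx) le_sup_left)

omit [Finite G] in
theorem Ctl.mono {H' T' : Subgroup G} (h : Ctl H T M) (h1 : H' ≤ H) (h2 : T' ≤ T) : Ctl H' T' M :=
  fun X hX g hg e => h X (hX.trans h2) g (h1 hg) (e.trans h2)

theorem CR.le_of_ctl (hc : CR M) (hH : H ≤ M) (hQ : Op 2 M ≤ T) (h : Ctl H T (H ⊓ 𝐍(Y))) :
    H ≤ 𝐍(Y ⊔ QO M) := fun g hg => by
  obtain ⟨m, hm, c, h1, rfl⟩ := (h _ hQ g hg (((Op_normal 2 M).conj_eq (hH hg)).le.trans hQ)).exists_mul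
  exact mul_mem (mem_norm_sup hm.2 ((QO_normal M).2 (hH hm.1))) (le_normalizer (mem_sup_right
    (hc.cent ⟨(mul_mem_cancel_left (hH hm.1)).1 (hH hg), h1⟩)))

theorem Ctl.fus (h : Ctl H S M) (hT : Syl 2 T H) (h1 : T ≤ S) (hS : IsPGroup 2 S) (h2 : Q ≤ S)
    (hn : M ≤ 𝐍(Q)) : Ctl H T (H ⊓ 𝐍(T ⊓ Q)) := by
  obtain ⟨k, hk⟩ := nil_iff_exists_Zn.1 (nil_of_isPGroup (hS.to_le h2))
  have := R4.fus hT (fun i => T ⊓ Zn i Q) k (by simp) inf_le_left (fun i _ a ha g hg e =>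
    ⟨e, h.scl ((Zn_le i Q).trans h2) (hn.trans (norm_le_norm_Zn i Q)) a ha.2 g hg (h1 e)⟩) fun i _ =>
    le_inf (commutator_le_of_le inf_le_left inf_le_left) ((commutator_mono inf_le_right
      (inf_le_right.trans (Zn_le k Q))).trans (commutator_Zn_succ_le i Q))
  rwa [hk] at this

theorem CR.invClosure_le (hc : CR M) (hS : Syl 2 S M) (hZ : Z ≤ Zc S) :
    invClosure Z M ≤ Zc (Op 2 M) := by
  have h1 := hZ.trans (inf_le_inf hS.le (cent_anti (Op_le_syl hS)))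
  exact Core.invClosure_le (le_inf (le_Op_of_le_QO (h1.trans inf_le_left) (hS.isPGroup.to_le
    (hZ.trans inf_le_left)) (h1.trans hc.cent)) (h1.trans inf_le_right)) (Op_normal 2 M).Zc.2

theorem CR.elem (hc : CR M) (hS : Syl 2 S M) (hZ : Z ≤ Zc S) (hZp : ∀ z ∈ Z, z ^ 2 = 1) :
    IsElementaryAbelian 2 (invClosure Z M) :=
  PGrp.isElementaryAbelian_of_le (PGrp.isElementaryAbelian_omegaOne (Zc_ab _))
    (Core.invClosure_le (PGrp.le_omegaOne_of_pow_eq_one ((le_invClosure Z M).trans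
      (hc.invClosure_le hS hZ)) hZp) ((Op_normal 2 M).Zc.2.trans
        (PGrp.normalizer_le_normalizer_omegaOne _)))

variable (hK : KH.{u} n) (h3 : S3F G) (hM : ♯M < n)
include hK h3 hM

/-- there are no over-`2F` offenders -/
theorem noOff (hV : IsPGroup 2 V) (hc : Ab V) (hn : M ≤ 𝐍(V)) (hO : Op 2 (M ⁒ (M ⊓ 𝐂(V))) = ⊥) :
    NoOffender M V := fun A => by
  induction A using subgroup_induction_lt with
  | h A ih =>
  intro hAM hA h1 h2
  by_cases h0 : A ≤ 𝐂(V)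
  · rw [relIndex_eq_one.2 h0]
    exact relIndex_pos _ _
  obtain ⟨B, π, b1, b2, gd, b3⟩ := lk hK h3 hM (normalIn_inf_cent hn) hO hAM
    (le_inf ((der_le A).trans hAM) h1) (fun a ha => ⟨pow_mem (hAM ha) 2, h2 a ha⟩)
    fun e => h0 (e.trans inf_le_right)
  obtain ⟨x, hx, w⟩ := b3 M hAM le_rfl fun m hm _ => mem_sup_left hm
  set L := A ⊔ x •ᶜ A with hL
  have hLM : L ≤ M := sup_le hAM (conj_le_of_mem hx hAM)
  have hLB : ⁅L, B⁆ ≤ 𝐂(V) := commutator_comm B L ▸ w.comm.trans inf_le_right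
  have hBV := b2.le.trans (hAM.trans hn)
  have hLW := le_normalizer_inf_centralizer_of_commutator_le (hLM.trans hn) hBV hLB
  set W := V ⊓ 𝐂(B) with hW
  have hWp : IsPGroup 2 W := hV.to_le inf_le_left
  have h5 : B.relIndex A ^ 2 ≤ 𝐂(A).relIndex W := by
    by_contra h5
    have h6 := two_mul_le hWp hA (not_le.1 h5)
    have h7 : (W ⊓ 𝐂(L)).relIndex W ≤ 𝐂(A).relIndex W * 𝐂(A).relIndex W := by
      rw [inf_relIndex_left, hL, cent_sup]
      refine relIndex_inf_le.trans ?_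
      rw [cent_conj]
      nth_rewrite 2 [← conj_eq_of_mem_norm (hLW (gen_le w.mem))]
      rw [relIndex_conj]
    refine w.not_le hA (hAM.trans (normalIn_inf_cent hn).2) (sup_conj_le
      (hAM.trans (normalIn_inf_cent hn).2) (gen_le_iff.2 (fun y hy hp => mem_inf.2 ⟨hLM hy, ?_⟩) w.mem))
    have hz := zpowers_le.2 hy
    have h8 := le_centralizer_of_commutator_le (gd.sec h3 hA
      (le_norm_of_le_cent (le_cent_symm inf_le_right)) hLW (le_norm_of_le_cent (le_cent_mono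
        hc.le_cent inf_le_left (inf_le_left.trans inf_le_left))) hWp (by nlinarith) hy hp)
      (hz.trans (le_cent_symm inf_le_right)) (gd.cop hp (hWp.to_le inf_le_left))
    exact thompson_AxB' (hA.to_le b2.le) (Q := zpowers y) (by rw [Nat.card_zpowers]; exact gd.coprime hp)
      hV ((commutator_mono hz le_rfl).trans hLB) hBV (hz.trans (hLM.trans hn)) (le_cent_symm h8)
      (mem_zpowers y)
  have hCB : 𝐂(V) ⊓ A ≤ B := fun a ha => b1 ⟨ha.2, hAM ha.2, ha.1⟩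
  have e1 : 𝐂(V).relIndex A = 𝐂(V).relIndex B * B.relIndex A := by
    rw [← inf_relIndex_right, ← relIndex_mul_relIndex _ B A hCB b2.le,
      ← inf_relIndex_right (centralizer _) B, ← inf_relIndex_right (_ ⊓ A) B, inf_assoc,
      inf_eq_right.2 b2.le]
  have e2 : 𝐂(A).relIndex V = 𝐂(A).relIndex W * 𝐂(B).relIndex V := by
    rw [hW, inf_comm, relIndex_inf_mul_relIndex, inf_eq_left.2 (cent_anti b2.le)]
  have := ih B b2 (b2.le.trans hAM) (hA.to_le b2.le)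
    ((commutator_mono b2.le b2.le).trans h1) fun a ha => h2 a (b2.le ha)
  rw [e1, e2, mul_pow, mul_comm]
  exact Nat.mul_le_mul h5 this

theorem noOff_syl (hS : Syl 2 S M) (hZ : Z ≤ 𝐂(S)) (hV : IsElementaryAbelian 2 (invClosure Z M)) :
    NoOffender M (invClosure Z M) := by
  have hn := le_normalizer_invClosure Z M
  refine noOff hK h3 hM (isPGroup_of_elemAb hV) hV.1 hn ?_
  have hC := normalIn_inf_cent hn
  have h1 := quoPre_normal hC (Op_normal 2 _)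
  rw [← quoPre_eq_iff]
  refine le_antisymm (le_inf h1.1 (le_cent_symm (invClosure_le (le_cent_symm ?_)
    (le_norm_cent h1.2)))) (le_quoPre _)
  refine (quoPre_mono (Op_le_syl (hS.quo hC.2))).trans ?_
  rw [quoPre_quo_eq_sup (hS.le.trans hC.2)]
  exact sup_le (le_cent_symm hZ) (inf_le_right.trans (cent_anti (le_invClosure Z M)))

theorem CR.pair (hc : CR M) (hA : A ≤ M) (he : IsElementaryAbelian 2 A) (h0 : ¬ A ≤ Op 2 M) :
    ∃ B π x, A ⊓ Op 2 M ≤ B ∧ B < A ∧ Gd π (B.relIndex A) ∧ Wit (QO M) A B π x ∧ A ⊔ x •ᶜ A ≤ M ∧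
      A ⊔ x •ᶜ A ≤ 𝐍(B ⊔ Op 2 M) := by
  have hA2 := isPGroup_of_elemAb he
  obtain ⟨B, π, b1, b2, gd, b3⟩ := lk hK h3 hM (QO_normal M) hc.quo hA
    (by rw [ab_iff_der.1 he.1]; exact bot_le) (fun a ha => by rw [he.2 a ha]; exact one_mem _)
    fun e => h0 (le_Op_of_le_QO hA hA2 e)
  have hR : B ⊔ Op 2 M ≤ M := sup_le (b2.le.trans hA) (Op_le 2 M)
  have h1 : A ≤ M ⊓ 𝐍(B ⊔ Op 2 M) :=
    le_inf hA (le_norm_sup (le_norm_of_ab he.1 b2.le) (hA.trans (Op_normal 2 M).2))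
  obtain ⟨x, hx, w⟩ := b3 _ h1 inf_le_left fun m hm h => by
    have hs : Syl 2 (B ⊔ Op 2 M) (B ⊔ Op 2 M ⊔ O M) := ⟨le_sup_left,
      IsPGroup.to_sup_of_normal_right' (hA2.to_le b2.le) (Op_isPGroup 2 M)
        (b2.le.trans (hA.trans (Op_normal 2 M).2)), by
      rw [relIndex_sup_eq' (.inl (hR.trans (O_norm M)))]
      exact fun e => (odd_O M).not_two_dvd_nat (e.trans (relIndex_dvd_card _ _))⟩
    have hm' : m ∈ 𝐍(B ⊔ Op 2 M ⊔ O M) := mem_norm_of_conj_le (by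
      rw [sup_assoc, conj_sup, (QO_normal M).conj_eq hm]
      refine sup_le (conj_le_iff.2 fun b hb => ?_) le_sup_right
      rw [show m * b * m⁻¹ = ⁅m, b⁆ * b by simp [commutatorElement_def]]
      exact mul_mem (mem_sup_right (h b hb)) (mem_sup_left hb))
    obtain ⟨k, hk, l, hl, rfl⟩ := (hs.frattini (M := M ⊓ 𝐍(B ⊔ Op 2 M ⊔ O M)) ⟨le_inf
      (sup_le hR (Opi_le _ M)) le_normalizer, inf_le_right⟩).mem_iff.1 ⟨hm, hm'⟩
    exact mul_mem (sup_le_sup (le_inf hR le_normalizer) le_sup_right hk) (mem_sup_left ⟨hl.1.1, hl.2⟩)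
  have h2 := sup_le h1 (conj_le_of_mem hx h1)
  exact ⟨B, π, x, (inf_le_inf_left A le_sup_left).trans b1, b2, gd, w, h2.trans inf_le_left,
    h2.trans inf_le_right⟩

theorem CR.case_a (hc : CR M) (hS : Syl 2 S M) (hV : IsElementaryAbelian 2 V) (h1 : V ≤ S)
    (hN : S ≤ 𝐍(V)) (hno : NoOffender S V) : V ≤ Op 2 M := by
  by_contra h
  obtain ⟨B, π, x, hB, hBV', gd, w, hL, hLR⟩ := hc.pair hK h3 hM (h1.trans hS.le) hV h
  have hBV := hBV'.le
  have a2 := two_le_relIndex hBV'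
  set W := x •ᶜ V with hW
  set L := V ⊔ W with hLdef
  set R := B ⊔ Op 2 M with hR
  set B' := x •ᶜ B with hB'
  set D := B ⊓ 𝐂(L) with hD
  have hxL : x ∈ L := gen_le w.mem
  have hVp := isPGroup_of_elemAb hV
  have hRx : x •ᶜ R = R := conj_eq_of_mem_norm (hLR hxL)
  have hR2 : R ≤ S := sup_le (hBV.trans h1) (Op_le_syl hS)
  have hRp : IsPGroup 2 R := hS.isPGroup.to_le hR2
  have hB'R : B' ≤ R := (conj_mono x le_sup_left).trans hRx.le
  have hRV : R ⊓ V = B := by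
    rw [hR, sup_inf_of_le_left (.inl ((hBV.trans (h1.trans hS.le)).trans (Op_normal 2 M).2)) hBV,
      inf_comm, sup_eq_left.2 hB]
  have hc1 : ⁅R, V⁆ ≤ B := hRV ▸ commutator_le_inf' (le_sup_left.trans hLR) (hR2.trans hN)
  have hc2 : ⁅R, W⁆ ≤ B' := by
    rw [← hRx, hW, ← conj_commutator]
    exact conj_mono x hc1
  have hUR : B ⊔ B' ≤ R := sup_le le_sup_left hB'R
  have hn1 : V ≤ 𝐍(B ⊔ B') := le_norm_of_commutator_le hUR (hc1.trans le_sup_left)
  have hn2 : W ≤ 𝐍(B ⊔ B') := le_norm_of_commutator_le hUR (hc2.trans le_sup_right)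
  have hc3 : ⁅R, L⁆ ≤ B ⊔ B' :=
    commutator_sup_le_of_le_normalizer hn1 (hc1.trans le_sup_left) (hc2.trans le_sup_right) hn2
  have hDL : L ≤ 𝐍(D) := le_norm_of_le_cent (le_cent_symm inf_le_right)
  have hDx : x •ᶜ D = D := conj_eq_of_mem_norm (hDL hxL)
  have hD' : D = 𝐂(V) ⊓ B' := by
    rw [← hDx, hD, conj_inf, ← cent_conj, conj_eq_of_mem hxL, hLdef, cent_sup]
    refine le_antisymm (le_inf (inf_le_right.trans inf_le_left) inf_le_left)
      (le_inf inf_le_right (inf_le_inf_left _ ((conj_mono x hBV).trans ?_)))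
    exact Ab.le_cent (ab_conj.2 hV.1)
  have e1 : D.relIndex B' = D.relIndex B := by rw [← relIndex_conj x D B, hDx]
  have hn : D.relIndex B ≤ B.relIndex V := by
    have k1 := hno.of_elemAb (hB'R.trans hR2)
      (PGrp.isElementaryAbelian_map (PGrp.isElementaryAbelian_of_le hV hBV) _)
    rw [← inf_relIndex_right, ← hD', e1] at k1
    have k2 := k1.trans (relIndex_mono_left (H := D) (inf_le_right.trans
      (cent_anti ((conj_mono x hBV).trans le_sup_right : B' ≤ L))) V)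
    rw [← relIndex_mul_relIndex D B V inf_le_left hBV] at k2
    have := relIndex_pos D B
    nlinarith
  have h4 : D.relIndex (B ⊔ B') ≤ B.relIndex V * B.relIndex V := by
    rw [← relIndex_mul_relIndex D B _ inf_le_left le_sup_left, relIndex_sup_of_le_normalizer
      (hB'R.trans (hRV ▸ le_norm_inf le_normalizer (hR2.trans hN)))]
    exact Nat.mul_le_mul hn ((relIndex_mono_left inf_le_left B').trans (e1 ▸ hn))
  have hUL : B ⊔ B' ≤ L := sup_le_sup hBV (conj_mono x hBV)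
  have vN := (h1.trans hS.le).trans (QO_normal M).2
  refine w.not_le hVp vN (sup_conj_le vN (gen_le_iff.2 (fun g hg ho => ?_) w.mem))
  have k1 := le_centralizer_of_commutator_le (gd.sec h3 hVp hDL (sup_le hn1 hn2) (hUL.trans hDL)
    (hRp.to_le hUR) (by nlinarith [Nat.mul_le_mul a2 a2]) hg ho)
    ((zpowers_le.2 hg).trans (le_cent_symm inf_le_right))
    (gd.cop ho (hVp.to_le (inf_le_left.trans hBV)))
  have k2 := le_centralizer_of_commutator_le
    ((commutator_mono le_sup_right (zpowers_le.2 hg)).trans hc3) k1 (gd.cop ho (hRp.to_le hUR))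
  exact hc.cent ⟨hL hg, k2 (mem_zpowers g)⟩

theorem CR.case_b (hc : CR M) (hS : Syl 2 S M) (hV : IsElementaryAbelian 2 V) (hVQ : V ≤ Op 2 M)
    (hN : S ≤ 𝐍(V)) (hno : NoOffender S V) (hP : Op 2 M ≤ P) (hPS : P ≤ S)
    (hA : A ∈ Transfer.maxElem 2 P) (hAV : A ≤ 𝐂(V))
    (hx : ∀ x ∈ M ⊓ 𝐍(V), ∃ T ≤ M, IsPGroup 2 T ∧ A ⊔ x •ᶜ A ≤ T ⊔ QO M) : A ≤ Op 2 M := by
  by_contra h
  have hAS := hA.1.trans hPS
  obtain ⟨B, π, x, -, hBA', gd, w, hL, hLR⟩ := hc.pair hK h3 hM (hAS.trans hS.le) hA.2.1 h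
  have hBA := hBA'.le
  have a2 := two_le_relIndex hBA'
  set A' := x •ᶜ A with hA'
  set L := A ⊔ A' with hLdef
  set R := B ⊔ Op 2 M with hR
  have hxL : x ∈ L := gen_le w.mem
  have hAp := isPGroup_of_elemAb hA.2.1
  have hQ := Op_le_syl hS
  have hR2 : R ≤ S := sup_le (hBA.trans hAS) hQ
  have hRp : IsPGroup 2 R := hS.isPGroup.to_le hR2
  have hRy : ∀ y ∈ L, R ≤ y •ᶜ S := fun y hy =>
    (conj_eq_of_mem_norm (hLR hy)).ge.trans (conj_mono y hR2)
  set 𝒲 : Set (Subgroup G) := {W | ∃ y ∈ L, W = y •ᶜ V} with h𝒲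
  set U := sSup 𝒲 with hU
  have hyU : ∀ y ∈ L, y •ᶜ V ≤ U := fun y hy => le_sSup ⟨y, hy, rfl⟩
  have hUle : ∀ K : Subgroup G, V ≤ K → L ≤ 𝐍(K) → U ≤ K := fun K k1 k2 =>
    sSup_le (by
      rintro _ ⟨y, hy, rfl⟩
      exact conj_le_of_mem_norm (k2 hy) k1)
  have hVU : V ≤ U := by simpa using hyU 1 (one_mem _)
  have hUe : IsElementaryAbelian 2 U := isElementaryAbelian_sSup
    (by rintro _ ⟨y, -, rfl⟩; exact PGrp.isElementaryAbelian_map hV _) (by
      rintro _ ⟨y, hy, rfl⟩ _ ⟨z, hz, rfl⟩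
      exact s4_conj_le_centralizer hQ hV hno hVQ (hL hy) (hL hz))
  have hUp := isPGroup_of_elemAb hUe
  have hUc := Ab.le_cent hUe.1
  have hUQ : U ≤ Op 2 M := hUle _ hVQ (hL.trans (Op_normal 2 M).2)
  have hLU : L ≤ 𝐍(U) := le_norm_sSup (by
    rintro g hg _ ⟨y, hy, rfl⟩
    exact ⟨_, mul_mem hg hy, conj_conj _ _ _⟩)
  have hRU : R ≤ 𝐍(U) := le_norm_sSup (by
    rintro g hg _ ⟨y, hy, rfl⟩
    exact ⟨y, hy, conj_eq_of_mem_norm (conj_le_norm_conj.2 hN (hRy y hy hg))⟩)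
  have hUx : x •ᶜ U = U := conj_eq_of_mem_norm (hLU hxL)
  have i1 : 𝐂(A).relIndex U ≤ 𝐂(U).relIndex B * B.relIndex A := by
    refine (relIndex_le_of_mem_maxElem hA (hUQ.trans hP) hUe).trans
      ((relIndex_mono_left (inf_le_left : _ ⊓ B ≤ _) A).trans ?_)
    rw [← relIndex_mul_relIndex _ B A inf_le_right hBA, inf_relIndex_right]
  have i2 : 𝐂(A).relIndex U ≤ B.relIndex A ^ 2 := by
    have k1 := (sq_relIndex_sSup_le (B := B) (𝒲 := 𝒲) (by
      rintro _ ⟨y, hy, rfl⟩ B' hB'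
      exact (noOff_conj hno y).of_elemAb (hB'.trans (le_sup_left.trans (hRy y hy)))
        (PGrp.isElementaryAbelian_of_le hA.2.1 (hB'.trans hBA)))).trans
      ((relIndex_mono_left (cent_anti hBA) U).trans i1)
    have := relIndex_pos 𝐂(U) B
    have k2 : 𝐂(U).relIndex B ≤ B.relIndex A := by nlinarith
    nlinarith
  have i2' : 𝐂(A').relIndex U = 𝐂(A).relIndex U := by
    rw [hA', cent_conj, ← relIndex_conj x 𝐂(A) U, hUx]
  set N := ⁅U, R⁆ with hNdef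
  have hNU : N ≤ U := commutator_le_left' hRU
  have hLN : L ≤ 𝐍(N) := le_norm_commutator hLU hLR
  set T := (U ⊓ 𝐂(A)) ⊔ N with hT
  have hTU : T ≤ U := sup_le inf_le_left hNU
  have i3 : B.relIndex A ^ 2 ≤ T.relIndex U := by
    by_contra hc
    have k0 := two_mul_le hUp hAp (not_le.1 hc)
    set T' := x •ᶜ T with hT'
    have k1 : ⁅T, A⁆ ≤ N := commutator_sup_le (le_norm_of_le_cent (le_cent_mono hUc hTU hNU))
      ((OO.commutator_eq_bot_iff.2 inf_le_right).le.trans bot_le)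
      (commutator_le_left' (le_sup_left.trans hLN))
    have k2 : ⁅T', A'⁆ ≤ N := by
      rw [hT', hA', ← conj_commutator, ← conj_eq_of_mem_norm (hLN hxL)]
      exact conj_mono x k1
    have k3 : ⁅T ⊓ T', L⁆ ≤ N := commutator_sup_le_of_le_normalizer (le_sup_left.trans hLN)
      ((commutator_mono inf_le_left le_rfl).trans k1)
      ((commutator_mono inf_le_right le_rfl).trans k2) (le_sup_right.trans hLN)
    have k4 : N ≤ T ⊓ T' := le_inf le_sup_right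
      ((conj_eq_of_mem_norm (hLN hxL)).ge.trans (conj_mono x le_sup_right))
    have k5 : (T ⊓ T').relIndex U ≤ T.relIndex U * T.relIndex U :=
      relIndex_inf_le.trans (Nat.mul_le_mul le_rfl (by
        nth_rewrite 1 [← hUx]
        rw [hT', relIndex_conj]))
    have k6 : ⁅U, gen π L⁆ ≤ N := comm_gen_le hLN fun g hg ho =>
      (commutator_eq_of_commutator_le (inf_le_left.trans hTU) (gd.sec h3 hAp
        (le_norm_of_commutator_le le_rfl (k3.trans k4)) hLU (le_norm_of_le_cent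
          (le_cent_symm (inf_le_left.trans (hTU.trans hUc)))) hUp (by nlinarith) hg ho)
        (gd.cop ho (hUp.to_le (inf_le_left.trans hTU)))
        (Or.inl (sol_of_ab inferInstance))).ge.trans ((commutator_mono le_rfl (zpowers_le.2 hg)).trans k3)
    have k7 : A ≤ 𝐍(V ⊔ N) := le_norm_sup (le_norm_of_le_cent hAV) (le_sup_left.trans hLN)
    have k8 : x ∈ 𝐍(V ⊔ N) := mem_norm_of_conj_le (by
      rw [conj_sup, conj_eq_of_mem_norm (hLN hxL)]
      exact sup_le (map_conj_le_sup_of_commutator_mem fun v hv =>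
        k6 (commutator_mem_commutator (hVU hv) w.mem)) le_sup_right)
    have k9 := le_of_le_sup_commutator hRp (hUQ.trans le_sup_right) (hVQ.trans le_sup_right) hRU
      (hR2.trans hN) (hUle _ le_sup_left (sup_le k7 (conj_le_of_mem k8 k7)))
    obtain ⟨T₀, t1, t2, t3⟩ := hx x ⟨hL hxL, le_antisymm k9 hVU ▸ hLU hxL⟩
    exact w.not_le t2 (t1.trans (QO_normal M).2) t3
  have e0 := relIndex_mul_relIndex (U ⊓ 𝐂(A)) T U le_sup_left hTU
  rw [inf_relIndex_left] at e0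
  have p0 := relIndex_pos (U ⊓ 𝐂(A)) T
  have hNA : N ≤ 𝐂(A) :=
    le_sup_right.trans ((relIndex_eq_one.1 (by nlinarith)).trans inf_le_right)
  have hNL : N ≤ 𝐂(L) := le_cent_sup hNA
    ((conj_eq_of_mem_norm (hLN hxL)).ge.trans (conj_le_cent_conj.2 hNA))
  set D := U ⊓ 𝐂(L) with hD
  set R' := R ⊓ 𝐂(D) with hR'
  have hND : N ≤ D := le_inf hNU hNL
  have hBR' : B ≤ R' := le_inf le_sup_left ((hBA.trans le_sup_left).trans (le_cent_symm inf_le_right))
  have hLR' : L ≤ 𝐍(R') := le_norm_inf hLR (le_norm_cent (le_norm_of_le_cent (le_cent_symm inf_le_right)))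
  have hq : ⁅⁅U, R'⁆, R'⁆ = ⊥ := OO.commutator_eq_bot_iff.2
    (((commutator_mono le_rfl inf_le_left).trans hND).trans (le_cent_symm inf_le_right))
  have hq' : ⁅R', R'⁆ ≤ 𝐂(U) :=
    OO.commutator_eq_bot_iff.1 (three_subgroup (by rwa [commutator_comm R' U]) hq)
  have i5 := (sq_relIndex_sSup_le (B := R') (𝒲 := 𝒲) (by
    rintro _ ⟨y, hy, rfl⟩ B' hB'
    exact noOff_conj hno y B' (hB'.trans (inf_le_left.trans (hRy y hy)))
      (hRp.to_le (hB'.trans inf_le_left))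
      ((commutator_mono hB' hB').trans (hq'.trans (cent_anti (hyU y hy)))) fun a ha =>
        sq_mem_centralizer_of_quadratic (fun v hv => hND (commutator_mem_commutator (hyU y hy hv)
          (hB' ha).1)) (hB' ha).2 fun d hd => hUe.2 d hd.1)).trans
    (relIndex_mono_left (le_cent_symm inf_le_right : D ≤ _) U)
  have i6 : D.relIndex U ≤ 𝐂(A).relIndex U * 𝐂(A).relIndex U := by
    rw [hD, inf_relIndex_left, hLdef, cent_sup]
    exact relIndex_inf_le.trans (i2' ▸ le_rfl)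
  have i7 : (R' ⊓ 𝐂(U)).relIndex R' ≤ B.relIndex A ^ 2 := by
    rw [inf_relIndex_left]
    exact (Nat.pow_le_pow_iff_left two_ne_zero).1 (i5.trans (i6.trans (by nlinarith)))
  have hLC := le_norm_inf hLR' (le_norm_cent hLU)
  have k6 : ⁅R', gen π L⁆ ≤ R' ⊓ 𝐂(U) := comm_gen_le hLC fun g hg ho => gd.sec h3 hAp hLC hLR'
    (le_norm_inf le_normalizer (le_norm_cent (inf_le_left.trans hRU))) (hRp.to_le inf_le_left)
    (by nlinarith [Nat.mul_le_mul a2 a2]) hg ho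
  have k7 := le_normalizer_inf_centralizer_of_commutator_le (gen_le.trans hLU)
    (le_sup_left.trans hRU) (commutator_comm B _ ▸ (commutator_mono hBR' le_rfl).trans
      (k6.trans inf_le_right))
  have k8 : A ≤ 𝐍(U ⊓ 𝐂(B)) := le_norm_inf (le_sup_left.trans hLU)
    (le_norm_of_le (le_cent_symm (hBA.trans (Ab.le_cent hA.2.1.1))))
  have main : B ≤ 𝐂(U) := le_cent_symm ((hUle _ (le_inf hVU (le_cent_symm (hBA.trans hAV)))
    (sup_le k8 (conj_le_of_mem (k7 w.mem) k8))).trans inf_le_right)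
  rw [relIndex_eq_one.2 main] at i1
  nlinarith

/-- two 2-constrained subgroups with a common Sylow 2-subgroup -/
theorem CR.thompson_eq {M₂ : Subgroup G} (hM₂ : ♯M₂ < n) (c₁ : CR M) (c₂ : CR M₂) (hS₁ : Syl 2 S M)
    (hS₂ : Syl 2 S M₂) (hZ : Z ≤ Zc S) (hZp : ∀ z ∈ Z, z ^ 2 = 1) (f₁ : Ctl 𝐂(Z) S M)
    (f₂ : Ctl 𝐍(invClosure Z M₂) S M₂) :
    thompsonSubgroupOf 2 (Op 2 M) = thompsonSubgroupOf 2 (Op 2 M₂) := by
  set V := invClosure Z M₂ with hVdef
  have hV := c₂.elem hS₂ hZ hZp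
  have hVQ := c₂.invClosure_le hS₂ hZ
  have hN := le_normalizer_invClosure Z M₂
  have hno : NoOffender S V := fun A hA =>
    noOff_syl hK h3 hM₂ hS₂ (hZ.trans inf_le_right) hV A (hA.trans hS₂.le)
  have hQ₁ := Op_le_syl hS₁
  have hQ₂ := Op_le_syl hS₂
  have hV₁ := c₁.case_a hK h3 hM hS₁ hV (hVQ.trans (inf_le_left.trans hQ₂)) (hS₂.le.trans hN) hno
  set P := Op 2 M₂ ⊔ Op 2 M with hP
  have hPS : P ≤ S := sup_le hQ₂ hQ₁
  have hQV : Op 2 M₂ ≤ 𝐂(V) := le_cent_symm (hVQ.trans inf_le_right)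
  have hPC : P ⊓ 𝐂(V) ≤ Op 2 M₂ := by
    rw [hP, sup_inf_of_le_left (.inl ((hQ₂.trans hS₁.le).trans (Op_normal 2 M).2)) hQV]
    refine sup_le le_rfl ?_
    have hC := normalIn_inf_cent hN
    have h1 := hS₂.inf_normal hC
    have h2 := c₂.le_of_ctl inf_le_left (le_inf hQ₂ (le_inf (Op_le 2 M₂) hQV))
      ((f₁.mono (inf_le_right.trans (cent_anti (le_invClosure Z M₂))) le_rfl).fus h1 inf_le_left
        hS₁.isPGroup hQ₁ (Op_normal 2 M).2)
    set D := S ⊓ (M₂ ⊓ 𝐂(V)) ⊓ Op 2 M with hD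
    have hD1 : D ≤ M₂ ⊓ 𝐂(V) := inf_le_left.trans inf_le_right
    have hD2 := (hD1.trans inf_le_left).trans (QO_normal M₂).2
    have hD3 : IsPGroup 2 D := (Op_isPGroup 2 M).to_le inf_le_right
    refine le_trans (le_inf (le_inf (inf_le_left.trans hQ₁) (inf_le_inf_right _ (hQ₁.trans hS₂.le)))
      inf_le_left) (le_Op_of_le_QO (hD1.trans inf_le_left) hD3 ((quo_eq_bot_iff hD2).1 ?_))
    rw [eq_bot_iff, ← c₂.quo]
    exact (le_Op ⟨quo_mono _ hD1, quo_sup_self hD2 ▸ quo_le_norm _ h2⟩ (isPGroup_quo hD3 _)).trans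
      (Op_le_of_normal 2 (hC.quo _))
  have hx : M ⊓ 𝐍(V) ≤ 𝐍(Op 2 M₂ ⊔ QO M) := by
    have := c₁.le_of_ctl inf_le_left hQ₁ ((f₂.mono inf_le_right le_rfl).fus (hS₁.mono
      (le_inf hS₁.le (hS₂.le.trans hN)) inf_le_left) le_rfl hS₁.isPGroup hQ₂ (Op_normal 2 M₂).2)
    rwa [inf_eq_right.2 hQ₂] at this
  have hA : ∀ A ∈ Transfer.maxElem 2 P, A ≤ Op 2 M ⊓ Op 2 M₂ := fun A hA => by
    have k1 := hno.le_centralizer_of_mem_maxElem hV (hV₁.trans le_sup_right) hPS hA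
    have k2 := (le_inf hA.1 k1).trans hPC
    exact le_inf (c₁.case_b hK h3 hM hS₁ hV hV₁ (hS₂.le.trans hN) hno le_sup_right hPS hA k1
      fun x h => ⟨_, hQ₂.trans hS₁.le, Op_isPGroup 2 M₂, sup_le (k2.trans le_sup_left)
        (conj_le_of_mem_norm (hx h) (k2.trans le_sup_left))⟩) k2
  have hJ : thompsonSubgroupOf 2 P ≤ Op 2 M ⊓ Op 2 M₂ := by
    rw [Transfer.thompsonSubgroupOf_eq]; exact sSup_le hA
  rw [Transfer.thompsonSubgroupOf_eq_of_le (hJ.trans inf_le_left) le_sup_right,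
    Transfer.thompsonSubgroupOf_eq_of_le (hJ.trans inf_le_right) le_sup_left]

end Cfsg.Agent.R4
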