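import Cfsg.Agent.Lib.R4.Y1b
import Cfsg.Agent.Lib.GW.Bender

/-!
# Package Y1, part c: models and the global argument
-/

set_option autoImplicit false

namespace Cfsg.Agent.R4

open Subgroup Cfsg.Agent.OO Cfsg.Agent.Coprime Cfsg.Agent.SZ Cfsg.Agent.GW Cfsg.Agent.Core
open scoped commutatorElement Pointwise

universe u

variable {G : Type u} [Group G] {A B C H K L M N P Q S T V W X Y Z : Subgroup G} {n : ℕ} {g x y : G}

theorem Acts.trans (h : Acts M X g) (h' : ∀ m ∈ M, m •ᶜ X = g •ᶜ X → Acts N X m) : Acts N X g := by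
  obtain ⟨m, hm, e⟩ := h
  obtain ⟨k, hk, e'⟩ := h' m hm (by
    ext y
    simp only [mem_conj_iff_exists]
    exact exists_congr fun x => and_congr_right fun hx => by rw [e x hx])
  exact ⟨k, hk, fun x hx => (e x hx).trans (e' x hx)⟩

theorem Ctl.trans (h : Ctl H T M) (h' : Ctl M T N) : Ctl H T N := fun X hX g hg e =>
  (h X hX g hg e).trans fun m hm e' => h' X hX m hm (e' ▸ e)

theorem ctl_of_le (h : H ≤ M) : Ctl H T M := fun _ _ _ hg _ => .of_mem (h hg)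

theorem scl_normal (h : N ⊴ M) : SCl M T (T ⊓ N) := fun _ ha _ hg e => ⟨e, h.conj_mem hg ha.2⟩

variable [Finite G]

/-- involutions in a 2-subgroup of a chief factor commute -/
theorem comm_chief (hK : KH.{u} n) (h3 : S3F G) (hM : ♯M < n) (h1 : K ⊴ M) (h2 : N ⊴ M) (hlt : K < N)
    (hmin : ∀ D, D ⊴ M ∧ K < D → D ≤ N → D = N) (hT : T ≤ N) (hp : IsPGroup 2 T) {s t : G} (hs : s ∈ T)
    (ht : t ∈ T) (s2 : s * s ∈ K) (t2 : t * t ∈ K) : ⁅s, t⁆ ∈ K := by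
  obtain ⟨Y, y1, ⟨y2, y3⟩, y4⟩ := exists_maximal_ge (P := fun Y : Subgroup G => Y ⊴ N ∧ Y ≠ N)
    ⟨h1.mono hlt.le h2.1, hlt.ne⟩
  have smp : Smp (N ⁒ Y) := fun E hE => (em' (quoPre Y E = N)).imp
    (fun e => quoPre_eq_iff.1 (y4 _ ⟨quoPre_normal y2 hE, e⟩ (le_quoPre E)))
    fun e => by rw [← e, quo_quoPre]
  have key : ∀ T ≤ N, IsPGroup 2 T → ∀ s ∈ T, ∀ t ∈ T, s * s ∈ K → t * t ∈ K → ⁅s, t⁆ ∈ Y := by
    intro T hT hp s hs t ht s2 t2
    have n1 := y2.2 (hT hs)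
    have n2 := y2.2 (hT ht)
    by_cases e : Ab (N ⁒ Y)
    · exact (ab_quo_iff y2.2).1 e (commutator_mem_commutator (hT hs) (hT ht))
    exact (coset_commute_iff n1 n2).1 ((hK _ (s3f_coset h3 Y) _ (((card_quo_le N Y).trans
      (card_le h2.1)).trans_lt hM) smp e).comm _ (quo_mono Y hT) (isPGroup_quo hp Y) _
      (coset_mem_quo Y hs) _ (coset_mem_quo Y ht) (by rw [← coset_mul n1 n1, coset_eq_one (y1 s2)])
      (by rw [← coset_mul n2 n2, coset_eq_one (y1 t2)]))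
  have d1 : (⨅ m : M, (m : G) •ᶜ Y) ≤ Y := (iInf_le _ 1).trans (by simp)
  have d2 : K ≤ ⨅ m : M, (m : G) •ᶜ Y := le_iInf fun m => (h1.conj_eq m.2).ge.trans (conj_mono _ y1)
  have d3 : (⨅ m : M, (m : G) •ᶜ Y) ⊴ M := ⟨d1.trans (y2.1.trans h2.1), le_norm_iff.2
    fun g hg x hx => mem_iInf.2 fun m => by
      have := conj_mem_conj (g := g) (mem_iInf.1 hx (⟨g, hg⟩⁻¹ * m))
      rwa [conj_conj, Subgroup.coe_mul, Subgroup.coe_inv, mul_inv_cancel_left] at this⟩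
  rw [d2.lt_or_eq.resolve_left fun e => y3 (le_antisymm y2.1
    ((hmin _ ⟨d3, e⟩ (d1.trans y2.1)).ge.trans d1))]
  refine mem_iInf.2 fun m => mem_conj.2 ?_
  have := key _ (conj_le_of_mem_norm (h2.2 (inv_mem m.2)) hT) (isPGroup_conj.2 hp) _ (conj_mem_conj hs) _
    (conj_mem_conj ht) (by simpa [mul_assoc] using h1.conj_mem (inv_mem m.2) s2)
    (by simpa [mul_assoc] using h1.conj_mem (inv_mem m.2) t2)
  simpa [commutatorElement_def, mul_assoc] using this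

/-- a 2-constrained subgroup controlling fusion -/
theorem model (hK : KH.{u} n) (h3 : S3F G) (hH : ♯H < n) (hT : Syl 2 T H) :
    ∃ M ≤ H, T ≤ M ∧ CR M ∧ Ctl H T M := by
  obtain ⟨Q, -, ⟨hQ, hc⟩, hmax⟩ := exists_maximal_ge
    (P := fun Q : Subgroup G => Q ≤ T ∧ Ctl H T (H ⊓ 𝐍(Q)))
    ⟨bot_le, ctl_of_le (le_inf le_rfl (NormalIn.bot H).2)⟩
  set M := H ⊓ 𝐍(Q) with hMd
  have hTM : T ≤ M := fun t ht =>
    ⟨hT.le ht, (hc.scl hQ inf_le_right).mem_norm le_rfl hQ ⟨hT.le ht, le_normalizer ht⟩⟩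
  have hS : Syl 2 T M := hT.mono hTM inf_le_left
  have hM : ♯M < n := (card_le inf_le_left).trans_lt hH
  have key : ∀ R, Q ≤ R → R ≤ T → Ctl M T (M ⊓ 𝐍(R)) → R = Q := fun R h1 h2 h =>
    hmax R ⟨h2, (hc.trans h).le (inf_le_inf_right _ inf_le_left)⟩ h1
  have hQM : Q ⊴ M := ⟨hQ.trans hTM, inf_le_right⟩
  have hQ2 := hT.isPGroup.to_le hQ
  have e : Op 2 M = Q := key _ (le_Op hQM hQ2) (Op_le_syl hS)
    (ctl_of_le (le_inf le_rfl (Op_normal 2 M).2))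
  have hN := QO_normal M
  have hO : O M ⊴ M := Opi_normal _ M
  have e1 : QO M ⊓ T = Q := e ▸ inf_QO hT.isPGroup (Op_le_syl hS)
  refine ⟨M, inf_le_left, hTM, ⟨by_contra fun h => ?_, ?_⟩, hc⟩
  · rw [e] at h
    have hC : Q ⊔ M ⊓ 𝐂(Q) ⊴ M := hQM.sup hQM.cent
    obtain ⟨N, n1, ⟨n2, n3⟩, n4⟩ := exists_minimal_le (P := fun D : Subgroup G => D ⊴ M ∧ QO M < D)
      ⟨hC, lt_of_le_of_ne (sup_le_sup e.le (le_inf hO.1 (e ▸ Op'_le_cent_Op 2 M)))
        fun e' => h (le_sup_right.trans e'.ge)⟩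
    have hQN : Q ≤ N := (e.ge.trans le_sup_left).trans n3.le
    by_cases h0 : T ⊓ N ≤ Q
    · have n5 := n2.inf hQM.cent
      have h1 := (Burnside_normal_complement (hS.inf_normal n5) (inf_le_left.trans (le_cent_mono
        le_rfl (inf_le_right.trans inf_le_right) ((inf_le_inf_left _ inf_le_left).trans h0)))).sup_eq
      refine n3.not_ge ((le_inf n1 le_rfl).trans ?_)
      rw [sup_inf_of_le_left (.inl (hQM.1.trans hQM.cent.2)) hQN, inf_comm, ← h1]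
      exact sup_le (e.ge.trans le_sup_left) (sup_le ((le_O (n5.Opi _) (odd_O _)).trans le_sup_right)
        (((inf_le_inf_left _ inf_le_left).trans h0).trans (e.ge.trans le_sup_left)))
    have cm : ∀ s ∈ T ⊓ N, ∀ t ∈ T ⊓ N, s * s ∈ Q → t * t ∈ Q → ⁅s, t⁆ ∈ Q := fun s hs t ht s2 t2 =>
      e1.le ⟨comm_chief hK h3 hM hN n2 n3 n4 inf_le_right (hT.isPGroup.to_le inf_le_left) hs ht
        (mem_sup_left (e.ge s2)) (mem_sup_left (e.ge t2)),
        commutator_le_of_le le_rfl le_rfl (commutator_mem_commutator hs.1 ht.1)⟩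
    have iv : ∀ s : G, s * s ∈ Q → s⁻¹ * s⁻¹ ∈ Q := fun s h => mul_inv_rev s s ▸ Q.inv_mem h
    let R : Subgroup G :=
      { carrier := {t | t ∈ T ⊓ N ∧ t * t ∈ Q}
        one_mem' := ⟨one_mem _, by simp⟩
        mul_mem' := fun {s t} hs ht => ⟨(T ⊓ N).mul_mem hs.1 ht.1, by
          rw [show s * t * (s * t) = s * s * ⁅s⁻¹, t⁆ * (t * t) by simp [commutatorElement_def, mul_assoc]]
          exact mul_mem (mul_mem hs.2 (cm _ ((T ⊓ N).inv_mem hs.1) _ ht.1 (iv s hs.2) ht.2)) ht.2⟩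
        inv_mem' := fun {s} hs => ⟨(T ⊓ N).inv_mem hs.1, iv s hs.2⟩ }
    have r1 : R ≤ T ⊓ N := fun _ h => h.1
    obtain ⟨k, hk⟩ := nil_iff_exists_Zn.1 (nil_of_isPGroup hQ2)
    have r2 := fus hS (fun i => if i ≤ k then Zn i Q else R) (k + 1) (by simp)
      (by simpa using r1.trans inf_le_left) (fun i _ => by
        by_cases hi : i ≤ k
        · simp only [if_pos hi]
          exact fun a ha g hg _ => (hQM.Zn i).conj_mem hg ha
        · simp only [if_neg hi]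
          exact fun a ha g hg e => ⟨⟨e, n2.conj_mem hg ha.1.2⟩, by
            simpa [mul_assoc] using hQM.conj_mem hg ha.2⟩) fun i hi => by
        rw [if_neg (Nat.not_succ_le_self k), if_pos (Nat.lt_succ_iff.1 hi)]
        by_cases h : i + 1 ≤ k
        · rw [if_pos h]
          exact (commutator_mono le_rfl (r1.trans (inf_le_right.trans n1))).trans
            (commutator_sup_le_of_le_normalizer (Zn_normal i Q).2 (commutator_Zn_succ_le i Q)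
              ((OO.commutator_eq_bot_iff'.2 (inf_le_right.trans (cent_anti (Zn_le _ Q)))).le.trans
                bot_le) (inf_le_left.trans (hQM.Zn i).2))
        · rw [if_neg h, show i = k by omega, hk]
          exact commutator_le.2 fun s hs t ht => cm s hs.1 t ht.1 hs.2 ht.2
    rw [if_neg (Nat.not_succ_le_self k)] at r2
    have r3 := key R (fun q hq => ⟨⟨hQ hq, hQN hq⟩, mul_mem hq hq⟩) (r1.trans inf_le_left) r2
    have r4 : T ⊓ N ≤ 𝐍(Q) := inf_le_left.trans (hTM.trans hQM.2)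
    obtain ⟨z, z0, z1, z2⟩ := exists_invol (isPGroup_quo (hT.isPGroup.to_le inf_le_left) Q)
      (quo_ne_bot r4 h0)
    obtain ⟨t, ht, rfl⟩ := (mem_quo_of_le r4).1 z0
    rw [← coset_mul (r4 ht) (r4 ht), coset_eq_one_iff (mul_mem (r4 ht) (r4 ht))] at z2
    exact z1 (coset_eq_one (r3.le ⟨ht, z2⟩))
  have hR := quoPre_normal hN (Op_normal 2 _)
  set R := quoPre (QO M) (Op 2 (M ⁒ QO M)) with hRd
  have hOR : O M ≤ R := le_sup_right.trans (le_quoPre _)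
  have r1 : IsPGroup 2 (R ⁒ O M : Subgroup _) := (isPGroup_quo_iff (hR.1.trans hO.2)).2 (by
    rw [← relIndex_mul_relIndex _ _ _ le_sup_right (le_quoPre _)]
    refine IsPiNum.mul ((isPGroup_quo_iff (hN.1.trans hO.2)).1 ?_)
      ((isPGroup_quo_iff (quoPre_le_norm _)).1 ?_)
    · rw [quo_sup_self ((Op_le 2 M).trans hO.2)]
      exact isPGroup_quo (Op_isPGroup 2 M) _
    · rw [quo_quoPre]
      exact Op_isPGroup 2 _)
  obtain ⟨k, hk⟩ := nil_iff_exists_Zn.1 (nil_of_isPGroup r1)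
  have r2 := fus hS (fun i => T ⊓ quoPre (O M) (Zn i (R ⁒ O M))) k (by
      simpa using OO.inf_eq_bot_of_coprime_card
        (coprime_card_of_isPGroup (Nat.coprime_two_right.2 (odd_O M)) hT.isPGroup).symm)
    inf_le_left (fun i _ => scl_normal (quoPre_normal hO ((hR.quo _).Zn i))) fun i _ => by
      have k1 : ∀ X, T ⊓ quoPre (O M) X ≤ 𝐍(O M) := fun X => inf_le_right.trans (quoPre_le_norm X)
      refine le_inf (commutator_le_of_le inf_le_left inf_le_left)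
        ((quo_le_iff_le_quoPre (commutator_le_of_le (k1 _) (k1 _))).1 ?_)
      rw [quo_commutator (k1 _) (k1 _), inf_quoPre_quo, inf_quoPre_quo]
      exact (commutator_mono inf_le_right (inf_le_right.trans (Zn_le _ _))).trans
        (commutator_Zn_succ_le _ _)
  rw [hk, quoPre_quo (hO.mono hOR hR.1)] at r2
  have r3 := (hS.inf_normal hR).quo (N := QO M) (hR.1.trans hN.2)
  rw [key _ (le_inf hQ ((e.ge.trans le_sup_left).trans (le_quoPre _))) inf_le_left r2,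
    quo_eq_bot (e.ge.trans le_sup_left), hRd, quo_quoPre] at r3
  exact (r3.eq_self (Op_isPGroup 2 _)).symm

theorem ctl_of_normal (hT : Syl 2 T M) (hC : C ⊴ M) (h1 : Ctl (M ⊓ 𝐍(T ⊓ C)) T N)
    (h2 : Ctl (T ⊔ C) T N) : Ctl M T N := fun X hX m hm e => by
  have k1 : m •ᶜ (T ⊓ C) ≤ C := conj_le_of_mem_norm (hC.2 hm) inf_le_right
  obtain ⟨h, k2, k3⟩ := (hT.mono le_sup_left (sup_le hT.le hC.1)).exists_conj_le
    (sup_le_sup e k1) (isPGroup_conj.2 hT.isPGroup |>.to_le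
      (sup_le (conj_mono m hX) (conj_mono m inf_le_left)))
  have k4 := sup_le hT.le hC.1 k2
  rw [conj_sup, conj_conj, conj_conj, sup_le_iff] at k3
  have := (h1 X hX _ ⟨mul_mem k4 hm, mem_norm_of_conj_le (le_inf k3.2 (conj_le_of_mem_norm
    (hC.2 (mul_mem k4 hm)) inf_le_right))⟩ k3.1).mul (h2 _ k3.1 _ (inv_mem k2) (by
      rwa [conj_conj, inv_mul_cancel_left]))
  rwa [inv_mul_cancel_left] at this

/-- the Thompson factorization of fusion -/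
theorem CR.ctl (hK : KH.{u} n) (h3 : S3F G) (hM : ♯M < n) (hc : CR M) (hT : Syl 2 T M)
    (h1 : Ctl 𝐍(thompsonSubgroupOf 2 T) T N) (h2 : Ctl 𝐂(Ohm 2 (Zc T)) T N) : Ctl M T N := by
  have hZ := Ohm_le 2 (Zc T)
  have hV := hc.elem hT hZ (Ohm_abelem 2 (Zc_ab T)).2
  have hJ := (noOff_syl hK h3 hM hT (hZ.trans inf_le_right) hV).thompsonSubgroupOf_le hV
    ((hc.invClosure_le hT hZ).trans (inf_le_left.trans (Op_le_syl hT))) hT.le
  refine ctl_of_normal hT (normalIn_inf_cent (le_normalizer_invClosure (Ohm 2 (Zc T)) M))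
    (h1.mono (inf_le_right.trans ?_) le_rfl) (h2.mono (sup_le (le_cent_symm (hZ.trans inf_le_right))
      (inf_le_right.trans (cent_anti (le_invClosure _ M)))) le_rfl)
  rw [← Transfer.thompsonSubgroupOf_eq_of_le (le_inf (Transfer.thompsonSubgroupOf_le T)
    (le_inf ((Transfer.thompsonSubgroupOf_le T).trans hT.le) hJ)) inf_le_left]
  exact Transfer.normalizer_le_normalizer_thompsonSubgroupOf _

theorem to_extremal (hT : Syl 2 T H) (h : Syl 2 (T ⊓ 𝐍(Y)) (H ⊓ 𝐍(Y))) (hg : g ∈ H) (e : g •ᶜ X = Y) :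
    ∃ b ∈ H, b •ᶜ X = Y ∧ b •ᶜ (T ⊓ 𝐍(X)) ≤ T ⊓ 𝐍(Y) := by
  obtain ⟨m, hm, h5⟩ := h.exists_conj_le (Q := g •ᶜ (T ⊓ 𝐍(X))) (by
    rw [conj_inf, ← norm_conj, e]
    exact inf_le_inf_right _ (conj_le_of_mem hg hT.le))
    (isPGroup_conj.2 (hT.isPGroup.to_le inf_le_left))
  exact ⟨_, mul_mem hm.1 hg, by rw [← conj_conj, e, conj_eq_of_mem_norm hm.2], conj_conj m g _ ▸ h5⟩

theorem ctl_of_local' (hT : Syl 2 T H)
    (h : ∀ Y ≤ T, Syl 2 (T ⊓ 𝐍(Y)) (H ⊓ 𝐍(Y)) →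
      (∀ X ≤ T, ♯Y < ♯X → ∀ g ∈ H, g •ᶜ X ≤ T → Acts M X g) → ∀ g ∈ H ⊓ 𝐍(Y), Acts M Y g) :
    Ctl H T M := by
  intro X
  induction' hn : ♯T - ♯X using Nat.strong_induction_on with n ih generalizing X
  intro hX k hk hkX
  have ih' : ∀ W ≤ T, ♯X < ♯W → ∀ g ∈ H, g •ᶜ W ≤ T → Acts M W g := fun W h2 h3 => by
    have h4 := card_le h2
    exact ih _ (by omega) W rfl h2
  obtain ⟨g, hg, h1, h2⟩ := exists_extremal hT hX
  have loc := h _ h1 h2 fun W h3 h4 => ih' W h3 (card_conj g X ▸ h4)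
  have key : ∀ a ∈ H, a •ᶜ X ≤ T → ∃ b ∈ H, b •ᶜ a •ᶜ X = g •ᶜ X ∧ Acts M (a •ᶜ X) b := by
    intro a ha h3
    rcases h3.lt_or_eq with h4 | h4
    · obtain ⟨b, b1, b2, b3⟩ := to_extremal (X := a •ᶜ X) hT h2 (mul_mem hg (inv_mem ha))
        (by rw [conj_conj, inv_mul_cancel_right])
      have h6 := PGrp.lt_inf_normalizer hT.isPGroup h4
      exact ⟨b, b1, b2, (ih' _ inf_le_left (card_conj a X ▸ card_lt h6) b b1
        (b3.trans inf_le_left)).mono h6.le⟩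
    · refine ⟨1, one_mem _, ?_, .of_mem (one_mem _)⟩
      rw [conj_conj, one_mul, h4]
      exact (eq_of_le_of_card_ge h1 (by rw [← h4, card_conj, card_conj])).symm
  obtain ⟨b, hb, e1, a1⟩ := key 1 (one_mem _) (by simpa using hX)
  obtain ⟨c, hc, e2, a2⟩ := key k hk hkX
  rw [conj_conj, mul_one] at e1
  have a3 := loc (c * k * b⁻¹) ⟨H.mul_mem (mul_mem hc hk) (H.inv_mem hb), conj_eq_self_iff.1 (by
    rw [← e1, conj_conj, inv_mul_cancel_right, ← conj_conj, e2, e1])⟩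
  have a4 := (show Acts M X b by simpa using a1).mul (e1 ▸ a3)
  have a5 := a4.mul (k := c⁻¹) (by
    rw [inv_mul_cancel_right, ← conj_conj]; exact a2.inv)
  simpa [mul_assoc] using a5

omit [Finite G] in
theorem Ctl.of_conj {b : G} (h : Ctl (b •ᶜ H) S M) (h1 : Acts M T b) (h2 : b •ᶜ T ≤ S) : Ctl H T M :=
  fun X hX g hg e => by
    have a1 := (h1.mono hX).mul (h _ ((conj_mono b hX).trans h2) _ (conj_mem_conj hg) (by
      rw [conj_conj, inv_mul_cancel_right, ← conj_conj]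
      exact (conj_mono b e).trans h2))
    have a2 := a1.mul (k := b⁻¹) (by
      rw [inv_mul_cancel_right, ← conj_conj]; exact (h1.mono e).inv)
    simpa [mul_assoc] using a2

theorem y1_of_kh (hK : KH.{u} (Nat.card G)) (h3 : S3F G) (hG : Smp (⊤ : Subgroup G))
    (hn : ¬ Ab (⊤ : Subgroup G)) : ∃ A : Subgroup G, A ≠ ⊥ ∧ SC A := by
  obtain ⟨S, hS⟩ := exists_syl 2 (⊤ : Subgroup G)
  have ns : ¬ Sol (⊤ : Subgroup G) := fun e =>
    (der_lt e fun e' => hn (e' ▸ ab_bot)).ne (hG.perfect hn)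
  have S0 : S ≠ ⊥ := hS.ne_bot (by_contra fun e =>
    ns (sol_of_odd (Nat.not_even_iff_odd.1 fun e' => e e'.two_dvd)))
  have lt : ∀ W ≤ S, W ≠ ⊥ → ∀ H ≤ 𝐍(W), ♯H < Nat.card G := fun W h1 h0 H h2 => by
    rw [← Subgroup.card_top (G := G)]
    exact card_lt (h2.trans_lt (hG.norm_ne_top h0 fun e =>
      ns (e ▸ sol_of_isPGroup (hS.isPGroup.to_le h1))).lt_top)
  have oz : ∀ T ≤ S, T ≠ ⊥ → Ohm 2 (Zc T) ≠ ⊥ := fun T h1 h0 => Ohm_ne_bot (hS.isPGroup.to_le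
    (inf_le_left.trans h1)) (Zc_ne_bot (nil_of_isPGroup (hS.isPGroup.to_le h1)) h0)
  have ol : ∀ T : Subgroup G, Ohm 2 (Zc T) ≤ T := fun T => (Ohm_le 2 _).trans inf_le_left
  have on : ∀ T : Subgroup G, 𝐍(T) ≤ 𝐍(Ohm 2 (Zc T)) := fun T => le_norm_Ohm 2 (norm_le_norm_Zc T)
  have jl := Transfer.thompsonSubgroupOf_le (p := 2) (G := G)
  have jn := Transfer.normalizer_le_normalizer_thompsonSubgroupOf (p := 2) (G := G)
  have j0 : ∀ T ≤ S, T ≠ ⊥ → thompsonSubgroupOf 2 T ≠ ⊥ := fun T h1 =>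
    Transfer.thompsonSubgroupOf_ne_bot (hS.isPGroup.to_le h1)
  set Z := Ohm 2 (Zc S) with hZd
  have hZ : Z ≤ Zc S := Ohm_le 2 _
  have hZp := (Ohm_abelem 2 (Zc_ab S)).2
  have l1 := lt Z (ol S) (oz S le_rfl S0) _ (cent_le_norm Z)
  obtain ⟨M₁, m1, m2, m3, m4⟩ := model hK h3 l1
    (hS.mono (le_cent_symm (hZ.trans inf_le_right)) le_top)
  have md : ∀ W ≤ S, W ≠ ⊥ → S ≤ 𝐍(W) → ∃ M ≤ 𝐍(W),
      (♯M < Nat.card G ∧ S ≤ M ∧ CR M) ∧ Ctl 𝐍(W) S M := fun W h1 h0 h2 => by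
    obtain ⟨M, k1, k2, k3, k4⟩ := model hK h3 (lt W h1 h0 _ le_rfl) (hS.mono h2 le_top)
    exact ⟨M, k1, ⟨lt W h1 h0 _ k1, k2, k3⟩, k4⟩
  obtain ⟨M', -, k0⟩ := md _ (jl S) (j0 S le_rfl S0) (le_normalizer.trans (jn S))
  obtain ⟨_, -, ⟨M₂, ⟨⟨k1, k2, k3⟩, k4⟩, rfl⟩, k5⟩ := Finite.exists_le_maximal
    (p := fun F : Set (Subgroup G × G) => ∃ M, ((♯M < Nat.card G ∧ S ≤ M ∧ CR M) ∧
      Ctl 𝐍(thompsonSubgroupOf 2 S) S M) ∧ F = {z | z.1 ≤ S ∧ z.2 •ᶜ z.1 ≤ S ∧ Acts M z.1 z.2})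
    ⟨M', k0, rfl⟩
  have s1 := hS.mono m2 le_top
  have s2 := hS.mono k2 le_top
  have k6 : Ctl 𝐍(invClosure Z M₂) S M₂ := by
    obtain ⟨M, q1, q2, q3⟩ := md _ ((k3.invClosure_le s2 hZ).trans (inf_le_left.trans (Op_le_syl s2)))
      (fun e => oz S le_rfl S0 (eq_bot_iff.2 (e ▸ le_invClosure Z M₂)))
      (k2.trans (le_normalizer_invClosure Z M₂))
    have q4 := q3.mono (le_normalizer_invClosure Z M₂) le_rfl
    have := k5 ⟨M, ⟨q2, k4.trans q4⟩, rfl⟩ fun z hz => ⟨hz.1, hz.2.1,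
      hz.2.2.trans fun m hm e => q4 _ hz.1 m hm (e ▸ hz.2.1)⟩
    exact fun X hX g hg e => (this (show (X, g) ∈ _ from ⟨hX, e, q3 X hX g hg e⟩)).2.2
  have e0 := m3.thompson_eq hK h3 ((card_le m1).trans_lt l1) k1 k3 s1 s2 hZ hZp m4 k6
  set W := thompsonSubgroupOf 2 (Op 2 M₁) with hW
  have w1 : W ≤ S := (jl _).trans (Op_le_syl s1)
  have w0 : W ≠ ⊥ := j0 _ (Op_le_syl s1) fun e => oz S le_rfl S0 (eq_bot_iff.2 (e ▸ le_Op
    ⟨(ol S).trans m2, m1.trans (cent_le_norm Z)⟩ (hS.isPGroup.to_le (ol S))))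
  have c1 := m4.le ((Op_normal 2 M₁).2.trans (jn _))
  have c2 := k4.le ((Op_normal 2 M₂).2.trans (jn _))
  rw [← e0] at c2
  have main : Ctl ⊤ S 𝐍(W) := ctl_of_local' hS fun Y y1 y2 ihA => by
    have key : ∀ m, ∀ U ≤ S, U ≠ ⊥ → ♯S - ♯(S ⊓ 𝐍(U)) = m → ♯Y ≤ ♯(S ⊓ 𝐍(U)) →
        Syl 2 (S ⊓ 𝐍(U)) (⊤ ⊓ 𝐍(U)) → Ctl 𝐍(U) (S ⊓ 𝐍(U)) 𝐍(W) := fun m => by
      induction' m using Nat.strong_induction_on with m ih
      intro U u1 u0 hm u2 u3
      rw [top_inf_eq] at u3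
      obtain ⟨M, q1, q2, q3, q4⟩ := model hK h3 (lt U u1 u0 _ le_rfl) u3
      set T := S ⊓ 𝐍(U) with hT
      have t1 : T ≤ S := inf_le_left
      have t0 : T ≠ ⊥ := fun e => u0 (eq_bot_iff.2 (e ▸ le_inf u1 le_normalizer))
      have st : ∀ V ≤ T, V ≠ ⊥ → 𝐍(T) ≤ 𝐍(V) → T < S → Ctl 𝐍(V) T 𝐍(W) := fun V v1 v0 v2 v3 => by
        obtain ⟨g, -, g1, g2⟩ := exists_extremal hS (v1.trans t1)
        obtain ⟨b, -, b1, b2⟩ := to_extremal hS g2 (mem_top g) rfl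
        have v4 := (PGrp.lt_inf_normalizer hS.isPGroup v3).trans_le (inf_le_inf_left _ v2)
        have v5 := card_lt v4
        have v6 := card_conj b _ ▸ card_le b2
        have v7 := card_le (inf_le_left : S ⊓ 𝐍(g •ᶜ V) ≤ S)
        have v8 := ih _ (by omega) _ g1 (fun e => v0 (by simpa using e)) rfl (by omega) g2
        rw [← b1, norm_conj] at v8
        exact v8.of_conj ((ihA _ inf_le_left (by omega) b (mem_top b) (b2.trans inf_le_left)).mono v4.le)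
          (by rw [← norm_conj, b1]; exact (conj_mono b v4.le).trans b2)
      refine q4.trans (q3.ctl hK h3 (lt U u1 u0 _ q1) (u3.mono q2 q1) ?_ ?_)
      · rcases t1.lt_or_eq with e | e
        · exact st _ (jl T) (j0 T t1 t0) (jn T) e
        · rw [e]; exact c2
      · rcases t1.lt_or_eq with e | e
        · exact (st _ (ol T) (oz T t1 t0) (on T) e).mono (cent_le_norm _) le_rfl
        · rw [e]; exact c1
    intro g hg
    by_cases y0 : Y = ⊥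
    · exact .of_cent (by simp [y0])
    have y3 : Y ≤ S ⊓ 𝐍(Y) := le_inf y1 le_normalizer
    exact key _ Y y1 y0 rfl (card_le y3) y2 Y y3 g hg.2 ((conj_eq_of_mem_norm hg.2).le.trans y3)
  have sc := main.scl ((ol W).trans w1) (on W)
  refine ⟨_, oz W w1 w0, Ohm_abelem 2 (Zc_ab W), fun T t1 t2 a ha g hg => ?_⟩
  obtain ⟨h, -, h1⟩ := hS.exists_conj_le le_top t1
  have h2 : h ∈ 𝐍(Ohm 2 (Zc W)) := mem_norm_of_conj_mem fun x hx =>
    sc x hx h (mem_top h) (h1 (conj_mem_conj (t2 hx)))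
  have h4 := sc a ha (h * g) (mem_top _) (by simpa [mul_assoc] using h1 (conj_mem_conj hg))
  exact (mem_norm_iff.1 h2 _).2 (by simpa [mul_assoc] using h4)

end Cfsg.Agent.R4
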